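import Mathlib

/-!
# S2276 (A_n, p odd: p-elements u, w have a conjugate pair with u * w' not a p-element and
`⟨u, w'⟩` not solvable): the pieces

Everything is stated in `Perm α` with `α : Type` (universe 0; the statement is about `Fin n`).
`Good p f g` is the conclusion for the pair `(f, g)`.

Notation used in the sketches: for a full cycle `c` on `β` (`R = card β`) pick `x₀ : β` and put
`x_i = (c ^ i) x₀`; by `CycPts` the `x_i`, `i < R`, are distinct and exhaust `β`, `c x_i = x_{i+1}`.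
`(a b c)` is the 3-cycle `a ↦ b ↦ c ↦ a`, i.e. `swap a b * swap b c`.
"Restriction": if `A ∘ ι = ι ∘ f` for an injective `ι : β → α`, properties of `f` lift to `A`
(`RP`, `RNS`).  Fixed points: `(c * t) y = y ↔ t y = c⁻¹ y`; a `p`-element has
`#Fix ≡ card (mod p)` (`FixCert`).
-/

set_option autoImplicit false

namespace Cfsg.Agent.Lib.Helper56.PEStmt

open Equiv Equiv.Perm

/-- `f * g` does not have `p`-power order and `⟨f, g⟩` is not solvable. -/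
def Good {α : Type} (p : ℕ) (f g : Perm α) : Prop :=
  (¬ ∃ k : ℕ, orderOf (f * g) = p ^ k) ∧
    ¬ Group.IsSolvable ↥(Subgroup.closure ({f, g} : Set (Perm α)))

/-- `(0 1 2)(3 4 5)` on `Fin 6`. -/
def f6 : Perm (Fin 6) := swap 0 1 * swap 1 2 * (swap 3 4 * swap 4 5)

/-! ## Tools -/

/-- [NSC] Non-solvability certificate (as in Mathlib's `Equiv.Perm.fin_5_not_solvable`; the bracket
is the commutator `⁅x, y * x * y⁻¹⁆` written out): work in the group `↥H`, `x` lies in every term of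
the derived series (`not_isSolvable_of_mem_derivedSeries`). -/
def NSCert : Prop :=
  ∀ {G : Type} [Group G] (H : Subgroup G) (x y z : G), x ∈ H → y ∈ H → z ∈ H → x ≠ 1 →
    x = z * (x * (y * x * y⁻¹) * x⁻¹ * (y * x * y⁻¹)⁻¹) * z⁻¹ → ¬ Group.IsSolvable ↥H

/-- [A5C] Two 3-cycles `(v₀ v₁ v₂)`, `(v₂ v₃ v₄)` sharing exactly one point generate a non-solvable
group.  (Use `NSCert`: find `x y z` as words in the two 3-cycles; the identity can be checked in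
`Perm (Fin 5)` by `decide` and pushed along `Equiv.Perm.viaEmbeddingHom`, or by `ext`.) -/
def A5C : Prop :=
  ∀ {α : Type} [DecidableEq α] (H : Subgroup (Perm α)) (v₀ v₁ v₂ v₃ v₄ : α),
    [v₀, v₁, v₂, v₃, v₄].Nodup → swap v₀ v₁ * swap v₁ v₂ ∈ H → swap v₂ v₃ * swap v₃ v₄ ∈ H →
      ¬ Group.IsSolvable ↥H

/-- [FIX] A `p`-element has `#Fix ≡ card (mod p)` (Mathlib: `Equiv.Perm.card_fixedPoints_modEq`). -/
def FixCert : Prop :=
  ∀ {α : Type} [DecidableEq α] [Fintype α] (p : ℕ), p.Prime → ∀ (f : Perm α),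
    (∃ k : ℕ, orderOf f = p ^ k) →
      (Finset.univ.filter (fun x => f x = x)).card ≡ Fintype.card α [MOD p]

/-- [RP] Restriction, `p`-elements: `A ^ j ∘ ι = ι ∘ f ^ j`, so `orderOf f ∣ orderOf A`. -/
def RP : Prop :=
  ∀ {α β : Type} (ι : β → α), Function.Injective ι → ∀ (p : ℕ), p.Prime → ∀ (f : Perm β)
    (A : Perm α), (∀ b, A (ι b) = ι (f b)) → (¬ ∃ k : ℕ, orderOf f = p ^ k) →
      ¬ ∃ k : ℕ, orderOf A = p ^ k

/-- [RNS] Restriction, non-solvability: the permutations `π` with `π ∘ ι = ι ∘ h` for some `h`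
form a subgroup `K` with a homomorphism `K → Perm β`; it maps `closure {A, B}` onto
`closure {f, g}`; subgroups and images of solvable groups are solvable. -/
def RNS : Prop :=
  ∀ {α β : Type} (ι : β → α), Function.Injective ι → ∀ (f g : Perm β) (A B : Perm α),
    (∀ b, A (ι b) = ι (f b)) → (∀ b, B (ι b) = ι (g b)) →
    ¬ Group.IsSolvable ↥(Subgroup.closure ({f, g} : Set (Perm β))) →
    ∀ H : Subgroup (Perm α), A ∈ H → B ∈ H → ¬ Group.IsSolvable ↥H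

/-- [ORB] The cycle of `u` through `x₀`, as a full cycle on the subtype of its support
(`c = u.subtypePerm _`). -/
def Orb : Prop :=
  ∀ {α : Type} [DecidableEq α] [Fintype α] (u : Perm α) (x₀ : α), u x₀ ≠ x₀ →
    ∃ c : Perm {y // y ∈ (u.cycleOf x₀).support},
      (∀ b, u b.1 = (c b).1) ∧ c.IsCycle ∧ c.support = Finset.univ

/-- [CYC] Points of a full cycle. -/
def CycPts : Prop :=
  ∀ {β : Type} [DecidableEq β] [Fintype β] (c : Perm β), c.IsCycle → c.support = Finset.univ →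
    c ^ Fintype.card β = 1 ∧
    (∀ (x : β) (i j : ℕ), i < Fintype.card β → j < Fintype.card β → (c ^ i) x = (c ^ j) x →
      i = j) ∧
    ∀ x y : β, ∃ i, i < Fintype.card β ∧ (c ^ i) x = y

/-- [BLOW] Blow-up: if `t` is supported in `range ι`, `c ^ M` and `t` restrict to `c'`, `t'`, and
`c ^ i` (`0 < i < M`) moves `range ι` off itself, then `(c * t) ^ M` restricts to `c' * t'`
(induction: `(c * t) ^ i (ι b) = c ^ i (ι (t' b))` for `1 ≤ i ≤ M`). -/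
def Blow : Prop :=
  ∀ {β γ : Type} (ι : γ → β) (c t : Perm β) (c' t' : Perm γ) (M : ℕ), 0 < M →
    (∀ b, (c ^ M) (ι b) = ι (c' b)) → (∀ b, t (ι b) = ι (t' b)) →
    (∀ y, y ∉ Set.range ι → t y = y) →
    (∀ b i, 0 < i → i < M → (c ^ i) (ι b) ∉ Set.range ι) →
    ∀ b, ((c * t) ^ M) (ι b) = ι ((c' * t') b)

/-- [ARITH] Distinct powers `p ^ i`, `i < a`, sum to at most `(p ^ a - 1) / (p - 1)`. -/
def Arith : Prop :=
  ∀ (p : ℕ), 3 ≤ p → ∀ (a : ℕ) (m : Multiset ℕ), m.Nodup → (∀ x ∈ m, ∃ i, i < a ∧ x = p ^ i) →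
    2 * m.sum < p ^ a

/-- [GREEDY] Powers of `p` dividing `p ^ a` with total at least `p ^ a` have a sub-multiset of sum
exactly `p ^ a`.  (Strong induction on `card m`: if `m.sum ≠ p ^ a` erase a minimal element `q`;
if `(m.erase q).sum < p ^ a < (m.erase q).sum + q` then `q` divides both `p ^ a` and
`(m.erase q).sum`, contradiction.) -/
def Greedy : Prop :=
  ∀ (p : ℕ), p.Prime → ∀ (a : ℕ) (m : Multiset ℕ), (∀ x ∈ m, ∃ i, i ≤ a ∧ x = p ^ i) →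
    p ^ a ≤ m.sum → ∃ m₁ : Multiset ℕ, m₁ ≤ m ∧ m₁.sum = p ^ a

/-- [ODDC] Odd element in a centralizer (Mathlib: `Equiv.Perm.centralizer_le_alternating_iff`). -/
def OddCent : Prop :=
  ∀ {α : Type} [DecidableEq α] [Fintype α] (τ : Perm α),
    (¬ τ.cycleType.Nodup ∨ τ.cycleType.sum + 1 < Fintype.card α) →
      ∃ κ : Perm α, Perm.sign κ = -1 ∧ κ * τ = τ * κ

/-- [ODDC3] (`Arith`, `OddCent`) If all cycles of `τ` have length `p ^ i`, `i ≤ a`, and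
`p ^ (a + 1) ≤ card α`, some odd permutation commutes with `τ`: either a repeated cycle length,
or `2 * sum < p ^ (a + 1)` and there are two fixed points. -/
def OddCent3 : Prop :=
  ∀ {α : Type} [DecidableEq α] [Fintype α] (p : ℕ), p.Prime → 3 ≤ p → ∀ (τ : Perm α) (a : ℕ),
    (∀ q ∈ τ.cycleType, ∃ i, i ≤ a ∧ q = p ^ i) → p ^ (a + 1) ≤ Fintype.card α →
      ∃ κ : Perm α, Perm.sign κ = -1 ∧ κ * τ = τ * κ

/-- [NS6] Three non-solvable subgroups of `Perm (Fin 6)` (`NSCert` + `decide`; orders 360 or 60).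
(a), (a') for `K45`; (b) for `K5F`; (c) for `BP`. -/
def NS6 : Prop :=
  (¬ Group.IsSolvable ↥(Subgroup.closure ({f6, swap 0 3 * swap 3 1} : Set (Perm (Fin 6))))) ∧
  (¬ Group.IsSolvable ↥(Subgroup.closure ({f6, swap 1 3 * swap 3 0} : Set (Perm (Fin 6))))) ∧
  (¬ Group.IsSolvable ↥(Subgroup.closure
      ({f6, swap 1 3 * swap 3 0 * (swap 2 5 * swap 5 4)} : Set (Perm (Fin 6))))) ∧
  (¬ Group.IsSolvable ↥(Subgroup.closure
      ({swap 0 1 * swap 2 3 * swap 1 2 * swap 3 4, swap 1 2 * swap 3 4 * swap 2 3 * swap 4 5} :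
        Set (Perm (Fin 6)))))

/-! ## Cores: a full cycle `c` on `β` against a permutation `t` of prescribed cycle type -/

/-- [BM] (`CycPts`, `FixCert`, `A5C`) Odd conjugator `g = swap x₀ x₁`, `d = g * c * g⁻¹`.
`Fix (c * d) = {x₁}` (`y ∉ {x₋₁, x₀, x₁}`: `d y = c y ≠ c⁻¹ y`; `x₋₁ ↦ x₁ ≠ x₋₂`; `x₀ ↦ x₂ ≠ x₋₁`;
`x₁ ↦ x₀`), and `1 ≢ 0 (mod p)`.  `d * c⁻¹ = g * (c * g * c⁻¹) = swap x₀ x₁ * swap x₁ x₂` and its
conjugate by `c ^ 2` is `swap x₂ x₃ * swap x₃ x₄`: `A5C`. -/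
def BM : Prop :=
  ∀ {β : Type} [DecidableEq β] [Fintype β] (p : ℕ), p.Prime → ∀ (c : Perm β), c.IsCycle →
    c.support = Finset.univ → p ∣ Fintype.card β → 5 ≤ Fintype.card β →
      ∃ g : Perm β, Perm.sign g = -1 ∧ Good p c (g * c * g⁻¹)

/-- [BP] (`CycPts`, `FixCert`, `A5C`, `RNS`, `NS6`) Even conjugator
`g = swap x₀ x₁ * swap x₂ x₃`, `d = g * c * g⁻¹`.  `Fix (c * d) = {x₁, x₃}` (uses `R` odd, `R ≥ 5`),
and `2 ≢ 0 (mod p)`.  Non-solvable: `e = d * c⁻¹ = swap x₀ x₁ * swap x₂ x₃ * swap x₁ x₂ * swap x₃ x₄`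
(the 5-cycle `(x₀ x₁ x₃ x₄ x₂)`).  If `R = 5`: `d * c⁻¹ * c⁻¹ = (x₀ x₂ x₃)` and its `c`-conjugate
`(x₁ x₃ x₄)` share only `x₃`: `A5C`.  If `R ≥ 7`: `e` and `c * e * c⁻¹` live on `x₀ .. x₅`:
`NS6` (c) with `ι i = x_i`, `RNS`. -/
def BP : Prop :=
  ∀ {β : Type} [DecidableEq β] [Fintype β] (p : ℕ), p.Prime → p ≠ 2 → ∀ (c : Perm β), c.IsCycle →
    c.support = Finset.univ → p ∣ Fintype.card β → 5 ≤ Fintype.card β → Odd (Fintype.card β) →
      ∃ g : Perm β, Perm.sign g = 1 ∧ Good p c (g * c * g⁻¹)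

/-- [K2] (`Orb`, `CycPts`, `BM`, `Blow`, `RP`, `RNS`) One `S`-cycle inside a longer cycle.
`M = R / S`; `γ` = orbit of `x₀` under `c ^ M` (`Orb` for `c ^ M`; `S` points `x_{iM}`), `c'` the
restriction of `c ^ M`, `BM` gives `t' = g' * c' * g'⁻¹`; `t = ofSubtype t'`.  `cycleType t = {S}`.
Non-solvable: `RNS` for `c ^ M`, `t ∈ closure {c, t}`.  Not a `p`-element: `Blow` gives
`(c * t) ^ M ∘ ι = ι ∘ (c' * t')`, then `RP`, and a power of a `p`-element is a `p`-element. -/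
def K2 : Prop :=
  ∀ {β : Type} [DecidableEq β] [Fintype β] (p : ℕ), p.Prime → ∀ (c : Perm β), c.IsCycle →
    c.support = Finset.univ → ∀ S : ℕ, 5 ≤ S → p ∣ S → S ∣ Fintype.card β → S < Fintype.card β →
      ∃ t : Perm β, t.cycleType = {S} ∧ Good p c t

/-- [K3] (`Orb`, `CycPts`, `BM`, `FixCert`, `RNS`) At least two cycles, the first of length
`S ≥ 5`.  `M = R / S ≥ 3`, `M_q = R / q` (a multiple of `M`).
`t₁` = the `BM`-conjugate of the `S`-cycle of `c ^ M` through `x₀` (support = the `x_{iM}`);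
`t₂ = g₂ * (c ^ M_q).cycleOf x₁ * g₂⁻¹`, `g₂ = swap x₂ x_{1 + M_q}`, the `q`-cycle
`x₁ ↦ x₂ ↦ x_{1 + 2 M_q} ↦ … ↦ x_{1 + (q-1) M_q} ↦ x₁` (disjoint from `t₁`);
`ρ` any permutation of cycle type `μ'` supported off both (`Equiv.Perm.exists_with_cycleType_iff` on
the subtype, `ofSubtype`).  Candidates `A = t₁ * t₂ * ρ`, `B = t₁ * t₂⁻¹ * ρ`.
Non-solvable (both): `RNS` for `c ^ M` and the candidate on the orbit of `x₀` under `c ^ M`.
Fixed points: `Fix (c * B) = Fix (c * A) ∪ {x₂}` disjointly (on `supp t₂`: `t₂ y ≠ c⁻¹ y` always,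
`t₂⁻¹ y = c⁻¹ y ↔ y = x₂`; elsewhere `A`, `B` agree), so one of the two counts is `≢ 0 (mod p)`. -/
def K3 : Prop :=
  ∀ {β : Type} [DecidableEq β] [Fintype β] (p : ℕ), p.Prime → ∀ (c : Perm β), c.IsCycle →
    c.support = Finset.univ → ∀ (S q : ℕ) (μ' : Multiset ℕ), 5 ≤ S → p ∣ S → S ∣ Fintype.card β →
      3 * S ≤ Fintype.card β → 3 ≤ q → q ∣ S → (∀ a ∈ μ', 2 ≤ a) →
      S + q + μ'.sum ≤ Fintype.card β →
      ∃ t : Perm β, t.cycleType = S ::ₘ q ::ₘ μ' ∧ Good p c t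

/-- [K45] (`CycPts`, `FixCert`, `RNS`, `NS6`) `p = 3`, a 3-cycle plus anything that leaves three
more points free.  `m = R / 3 ≥ 3`, `g₁ = (x₀ x₁ x_m) = swap x₀ x₁ * swap x₁ x_m`,
`ι : Fin 6 → β` with values `x₀, x_m, x_{2m}, x₁, x_{m+1}, x_{2m+1}`; `ρ` of cycle type `μ'`
supported off `range ι`.  Candidates `g₁ * ρ`, `g₁⁻¹ * ρ`.  `c ^ m ∘ ι = ι ∘ f6`,
`g₁ ∘ ι = ι ∘ (swap 0 3 * swap 3 1)`: `NS6` (a), (a'), `RNS`.
`Fix (c * g₁⁻¹ * ρ) = Fix (c * g₁ * ρ) ∪ {x₁}` disjointly. -/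
def K45 : Prop :=
  ∀ {β : Type} [DecidableEq β] [Fintype β] (c : Perm β), c.IsCycle → c.support = Finset.univ →
    3 ∣ Fintype.card β → 9 ≤ Fintype.card β → ∀ μ' : Multiset ℕ, (∀ a ∈ μ', 2 ≤ a) →
      6 + μ'.sum ≤ Fintype.card β → ∃ t : Perm β, t.cycleType = 3 ::ₘ μ' ∧ Good 3 c t

/-- [K5F] (`CycPts`, `FixCert`, `RNS`, `NS6`) `p = 3`, `R ≥ 27`, three 3-cycles plus anything.
`m = R / 3 ≥ 9`; `h = (x_m x₁ x₀) * (x_{2m} x_{2m+1} x_{m+1})`, `t₂ = (x₃ x₄ x₆)`, `ρ` of cycle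
type `μ'` off these nine points.  Candidates `h * t₂ * ρ`, `h * t₂⁻¹ * ρ`.  With `ι` as in `K45`:
`h ∘ ι = ι ∘ (swap 1 3 * swap 3 0 * (swap 2 5 * swap 5 4))`: `NS6` (b), `RNS` (with `c ^ m`).
`Fix (c * h * t₂⁻¹ * ρ) = Fix (c * h * t₂ * ρ) ∪ {x₄}` disjointly. -/
def K5F : Prop :=
  ∀ {β : Type} [DecidableEq β] [Fintype β] (c : Perm β), c.IsCycle → c.support = Finset.univ →
    3 ∣ Fintype.card β → 27 ≤ Fintype.card β → ∀ μ' : Multiset ℕ, (∀ a ∈ μ', 2 ≤ a) →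
      9 + μ'.sum ≤ Fintype.card β →
      ∃ t : Perm β, t.cycleType = 3 ::ₘ 3 ::ₘ 3 ::ₘ μ' ∧ Good 3 c t

/-- [K59] (`CycPts`, `NSCert`, `FixCert`) `R = 9`: `t = (x₀ x₂ x₁)(x₃ x₄ x₅)(x₆ x₇ x₈)`.
`c * t` has exactly two fixed points (cycle type 7); `⟨c, t⟩` has order > 1296.  Easiest: transport
to `Fin 9` with `c = finRotate 9` (the equivalence `i ↦ x_i`) and use `decide` + `NSCert`. -/
def K59 : Prop :=
  ∀ {β : Type} [DecidableEq β] [Fintype β] (c : Perm β), c.IsCycle → c.support = Finset.univ →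
    Fintype.card β = 9 → ∃ t : Perm β, t.cycleType = {3, 3, 3} ∧ Good 3 c t

/-- [C5] `(0 1 2)`, `(2 3 4)` on `Fin 5` (product is a 5-cycle; `A5C` or `NSCert`). -/
def C5 : Prop := Good 3 (swap (0 : Fin 5) 1 * swap 1 2) (swap 2 3 * swap 3 4)

/-- [C6A] `(0 1 2)(3 4 5)`, `(0 1 3)` on `Fin 6` (product has cycle type 4 + 2; `NSCert`). -/
def C6A : Prop := Good 3 f6 (swap 0 1 * swap 1 3)

/-- [C6B] `(0 1 2)(3 4 5)`, `(0 1 3)(2 5 4)` on `Fin 6` (product is a 5-cycle; `NSCert`). -/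
def C6B : Prop := Good 3 f6 (swap 0 1 * swap 1 3 * (swap 2 5 * swap 5 4))

/-- [CORE3] (`K2`, `K3`, `K45`, `K5F`, `K59`) Dispatcher.  `S` = largest element of `μ₁`.
`S ≥ 5`: `μ₁ = {S}` → `K2`; `μ₁ = S ::ₘ q ::ₘ μ'` → `K3` (`q ∣ S`, `3 * S ≤ p * p ^ a`).
Otherwise `p = 3` and `μ₁ = replicate k 3`, `card β ≥ 9`: `3 * k + 3 ≤ card β` → `K45`;
else `3 * k = card β`: `= 9` → `K59`, `≥ 27` → `K5F`. -/
def Core3 : Prop :=
  ∀ {β : Type} [DecidableEq β] [Fintype β] (p : ℕ), p.Prime → p ≠ 2 → ∀ (c : Perm β), c.IsCycle →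
    c.support = Finset.univ → ∀ (a : ℕ), Fintype.card β = p ^ (a + 1) → ∀ μ₁ : Multiset ℕ,
      μ₁ ≠ 0 → (∀ q ∈ μ₁, ∃ i, 1 ≤ i ∧ i ≤ a ∧ q = p ^ i) → μ₁.sum ≤ Fintype.card β →
      ∃ t : Perm β, t.cycleType = μ₁ ∧ Good p c t

/-! ## Cases: permutations `σ`, `τ` of a finite type -/

/-- [CASE1] (`Orb`, `BM`, `BP`, `RP`, `RNS`) Cycles of the same length `R ≥ 5`.
`β` = support of `σ.cycleOf x`, `c` from `Orb`; `h` with `h * τ.cycleOf z * h⁻¹ = σ.cycleOf x`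
(`Equiv.Perm.IsCycle.isConj`), so `τ₁ = h * τ * h⁻¹` agrees with `σ` on `β`; `g₁` even, `g₂` odd in
`Perm β` from `BP`, `BM`; `g = ofSubtype g_i * h` with the `i` making `g` even; then
`σ ∘ val = val ∘ c`, `(g * τ * g⁻¹) ∘ val = val ∘ (g_i * c * g_i⁻¹)`: `RP`, `RNS`. -/
def Case1 : Prop :=
  ∀ {α : Type} [DecidableEq α] [Fintype α] (p : ℕ), p.Prime → p ≠ 2 → ∀ (σ τ : Perm α) (x z : α)
    (R : ℕ), 5 ≤ R → p ∣ R → Odd R → (σ.cycleOf x).support.card = R →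
    (τ.cycleOf z).support.card = R → ∃ g : Perm α, Perm.sign g = 1 ∧ Good p σ (g * τ * g⁻¹)

/-- [CASE2A] (`C6A`, `C6B`, `RP`, `RNS`) All cycles of length 3, `σ` with at least two.
Two cycles of `σ` through `y`, `y'`; `ι : Fin 6 → α` with values `y, σ y, σ² y, y', σ y', σ² y'`,
`σ ∘ ι = ι ∘ f6`.  `τ` one cycle: `τ' = swap y (σ y) * swap (σ y) y'` (`C6A`).  `τ` at least two:
`τ' = swap y (σ y) * swap (σ y) y' * (swap (σ² y) (σ² y') * swap (σ² y') (σ y')) * ρ`, `ρ` of cycle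
type `replicate (k - 2) 3` supported off `range ι` (`C6B`).  `τ'` is conjugate to `τ`
(`Equiv.Perm.isConj_iff_cycleType_eq`). -/
def Case2A : Prop :=
  ∀ {α : Type} [DecidableEq α] [Fintype α] (σ τ : Perm α), τ ≠ 1 →
    (∀ q ∈ σ.cycleType, q = 3) → (∀ q ∈ τ.cycleType, q = 3) → 2 ≤ Multiset.card σ.cycleType →
      ∃ g : Perm α, Good 3 σ (g * τ * g⁻¹)

/-- [CASE2B] (`C5`, `RP`, `RNS`) Two 3-cycles on at least five points: `σ = (y₀ y₁ y₂)`, two more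
points `v`, `v'`, `τ' = swap y₂ v * swap v v'`, `ι : Fin 5 → α` with values `y₀, y₁, y₂, v, v'`. -/
def Case2B : Prop :=
  ∀ {α : Type} [DecidableEq α] [Fintype α] (σ τ : Perm α), 5 ≤ Fintype.card α →
    σ.cycleType = {3} → τ.cycleType = {3} → ∃ g : Perm α, Good 3 σ (g * τ * g⁻¹)

/-- [CASE3] (`Orb`, `Greedy`, `Core3`, `RP`, `RNS`) `σ` has a cycle of length `p ^ (a + 1)`, all
cycles of `τ` have length `p ^ i`, `1 ≤ i ≤ a`.  `β` = support of `σ.cycleOf x`, `c` from `Orb`.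
`μ = τ.cycleType`; `μ₁ = μ` if `μ.sum ≤ p ^ (a + 1)`, else `μ₁ ≤ μ` with sum `p ^ (a + 1)`
(`Greedy`); `t` from `Core3`; `ρ` on the complement subtype with cycle type `μ - μ₁`
(`Equiv.Perm.exists_with_cycleType_iff`, `Equiv.Perm.sum_cycleType_le`);
`τ' = ofSubtype t * ofSubtype ρ` has cycle type `μ`, so `τ' = g * τ * g⁻¹`;
`σ ∘ val = val ∘ c`, `τ' ∘ val = val ∘ t`: `RP`, `RNS`. -/
def Case3 : Prop :=
  ∀ {α : Type} [DecidableEq α] [Fintype α] (p : ℕ), p.Prime → p ≠ 2 → ∀ (σ τ : Perm α) (x : α)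
    (a : ℕ), (σ.cycleOf x).support.card = p ^ (a + 1) → τ ≠ 1 →
    (∀ q ∈ τ.cycleType, ∃ i, 1 ≤ i ∧ i ≤ a ∧ q = p ^ i) →
      ∃ g : Perm α, Good p σ (g * τ * g⁻¹)

end Cfsg.Agent.Lib.Helper56.PEStmt
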