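import Mathlib

set_option autoImplicit false

/-!
Solvability of groups of small order (all proper divisors of 120 below 60), and
simplicity of non-solvable groups of order 60.
-/

namespace Cfsg.Agent.Lib.Helper56.SmallSolvable

theorem solvable_of_normal {G : Type*} [Group G] (N : Subgroup G) [N.Normal]
    (hN : Group.IsSolvable N) (hQ : Group.IsSolvable (G ⧸ N)) : Group.IsSolvable G :=
  Group.isSolvable_of_ker_le_range N.subtype (QuotientGroup.mk' N) (by simp)

theorem solvable_of_le {G : Type*} [Group G] {H K : Subgroup G} (h : H ≤ K)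
    (hK : Group.IsSolvable K) : Group.IsSolvable H :=
  Group.isSolvable_of_isSolvable_injective (Subgroup.inclusion_injective h)

theorem solvable_of_card_prime_pow {G : Type*} [Group G] [Finite G] (p k : ℕ) [Fact p.Prime]
    (h : Nat.card G = p ^ k) : Group.IsSolvable G := by
  have hp : IsPGroup p G := IsPGroup.of_card h
  have := hp.isNilpotent
  infer_instance

theorem factorization_pow_mul (p k m : ℕ) (hp : p.Prime) (hm : ¬ p ∣ m) :
    (p ^ k * m).factorization p = k := by
  have hm0 : m ≠ 0 := fun h => hm (h ▸ dvd_zero p)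
  rw [Nat.factorization_mul (pow_ne_zero k hp.ne_zero) hm0, Nat.Prime.factorization_pow hp]
  simp [Nat.factorization_eq_zero_of_not_dvd hm]

theorem sylow_card {G : Type*} [Group G] [Finite G] {p : ℕ} [Fact p.Prime] (P : Sylow p G)
    (k m : ℕ) (h : Nat.card G = p ^ k * m) (hm : ¬ p ∣ m) : Nat.card P = p ^ k := by
  rw [Sylow.card_eq_multiplicity, h, factorization_pow_mul p k m Fact.out hm]

theorem sylow_index {G : Type*} [Group G] [Finite G] {p : ℕ} [Fact p.Prime] (P : Sylow p G)
    (k m : ℕ) (h : Nat.card G = p ^ k * m) (hm : ¬ p ∣ m) : (P : Subgroup G).index = m := by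
  have h1 := (P : Subgroup G).card_mul_index
  have h2 : Nat.card (P : Subgroup G) = p ^ k := sylow_card P k m h hm
  rw [h2, h] at h1
  exact Nat.eq_of_mul_eq_mul_left (pow_pos (Fact.out : p.Prime).pos k) h1

/-- The number of Sylow `p`-subgroups divides `m` and is `≡ 1 mod p`. -/
theorem sylow_count {G : Type*} [Group G] [Finite G] {p : ℕ} [Fact p.Prime]
    (k m : ℕ) (h : Nat.card G = p ^ k * m) (hm : ¬ p ∣ m) :
    Nat.card (Sylow p G) ∣ m ∧ Nat.card (Sylow p G) % p = 1 % p := by
  obtain ⟨P⟩ : Nonempty (Sylow p G) := inferInstance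
  refine ⟨?_, card_sylow_modEq_one p G⟩
  have := Sylow.card_dvd_index P
  rwa [sylow_index P k m h hm] at this

theorem sylow_normal_of_card_one {G : Type*} [Group G] [Finite G] {p : ℕ} [Fact p.Prime]
    (P : Sylow p G) (h : Nat.card (Sylow p G) = 1) : (P : Subgroup G).Normal := by
  rw [Sylow.card_eq_index_normalizer P] at h
  exact Subgroup.normalizer_eq_top_iff.mp (Subgroup.index_eq_one.mp h)

theorem card_quotient_sylow {G : Type*} [Group G] [Finite G] {p : ℕ} [Fact p.Prime]
    (P : Sylow p G) (k m : ℕ) (h : Nat.card G = p ^ k * m) (hm : ¬ p ∣ m) :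
    Nat.card (G ⧸ (P : Subgroup G)) = m := by
  rw [← Subgroup.index_eq_card]
  exact sylow_index P k m h hm

/-- Groups of order 6 are solvable (argument of helper72, S4337). -/
theorem solvable_of_card_six {G : Type*} [Group G] [Finite G] (h : Nat.card G = 6) :
    Group.IsSolvable G := by
  have h3 : Fact (Nat.Prime 3) := ⟨by norm_num⟩
  have h2 : Fact (Nat.Prime 2) := ⟨by norm_num⟩
  obtain ⟨K, hK⟩ := Sylow.exists_subgroup_card_pow_prime 3 (n := 1) (G := G) (by rw [h]; norm_num)
  rw [pow_one] at hK
  have hidx : K.index = 2 := by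
    have := K.card_mul_index
    rw [hK, h] at this; omega
  have hKn : K.Normal := Subgroup.normal_of_index_eq_two hidx
  have hKs : Group.IsSolvable K := solvable_of_card_prime_pow 3 1 (by rw [hK]; norm_num)
  have hQs : Group.IsSolvable (G ⧸ K) :=
    solvable_of_card_prime_pow 2 1 (by rw [← Subgroup.index_eq_card, hidx]; norm_num)
  exact solvable_of_normal K hKs hQs

/-- Groups of order 24 are solvable (argument of helper72, S4337). -/
theorem solvable_of_card_24 {G : Type*} [Group G] [Finite G] (h : Nat.card G = 24) :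
    Group.IsSolvable G := by
  have h2 : Fact (Nat.Prime 2) := ⟨by norm_num⟩
  obtain ⟨K, hK⟩ := Sylow.exists_subgroup_card_pow_prime 2 (n := 3) (G := G) (by rw [h]; norm_num)
  have hidx : K.index = 3 := by
    have := K.card_mul_index
    rw [hK, h] at this; omega
  let φ := MulAction.toPermHom G (G ⧸ K)
  have hker : φ.ker ≤ K := by
    rw [← Subgroup.normalCore_eq_ker]; exact Subgroup.normalCore_le K
  have hKs : Group.IsSolvable K := solvable_of_card_prime_pow 2 3 hK
  have hkers : Group.IsSolvable φ.ker := solvable_of_le hker hKs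
  have hcard : Nat.card (Equiv.Perm (G ⧸ K)) = 6 := by
    rw [Nat.card_perm, ← Subgroup.index_eq_card, hidx]; rfl
  have hps : Group.IsSolvable (Equiv.Perm (G ⧸ K)) := solvable_of_card_six hcard
  exact Group.isSolvable_of_ker_le_range φ.ker.subtype φ (by simp)

theorem isSolvable_perm_fin_four : Group.IsSolvable (Equiv.Perm (Fin 4)) :=
  solvable_of_card_24 (by rw [Nat.card_perm, Nat.card_eq_fintype_card, Fintype.card_fin]; rfl)

theorem isSolvable_perm_of_card_le_four (α : Type*) [Finite α] (h : Nat.card α ≤ 4) :
    Group.IsSolvable (Equiv.Perm α) := by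
  classical
  have := Fintype.ofFinite α
  have hc : Fintype.card α ≤ Fintype.card (Fin 4) := by
    rw [Fintype.card_fin, ← Nat.card_eq_fintype_card]
    exact h
  obtain ⟨ι⟩ := Function.Embedding.nonempty_of_card_le hc
  have := isSolvable_perm_fin_four
  exact Group.isSolvable_of_isSolvable_injective (Equiv.Perm.viaEmbeddingHom_injective ι)

/-- A finite group with a solvable subgroup of index at most 4 is solvable. -/
theorem solvable_of_index_le_four {G : Type*} [Group G] [Finite G] (H : Subgroup G)
    (hH : Group.IsSolvable H) (hidx : H.index ≤ 4) : Group.IsSolvable G := by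
  let φ := MulAction.toPermHom G (G ⧸ H)
  have hker : φ.ker ≤ H := by
    rw [← Subgroup.normalCore_eq_ker]; exact Subgroup.normalCore_le H
  have hkers : Group.IsSolvable φ.ker := solvable_of_le hker hH
  have hps : Group.IsSolvable (Equiv.Perm (G ⧸ H)) :=
    isSolvable_perm_of_card_le_four _ (by rw [← Subgroup.index_eq_card]; exact hidx)
  exact Group.isSolvable_of_ker_le_range φ.ker.subtype φ (by simp)

/-- A group of order `p ^ k * m` with `m ≤ 4` is solvable. -/
theorem solvable_of_card_eq_pow_mul {G : Type*} [Group G] [Finite G] (p k m : ℕ)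
    [Fact p.Prime] (h : Nat.card G = p ^ k * m) (hm : m ≤ 4) : Group.IsSolvable G := by
  obtain ⟨K, hK⟩ := Sylow.exists_subgroup_card_pow_prime p (n := k) (G := G)
    (by rw [h]; exact dvd_mul_right _ _)
  have hidx : K.index = m := by
    have := K.card_mul_index
    rw [hK, h] at this
    exact Nat.eq_of_mul_eq_mul_left (pow_pos (Fact.out : p.Prime).pos k) this
  exact solvable_of_index_le_four K (solvable_of_card_prime_pow p k hK) (hidx ▸ hm)

theorem solvable_of_card_40 {G : Type*} [Group G] [Finite G] (h : Nat.card G = 40) :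
    Group.IsSolvable G := by
  have h5 : Fact (Nat.Prime 5) := ⟨by norm_num⟩
  have h2 : Fact (Nat.Prime 2) := ⟨by norm_num⟩
  have hc : Nat.card G = 5 ^ 1 * 8 := by rw [h]; norm_num
  obtain ⟨hd, hmod⟩ := sylow_count (p := 5) 1 8 hc (by norm_num)
  have hn : Nat.card (Sylow 5 G) = 1 := by
    have hle := Nat.le_of_dvd (by norm_num) hd
    interval_cases hk : Nat.card (Sylow 5 G) <;> simp_all
  let P : Sylow 5 G := default
  have hPn : (P : Subgroup G).Normal := sylow_normal_of_card_one P hn
  have hPs : Group.IsSolvable (P : Subgroup G) :=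
    solvable_of_card_prime_pow 5 1 (sylow_card P 1 8 hc (by norm_num))
  have hQs : Group.IsSolvable (G ⧸ (P : Subgroup G)) :=
    solvable_of_card_prime_pow 2 3 (by rw [card_quotient_sylow P 1 8 hc (by norm_num)]; norm_num)
  exact solvable_of_normal (P : Subgroup G) hPs hQs

theorem solvable_of_card_30 {G : Type*} [Group G] [Finite G] (h : Nat.card G = 30) :
    Group.IsSolvable G := by
  have h5 : Fact (Nat.Prime 5) := ⟨by norm_num⟩
  have hc : Nat.card G = 5 ^ 1 * 6 := by rw [h]; norm_num
  obtain ⟨hd, hmod⟩ := sylow_count (p := 5) 1 6 hc (by norm_num)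
  let P : Sylow 5 G := default
  have hPc : Nat.card (P : Subgroup G) = 5 := by
    have := sylow_card P 1 6 hc (by norm_num)
    simpa using this
  have hPs : Group.IsSolvable (P : Subgroup G) :=
    solvable_of_card_prime_pow 5 1 (by rw [hPc]; norm_num)
  have hn : Nat.card (Sylow 5 G) = 1 ∨ Nat.card (Sylow 5 G) = 6 := by
    have hle := Nat.le_of_dvd (by norm_num) hd
    interval_cases hk : Nat.card (Sylow 5 G) <;> simp_all
  rcases hn with hn | hn
  · have hPn : (P : Subgroup G).Normal := sylow_normal_of_card_one P hn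
    have hQs : Group.IsSolvable (G ⧸ (P : Subgroup G)) :=
      solvable_of_card_six (card_quotient_sylow P 1 6 hc (by norm_num))
    exact solvable_of_normal (P : Subgroup G) hPs hQs
  · have hNidx : (Subgroup.normalizer (P : Set G)).index = 6 := by
      rw [← Sylow.card_eq_index_normalizer P]; exact hn
    have hNcard : Nat.card (Subgroup.normalizer (P : Set G)) = 5 := by
      have := (Subgroup.normalizer (P : Set G)).index_mul_card
      rw [h, hNidx] at this
      omega
    have hNP : Subgroup.normalizer (P : Set G) = (P : Subgroup G) := by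
      symm
      apply Subgroup.eq_of_le_of_card_ge Subgroup.le_normalizer
      exact (hNcard.trans hPc.symm).le
    have hcyc : IsCyclic (P : Subgroup G) := isCyclic_of_prime_card (p := 5) hPc
    have hcent : Subgroup.normalizer (P : Set G) ≤ Subgroup.centralizer (P : Set G) := by
      intro g hg
      have hg' : g ∈ (P : Subgroup G) := by
        rw [← hNP]; exact hg
      rw [Subgroup.mem_centralizer_iff]
      intro x hx
      have hcomm : IsMulCommutative (P : Subgroup G) := inferInstance
      have := hcomm.is_comm.comm (⟨x, hx⟩ : (P : Subgroup G)) ⟨g, hg'⟩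
      exact congrArg Subtype.val this
    have hcompl := MonoidHom.ker_transferSylow_isComplement' P hcent
    have hmul := hcompl.card_mul_card
    rw [h, hPc] at hmul
    have hK : Nat.card (MonoidHom.transferSylow P hcent).ker = 6 := by omega
    have hKs : Group.IsSolvable (MonoidHom.transferSylow P hcent).ker := solvable_of_card_six hK
    have hQs : Group.IsSolvable (G ⧸ (MonoidHom.transferSylow P hcent).ker) := by
      apply solvable_of_card_prime_pow 5 1
      rw [← Subgroup.index_eq_card]
      have := (MonoidHom.transferSylow P hcent).ker.index_mul_card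
      rw [h, hK] at this
      omega
    exact solvable_of_normal _ hKs hQs

/-- Every group whose order is a divisor of 120 below 60 is solvable. -/
theorem solvable_of_card_dvd_120 {G : Type*} [Group G] [Finite G]
    (hd : Nat.card G ∣ 120) (hlt : Nat.card G < 60) : Group.IsSolvable G := by
  have h2 : Fact (Nat.Prime 2) := ⟨by norm_num⟩
  have h3 : Fact (Nat.Prime 3) := ⟨by norm_num⟩
  have h5 : Fact (Nat.Prime 5) := ⟨by norm_num⟩
  have hpos : 0 < Nat.card G := Nat.card_pos
  obtain ⟨n, hn⟩ : ∃ n, Nat.card G = n := ⟨_, rfl⟩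
  rw [hn] at hd hlt hpos
  have key : n = 1 ∨ n = 2 ∨ n = 3 ∨ n = 4 ∨ n = 5 ∨ n = 6 ∨ n = 8 ∨ n = 10 ∨ n = 12 ∨ n = 15 ∨
      n = 20 ∨ n = 24 ∨ n = 30 ∨ n = 40 := by
    interval_cases n <;> simp_all
  rcases key with rfl | rfl | rfl | rfl | rfl | rfl | rfl | rfl | rfl | rfl | rfl | rfl | rfl | rfl
  · exact solvable_of_card_prime_pow 2 0 (by rw [hn]; norm_num)
  · exact solvable_of_card_prime_pow 2 1 (by rw [hn]; norm_num)
  · exact solvable_of_card_prime_pow 3 1 (by rw [hn]; norm_num)
  · exact solvable_of_card_prime_pow 2 2 (by rw [hn]; norm_num)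
  · exact solvable_of_card_prime_pow 5 1 (by rw [hn]; norm_num)
  · exact solvable_of_card_six hn
  · exact solvable_of_card_prime_pow 2 3 (by rw [hn]; norm_num)
  · exact solvable_of_card_eq_pow_mul 5 1 2 (by rw [hn]; norm_num) (by norm_num)
  · exact solvable_of_card_eq_pow_mul 2 2 3 (by rw [hn]; norm_num) (by norm_num)
  · exact solvable_of_card_eq_pow_mul 5 1 3 (by rw [hn]; norm_num) (by norm_num)
  · exact solvable_of_card_eq_pow_mul 5 1 4 (by rw [hn]; norm_num) (by norm_num)
  · exact solvable_of_card_24 hn
  · exact solvable_of_card_30 hn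
  · exact solvable_of_card_40 hn

/-- A non-solvable group of order 60 is simple. -/
theorem isSimpleGroup_of_card_60 {G : Type*} [Group G] [Finite G] (h : Nat.card G = 60)
    (hns : ¬ Group.IsSolvable G) : IsSimpleGroup G := by
  have hnt : Nontrivial G := by
    rw [← Finite.one_lt_card_iff_nontrivial, h]
    norm_num
  refine { exists_pair_ne := hnt.exists_pair_ne, eq_bot_or_eq_top_of_normal := ?_ }
  intro H hH
  by_contra hcon
  rw [not_or] at hcon
  obtain ⟨hb, ht⟩ := hcon
  apply hns
  have hmul := H.card_mul_index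
  rw [h] at hmul
  have hidx : H.index ≠ 1 := fun h1 => ht (Subgroup.index_eq_one.mp h1)
  have hcard : Nat.card H ≠ 1 := fun h1 => hb (Subgroup.card_eq_one.mp h1)
  have hpos : 0 < Nat.card H := Nat.card_pos
  have hipos : 0 < H.index := Nat.pos_of_ne_zero (fun h0 => by rw [h0] at hmul; omega)
  have hi2 : 2 ≤ H.index := by omega
  have hc2 : 2 ≤ Nat.card H := by omega
  have hHs : Group.IsSolvable H := by
    apply solvable_of_card_dvd_120
    · exact Dvd.dvd.trans (Dvd.intro _ hmul) (by norm_num)
    · nlinarith
  have hQs : Group.IsSolvable (G ⧸ H) := by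
    apply solvable_of_card_dvd_120
    · rw [← Subgroup.index_eq_card]
      exact Dvd.dvd.trans (Dvd.intro_left _ hmul) (by norm_num)
    · rw [← Subgroup.index_eq_card]
      nlinarith
  exact solvable_of_normal H hHs hQs

end Cfsg.Agent.Lib.Helper56.SmallSolvable
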