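import Mathlib
import Cfsg.Agent.Lib.Helper38.SLCard

set_option autoImplicit false

namespace Cfsg.Agent.Lib.Helper56.SL25Pres

/-- The relators of the presentation
`⟨x, y, z | x³ = y⁵ = z² = 1, z⁻¹xz = x, z⁻¹yz = y, (xy)² = z⟩` of SL(2,5). -/
abbrev rels : Set (FreeGroup (Fin 3)) :=
  {FreeGroup.of (0 : Fin 3) ^ 3, FreeGroup.of (1 : Fin 3) ^ 5, FreeGroup.of (2 : Fin 3) ^ 2,
    (FreeGroup.of (2 : Fin 3))⁻¹ * FreeGroup.of 0 * FreeGroup.of 2 * (FreeGroup.of (0 : Fin 3))⁻¹,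
    (FreeGroup.of (2 : Fin 3))⁻¹ * FreeGroup.of 1 * FreeGroup.of 2 * (FreeGroup.of (1 : Fin 3))⁻¹,
    (FreeGroup.of (0 : Fin 3) * FreeGroup.of 1) ^ 2 * (FreeGroup.of (2 : Fin 3))⁻¹}

abbrev P := PresentedGroup rels

abbrev S5 := Matrix.SpecialLinearGroup (Fin 2) (ZMod 5)
abbrev S11 := Matrix.SpecialLinearGroup (Fin 2) (ZMod 11)

noncomputable def x : P := PresentedGroup.of 0
noncomputable def y : P := PresentedGroup.of 1
noncomputable def z : P := PresentedGroup.of 2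

theorem hx3 : x ^ 3 = 1 := by
  have h : PresentedGroup.mk rels (FreeGroup.of 0 ^ 3) = 1 :=
    PresentedGroup.one_of_mem (by simp [rels])
  rw [map_pow] at h
  exact h

theorem hy5 : y ^ 5 = 1 := by
  have h : PresentedGroup.mk rels (FreeGroup.of 1 ^ 5) = 1 :=
    PresentedGroup.one_of_mem (by simp [rels])
  rw [map_pow] at h
  exact h

theorem hz2 : z ^ 2 = 1 := by
  have h : PresentedGroup.mk rels (FreeGroup.of 2 ^ 2) = 1 :=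
    PresentedGroup.one_of_mem (by simp [rels])
  rw [map_pow] at h
  exact h

theorem hxz : x * z = z * x := by
  have h : PresentedGroup.mk rels ((FreeGroup.of (2 : Fin 3))⁻¹ * FreeGroup.of 0 * FreeGroup.of 2 *
      (FreeGroup.of (0 : Fin 3))⁻¹) = 1 :=
    PresentedGroup.one_of_mem (by simp [rels])
  rw [map_mul, map_mul, map_mul, map_inv, map_inv] at h
  have h' : z⁻¹ * x * z * x⁻¹ = 1 := h
  have h2 : z⁻¹ * x * z = x := by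
    rw [mul_inv_eq_one] at h'
    exact h'
  calc x * z = z * (z⁻¹ * x * z) := by rw [mul_assoc, mul_inv_cancel_left]
    _ = z * x := by rw [h2]

theorem hyz : y * z = z * y := by
  have h : PresentedGroup.mk rels ((FreeGroup.of (2 : Fin 3))⁻¹ * FreeGroup.of 1 * FreeGroup.of 2 *
      (FreeGroup.of (1 : Fin 3))⁻¹) = 1 :=
    PresentedGroup.one_of_mem (by simp [rels])
  rw [map_mul, map_mul, map_mul, map_inv, map_inv] at h
  have h' : z⁻¹ * y * z * y⁻¹ = 1 := h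
  have h2 : z⁻¹ * y * z = y := by
    rw [mul_inv_eq_one] at h'
    exact h'
  calc y * z = z * (z⁻¹ * y * z) := by rw [mul_assoc, mul_inv_cancel_left]
    _ = z * y := by rw [h2]

theorem hxy2 : (x * y) ^ 2 = z := by
  have h : PresentedGroup.mk rels ((FreeGroup.of (0 : Fin 3) * FreeGroup.of 1) ^ 2 *
      (FreeGroup.of (2 : Fin 3))⁻¹) = 1 :=
    PresentedGroup.one_of_mem (by simp [rels])
  rw [map_mul, map_pow, map_mul, map_inv] at h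
  have h' : (x * y) ^ 2 * z⁻¹ = 1 := h
  rw [mul_inv_eq_one] at h'
  exact h'

theorem relA (a : P) : a * x * x * x = a := by
  calc a * x * x * x = a * x ^ 3 := by simp only [pow_succ, pow_zero, one_mul, mul_assoc]
    _ = a := by rw [hx3, mul_one]

theorem relB (a : P) : a * y * y * y * y * y = a := by
  calc a * y * y * y * y * y = a * y ^ 5 := by simp only [pow_succ, pow_zero, one_mul, mul_assoc]
    _ = a := by rw [hy5, mul_one]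

theorem relC (a : P) : a * z * z = a := by
  calc a * z * z = a * z ^ 2 := by simp only [pow_succ, pow_zero, one_mul, mul_assoc]
    _ = a := by rw [hz2, mul_one]

theorem relD (a : P) : a * x * z = a * z * x := by
  rw [mul_assoc, hxz, ← mul_assoc]

theorem relE (a : P) : a * y * z = a * z * y := by
  rw [mul_assoc, hyz, ← mul_assoc]

theorem relF (a : P) : a * x * y * x * y = a * z := by
  calc a * x * y * x * y = a * (x * y) ^ 2 := by simp only [pow_succ, pow_zero, one_mul, mul_assoc]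
    _ = a * z := by rw [hxy2]

noncomputable def r0 : P := 1
noncomputable def r1 : P := r0 * x
noncomputable def r2 : P := r0 * y
noncomputable def r3 : P := r0 * z
noncomputable def r4 : P := r1 * x
noncomputable def r5 : P := r1 * y
noncomputable def r6 : P := r1 * z
noncomputable def r7 : P := r2 * x
noncomputable def r8 : P := r2 * y
noncomputable def r9 : P := r2 * z
noncomputable def r10 : P := r4 * y
noncomputable def r11 : P := r4 * z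
noncomputable def r12 : P := r5 * x
noncomputable def r13 : P := r5 * y
noncomputable def r14 : P := r5 * z
noncomputable def r15 : P := r7 * x
noncomputable def r16 : P := r7 * z
noncomputable def r17 : P := r8 * x
noncomputable def r18 : P := r8 * y
noncomputable def r19 : P := r8 * z
noncomputable def r20 : P := r10 * x
noncomputable def r21 : P := r10 * y
noncomputable def r22 : P := r10 * z
noncomputable def r23 : P := r12 * x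
noncomputable def r24 : P := r12 * z
noncomputable def r25 : P := r13 * x
noncomputable def r26 : P := r13 * y
noncomputable def r27 : P := r13 * z
noncomputable def r28 : P := r15 * y
noncomputable def r29 : P := r15 * z
noncomputable def r30 : P := r17 * x
noncomputable def r31 : P := r17 * z
noncomputable def r32 : P := r18 * x
noncomputable def r33 : P := r18 * z
noncomputable def r34 : P := r20 * x
noncomputable def r35 : P := r20 * z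
noncomputable def r36 : P := r21 * x
noncomputable def r37 : P := r21 * y
noncomputable def r38 : P := r21 * z
noncomputable def r39 : P := r23 * y
noncomputable def r40 : P := r23 * z
noncomputable def r41 : P := r25 * x
noncomputable def r42 : P := r25 * z
noncomputable def r43 : P := r26 * x
noncomputable def r44 : P := r26 * z
noncomputable def r45 : P := r28 * y
noncomputable def r46 : P := r28 * z
noncomputable def r47 : P := r30 * y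
noncomputable def r48 : P := r30 * z
noncomputable def r49 : P := r32 * z
noncomputable def r50 : P := r34 * y
noncomputable def r51 : P := r34 * z
noncomputable def r52 : P := r36 * x
noncomputable def r53 : P := r36 * z
noncomputable def r54 : P := r37 * x
noncomputable def r55 : P := r37 * z
noncomputable def r56 : P := r39 * y
noncomputable def r57 : P := r39 * z
noncomputable def r58 : P := r41 * y
noncomputable def r59 : P := r41 * z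
noncomputable def r60 : P := r43 * z
noncomputable def r61 : P := r45 * x
noncomputable def r62 : P := r45 * y
noncomputable def r63 : P := r45 * z
noncomputable def r64 : P := r47 * y
noncomputable def r65 : P := r47 * z
noncomputable def r66 : P := r50 * y
noncomputable def r67 : P := r50 * z
noncomputable def r68 : P := r52 * y
noncomputable def r69 : P := r52 * z
noncomputable def r70 : P := r54 * z
noncomputable def r71 : P := r56 * x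
noncomputable def r72 : P := r56 * y
noncomputable def r73 : P := r56 * z
noncomputable def r74 : P := r58 * y
noncomputable def r75 : P := r58 * z
noncomputable def r76 : P := r61 * x
noncomputable def r77 : P := r61 * z
noncomputable def r78 : P := r62 * x
noncomputable def r79 : P := r62 * z
noncomputable def r80 : P := r64 * x
noncomputable def r81 : P := r64 * z
noncomputable def r82 : P := r66 * x
noncomputable def r83 : P := r66 * y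
noncomputable def r84 : P := r66 * z
noncomputable def r85 : P := r68 * y
noncomputable def r86 : P := r68 * z
noncomputable def r87 : P := r71 * x
noncomputable def r88 : P := r71 * z
noncomputable def r89 : P := r72 * x
noncomputable def r90 : P := r72 * z
noncomputable def r91 : P := r74 * x
noncomputable def r92 : P := r74 * z
noncomputable def r93 : P := r76 * y
noncomputable def r94 : P := r76 * z
noncomputable def r95 : P := r78 * z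
noncomputable def r96 : P := r80 * x
noncomputable def r97 : P := r80 * z
noncomputable def r98 : P := r82 * x
noncomputable def r99 : P := r82 * z
noncomputable def r100 : P := r83 * x
noncomputable def r101 : P := r83 * z
noncomputable def r102 : P := r85 * x
noncomputable def r103 : P := r85 * z
noncomputable def r104 : P := r87 * y
noncomputable def r105 : P := r87 * z
noncomputable def r106 : P := r89 * z
noncomputable def r107 : P := r91 * x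
noncomputable def r108 : P := r91 * z
noncomputable def r109 : P := r93 * y
noncomputable def r110 : P := r93 * z
noncomputable def r111 : P := r96 * y
noncomputable def r112 : P := r98 * y
noncomputable def r113 : P := r98 * z
noncomputable def r114 : P := r100 * z
noncomputable def r115 : P := r102 * z
noncomputable def r116 : P := r104 * y
noncomputable def r117 : P := r107 * y
noncomputable def r118 : P := r109 * x
noncomputable def r119 : P := r109 * z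
theorem e_0_x : r0 * x = r1 := rfl
theorem e_0_y : r0 * y = r2 := rfl
theorem e_0_z : r0 * z = r3 := rfl
theorem e_1_x : r1 * x = r4 := rfl
theorem e_1_y : r1 * y = r5 := rfl
theorem e_1_z : r1 * z = r6 := rfl
theorem e_2_x : r2 * x = r7 := rfl
theorem e_2_y : r2 * y = r8 := rfl
theorem e_2_z : r2 * z = r9 := rfl
theorem e_4_y : r4 * y = r10 := rfl
theorem e_4_z : r4 * z = r11 := rfl
theorem e_5_x : r5 * x = r12 := rfl
theorem e_5_y : r5 * y = r13 := rfl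
theorem e_5_z : r5 * z = r14 := rfl
theorem e_7_x : r7 * x = r15 := rfl
theorem e_7_z : r7 * z = r16 := rfl
theorem e_8_x : r8 * x = r17 := rfl
theorem e_8_y : r8 * y = r18 := rfl
theorem e_8_z : r8 * z = r19 := rfl
theorem e_10_x : r10 * x = r20 := rfl
theorem e_10_y : r10 * y = r21 := rfl
theorem e_10_z : r10 * z = r22 := rfl
theorem e_12_x : r12 * x = r23 := rfl
theorem e_12_z : r12 * z = r24 := rfl
theorem e_13_x : r13 * x = r25 := rfl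
theorem e_13_y : r13 * y = r26 := rfl
theorem e_13_z : r13 * z = r27 := rfl
theorem e_15_y : r15 * y = r28 := rfl
theorem e_15_z : r15 * z = r29 := rfl
theorem e_17_x : r17 * x = r30 := rfl
theorem e_17_z : r17 * z = r31 := rfl
theorem e_18_x : r18 * x = r32 := rfl
theorem e_18_z : r18 * z = r33 := rfl
theorem e_20_x : r20 * x = r34 := rfl
theorem e_20_z : r20 * z = r35 := rfl
theorem e_21_x : r21 * x = r36 := rfl
theorem e_21_y : r21 * y = r37 := rfl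
theorem e_21_z : r21 * z = r38 := rfl
theorem e_23_y : r23 * y = r39 := rfl
theorem e_23_z : r23 * z = r40 := rfl
theorem e_25_x : r25 * x = r41 := rfl
theorem e_25_z : r25 * z = r42 := rfl
theorem e_26_x : r26 * x = r43 := rfl
theorem e_26_z : r26 * z = r44 := rfl
theorem e_28_y : r28 * y = r45 := rfl
theorem e_28_z : r28 * z = r46 := rfl
theorem e_30_y : r30 * y = r47 := rfl
theorem e_30_z : r30 * z = r48 := rfl
theorem e_32_z : r32 * z = r49 := rfl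
theorem e_34_y : r34 * y = r50 := rfl
theorem e_34_z : r34 * z = r51 := rfl
theorem e_36_x : r36 * x = r52 := rfl
theorem e_36_z : r36 * z = r53 := rfl
theorem e_37_x : r37 * x = r54 := rfl
theorem e_37_z : r37 * z = r55 := rfl
theorem e_39_y : r39 * y = r56 := rfl
theorem e_39_z : r39 * z = r57 := rfl
theorem e_41_y : r41 * y = r58 := rfl
theorem e_41_z : r41 * z = r59 := rfl
theorem e_43_z : r43 * z = r60 := rfl
theorem e_45_x : r45 * x = r61 := rfl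
theorem e_45_y : r45 * y = r62 := rfl
theorem e_45_z : r45 * z = r63 := rfl
theorem e_47_y : r47 * y = r64 := rfl
theorem e_47_z : r47 * z = r65 := rfl
theorem e_50_y : r50 * y = r66 := rfl
theorem e_50_z : r50 * z = r67 := rfl
theorem e_52_y : r52 * y = r68 := rfl
theorem e_52_z : r52 * z = r69 := rfl
theorem e_54_z : r54 * z = r70 := rfl
theorem e_56_x : r56 * x = r71 := rfl
theorem e_56_y : r56 * y = r72 := rfl
theorem e_56_z : r56 * z = r73 := rfl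
theorem e_58_y : r58 * y = r74 := rfl
theorem e_58_z : r58 * z = r75 := rfl
theorem e_61_x : r61 * x = r76 := rfl
theorem e_61_z : r61 * z = r77 := rfl
theorem e_62_x : r62 * x = r78 := rfl
theorem e_62_z : r62 * z = r79 := rfl
theorem e_64_x : r64 * x = r80 := rfl
theorem e_64_z : r64 * z = r81 := rfl
theorem e_66_x : r66 * x = r82 := rfl
theorem e_66_y : r66 * y = r83 := rfl
theorem e_66_z : r66 * z = r84 := rfl
theorem e_68_y : r68 * y = r85 := rfl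
theorem e_68_z : r68 * z = r86 := rfl
theorem e_71_x : r71 * x = r87 := rfl
theorem e_71_z : r71 * z = r88 := rfl
theorem e_72_x : r72 * x = r89 := rfl
theorem e_72_z : r72 * z = r90 := rfl
theorem e_74_x : r74 * x = r91 := rfl
theorem e_74_z : r74 * z = r92 := rfl
theorem e_76_y : r76 * y = r93 := rfl
theorem e_76_z : r76 * z = r94 := rfl
theorem e_78_z : r78 * z = r95 := rfl
theorem e_80_x : r80 * x = r96 := rfl
theorem e_80_z : r80 * z = r97 := rfl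
theorem e_82_x : r82 * x = r98 := rfl
theorem e_82_z : r82 * z = r99 := rfl
theorem e_83_x : r83 * x = r100 := rfl
theorem e_83_z : r83 * z = r101 := rfl
theorem e_85_x : r85 * x = r102 := rfl
theorem e_85_z : r85 * z = r103 := rfl
theorem e_87_y : r87 * y = r104 := rfl
theorem e_87_z : r87 * z = r105 := rfl
theorem e_89_z : r89 * z = r106 := rfl
theorem e_91_x : r91 * x = r107 := rfl
theorem e_91_z : r91 * z = r108 := rfl
theorem e_93_y : r93 * y = r109 := rfl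
theorem e_93_z : r93 * z = r110 := rfl
theorem e_96_y : r96 * y = r111 := rfl
theorem e_98_y : r98 * y = r112 := rfl
theorem e_98_z : r98 * z = r113 := rfl
theorem e_100_z : r100 * z = r114 := rfl
theorem e_102_z : r102 * z = r115 := rfl
theorem e_104_y : r104 * y = r116 := rfl
theorem e_107_y : r107 * y = r117 := rfl
theorem e_109_x : r109 * x = r118 := rfl
theorem e_109_z : r109 * z = r119 := rfl
theorem e_4_x : r4 * x = r0 := by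
  have h := relA r0
  simp only [e_0_x, e_1_x] at h
  exact h
theorem e_15_x : r15 * x = r2 := by
  have h := relA r2
  simp only [e_2_x, e_7_x] at h
  exact h
theorem e_23_x : r23 * x = r5 := by
  have h := relA r5
  simp only [e_5_x, e_12_x] at h
  exact h
theorem e_30_x : r30 * x = r8 := by
  have h := relA r8
  simp only [e_8_x, e_17_x] at h
  exact h
theorem e_34_x : r34 * x = r10 := by
  have h := relA r10
  simp only [e_10_x, e_20_x] at h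
  exact h
theorem e_41_x : r41 * x = r13 := by
  have h := relA r13
  simp only [e_13_x, e_25_x] at h
  exact h
theorem e_52_x : r52 * x = r21 := by
  have h := relA r21
  simp only [e_21_x, e_36_x] at h
  exact h
theorem e_76_x : r76 * x = r45 := by
  have h := relA r45
  simp only [e_45_x, e_61_x] at h
  exact h
theorem e_87_x : r87 * x = r56 := by
  have h := relA r56
  simp only [e_56_x, e_71_x] at h
  exact h
theorem e_96_x : r96 * x = r64 := by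
  have h := relA r64
  simp only [e_64_x, e_80_x] at h
  exact h
theorem e_98_x : r98 * x = r66 := by
  have h := relA r66
  simp only [e_66_x, e_82_x] at h
  exact h
theorem e_107_x : r107 * x = r74 := by
  have h := relA r74
  simp only [e_74_x, e_91_x] at h
  exact h
theorem e_3_z : r3 * z = r0 := by
  have h := relC r0
  simp only [e_0_z] at h
  exact h
theorem e_6_z : r6 * z = r1 := by
  have h := relC r1
  simp only [e_1_z] at h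
  exact h
theorem e_9_z : r9 * z = r2 := by
  have h := relC r2
  simp only [e_2_z] at h
  exact h
theorem e_11_z : r11 * z = r4 := by
  have h := relC r4
  simp only [e_4_z] at h
  exact h
theorem e_14_z : r14 * z = r5 := by
  have h := relC r5
  simp only [e_5_z] at h
  exact h
theorem e_16_z : r16 * z = r7 := by
  have h := relC r7
  simp only [e_7_z] at h
  exact h
theorem e_19_z : r19 * z = r8 := by
  have h := relC r8
  simp only [e_8_z] at h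
  exact h
theorem e_22_z : r22 * z = r10 := by
  have h := relC r10
  simp only [e_10_z] at h
  exact h
theorem e_24_z : r24 * z = r12 := by
  have h := relC r12
  simp only [e_12_z] at h
  exact h
theorem e_27_z : r27 * z = r13 := by
  have h := relC r13
  simp only [e_13_z] at h
  exact h
theorem e_29_z : r29 * z = r15 := by
  have h := relC r15
  simp only [e_15_z] at h
  exact h
theorem e_31_z : r31 * z = r17 := by
  have h := relC r17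
  simp only [e_17_z] at h
  exact h
theorem e_33_z : r33 * z = r18 := by
  have h := relC r18
  simp only [e_18_z] at h
  exact h
theorem e_35_z : r35 * z = r20 := by
  have h := relC r20
  simp only [e_20_z] at h
  exact h
theorem e_38_z : r38 * z = r21 := by
  have h := relC r21
  simp only [e_21_z] at h
  exact h
theorem e_40_z : r40 * z = r23 := by
  have h := relC r23
  simp only [e_23_z] at h
  exact h
theorem e_42_z : r42 * z = r25 := by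
  have h := relC r25
  simp only [e_25_z] at h
  exact h
theorem e_44_z : r44 * z = r26 := by
  have h := relC r26
  simp only [e_26_z] at h
  exact h
theorem e_46_z : r46 * z = r28 := by
  have h := relC r28
  simp only [e_28_z] at h
  exact h
theorem e_48_z : r48 * z = r30 := by
  have h := relC r30
  simp only [e_30_z] at h
  exact h
theorem e_49_z : r49 * z = r32 := by
  have h := relC r32
  simp only [e_32_z] at h
  exact h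
theorem e_51_z : r51 * z = r34 := by
  have h := relC r34
  simp only [e_34_z] at h
  exact h
theorem e_53_z : r53 * z = r36 := by
  have h := relC r36
  simp only [e_36_z] at h
  exact h
theorem e_55_z : r55 * z = r37 := by
  have h := relC r37
  simp only [e_37_z] at h
  exact h
theorem e_57_z : r57 * z = r39 := by
  have h := relC r39
  simp only [e_39_z] at h
  exact h
theorem e_59_z : r59 * z = r41 := by
  have h := relC r41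
  simp only [e_41_z] at h
  exact h
theorem e_60_z : r60 * z = r43 := by
  have h := relC r43
  simp only [e_43_z] at h
  exact h
theorem e_63_z : r63 * z = r45 := by
  have h := relC r45
  simp only [e_45_z] at h
  exact h
theorem e_65_z : r65 * z = r47 := by
  have h := relC r47
  simp only [e_47_z] at h
  exact h
theorem e_67_z : r67 * z = r50 := by
  have h := relC r50
  simp only [e_50_z] at h
  exact h
theorem e_69_z : r69 * z = r52 := by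
  have h := relC r52
  simp only [e_52_z] at h
  exact h
theorem e_70_z : r70 * z = r54 := by
  have h := relC r54
  simp only [e_54_z] at h
  exact h
theorem e_73_z : r73 * z = r56 := by
  have h := relC r56
  simp only [e_56_z] at h
  exact h
theorem e_75_z : r75 * z = r58 := by
  have h := relC r58
  simp only [e_58_z] at h
  exact h
theorem e_77_z : r77 * z = r61 := by
  have h := relC r61
  simp only [e_61_z] at h
  exact h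
theorem e_79_z : r79 * z = r62 := by
  have h := relC r62
  simp only [e_62_z] at h
  exact h
theorem e_81_z : r81 * z = r64 := by
  have h := relC r64
  simp only [e_64_z] at h
  exact h
theorem e_84_z : r84 * z = r66 := by
  have h := relC r66
  simp only [e_66_z] at h
  exact h
theorem e_86_z : r86 * z = r68 := by
  have h := relC r68
  simp only [e_68_z] at h
  exact h
theorem e_88_z : r88 * z = r71 := by
  have h := relC r71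
  simp only [e_71_z] at h
  exact h
theorem e_90_z : r90 * z = r72 := by
  have h := relC r72
  simp only [e_72_z] at h
  exact h
theorem e_92_z : r92 * z = r74 := by
  have h := relC r74
  simp only [e_74_z] at h
  exact h
theorem e_94_z : r94 * z = r76 := by
  have h := relC r76
  simp only [e_76_z] at h
  exact h
theorem e_95_z : r95 * z = r78 := by
  have h := relC r78
  simp only [e_78_z] at h
  exact h
theorem e_97_z : r97 * z = r80 := by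
  have h := relC r80
  simp only [e_80_z] at h
  exact h
theorem e_99_z : r99 * z = r82 := by
  have h := relC r82
  simp only [e_82_z] at h
  exact h
theorem e_101_z : r101 * z = r83 := by
  have h := relC r83
  simp only [e_83_z] at h
  exact h
theorem e_103_z : r103 * z = r85 := by
  have h := relC r85
  simp only [e_85_z] at h
  exact h
theorem e_105_z : r105 * z = r87 := by
  have h := relC r87
  simp only [e_87_z] at h
  exact h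
theorem e_106_z : r106 * z = r89 := by
  have h := relC r89
  simp only [e_89_z] at h
  exact h
theorem e_108_z : r108 * z = r91 := by
  have h := relC r91
  simp only [e_91_z] at h
  exact h
theorem e_110_z : r110 * z = r93 := by
  have h := relC r93
  simp only [e_93_z] at h
  exact h
theorem e_113_z : r113 * z = r98 := by
  have h := relC r98
  simp only [e_98_z] at h
  exact h
theorem e_114_z : r114 * z = r100 := by
  have h := relC r100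
  simp only [e_100_z] at h
  exact h
theorem e_115_z : r115 * z = r102 := by
  have h := relC r102
  simp only [e_102_z] at h
  exact h
theorem e_119_z : r119 * z = r109 := by
  have h := relC r109
  simp only [e_109_z] at h
  exact h
theorem e_3_x : r3 * x = r6 := by
  have h := relD r0
  simp only [e_0_z, e_0_x, e_1_z] at h
  exact h.symm
theorem e_6_x : r6 * x = r11 := by
  have h := relD r1
  simp only [e_1_z, e_1_x, e_4_z] at h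
  exact h.symm
theorem e_9_x : r9 * x = r16 := by
  have h := relD r2
  simp only [e_2_z, e_2_x, e_7_z] at h
  exact h.symm
theorem e_11_x : r11 * x = r3 := by
  have h := relD r4
  simp only [e_4_z, e_4_x, e_0_z] at h
  exact h.symm
theorem e_14_x : r14 * x = r24 := by
  have h := relD r5
  simp only [e_5_z, e_5_x, e_12_z] at h
  exact h.symm
theorem e_16_x : r16 * x = r29 := by
  have h := relD r7
  simp only [e_7_z, e_7_x, e_15_z] at h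
  exact h.symm
theorem e_19_x : r19 * x = r31 := by
  have h := relD r8
  simp only [e_8_z, e_8_x, e_17_z] at h
  exact h.symm
theorem e_22_x : r22 * x = r35 := by
  have h := relD r10
  simp only [e_10_z, e_10_x, e_20_z] at h
  exact h.symm
theorem e_24_x : r24 * x = r40 := by
  have h := relD r12
  simp only [e_12_z, e_12_x, e_23_z] at h
  exact h.symm
theorem e_27_x : r27 * x = r42 := by
  have h := relD r13
  simp only [e_13_z, e_13_x, e_25_z] at h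
  exact h.symm
theorem e_29_x : r29 * x = r9 := by
  have h := relD r15
  simp only [e_15_z, e_15_x, e_2_z] at h
  exact h.symm
theorem e_31_x : r31 * x = r48 := by
  have h := relD r17
  simp only [e_17_z, e_17_x, e_30_z] at h
  exact h.symm
theorem e_33_x : r33 * x = r49 := by
  have h := relD r18
  simp only [e_18_z, e_18_x, e_32_z] at h
  exact h.symm
theorem e_35_x : r35 * x = r51 := by
  have h := relD r20
  simp only [e_20_z, e_20_x, e_34_z] at h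
  exact h.symm
theorem e_38_x : r38 * x = r53 := by
  have h := relD r21
  simp only [e_21_z, e_21_x, e_36_z] at h
  exact h.symm
theorem e_40_x : r40 * x = r14 := by
  have h := relD r23
  simp only [e_23_z, e_23_x, e_5_z] at h
  exact h.symm
theorem e_42_x : r42 * x = r59 := by
  have h := relD r25
  simp only [e_25_z, e_25_x, e_41_z] at h
  exact h.symm
theorem e_44_x : r44 * x = r60 := by
  have h := relD r26
  simp only [e_26_z, e_26_x, e_43_z] at h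
  exact h.symm
theorem e_48_x : r48 * x = r19 := by
  have h := relD r30
  simp only [e_30_z, e_30_x, e_8_z] at h
  exact h.symm
theorem e_51_x : r51 * x = r22 := by
  have h := relD r34
  simp only [e_34_z, e_34_x, e_10_z] at h
  exact h.symm
theorem e_53_x : r53 * x = r69 := by
  have h := relD r36
  simp only [e_36_z, e_36_x, e_52_z] at h
  exact h.symm
theorem e_55_x : r55 * x = r70 := by
  have h := relD r37
  simp only [e_37_z, e_37_x, e_54_z] at h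
  exact h.symm
theorem e_59_x : r59 * x = r27 := by
  have h := relD r41
  simp only [e_41_z, e_41_x, e_13_z] at h
  exact h.symm
theorem e_63_x : r63 * x = r77 := by
  have h := relD r45
  simp only [e_45_z, e_45_x, e_61_z] at h
  exact h.symm
theorem e_69_x : r69 * x = r38 := by
  have h := relD r52
  simp only [e_52_z, e_52_x, e_21_z] at h
  exact h.symm
theorem e_73_x : r73 * x = r88 := by
  have h := relD r56
  simp only [e_56_z, e_56_x, e_71_z] at h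
  exact h.symm
theorem e_77_x : r77 * x = r94 := by
  have h := relD r61
  simp only [e_61_z, e_61_x, e_76_z] at h
  exact h.symm
theorem e_79_x : r79 * x = r95 := by
  have h := relD r62
  simp only [e_62_z, e_62_x, e_78_z] at h
  exact h.symm
theorem e_81_x : r81 * x = r97 := by
  have h := relD r64
  simp only [e_64_z, e_64_x, e_80_z] at h
  exact h.symm
theorem e_84_x : r84 * x = r99 := by
  have h := relD r66
  simp only [e_66_z, e_66_x, e_82_z] at h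
  exact h.symm
theorem e_88_x : r88 * x = r105 := by
  have h := relD r71
  simp only [e_71_z, e_71_x, e_87_z] at h
  exact h.symm
theorem e_90_x : r90 * x = r106 := by
  have h := relD r72
  simp only [e_72_z, e_72_x, e_89_z] at h
  exact h.symm
theorem e_92_x : r92 * x = r108 := by
  have h := relD r74
  simp only [e_74_z, e_74_x, e_91_z] at h
  exact h.symm
theorem e_94_x : r94 * x = r63 := by
  have h := relD r76
  simp only [e_76_z, e_76_x, e_45_z] at h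
  exact h.symm
theorem e_99_x : r99 * x = r113 := by
  have h := relD r82
  simp only [e_82_z, e_82_x, e_98_z] at h
  exact h.symm
theorem e_101_x : r101 * x = r114 := by
  have h := relD r83
  simp only [e_83_z, e_83_x, e_100_z] at h
  exact h.symm
theorem e_103_x : r103 * x = r115 := by
  have h := relD r85
  simp only [e_85_z, e_85_x, e_102_z] at h
  exact h.symm
theorem e_105_x : r105 * x = r73 := by
  have h := relD r87
  simp only [e_87_z, e_87_x, e_56_z] at h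
  exact h.symm
theorem e_113_x : r113 * x = r84 := by
  have h := relD r98
  simp only [e_98_z, e_98_x, e_66_z] at h
  exact h.symm
theorem e_3_y : r3 * y = r9 := by
  have h := relE r0
  simp only [e_0_z, e_0_y, e_2_z] at h
  exact h.symm
theorem e_6_y : r6 * y = r14 := by
  have h := relE r1
  simp only [e_1_z, e_1_y, e_5_z] at h
  exact h.symm
theorem e_9_y : r9 * y = r19 := by
  have h := relE r2
  simp only [e_2_z, e_2_y, e_8_z] at h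
  exact h.symm
theorem e_11_y : r11 * y = r22 := by
  have h := relE r4
  simp only [e_4_z, e_4_y, e_10_z] at h
  exact h.symm
theorem e_14_y : r14 * y = r27 := by
  have h := relE r5
  simp only [e_5_z, e_5_y, e_13_z] at h
  exact h.symm
theorem e_19_y : r19 * y = r33 := by
  have h := relE r8
  simp only [e_8_z, e_8_y, e_18_z] at h
  exact h.symm
theorem e_22_y : r22 * y = r38 := by
  have h := relE r10
  simp only [e_10_z, e_10_y, e_21_z] at h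
  exact h.symm
theorem e_27_y : r27 * y = r44 := by
  have h := relE r13
  simp only [e_13_z, e_13_y, e_26_z] at h
  exact h.symm
theorem e_29_y : r29 * y = r46 := by
  have h := relE r15
  simp only [e_15_z, e_15_y, e_28_z] at h
  exact h.symm
theorem e_38_y : r38 * y = r55 := by
  have h := relE r21
  simp only [e_21_z, e_21_y, e_37_z] at h
  exact h.symm
theorem e_40_y : r40 * y = r57 := by
  have h := relE r23
  simp only [e_23_z, e_23_y, e_39_z] at h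
  exact h.symm
theorem e_46_y : r46 * y = r63 := by
  have h := relE r28
  simp only [e_28_z, e_28_y, e_45_z] at h
  exact h.symm
theorem e_48_y : r48 * y = r65 := by
  have h := relE r30
  simp only [e_30_z, e_30_y, e_47_z] at h
  exact h.symm
theorem e_51_y : r51 * y = r67 := by
  have h := relE r34
  simp only [e_34_z, e_34_y, e_50_z] at h
  exact h.symm
theorem e_57_y : r57 * y = r73 := by
  have h := relE r39
  simp only [e_39_z, e_39_y, e_56_z] at h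
  exact h.symm
theorem e_59_y : r59 * y = r75 := by
  have h := relE r41
  simp only [e_41_z, e_41_y, e_58_z] at h
  exact h.symm
theorem e_63_y : r63 * y = r79 := by
  have h := relE r45
  simp only [e_45_z, e_45_y, e_62_z] at h
  exact h.symm
theorem e_65_y : r65 * y = r81 := by
  have h := relE r47
  simp only [e_47_z, e_47_y, e_64_z] at h
  exact h.symm
theorem e_67_y : r67 * y = r84 := by
  have h := relE r50
  simp only [e_50_z, e_50_y, e_66_z] at h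
  exact h.symm
theorem e_69_y : r69 * y = r86 := by
  have h := relE r52
  simp only [e_52_z, e_52_y, e_68_z] at h
  exact h.symm
theorem e_73_y : r73 * y = r90 := by
  have h := relE r56
  simp only [e_56_z, e_56_y, e_72_z] at h
  exact h.symm
theorem e_75_y : r75 * y = r92 := by
  have h := relE r58
  simp only [e_58_z, e_58_y, e_74_z] at h
  exact h.symm
theorem e_84_y : r84 * y = r101 := by
  have h := relE r66
  simp only [e_66_z, e_66_y, e_83_z] at h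
  exact h.symm
theorem e_86_y : r86 * y = r103 := by
  have h := relE r68
  simp only [e_68_z, e_68_y, e_85_z] at h
  exact h.symm
theorem e_94_y : r94 * y = r110 := by
  have h := relE r76
  simp only [e_76_z, e_76_y, e_93_z] at h
  exact h.symm
theorem e_110_y : r110 * y = r119 := by
  have h := relE r93
  simp only [e_93_z, e_93_y, e_109_z] at h
  exact h.symm
theorem e_12_y : r12 * y = r3 := by
  have h := relF r0
  simp only [e_0_x, e_1_y, e_5_x, e_0_z] at h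
  exact h
theorem e_20_y : r20 * y = r6 := by
  have h := relF r1
  simp only [e_1_x, e_4_y, e_10_x, e_1_z] at h
  exact h
theorem e_7_y : r7 * y = r11 := by
  have h := relF r2
  simp only [e_2_x, e_2_z] at h
  have h2 : r11 * x * y = r9 := by simp only [e_11_x, e_3_y]
  exact (mul_right_cancel (mul_right_cancel (h.trans h2.symm)))
theorem e_24_y : r24 * y = r0 := by
  have h := relF r3
  simp only [e_3_x, e_6_y, e_14_x, e_3_z] at h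
  exact h
theorem e_35_y : r35 * y = r1 := by
  have h := relF r6
  simp only [e_6_x, e_11_y, e_22_x, e_6_z] at h
  exact h
theorem e_17_y : r17 * y = r29 := by
  have h := relF r8
  simp only [e_8_x, e_8_z] at h
  have h2 : r29 * x * y = r19 := by simp only [e_29_x, e_9_y]
  exact (mul_right_cancel (mul_right_cancel (h.trans h2.symm)))
theorem e_16_y : r16 * y = r4 := by
  have h := relF r9
  simp only [e_9_x, e_9_z] at h
  have h2 : r4 * x * y = r2 := by simp only [e_4_x, e_0_y]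
  exact (mul_right_cancel (mul_right_cancel (h.trans h2.symm)))
theorem e_25_y : r25 * y = r40 := by
  have h := relF r13
  simp only [e_13_x, e_13_z] at h
  have h2 : r40 * x * y = r27 := by simp only [e_40_x, e_14_y]
  exact (mul_right_cancel (mul_right_cancel (h.trans h2.symm)))
theorem e_32_y : r32 * y = r48 := by
  have h := relF r18
  simp only [e_18_x, e_18_z] at h
  have h2 : r48 * x * y = r33 := by simp only [e_48_x, e_19_y]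
  exact (mul_right_cancel (mul_right_cancel (h.trans h2.symm)))
theorem e_31_y : r31 * y = r15 := by
  have h := relF r19
  simp only [e_19_x, e_19_z] at h
  have h2 : r15 * x * y = r8 := by simp only [e_15_x, e_2_y]
  exact (mul_right_cancel (mul_right_cancel (h.trans h2.symm)))
theorem e_36_y : r36 * y = r51 := by
  have h := relF r21
  simp only [e_21_x, e_21_z] at h
  have h2 : r51 * x * y = r38 := by simp only [e_51_x, e_22_y]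
  exact (mul_right_cancel (mul_right_cancel (h.trans h2.symm)))
theorem e_43_y : r43 * y = r59 := by
  have h := relF r26
  simp only [e_26_x, e_26_z] at h
  have h2 : r59 * x * y = r44 := by simp only [e_59_x, e_27_y]
  exact (mul_right_cancel (mul_right_cancel (h.trans h2.symm)))
theorem e_42_y : r42 * y = r23 := by
  have h := relF r27
  simp only [e_27_x, e_27_z] at h
  have h2 : r23 * x * y = r13 := by simp only [e_23_x, e_5_y]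
  exact (mul_right_cancel (mul_right_cancel (h.trans h2.symm)))
theorem e_49_y : r49 * y = r30 := by
  have h := relF r33
  simp only [e_33_x, e_33_z] at h
  have h2 : r30 * x * y = r18 := by simp only [e_30_x, e_8_y]
  exact (mul_right_cancel (mul_right_cancel (h.trans h2.symm)))
theorem e_54_y : r54 * y = r69 := by
  have h := relF r37
  simp only [e_37_x, e_37_z] at h
  have h2 : r69 * x * y = r55 := by simp only [e_69_x, e_38_y]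
  exact (mul_right_cancel (mul_right_cancel (h.trans h2.symm)))
theorem e_53_y : r53 * y = r34 := by
  have h := relF r38
  simp only [e_38_x, e_38_z] at h
  have h2 : r34 * x * y = r21 := by simp only [e_34_x, e_10_y]
  exact (mul_right_cancel (mul_right_cancel (h.trans h2.symm)))
theorem e_60_y : r60 * y = r41 := by
  have h := relF r44
  simp only [e_44_x, e_44_z] at h
  have h2 : r41 * x * y = r26 := by simp only [e_41_x, e_13_y]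
  exact (mul_right_cancel (mul_right_cancel (h.trans h2.symm)))
theorem e_70_y : r70 * y = r52 := by
  have h := relF r55
  simp only [e_55_x, e_55_z] at h
  have h2 : r52 * x * y = r37 := by simp only [e_52_x, e_21_y]
  exact (mul_right_cancel (mul_right_cancel (h.trans h2.symm)))
theorem e_78_y : r78 * y = r94 := by
  have h := relF r62
  simp only [e_62_x, e_62_z] at h
  have h2 : r94 * x * y = r79 := by simp only [e_94_x, e_63_y]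
  exact (mul_right_cancel (mul_right_cancel (h.trans h2.symm)))
theorem e_89_y : r89 * y = r105 := by
  have h := relF r72
  simp only [e_72_x, e_72_z] at h
  have h2 : r105 * x * y = r90 := by simp only [e_105_x, e_73_y]
  exact (mul_right_cancel (mul_right_cancel (h.trans h2.symm)))
theorem e_95_y : r95 * y = r76 := by
  have h := relF r79
  simp only [e_79_x, e_79_z] at h
  have h2 : r76 * x * y = r62 := by simp only [e_76_x, e_45_y]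
  exact (mul_right_cancel (mul_right_cancel (h.trans h2.symm)))
theorem e_100_y : r100 * y = r113 := by
  have h := relF r83
  simp only [e_83_x, e_83_z] at h
  have h2 : r113 * x * y = r101 := by simp only [e_113_x, e_84_y]
  exact (mul_right_cancel (mul_right_cancel (h.trans h2.symm)))
theorem e_106_y : r106 * y = r87 := by
  have h := relF r90
  simp only [e_90_x, e_90_z] at h
  have h2 : r87 * x * y = r72 := by simp only [e_87_x, e_56_y]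
  exact (mul_right_cancel (mul_right_cancel (h.trans h2.symm)))
theorem e_114_y : r114 * y = r98 := by
  have h := relF r101
  simp only [e_101_x, e_101_z] at h
  have h2 : r98 * x * y = r83 := by simp only [e_98_x, e_66_y]
  exact (mul_right_cancel (mul_right_cancel (h.trans h2.symm)))
theorem e_18_y : r18 * y = r24 := by
  have h := relB r0
  simp only [e_0_y, e_2_y, e_8_y] at h
  have h2 : r24 * y = r0 := by simp only [e_24_y]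
  exact (mul_right_cancel (h.trans h2.symm))
theorem e_26_y : r26 * y = r35 := by
  have h := relB r1
  simp only [e_1_y, e_5_y, e_13_y] at h
  have h2 : r35 * y = r1 := by simp only [e_35_y]
  exact (mul_right_cancel (h.trans h2.symm))
theorem e_33_y : r33 * y = r12 := by
  have h := relB r3
  simp only [e_3_y, e_9_y, e_19_y] at h
  have h2 : r12 * y = r3 := by simp only [e_12_y]
  exact (mul_right_cancel (h.trans h2.symm))
theorem e_37_y : r37 * y = r16 := by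
  have h := relB r4
  simp only [e_4_y, e_10_y, e_21_y] at h
  have h2 : r16 * y = r4 := by simp only [e_16_y]
  exact (mul_right_cancel (h.trans h2.symm))
theorem e_44_y : r44 * y = r20 := by
  have h := relB r6
  simp only [e_6_y, e_14_y, e_27_y] at h
  have h2 : r20 * y = r6 := by simp only [e_20_y]
  exact (mul_right_cancel (h.trans h2.symm))
theorem e_55_y : r55 * y = r7 := by
  have h := relB r7
  simp only [e_7_y, e_11_y, e_22_y, e_38_y] at h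
  exact h
theorem e_62_y : r62 * y = r31 := by
  have h := relB r15
  simp only [e_15_y, e_28_y, e_45_y] at h
  have h2 : r31 * y = r15 := by simp only [e_31_y]
  exact (mul_right_cancel (h.trans h2.symm))
theorem e_79_y : r79 * y = r17 := by
  have h := relB r17
  simp only [e_17_y, e_29_y, e_46_y, e_63_y] at h
  exact h
theorem e_72_y : r72 * y = r42 := by
  have h := relB r23
  simp only [e_23_y, e_39_y, e_56_y] at h
  have h2 : r42 * y = r23 := by simp only [e_42_y]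
  exact (mul_right_cancel (h.trans h2.symm))
theorem e_90_y : r90 * y = r25 := by
  have h := relB r25
  simp only [e_25_y, e_40_y, e_57_y, e_73_y] at h
  exact h
theorem e_83_y : r83 * y = r53 := by
  have h := relB r34
  simp only [e_34_y, e_50_y, e_66_y] at h
  have h2 : r53 * y = r34 := by simp only [e_53_y]
  exact (mul_right_cancel (h.trans h2.symm))
theorem e_101_y : r101 * y = r36 := by
  have h := relB r36
  simp only [e_36_y, e_51_y, e_67_y, e_84_y] at h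
  exact h
theorem e_28_x : r28 * x = r37 := by
  have h := relF r7
  simp only [e_7_x, e_15_y, e_7_z] at h
  have h2 : r37 * y = r16 := by simp only [e_37_y]
  exact (mul_right_cancel (h.trans h2.symm))
theorem e_39_x : r39 * x = r18 := by
  have h := relF r12
  simp only [e_12_x, e_23_y, e_12_z] at h
  have h2 : r18 * y = r24 := by simp only [e_18_y]
  exact (mul_right_cancel (h.trans h2.symm))
theorem e_46_x : r46 * x = r55 := by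
  have h := relF r16
  simp only [e_16_x, e_29_y, e_16_z] at h
  have h2 : r55 * y = r7 := by simp only [e_55_y]
  exact (mul_right_cancel (h.trans h2.symm))
theorem e_47_x : r47 * x = r62 := by
  have h := relF r17
  simp only [e_17_x, e_30_y, e_17_z] at h
  have h2 : r62 * y = r31 := by simp only [e_62_y]
  exact (mul_right_cancel (h.trans h2.symm))
theorem e_50_x : r50 * x = r26 := by
  have h := relF r20
  simp only [e_20_x, e_34_y, e_20_z] at h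
  have h2 : r26 * y = r35 := by simp only [e_26_y]
  exact (mul_right_cancel (h.trans h2.symm))
theorem e_57_x : r57 * x = r33 := by
  have h := relF r24
  simp only [e_24_x, e_40_y, e_24_z] at h
  have h2 : r33 * y = r12 := by simp only [e_33_y]
  exact (mul_right_cancel (h.trans h2.symm))
theorem e_58_x : r58 * x = r72 := by
  have h := relF r25
  simp only [e_25_x, e_41_y, e_25_z] at h
  have h2 : r72 * y = r42 := by simp only [e_72_y]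
  exact (mul_right_cancel (h.trans h2.symm))
theorem e_65_x : r65 * x = r79 := by
  have h := relF r31
  simp only [e_31_x, e_48_y, e_31_z] at h
  have h2 : r79 * y = r17 := by simp only [e_79_y]
  exact (mul_right_cancel (h.trans h2.symm))
theorem e_67_x : r67 * x = r44 := by
  have h := relF r35
  simp only [e_35_x, e_51_y, e_35_z] at h
  have h2 : r44 * y = r20 := by simp only [e_44_y]
  exact (mul_right_cancel (h.trans h2.symm))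
theorem e_68_x : r68 * x = r83 := by
  have h := relF r36
  simp only [e_36_x, e_52_y, e_36_z] at h
  have h2 : r83 * y = r53 := by simp only [e_83_y]
  exact (mul_right_cancel (h.trans h2.symm))
theorem e_75_x : r75 * x = r90 := by
  have h := relF r42
  simp only [e_42_x, e_59_y, e_42_z] at h
  have h2 : r90 * y = r25 := by simp only [e_90_y]
  exact (mul_right_cancel (h.trans h2.symm))
theorem e_86_x : r86 * x = r101 := by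
  have h := relF r53
  simp only [e_53_x, e_69_y, e_53_z] at h
  have h2 : r101 * y = r36 := by simp only [e_101_y]
  exact (mul_right_cancel (h.trans h2.symm))
theorem e_32_x : r32 * x = r39 := by
  have h := relA r18
  simp only [e_18_x] at h
  have h2 : r39 * x = r18 := by simp only [e_39_x]
  exact (mul_right_cancel (h.trans h2.symm))
theorem e_43_x : r43 * x = r50 := by
  have h := relA r26
  simp only [e_26_x] at h
  have h2 : r50 * x = r26 := by simp only [e_50_x]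
  exact (mul_right_cancel (h.trans h2.symm))
theorem e_54_x : r54 * x = r28 := by
  have h := relA r28
  simp only [e_28_x, e_37_x] at h
  exact h
theorem e_49_x : r49 * x = r57 := by
  have h := relA r33
  simp only [e_33_x] at h
  have h2 : r57 * x = r33 := by simp only [e_57_x]
  exact (mul_right_cancel (h.trans h2.symm))
theorem e_60_x : r60 * x = r67 := by
  have h := relA r44
  simp only [e_44_x] at h
  have h2 : r67 * x = r44 := by simp only [e_67_x]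
  exact (mul_right_cancel (h.trans h2.symm))
theorem e_70_x : r70 * x = r46 := by
  have h := relA r46
  simp only [e_46_x, e_55_x] at h
  exact h
theorem e_78_x : r78 * x = r47 := by
  have h := relA r47
  simp only [e_47_x, e_62_x] at h
  exact h
theorem e_89_x : r89 * x = r58 := by
  have h := relA r58
  simp only [e_58_x, e_72_x] at h
  exact h
theorem e_95_x : r95 * x = r65 := by
  have h := relA r65
  simp only [e_65_x, e_79_x] at h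
  exact h
theorem e_100_x : r100 * x = r68 := by
  have h := relA r68
  simp only [e_68_x, e_83_x] at h
  exact h
theorem e_106_x : r106 * x = r75 := by
  have h := relA r75
  simp only [e_75_x, e_90_x] at h
  exact h
theorem e_114_x : r114 * x = r86 := by
  have h := relA r86
  simp only [e_86_x, e_101_x] at h
  exact h
theorem e_71_y : r71 * y = r49 := by
  have h := relF r32
  simp only [e_32_x, e_39_y, e_56_x, e_32_z] at h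
  exact h
theorem e_82_y : r82 * y = r60 := by
  have h := relF r43
  simp only [e_43_x, e_50_y, e_66_x, e_43_z] at h
  exact h
theorem e_61_y : r61 * y = r70 := by
  have h := relF r45
  simp only [e_45_x, e_45_z] at h
  have h2 : r70 * x * y = r63 := by simp only [e_70_x, e_46_y]
  exact (mul_right_cancel (mul_right_cancel (h.trans h2.symm)))
theorem e_88_y : r88 * y = r32 := by
  have h := relF r49
  simp only [e_49_x, e_57_y, e_73_x, e_49_z] at h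
  exact h
theorem e_99_y : r99 * y = r43 := by
  have h := relF r60
  simp only [e_60_x, e_67_y, e_84_x, e_60_z] at h
  exact h
theorem e_77_y : r77 * y = r54 := by
  have h := relF r63
  simp only [e_63_x, e_63_z] at h
  have h2 : r54 * x * y = r45 := by simp only [e_54_x, e_28_y]
  exact (mul_right_cancel (mul_right_cancel (h.trans h2.symm)))
theorem e_80_y : r80 * y = r95 := by
  have h := relF r64
  simp only [e_64_x, e_64_z] at h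
  have h2 : r95 * x * y = r81 := by simp only [e_95_x, e_65_y]
  exact (mul_right_cancel (mul_right_cancel (h.trans h2.symm)))
theorem e_91_y : r91 * y = r106 := by
  have h := relF r74
  simp only [e_74_x, e_74_z] at h
  have h2 : r106 * x * y = r92 := by simp only [e_106_x, e_75_y]
  exact (mul_right_cancel (mul_right_cancel (h.trans h2.symm)))
theorem e_97_y : r97 * y = r78 := by
  have h := relF r81
  simp only [e_81_x, e_81_z] at h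
  have h2 : r78 * x * y = r64 := by simp only [e_78_x, e_47_y]
  exact (mul_right_cancel (mul_right_cancel (h.trans h2.symm)))
theorem e_102_y : r102 * y = r114 := by
  have h := relF r85
  simp only [e_85_x, e_85_z] at h
  have h2 : r114 * x * y = r103 := by simp only [e_114_x, e_86_y]
  exact (mul_right_cancel (mul_right_cancel (h.trans h2.symm)))
theorem e_108_y : r108 * y = r89 := by
  have h := relF r92
  simp only [e_92_x, e_92_z] at h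
  have h2 : r89 * x * y = r74 := by simp only [e_89_x, e_58_y]
  exact (mul_right_cancel (mul_right_cancel (h.trans h2.symm)))
theorem e_115_y : r115 * y = r100 := by
  have h := relF r103
  simp only [e_103_x, e_103_z] at h
  have h2 : r100 * x * y = r85 := by simp only [e_100_x, e_68_y]
  exact (mul_right_cancel (mul_right_cancel (h.trans h2.symm)))
theorem e_64_y : r64 * y = r71 := by
  have h := relB r30
  simp only [e_30_y, e_47_y] at h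
  have h2 : r71 * y * y = r30 := by simp only [e_71_y, e_49_y]
  exact (mul_right_cancel (mul_right_cancel (h.trans h2.symm)))
theorem e_81_y : r81 * y = r88 := by
  have h := relB r32
  simp only [e_32_y, e_48_y, e_65_y] at h
  have h2 : r88 * y = r32 := by simp only [e_88_y]
  exact (mul_right_cancel (h.trans h2.symm))
theorem e_74_y : r74 * y = r82 := by
  have h := relB r41
  simp only [e_41_y, e_58_y] at h
  have h2 : r82 * y * y = r41 := by simp only [e_82_y, e_60_y]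
  exact (mul_right_cancel (mul_right_cancel (h.trans h2.symm)))
theorem e_92_y : r92 * y = r99 := by
  have h := relB r43
  simp only [e_43_y, e_59_y, e_75_y] at h
  have h2 : r99 * y = r43 := by simp only [e_99_y]
  exact (mul_right_cancel (h.trans h2.symm))
theorem e_85_y : r85 * y = r61 := by
  have h := relB r52
  simp only [e_52_y, e_68_y] at h
  have h2 : r61 * y * y = r52 := by simp only [e_61_y, e_70_y]
  exact (mul_right_cancel (mul_right_cancel (h.trans h2.symm)))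
theorem e_103_y : r103 * y = r77 := by
  have h := relB r54
  simp only [e_54_y, e_69_y, e_86_y] at h
  have h2 : r77 * y = r54 := by simp only [e_77_y]
  exact (mul_right_cancel (h.trans h2.symm))
theorem e_109_y : r109 * y = r80 := by
  have h := relB r76
  simp only [e_76_y, e_93_y] at h
  have h2 : r80 * y * y = r76 := by simp only [e_80_y, e_95_y]
  exact (mul_right_cancel (mul_right_cancel (h.trans h2.symm)))
theorem e_119_y : r119 * y = r97 := by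
  have h := relB r78
  simp only [e_78_y, e_94_y, e_110_y] at h
  have h2 : r97 * y = r78 := by simp only [e_97_y]
  exact (mul_right_cancel (h.trans h2.symm))
theorem e_116_y : r116 * y = r91 := by
  have h := relB r87
  simp only [e_87_y, e_104_y] at h
  have h2 : r91 * y * y = r87 := by simp only [e_91_y, e_106_y]
  exact (mul_right_cancel (mul_right_cancel (h.trans h2.symm)))
theorem e_93_x : r93 * x = r103 := by
  have h := relF r61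
  simp only [e_61_x, e_76_y, e_61_z] at h
  have h2 : r103 * y = r77 := by simp only [e_103_y]
  exact (mul_right_cancel (h.trans h2.symm))
theorem e_104_x : r104 * x = r81 := by
  have h := relF r71
  simp only [e_71_x, e_87_y, e_71_z] at h
  have h2 : r81 * y = r88 := by simp only [e_81_y]
  exact (mul_right_cancel (h.trans h2.symm))
theorem e_110_x : r110 * x = r85 := by
  have h := relF r77
  simp only [e_77_x, e_94_y, e_77_z] at h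
  have h2 : r85 * y = r61 := by simp only [e_85_y]
  exact (mul_right_cancel (h.trans h2.symm))
theorem e_111_x : r111 * x = r119 := by
  have h := relF r80
  simp only [e_80_x, e_96_y, e_80_z] at h
  have h2 : r119 * y = r97 := by simp only [e_119_y]
  exact (mul_right_cancel (h.trans h2.symm))
theorem e_112_x : r112 * x = r92 := by
  have h := relF r82
  simp only [e_82_x, e_98_y, e_82_z] at h
  have h2 : r92 * y = r99 := by simp only [e_92_y]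
  exact (mul_right_cancel (h.trans h2.symm))
theorem e_105_y : r105 * y = r96 := by
  have h := relF r88
  simp only [e_88_x, e_88_z] at h
  have h2 : r96 * x * y = r71 := by simp only [e_96_x, e_64_y]
  exact (mul_right_cancel (mul_right_cancel (h.trans h2.symm)))
theorem e_96_z : r96 * z = r104 := by
  have h := relF r96
  simp only [e_96_x, e_64_y, e_71_x, e_87_y] at h
  exact h.symm
theorem e_113_y : r113 * y = r107 := by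
  have h := relF r99
  simp only [e_99_x, e_99_z] at h
  have h2 : r107 * x * y = r82 := by simp only [e_107_x, e_74_y]
  exact (mul_right_cancel (mul_right_cancel (h.trans h2.symm)))
theorem e_104_z : r104 * z = r96 := by
  have h := relF r104
  simp only [e_104_x, e_81_y, e_88_x, e_105_y] at h
  exact h.symm
theorem e_107_z : r107 * z = r112 := by
  have h := relF r107
  simp only [e_107_x, e_74_y, e_82_x, e_98_y] at h
  exact h.symm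
theorem e_112_z : r112 * z = r107 := by
  have h := relF r112
  simp only [e_112_x, e_92_y, e_99_x, e_113_y] at h
  exact h.symm
theorem e_97_x : r97 * x = r104 := by
  have h := relA r81
  simp only [e_81_x] at h
  have h2 : r104 * x = r81 := by simp only [e_104_x]
  exact (mul_right_cancel (h.trans h2.symm))
theorem e_102_x : r102 * x = r110 := by
  have h := relA r85
  simp only [e_85_x] at h
  have h2 : r110 * x = r85 := by simp only [e_110_x]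
  exact (mul_right_cancel (h.trans h2.symm))
theorem e_108_x : r108 * x = r112 := by
  have h := relA r92
  simp only [e_92_x] at h
  have h2 : r112 * x = r92 := by simp only [e_112_x]
  exact (mul_right_cancel (h.trans h2.symm))
theorem e_115_x : r115 * x = r93 := by
  have h := relA r93
  simp only [e_93_x, e_103_x] at h
  exact h
theorem e_111_y : r111 * y = r108 := by
  have h := relB r89
  simp only [e_89_y, e_105_y, e_96_y] at h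
  have h2 : r108 * y = r89 := by simp only [e_108_y]
  exact (mul_right_cancel (h.trans h2.symm))
theorem e_117_y : r117 * y = r115 := by
  have h := relB r100
  simp only [e_100_y, e_113_y, e_107_y] at h
  have h2 : r115 * y = r100 := by simp only [e_115_y]
  exact (mul_right_cancel (h.trans h2.symm))
theorem e_111_z : r111 * z = r116 := by
  have h := relE r96
  simp only [e_96_y, e_96_z, e_104_y] at h
  exact h
theorem e_116_z : r116 * z = r111 := by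
  have h := relE r104
  simp only [e_104_y, e_104_z, e_96_y] at h
  exact h
theorem e_117_x : r117 * x = r111 := by
  have h := relF r91
  simp only [e_91_x, e_107_y, e_91_z] at h
  have h2 : r111 * y = r108 := by simp only [e_111_y]
  exact (mul_right_cancel (h.trans h2.symm))
theorem e_116_x : r116 * x = r109 := by
  have h := relF r97
  simp only [e_97_x, e_104_y, e_97_z] at h
  have h2 : r109 * y = r80 := by simp only [e_109_y]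
  exact (mul_right_cancel (h.trans h2.symm))
theorem e_119_x : r119 * x = r117 := by
  have h := relF r102
  simp only [e_102_x, e_110_y, e_102_z] at h
  have h2 : r117 * y = r115 := by simp only [e_117_y]
  exact (mul_right_cancel (h.trans h2.symm))
theorem e_118_y : r118 * y = r102 := by
  have h := relF r109
  simp only [e_109_x, e_109_z] at h
  have h2 : r102 * x * y = r119 := by simp only [e_102_x, e_110_y]
  exact (mul_right_cancel (mul_right_cancel (h.trans h2.symm)))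
theorem e_118_x : r118 * x = r116 := by
  have h := relA r109
  simp only [e_109_x] at h
  have h2 : r116 * x = r109 := by simp only [e_116_x]
  exact (mul_right_cancel (h.trans h2.symm))
theorem e_112_y : r112 * y = r118 := by
  have h := relB r98
  simp only [e_98_y] at h
  have h2 : r118 * y * y * y = r98 := by simp only [e_118_y, e_102_y, e_114_y]
  exact (mul_right_cancel (mul_right_cancel (mul_right_cancel (h.trans h2.symm))))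
theorem e_118_z : r118 * z = r117 := by
  have h := relD r109
  simp only [e_109_x, e_109_z, e_119_x] at h
  exact h
theorem e_117_z : r117 * z = r118 := by
  have h := relD r117
  simp only [e_117_x, e_111_z] at h
  have h2 : r118 * x = r116 := by simp only [e_118_x]
  exact (mul_right_cancel (h.symm.trans h2.symm))
noncomputable def rep : Fin 120 → P
  | ⟨0, _⟩ => r0
  | ⟨1, _⟩ => r1
  | ⟨2, _⟩ => r2
  | ⟨3, _⟩ => r3
  | ⟨4, _⟩ => r4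
  | ⟨5, _⟩ => r5
  | ⟨6, _⟩ => r6
  | ⟨7, _⟩ => r7
  | ⟨8, _⟩ => r8
  | ⟨9, _⟩ => r9
  | ⟨10, _⟩ => r10
  | ⟨11, _⟩ => r11
  | ⟨12, _⟩ => r12
  | ⟨13, _⟩ => r13
  | ⟨14, _⟩ => r14
  | ⟨15, _⟩ => r15
  | ⟨16, _⟩ => r16
  | ⟨17, _⟩ => r17
  | ⟨18, _⟩ => r18
  | ⟨19, _⟩ => r19
  | ⟨20, _⟩ => r20
  | ⟨21, _⟩ => r21
  | ⟨22, _⟩ => r22
  | ⟨23, _⟩ => r23
  | ⟨24, _⟩ => r24
  | ⟨25, _⟩ => r25
  | ⟨26, _⟩ => r26
  | ⟨27, _⟩ => r27
  | ⟨28, _⟩ => r28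
  | ⟨29, _⟩ => r29
  | ⟨30, _⟩ => r30
  | ⟨31, _⟩ => r31
  | ⟨32, _⟩ => r32
  | ⟨33, _⟩ => r33
  | ⟨34, _⟩ => r34
  | ⟨35, _⟩ => r35
  | ⟨36, _⟩ => r36
  | ⟨37, _⟩ => r37
  | ⟨38, _⟩ => r38
  | ⟨39, _⟩ => r39
  | ⟨40, _⟩ => r40
  | ⟨41, _⟩ => r41
  | ⟨42, _⟩ => r42
  | ⟨43, _⟩ => r43
  | ⟨44, _⟩ => r44
  | ⟨45, _⟩ => r45
  | ⟨46, _⟩ => r46
  | ⟨47, _⟩ => r47
  | ⟨48, _⟩ => r48
  | ⟨49, _⟩ => r49
  | ⟨50, _⟩ => r50
  | ⟨51, _⟩ => r51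
  | ⟨52, _⟩ => r52
  | ⟨53, _⟩ => r53
  | ⟨54, _⟩ => r54
  | ⟨55, _⟩ => r55
  | ⟨56, _⟩ => r56
  | ⟨57, _⟩ => r57
  | ⟨58, _⟩ => r58
  | ⟨59, _⟩ => r59
  | ⟨60, _⟩ => r60
  | ⟨61, _⟩ => r61
  | ⟨62, _⟩ => r62
  | ⟨63, _⟩ => r63
  | ⟨64, _⟩ => r64
  | ⟨65, _⟩ => r65
  | ⟨66, _⟩ => r66
  | ⟨67, _⟩ => r67
  | ⟨68, _⟩ => r68
  | ⟨69, _⟩ => r69
  | ⟨70, _⟩ => r70
  | ⟨71, _⟩ => r71
  | ⟨72, _⟩ => r72
  | ⟨73, _⟩ => r73
  | ⟨74, _⟩ => r74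
  | ⟨75, _⟩ => r75
  | ⟨76, _⟩ => r76
  | ⟨77, _⟩ => r77
  | ⟨78, _⟩ => r78
  | ⟨79, _⟩ => r79
  | ⟨80, _⟩ => r80
  | ⟨81, _⟩ => r81
  | ⟨82, _⟩ => r82
  | ⟨83, _⟩ => r83
  | ⟨84, _⟩ => r84
  | ⟨85, _⟩ => r85
  | ⟨86, _⟩ => r86
  | ⟨87, _⟩ => r87
  | ⟨88, _⟩ => r88
  | ⟨89, _⟩ => r89
  | ⟨90, _⟩ => r90
  | ⟨91, _⟩ => r91
  | ⟨92, _⟩ => r92
  | ⟨93, _⟩ => r93
  | ⟨94, _⟩ => r94
  | ⟨95, _⟩ => r95
  | ⟨96, _⟩ => r96
  | ⟨97, _⟩ => r97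
  | ⟨98, _⟩ => r98
  | ⟨99, _⟩ => r99
  | ⟨100, _⟩ => r100
  | ⟨101, _⟩ => r101
  | ⟨102, _⟩ => r102
  | ⟨103, _⟩ => r103
  | ⟨104, _⟩ => r104
  | ⟨105, _⟩ => r105
  | ⟨106, _⟩ => r106
  | ⟨107, _⟩ => r107
  | ⟨108, _⟩ => r108
  | ⟨109, _⟩ => r109
  | ⟨110, _⟩ => r110
  | ⟨111, _⟩ => r111
  | ⟨112, _⟩ => r112
  | ⟨113, _⟩ => r113
  | ⟨114, _⟩ => r114
  | ⟨115, _⟩ => r115
  | ⟨116, _⟩ => r116
  | ⟨117, _⟩ => r117
  | ⟨118, _⟩ => r118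
  | ⟨119, _⟩ => r119
  | ⟨n+120, h⟩ => absurd h (by omega)
def nx_x : Fin 120 → Fin 120
  | ⟨0, _⟩ => 1
  | ⟨1, _⟩ => 4
  | ⟨2, _⟩ => 7
  | ⟨3, _⟩ => 6
  | ⟨4, _⟩ => 0
  | ⟨5, _⟩ => 12
  | ⟨6, _⟩ => 11
  | ⟨7, _⟩ => 15
  | ⟨8, _⟩ => 17
  | ⟨9, _⟩ => 16
  | ⟨10, _⟩ => 20
  | ⟨11, _⟩ => 3
  | ⟨12, _⟩ => 23
  | ⟨13, _⟩ => 25
  | ⟨14, _⟩ => 24
  | ⟨15, _⟩ => 2
  | ⟨16, _⟩ => 29
  | ⟨17, _⟩ => 30
  | ⟨18, _⟩ => 32
  | ⟨19, _⟩ => 31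
  | ⟨20, _⟩ => 34
  | ⟨21, _⟩ => 36
  | ⟨22, _⟩ => 35
  | ⟨23, _⟩ => 5
  | ⟨24, _⟩ => 40
  | ⟨25, _⟩ => 41
  | ⟨26, _⟩ => 43
  | ⟨27, _⟩ => 42
  | ⟨28, _⟩ => 37
  | ⟨29, _⟩ => 9
  | ⟨30, _⟩ => 8
  | ⟨31, _⟩ => 48
  | ⟨32, _⟩ => 39
  | ⟨33, _⟩ => 49
  | ⟨34, _⟩ => 10
  | ⟨35, _⟩ => 51
  | ⟨36, _⟩ => 52
  | ⟨37, _⟩ => 54
  | ⟨38, _⟩ => 53
  | ⟨39, _⟩ => 18
  | ⟨40, _⟩ => 14
  | ⟨41, _⟩ => 13
  | ⟨42, _⟩ => 59
  | ⟨43, _⟩ => 50
  | ⟨44, _⟩ => 60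
  | ⟨45, _⟩ => 61
  | ⟨46, _⟩ => 55
  | ⟨47, _⟩ => 62
  | ⟨48, _⟩ => 19
  | ⟨49, _⟩ => 57
  | ⟨50, _⟩ => 26
  | ⟨51, _⟩ => 22
  | ⟨52, _⟩ => 21
  | ⟨53, _⟩ => 69
  | ⟨54, _⟩ => 28
  | ⟨55, _⟩ => 70
  | ⟨56, _⟩ => 71
  | ⟨57, _⟩ => 33
  | ⟨58, _⟩ => 72
  | ⟨59, _⟩ => 27
  | ⟨60, _⟩ => 67
  | ⟨61, _⟩ => 76
  | ⟨62, _⟩ => 78
  | ⟨63, _⟩ => 77
  | ⟨64, _⟩ => 80
  | ⟨65, _⟩ => 79
  | ⟨66, _⟩ => 82
  | ⟨67, _⟩ => 44
  | ⟨68, _⟩ => 83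
  | ⟨69, _⟩ => 38
  | ⟨70, _⟩ => 46
  | ⟨71, _⟩ => 87
  | ⟨72, _⟩ => 89
  | ⟨73, _⟩ => 88
  | ⟨74, _⟩ => 91
  | ⟨75, _⟩ => 90
  | ⟨76, _⟩ => 45
  | ⟨77, _⟩ => 94
  | ⟨78, _⟩ => 47
  | ⟨79, _⟩ => 95
  | ⟨80, _⟩ => 96
  | ⟨81, _⟩ => 97
  | ⟨82, _⟩ => 98
  | ⟨83, _⟩ => 100
  | ⟨84, _⟩ => 99
  | ⟨85, _⟩ => 102
  | ⟨86, _⟩ => 101
  | ⟨87, _⟩ => 56
  | ⟨88, _⟩ => 105
  | ⟨89, _⟩ => 58
  | ⟨90, _⟩ => 106
  | ⟨91, _⟩ => 107
  | ⟨92, _⟩ => 108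
  | ⟨93, _⟩ => 103
  | ⟨94, _⟩ => 63
  | ⟨95, _⟩ => 65
  | ⟨96, _⟩ => 64
  | ⟨97, _⟩ => 104
  | ⟨98, _⟩ => 66
  | ⟨99, _⟩ => 113
  | ⟨100, _⟩ => 68
  | ⟨101, _⟩ => 114
  | ⟨102, _⟩ => 110
  | ⟨103, _⟩ => 115
  | ⟨104, _⟩ => 81
  | ⟨105, _⟩ => 73
  | ⟨106, _⟩ => 75
  | ⟨107, _⟩ => 74
  | ⟨108, _⟩ => 112
  | ⟨109, _⟩ => 118
  | ⟨110, _⟩ => 85
  | ⟨111, _⟩ => 119
  | ⟨112, _⟩ => 92
  | ⟨113, _⟩ => 84
  | ⟨114, _⟩ => 86
  | ⟨115, _⟩ => 93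
  | ⟨116, _⟩ => 109
  | ⟨117, _⟩ => 111
  | ⟨118, _⟩ => 116
  | ⟨119, _⟩ => 117
  | ⟨n+120, h⟩ => absurd h (by omega)
def px_x : Fin 120 → Fin 120
  | ⟨0, _⟩ => 4
  | ⟨1, _⟩ => 0
  | ⟨2, _⟩ => 15
  | ⟨3, _⟩ => 11
  | ⟨4, _⟩ => 1
  | ⟨5, _⟩ => 23
  | ⟨6, _⟩ => 3
  | ⟨7, _⟩ => 2
  | ⟨8, _⟩ => 30
  | ⟨9, _⟩ => 29
  | ⟨10, _⟩ => 34
  | ⟨11, _⟩ => 6
  | ⟨12, _⟩ => 5
  | ⟨13, _⟩ => 41
  | ⟨14, _⟩ => 40
  | ⟨15, _⟩ => 7
  | ⟨16, _⟩ => 9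
  | ⟨17, _⟩ => 8
  | ⟨18, _⟩ => 39
  | ⟨19, _⟩ => 48
  | ⟨20, _⟩ => 10
  | ⟨21, _⟩ => 52
  | ⟨22, _⟩ => 51
  | ⟨23, _⟩ => 12
  | ⟨24, _⟩ => 14
  | ⟨25, _⟩ => 13
  | ⟨26, _⟩ => 50
  | ⟨27, _⟩ => 59
  | ⟨28, _⟩ => 54
  | ⟨29, _⟩ => 16
  | ⟨30, _⟩ => 17
  | ⟨31, _⟩ => 19
  | ⟨32, _⟩ => 18
  | ⟨33, _⟩ => 57
  | ⟨34, _⟩ => 20
  | ⟨35, _⟩ => 22
  | ⟨36, _⟩ => 21
  | ⟨37, _⟩ => 28
  | ⟨38, _⟩ => 69
  | ⟨39, _⟩ => 32
  | ⟨40, _⟩ => 24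
  | ⟨41, _⟩ => 25
  | ⟨42, _⟩ => 27
  | ⟨43, _⟩ => 26
  | ⟨44, _⟩ => 67
  | ⟨45, _⟩ => 76
  | ⟨46, _⟩ => 70
  | ⟨47, _⟩ => 78
  | ⟨48, _⟩ => 31
  | ⟨49, _⟩ => 33
  | ⟨50, _⟩ => 43
  | ⟨51, _⟩ => 35
  | ⟨52, _⟩ => 36
  | ⟨53, _⟩ => 38
  | ⟨54, _⟩ => 37
  | ⟨55, _⟩ => 46
  | ⟨56, _⟩ => 87
  | ⟨57, _⟩ => 49
  | ⟨58, _⟩ => 89
  | ⟨59, _⟩ => 42
  | ⟨60, _⟩ => 44
  | ⟨61, _⟩ => 45
  | ⟨62, _⟩ => 47
  | ⟨63, _⟩ => 94
  | ⟨64, _⟩ => 96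
  | ⟨65, _⟩ => 95
  | ⟨66, _⟩ => 98
  | ⟨67, _⟩ => 60
  | ⟨68, _⟩ => 100
  | ⟨69, _⟩ => 53
  | ⟨70, _⟩ => 55
  | ⟨71, _⟩ => 56
  | ⟨72, _⟩ => 58
  | ⟨73, _⟩ => 105
  | ⟨74, _⟩ => 107
  | ⟨75, _⟩ => 106
  | ⟨76, _⟩ => 61
  | ⟨77, _⟩ => 63
  | ⟨78, _⟩ => 62
  | ⟨79, _⟩ => 65
  | ⟨80, _⟩ => 64
  | ⟨81, _⟩ => 104
  | ⟨82, _⟩ => 66
  | ⟨83, _⟩ => 68
  | ⟨84, _⟩ => 113
  | ⟨85, _⟩ => 110
  | ⟨86, _⟩ => 114
  | ⟨87, _⟩ => 71
  | ⟨88, _⟩ => 73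
  | ⟨89, _⟩ => 72
  | ⟨90, _⟩ => 75
  | ⟨91, _⟩ => 74
  | ⟨92, _⟩ => 112
  | ⟨93, _⟩ => 115
  | ⟨94, _⟩ => 77
  | ⟨95, _⟩ => 79
  | ⟨96, _⟩ => 80
  | ⟨97, _⟩ => 81
  | ⟨98, _⟩ => 82
  | ⟨99, _⟩ => 84
  | ⟨100, _⟩ => 83
  | ⟨101, _⟩ => 86
  | ⟨102, _⟩ => 85
  | ⟨103, _⟩ => 93
  | ⟨104, _⟩ => 97
  | ⟨105, _⟩ => 88
  | ⟨106, _⟩ => 90
  | ⟨107, _⟩ => 91
  | ⟨108, _⟩ => 92
  | ⟨109, _⟩ => 116
  | ⟨110, _⟩ => 102
  | ⟨111, _⟩ => 117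
  | ⟨112, _⟩ => 108
  | ⟨113, _⟩ => 99
  | ⟨114, _⟩ => 101
  | ⟨115, _⟩ => 103
  | ⟨116, _⟩ => 118
  | ⟨117, _⟩ => 119
  | ⟨118, _⟩ => 109
  | ⟨119, _⟩ => 111
  | ⟨n+120, h⟩ => absurd h (by omega)
theorem closed_x : ∀ i : Fin 120, rep i * x = rep (nx_x i)
  | ⟨0, _⟩ => e_0_x
  | ⟨1, _⟩ => e_1_x
  | ⟨2, _⟩ => e_2_x
  | ⟨3, _⟩ => e_3_x
  | ⟨4, _⟩ => e_4_x
  | ⟨5, _⟩ => e_5_x
  | ⟨6, _⟩ => e_6_x
  | ⟨7, _⟩ => e_7_x
  | ⟨8, _⟩ => e_8_x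
  | ⟨9, _⟩ => e_9_x
  | ⟨10, _⟩ => e_10_x
  | ⟨11, _⟩ => e_11_x
  | ⟨12, _⟩ => e_12_x
  | ⟨13, _⟩ => e_13_x
  | ⟨14, _⟩ => e_14_x
  | ⟨15, _⟩ => e_15_x
  | ⟨16, _⟩ => e_16_x
  | ⟨17, _⟩ => e_17_x
  | ⟨18, _⟩ => e_18_x
  | ⟨19, _⟩ => e_19_x
  | ⟨20, _⟩ => e_20_x
  | ⟨21, _⟩ => e_21_x
  | ⟨22, _⟩ => e_22_x
  | ⟨23, _⟩ => e_23_x
  | ⟨24, _⟩ => e_24_x
  | ⟨25, _⟩ => e_25_x
  | ⟨26, _⟩ => e_26_x
  | ⟨27, _⟩ => e_27_x
  | ⟨28, _⟩ => e_28_x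
  | ⟨29, _⟩ => e_29_x
  | ⟨30, _⟩ => e_30_x
  | ⟨31, _⟩ => e_31_x
  | ⟨32, _⟩ => e_32_x
  | ⟨33, _⟩ => e_33_x
  | ⟨34, _⟩ => e_34_x
  | ⟨35, _⟩ => e_35_x
  | ⟨36, _⟩ => e_36_x
  | ⟨37, _⟩ => e_37_x
  | ⟨38, _⟩ => e_38_x
  | ⟨39, _⟩ => e_39_x
  | ⟨40, _⟩ => e_40_x
  | ⟨41, _⟩ => e_41_x
  | ⟨42, _⟩ => e_42_x
  | ⟨43, _⟩ => e_43_x
  | ⟨44, _⟩ => e_44_x
  | ⟨45, _⟩ => e_45_x
  | ⟨46, _⟩ => e_46_x
  | ⟨47, _⟩ => e_47_x
  | ⟨48, _⟩ => e_48_x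
  | ⟨49, _⟩ => e_49_x
  | ⟨50, _⟩ => e_50_x
  | ⟨51, _⟩ => e_51_x
  | ⟨52, _⟩ => e_52_x
  | ⟨53, _⟩ => e_53_x
  | ⟨54, _⟩ => e_54_x
  | ⟨55, _⟩ => e_55_x
  | ⟨56, _⟩ => e_56_x
  | ⟨57, _⟩ => e_57_x
  | ⟨58, _⟩ => e_58_x
  | ⟨59, _⟩ => e_59_x
  | ⟨60, _⟩ => e_60_x
  | ⟨61, _⟩ => e_61_x
  | ⟨62, _⟩ => e_62_x
  | ⟨63, _⟩ => e_63_x
  | ⟨64, _⟩ => e_64_x
  | ⟨65, _⟩ => e_65_x
  | ⟨66, _⟩ => e_66_x
  | ⟨67, _⟩ => e_67_x
  | ⟨68, _⟩ => e_68_x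
  | ⟨69, _⟩ => e_69_x
  | ⟨70, _⟩ => e_70_x
  | ⟨71, _⟩ => e_71_x
  | ⟨72, _⟩ => e_72_x
  | ⟨73, _⟩ => e_73_x
  | ⟨74, _⟩ => e_74_x
  | ⟨75, _⟩ => e_75_x
  | ⟨76, _⟩ => e_76_x
  | ⟨77, _⟩ => e_77_x
  | ⟨78, _⟩ => e_78_x
  | ⟨79, _⟩ => e_79_x
  | ⟨80, _⟩ => e_80_x
  | ⟨81, _⟩ => e_81_x
  | ⟨82, _⟩ => e_82_x
  | ⟨83, _⟩ => e_83_x
  | ⟨84, _⟩ => e_84_x
  | ⟨85, _⟩ => e_85_x
  | ⟨86, _⟩ => e_86_x
  | ⟨87, _⟩ => e_87_x
  | ⟨88, _⟩ => e_88_x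
  | ⟨89, _⟩ => e_89_x
  | ⟨90, _⟩ => e_90_x
  | ⟨91, _⟩ => e_91_x
  | ⟨92, _⟩ => e_92_x
  | ⟨93, _⟩ => e_93_x
  | ⟨94, _⟩ => e_94_x
  | ⟨95, _⟩ => e_95_x
  | ⟨96, _⟩ => e_96_x
  | ⟨97, _⟩ => e_97_x
  | ⟨98, _⟩ => e_98_x
  | ⟨99, _⟩ => e_99_x
  | ⟨100, _⟩ => e_100_x
  | ⟨101, _⟩ => e_101_x
  | ⟨102, _⟩ => e_102_x
  | ⟨103, _⟩ => e_103_x
  | ⟨104, _⟩ => e_104_x
  | ⟨105, _⟩ => e_105_x
  | ⟨106, _⟩ => e_106_x
  | ⟨107, _⟩ => e_107_x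
  | ⟨108, _⟩ => e_108_x
  | ⟨109, _⟩ => e_109_x
  | ⟨110, _⟩ => e_110_x
  | ⟨111, _⟩ => e_111_x
  | ⟨112, _⟩ => e_112_x
  | ⟨113, _⟩ => e_113_x
  | ⟨114, _⟩ => e_114_x
  | ⟨115, _⟩ => e_115_x
  | ⟨116, _⟩ => e_116_x
  | ⟨117, _⟩ => e_117_x
  | ⟨118, _⟩ => e_118_x
  | ⟨119, _⟩ => e_119_x
  | ⟨n+120, h⟩ => absurd h (by omega)
theorem pre_x : ∀ i : Fin 120, rep (px_x i) * x = rep i
  | ⟨0, _⟩ => e_4_x
  | ⟨1, _⟩ => e_0_x
  | ⟨2, _⟩ => e_15_x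
  | ⟨3, _⟩ => e_11_x
  | ⟨4, _⟩ => e_1_x
  | ⟨5, _⟩ => e_23_x
  | ⟨6, _⟩ => e_3_x
  | ⟨7, _⟩ => e_2_x
  | ⟨8, _⟩ => e_30_x
  | ⟨9, _⟩ => e_29_x
  | ⟨10, _⟩ => e_34_x
  | ⟨11, _⟩ => e_6_x
  | ⟨12, _⟩ => e_5_x
  | ⟨13, _⟩ => e_41_x
  | ⟨14, _⟩ => e_40_x
  | ⟨15, _⟩ => e_7_x
  | ⟨16, _⟩ => e_9_x
  | ⟨17, _⟩ => e_8_x
  | ⟨18, _⟩ => e_39_x
  | ⟨19, _⟩ => e_48_x
  | ⟨20, _⟩ => e_10_x
  | ⟨21, _⟩ => e_52_x
  | ⟨22, _⟩ => e_51_x
  | ⟨23, _⟩ => e_12_x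
  | ⟨24, _⟩ => e_14_x
  | ⟨25, _⟩ => e_13_x
  | ⟨26, _⟩ => e_50_x
  | ⟨27, _⟩ => e_59_x
  | ⟨28, _⟩ => e_54_x
  | ⟨29, _⟩ => e_16_x
  | ⟨30, _⟩ => e_17_x
  | ⟨31, _⟩ => e_19_x
  | ⟨32, _⟩ => e_18_x
  | ⟨33, _⟩ => e_57_x
  | ⟨34, _⟩ => e_20_x
  | ⟨35, _⟩ => e_22_x
  | ⟨36, _⟩ => e_21_x
  | ⟨37, _⟩ => e_28_x
  | ⟨38, _⟩ => e_69_x
  | ⟨39, _⟩ => e_32_x
  | ⟨40, _⟩ => e_24_x
  | ⟨41, _⟩ => e_25_x
  | ⟨42, _⟩ => e_27_x
  | ⟨43, _⟩ => e_26_x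
  | ⟨44, _⟩ => e_67_x
  | ⟨45, _⟩ => e_76_x
  | ⟨46, _⟩ => e_70_x
  | ⟨47, _⟩ => e_78_x
  | ⟨48, _⟩ => e_31_x
  | ⟨49, _⟩ => e_33_x
  | ⟨50, _⟩ => e_43_x
  | ⟨51, _⟩ => e_35_x
  | ⟨52, _⟩ => e_36_x
  | ⟨53, _⟩ => e_38_x
  | ⟨54, _⟩ => e_37_x
  | ⟨55, _⟩ => e_46_x
  | ⟨56, _⟩ => e_87_x
  | ⟨57, _⟩ => e_49_x
  | ⟨58, _⟩ => e_89_x
  | ⟨59, _⟩ => e_42_x
  | ⟨60, _⟩ => e_44_x
  | ⟨61, _⟩ => e_45_x
  | ⟨62, _⟩ => e_47_x
  | ⟨63, _⟩ => e_94_x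
  | ⟨64, _⟩ => e_96_x
  | ⟨65, _⟩ => e_95_x
  | ⟨66, _⟩ => e_98_x
  | ⟨67, _⟩ => e_60_x
  | ⟨68, _⟩ => e_100_x
  | ⟨69, _⟩ => e_53_x
  | ⟨70, _⟩ => e_55_x
  | ⟨71, _⟩ => e_56_x
  | ⟨72, _⟩ => e_58_x
  | ⟨73, _⟩ => e_105_x
  | ⟨74, _⟩ => e_107_x
  | ⟨75, _⟩ => e_106_x
  | ⟨76, _⟩ => e_61_x
  | ⟨77, _⟩ => e_63_x
  | ⟨78, _⟩ => e_62_x
  | ⟨79, _⟩ => e_65_x
  | ⟨80, _⟩ => e_64_x
  | ⟨81, _⟩ => e_104_x
  | ⟨82, _⟩ => e_66_x
  | ⟨83, _⟩ => e_68_x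
  | ⟨84, _⟩ => e_113_x
  | ⟨85, _⟩ => e_110_x
  | ⟨86, _⟩ => e_114_x
  | ⟨87, _⟩ => e_71_x
  | ⟨88, _⟩ => e_73_x
  | ⟨89, _⟩ => e_72_x
  | ⟨90, _⟩ => e_75_x
  | ⟨91, _⟩ => e_74_x
  | ⟨92, _⟩ => e_112_x
  | ⟨93, _⟩ => e_115_x
  | ⟨94, _⟩ => e_77_x
  | ⟨95, _⟩ => e_79_x
  | ⟨96, _⟩ => e_80_x
  | ⟨97, _⟩ => e_81_x
  | ⟨98, _⟩ => e_82_x
  | ⟨99, _⟩ => e_84_x
  | ⟨100, _⟩ => e_83_x
  | ⟨101, _⟩ => e_86_x
  | ⟨102, _⟩ => e_85_x
  | ⟨103, _⟩ => e_93_x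
  | ⟨104, _⟩ => e_97_x
  | ⟨105, _⟩ => e_88_x
  | ⟨106, _⟩ => e_90_x
  | ⟨107, _⟩ => e_91_x
  | ⟨108, _⟩ => e_92_x
  | ⟨109, _⟩ => e_116_x
  | ⟨110, _⟩ => e_102_x
  | ⟨111, _⟩ => e_117_x
  | ⟨112, _⟩ => e_108_x
  | ⟨113, _⟩ => e_99_x
  | ⟨114, _⟩ => e_101_x
  | ⟨115, _⟩ => e_103_x
  | ⟨116, _⟩ => e_118_x
  | ⟨117, _⟩ => e_119_x
  | ⟨118, _⟩ => e_109_x
  | ⟨119, _⟩ => e_111_x
  | ⟨n+120, h⟩ => absurd h (by omega)
def nx_y : Fin 120 → Fin 120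
  | ⟨0, _⟩ => 2
  | ⟨1, _⟩ => 5
  | ⟨2, _⟩ => 8
  | ⟨3, _⟩ => 9
  | ⟨4, _⟩ => 10
  | ⟨5, _⟩ => 13
  | ⟨6, _⟩ => 14
  | ⟨7, _⟩ => 11
  | ⟨8, _⟩ => 18
  | ⟨9, _⟩ => 19
  | ⟨10, _⟩ => 21
  | ⟨11, _⟩ => 22
  | ⟨12, _⟩ => 3
  | ⟨13, _⟩ => 26
  | ⟨14, _⟩ => 27
  | ⟨15, _⟩ => 28
  | ⟨16, _⟩ => 4
  | ⟨17, _⟩ => 29
  | ⟨18, _⟩ => 24
  | ⟨19, _⟩ => 33
  | ⟨20, _⟩ => 6
  | ⟨21, _⟩ => 37
  | ⟨22, _⟩ => 38
  | ⟨23, _⟩ => 39
  | ⟨24, _⟩ => 0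
  | ⟨25, _⟩ => 40
  | ⟨26, _⟩ => 35
  | ⟨27, _⟩ => 44
  | ⟨28, _⟩ => 45
  | ⟨29, _⟩ => 46
  | ⟨30, _⟩ => 47
  | ⟨31, _⟩ => 15
  | ⟨32, _⟩ => 48
  | ⟨33, _⟩ => 12
  | ⟨34, _⟩ => 50
  | ⟨35, _⟩ => 1
  | ⟨36, _⟩ => 51
  | ⟨37, _⟩ => 16
  | ⟨38, _⟩ => 55
  | ⟨39, _⟩ => 56
  | ⟨40, _⟩ => 57
  | ⟨41, _⟩ => 58
  | ⟨42, _⟩ => 23
  | ⟨43, _⟩ => 59
  | ⟨44, _⟩ => 20
  | ⟨45, _⟩ => 62
  | ⟨46, _⟩ => 63
  | ⟨47, _⟩ => 64
  | ⟨48, _⟩ => 65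
  | ⟨49, _⟩ => 30
  | ⟨50, _⟩ => 66
  | ⟨51, _⟩ => 67
  | ⟨52, _⟩ => 68
  | ⟨53, _⟩ => 34
  | ⟨54, _⟩ => 69
  | ⟨55, _⟩ => 7
  | ⟨56, _⟩ => 72
  | ⟨57, _⟩ => 73
  | ⟨58, _⟩ => 74
  | ⟨59, _⟩ => 75
  | ⟨60, _⟩ => 41
  | ⟨61, _⟩ => 70
  | ⟨62, _⟩ => 31
  | ⟨63, _⟩ => 79
  | ⟨64, _⟩ => 71
  | ⟨65, _⟩ => 81
  | ⟨66, _⟩ => 83
  | ⟨67, _⟩ => 84
  | ⟨68, _⟩ => 85
  | ⟨69, _⟩ => 86
  | ⟨70, _⟩ => 52
  | ⟨71, _⟩ => 49
  | ⟨72, _⟩ => 42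
  | ⟨73, _⟩ => 90
  | ⟨74, _⟩ => 82
  | ⟨75, _⟩ => 92
  | ⟨76, _⟩ => 93
  | ⟨77, _⟩ => 54
  | ⟨78, _⟩ => 94
  | ⟨79, _⟩ => 17
  | ⟨80, _⟩ => 95
  | ⟨81, _⟩ => 88
  | ⟨82, _⟩ => 60
  | ⟨83, _⟩ => 53
  | ⟨84, _⟩ => 101
  | ⟨85, _⟩ => 61
  | ⟨86, _⟩ => 103
  | ⟨87, _⟩ => 104
  | ⟨88, _⟩ => 32
  | ⟨89, _⟩ => 105
  | ⟨90, _⟩ => 25
  | ⟨91, _⟩ => 106
  | ⟨92, _⟩ => 99
  | ⟨93, _⟩ => 109
  | ⟨94, _⟩ => 110
  | ⟨95, _⟩ => 76
  | ⟨96, _⟩ => 111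
  | ⟨97, _⟩ => 78
  | ⟨98, _⟩ => 112
  | ⟨99, _⟩ => 43
  | ⟨100, _⟩ => 113
  | ⟨101, _⟩ => 36
  | ⟨102, _⟩ => 114
  | ⟨103, _⟩ => 77
  | ⟨104, _⟩ => 116
  | ⟨105, _⟩ => 96
  | ⟨106, _⟩ => 87
  | ⟨107, _⟩ => 117
  | ⟨108, _⟩ => 89
  | ⟨109, _⟩ => 80
  | ⟨110, _⟩ => 119
  | ⟨111, _⟩ => 108
  | ⟨112, _⟩ => 118
  | ⟨113, _⟩ => 107
  | ⟨114, _⟩ => 98
  | ⟨115, _⟩ => 100
  | ⟨116, _⟩ => 91
  | ⟨117, _⟩ => 115
  | ⟨118, _⟩ => 102
  | ⟨119, _⟩ => 97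
  | ⟨n+120, h⟩ => absurd h (by omega)
def px_y : Fin 120 → Fin 120
  | ⟨0, _⟩ => 24
  | ⟨1, _⟩ => 35
  | ⟨2, _⟩ => 0
  | ⟨3, _⟩ => 12
  | ⟨4, _⟩ => 16
  | ⟨5, _⟩ => 1
  | ⟨6, _⟩ => 20
  | ⟨7, _⟩ => 55
  | ⟨8, _⟩ => 2
  | ⟨9, _⟩ => 3
  | ⟨10, _⟩ => 4
  | ⟨11, _⟩ => 7
  | ⟨12, _⟩ => 33
  | ⟨13, _⟩ => 5
  | ⟨14, _⟩ => 6
  | ⟨15, _⟩ => 31
  | ⟨16, _⟩ => 37
  | ⟨17, _⟩ => 79
  | ⟨18, _⟩ => 8
  | ⟨19, _⟩ => 9
  | ⟨20, _⟩ => 44
  | ⟨21, _⟩ => 10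
  | ⟨22, _⟩ => 11
  | ⟨23, _⟩ => 42
  | ⟨24, _⟩ => 18
  | ⟨25, _⟩ => 90
  | ⟨26, _⟩ => 13
  | ⟨27, _⟩ => 14
  | ⟨28, _⟩ => 15
  | ⟨29, _⟩ => 17
  | ⟨30, _⟩ => 49
  | ⟨31, _⟩ => 62
  | ⟨32, _⟩ => 88
  | ⟨33, _⟩ => 19
  | ⟨34, _⟩ => 53
  | ⟨35, _⟩ => 26
  | ⟨36, _⟩ => 101
  | ⟨37, _⟩ => 21
  | ⟨38, _⟩ => 22
  | ⟨39, _⟩ => 23
  | ⟨40, _⟩ => 25
  | ⟨41, _⟩ => 60
  | ⟨42, _⟩ => 72
  | ⟨43, _⟩ => 99
  | ⟨44, _⟩ => 27
  | ⟨45, _⟩ => 28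
  | ⟨46, _⟩ => 29
  | ⟨47, _⟩ => 30
  | ⟨48, _⟩ => 32
  | ⟨49, _⟩ => 71
  | ⟨50, _⟩ => 34
  | ⟨51, _⟩ => 36
  | ⟨52, _⟩ => 70
  | ⟨53, _⟩ => 83
  | ⟨54, _⟩ => 77
  | ⟨55, _⟩ => 38
  | ⟨56, _⟩ => 39
  | ⟨57, _⟩ => 40
  | ⟨58, _⟩ => 41
  | ⟨59, _⟩ => 43
  | ⟨60, _⟩ => 82
  | ⟨61, _⟩ => 85
  | ⟨62, _⟩ => 45
  | ⟨63, _⟩ => 46
  | ⟨64, _⟩ => 47
  | ⟨65, _⟩ => 48
  | ⟨66, _⟩ => 50
  | ⟨67, _⟩ => 51
  | ⟨68, _⟩ => 52
  | ⟨69, _⟩ => 54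
  | ⟨70, _⟩ => 61
  | ⟨71, _⟩ => 64
  | ⟨72, _⟩ => 56
  | ⟨73, _⟩ => 57
  | ⟨74, _⟩ => 58
  | ⟨75, _⟩ => 59
  | ⟨76, _⟩ => 95
  | ⟨77, _⟩ => 103
  | ⟨78, _⟩ => 97
  | ⟨79, _⟩ => 63
  | ⟨80, _⟩ => 109
  | ⟨81, _⟩ => 65
  | ⟨82, _⟩ => 74
  | ⟨83, _⟩ => 66
  | ⟨84, _⟩ => 67
  | ⟨85, _⟩ => 68
  | ⟨86, _⟩ => 69
  | ⟨87, _⟩ => 106
  | ⟨88, _⟩ => 81
  | ⟨89, _⟩ => 108
  | ⟨90, _⟩ => 73
  | ⟨91, _⟩ => 116
  | ⟨92, _⟩ => 75
  | ⟨93, _⟩ => 76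
  | ⟨94, _⟩ => 78
  | ⟨95, _⟩ => 80
  | ⟨96, _⟩ => 105
  | ⟨97, _⟩ => 119
  | ⟨98, _⟩ => 114
  | ⟨99, _⟩ => 92
  | ⟨100, _⟩ => 115
  | ⟨101, _⟩ => 84
  | ⟨102, _⟩ => 118
  | ⟨103, _⟩ => 86
  | ⟨104, _⟩ => 87
  | ⟨105, _⟩ => 89
  | ⟨106, _⟩ => 91
  | ⟨107, _⟩ => 113
  | ⟨108, _⟩ => 111
  | ⟨109, _⟩ => 93
  | ⟨110, _⟩ => 94
  | ⟨111, _⟩ => 96
  | ⟨112, _⟩ => 98
  | ⟨113, _⟩ => 100
  | ⟨114, _⟩ => 102
  | ⟨115, _⟩ => 117
  | ⟨116, _⟩ => 104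
  | ⟨117, _⟩ => 107
  | ⟨118, _⟩ => 112
  | ⟨119, _⟩ => 110
  | ⟨n+120, h⟩ => absurd h (by omega)
theorem closed_y : ∀ i : Fin 120, rep i * y = rep (nx_y i)
  | ⟨0, _⟩ => e_0_y
  | ⟨1, _⟩ => e_1_y
  | ⟨2, _⟩ => e_2_y
  | ⟨3, _⟩ => e_3_y
  | ⟨4, _⟩ => e_4_y
  | ⟨5, _⟩ => e_5_y
  | ⟨6, _⟩ => e_6_y
  | ⟨7, _⟩ => e_7_y
  | ⟨8, _⟩ => e_8_y
  | ⟨9, _⟩ => e_9_y
  | ⟨10, _⟩ => e_10_y
  | ⟨11, _⟩ => e_11_y
  | ⟨12, _⟩ => e_12_y
  | ⟨13, _⟩ => e_13_y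
  | ⟨14, _⟩ => e_14_y
  | ⟨15, _⟩ => e_15_y
  | ⟨16, _⟩ => e_16_y
  | ⟨17, _⟩ => e_17_y
  | ⟨18, _⟩ => e_18_y
  | ⟨19, _⟩ => e_19_y
  | ⟨20, _⟩ => e_20_y
  | ⟨21, _⟩ => e_21_y
  | ⟨22, _⟩ => e_22_y
  | ⟨23, _⟩ => e_23_y
  | ⟨24, _⟩ => e_24_y
  | ⟨25, _⟩ => e_25_y
  | ⟨26, _⟩ => e_26_y
  | ⟨27, _⟩ => e_27_y
  | ⟨28, _⟩ => e_28_y
  | ⟨29, _⟩ => e_29_y
  | ⟨30, _⟩ => e_30_y
  | ⟨31, _⟩ => e_31_y
  | ⟨32, _⟩ => e_32_y
  | ⟨33, _⟩ => e_33_y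
  | ⟨34, _⟩ => e_34_y
  | ⟨35, _⟩ => e_35_y
  | ⟨36, _⟩ => e_36_y
  | ⟨37, _⟩ => e_37_y
  | ⟨38, _⟩ => e_38_y
  | ⟨39, _⟩ => e_39_y
  | ⟨40, _⟩ => e_40_y
  | ⟨41, _⟩ => e_41_y
  | ⟨42, _⟩ => e_42_y
  | ⟨43, _⟩ => e_43_y
  | ⟨44, _⟩ => e_44_y
  | ⟨45, _⟩ => e_45_y
  | ⟨46, _⟩ => e_46_y
  | ⟨47, _⟩ => e_47_y
  | ⟨48, _⟩ => e_48_y
  | ⟨49, _⟩ => e_49_y
  | ⟨50, _⟩ => e_50_y
  | ⟨51, _⟩ => e_51_y
  | ⟨52, _⟩ => e_52_y
  | ⟨53, _⟩ => e_53_y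
  | ⟨54, _⟩ => e_54_y
  | ⟨55, _⟩ => e_55_y
  | ⟨56, _⟩ => e_56_y
  | ⟨57, _⟩ => e_57_y
  | ⟨58, _⟩ => e_58_y
  | ⟨59, _⟩ => e_59_y
  | ⟨60, _⟩ => e_60_y
  | ⟨61, _⟩ => e_61_y
  | ⟨62, _⟩ => e_62_y
  | ⟨63, _⟩ => e_63_y
  | ⟨64, _⟩ => e_64_y
  | ⟨65, _⟩ => e_65_y
  | ⟨66, _⟩ => e_66_y
  | ⟨67, _⟩ => e_67_y
  | ⟨68, _⟩ => e_68_y
  | ⟨69, _⟩ => e_69_y
  | ⟨70, _⟩ => e_70_y
  | ⟨71, _⟩ => e_71_y
  | ⟨72, _⟩ => e_72_y
  | ⟨73, _⟩ => e_73_y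
  | ⟨74, _⟩ => e_74_y
  | ⟨75, _⟩ => e_75_y
  | ⟨76, _⟩ => e_76_y
  | ⟨77, _⟩ => e_77_y
  | ⟨78, _⟩ => e_78_y
  | ⟨79, _⟩ => e_79_y
  | ⟨80, _⟩ => e_80_y
  | ⟨81, _⟩ => e_81_y
  | ⟨82, _⟩ => e_82_y
  | ⟨83, _⟩ => e_83_y
  | ⟨84, _⟩ => e_84_y
  | ⟨85, _⟩ => e_85_y
  | ⟨86, _⟩ => e_86_y
  | ⟨87, _⟩ => e_87_y
  | ⟨88, _⟩ => e_88_y
  | ⟨89, _⟩ => e_89_y
  | ⟨90, _⟩ => e_90_y
  | ⟨91, _⟩ => e_91_y
  | ⟨92, _⟩ => e_92_y
  | ⟨93, _⟩ => e_93_y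
  | ⟨94, _⟩ => e_94_y
  | ⟨95, _⟩ => e_95_y
  | ⟨96, _⟩ => e_96_y
  | ⟨97, _⟩ => e_97_y
  | ⟨98, _⟩ => e_98_y
  | ⟨99, _⟩ => e_99_y
  | ⟨100, _⟩ => e_100_y
  | ⟨101, _⟩ => e_101_y
  | ⟨102, _⟩ => e_102_y
  | ⟨103, _⟩ => e_103_y
  | ⟨104, _⟩ => e_104_y
  | ⟨105, _⟩ => e_105_y
  | ⟨106, _⟩ => e_106_y
  | ⟨107, _⟩ => e_107_y
  | ⟨108, _⟩ => e_108_y
  | ⟨109, _⟩ => e_109_y
  | ⟨110, _⟩ => e_110_y
  | ⟨111, _⟩ => e_111_y
  | ⟨112, _⟩ => e_112_y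
  | ⟨113, _⟩ => e_113_y
  | ⟨114, _⟩ => e_114_y
  | ⟨115, _⟩ => e_115_y
  | ⟨116, _⟩ => e_116_y
  | ⟨117, _⟩ => e_117_y
  | ⟨118, _⟩ => e_118_y
  | ⟨119, _⟩ => e_119_y
  | ⟨n+120, h⟩ => absurd h (by omega)
theorem pre_y : ∀ i : Fin 120, rep (px_y i) * y = rep i
  | ⟨0, _⟩ => e_24_y
  | ⟨1, _⟩ => e_35_y
  | ⟨2, _⟩ => e_0_y
  | ⟨3, _⟩ => e_12_y
  | ⟨4, _⟩ => e_16_y
  | ⟨5, _⟩ => e_1_y
  | ⟨6, _⟩ => e_20_y
  | ⟨7, _⟩ => e_55_y
  | ⟨8, _⟩ => e_2_y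
  | ⟨9, _⟩ => e_3_y
  | ⟨10, _⟩ => e_4_y
  | ⟨11, _⟩ => e_7_y
  | ⟨12, _⟩ => e_33_y
  | ⟨13, _⟩ => e_5_y
  | ⟨14, _⟩ => e_6_y
  | ⟨15, _⟩ => e_31_y
  | ⟨16, _⟩ => e_37_y
  | ⟨17, _⟩ => e_79_y
  | ⟨18, _⟩ => e_8_y
  | ⟨19, _⟩ => e_9_y
  | ⟨20, _⟩ => e_44_y
  | ⟨21, _⟩ => e_10_y
  | ⟨22, _⟩ => e_11_y
  | ⟨23, _⟩ => e_42_y
  | ⟨24, _⟩ => e_18_y
  | ⟨25, _⟩ => e_90_y
  | ⟨26, _⟩ => e_13_y
  | ⟨27, _⟩ => e_14_y
  | ⟨28, _⟩ => e_15_y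
  | ⟨29, _⟩ => e_17_y
  | ⟨30, _⟩ => e_49_y
  | ⟨31, _⟩ => e_62_y
  | ⟨32, _⟩ => e_88_y
  | ⟨33, _⟩ => e_19_y
  | ⟨34, _⟩ => e_53_y
  | ⟨35, _⟩ => e_26_y
  | ⟨36, _⟩ => e_101_y
  | ⟨37, _⟩ => e_21_y
  | ⟨38, _⟩ => e_22_y
  | ⟨39, _⟩ => e_23_y
  | ⟨40, _⟩ => e_25_y
  | ⟨41, _⟩ => e_60_y
  | ⟨42, _⟩ => e_72_y
  | ⟨43, _⟩ => e_99_y
  | ⟨44, _⟩ => e_27_y
  | ⟨45, _⟩ => e_28_y
  | ⟨46, _⟩ => e_29_y
  | ⟨47, _⟩ => e_30_y
  | ⟨48, _⟩ => e_32_y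
  | ⟨49, _⟩ => e_71_y
  | ⟨50, _⟩ => e_34_y
  | ⟨51, _⟩ => e_36_y
  | ⟨52, _⟩ => e_70_y
  | ⟨53, _⟩ => e_83_y
  | ⟨54, _⟩ => e_77_y
  | ⟨55, _⟩ => e_38_y
  | ⟨56, _⟩ => e_39_y
  | ⟨57, _⟩ => e_40_y
  | ⟨58, _⟩ => e_41_y
  | ⟨59, _⟩ => e_43_y
  | ⟨60, _⟩ => e_82_y
  | ⟨61, _⟩ => e_85_y
  | ⟨62, _⟩ => e_45_y
  | ⟨63, _⟩ => e_46_y
  | ⟨64, _⟩ => e_47_y
  | ⟨65, _⟩ => e_48_y
  | ⟨66, _⟩ => e_50_y
  | ⟨67, _⟩ => e_51_y
  | ⟨68, _⟩ => e_52_y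
  | ⟨69, _⟩ => e_54_y
  | ⟨70, _⟩ => e_61_y
  | ⟨71, _⟩ => e_64_y
  | ⟨72, _⟩ => e_56_y
  | ⟨73, _⟩ => e_57_y
  | ⟨74, _⟩ => e_58_y
  | ⟨75, _⟩ => e_59_y
  | ⟨76, _⟩ => e_95_y
  | ⟨77, _⟩ => e_103_y
  | ⟨78, _⟩ => e_97_y
  | ⟨79, _⟩ => e_63_y
  | ⟨80, _⟩ => e_109_y
  | ⟨81, _⟩ => e_65_y
  | ⟨82, _⟩ => e_74_y
  | ⟨83, _⟩ => e_66_y
  | ⟨84, _⟩ => e_67_y
  | ⟨85, _⟩ => e_68_y
  | ⟨86, _⟩ => e_69_y
  | ⟨87, _⟩ => e_106_y
  | ⟨88, _⟩ => e_81_y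
  | ⟨89, _⟩ => e_108_y
  | ⟨90, _⟩ => e_73_y
  | ⟨91, _⟩ => e_116_y
  | ⟨92, _⟩ => e_75_y
  | ⟨93, _⟩ => e_76_y
  | ⟨94, _⟩ => e_78_y
  | ⟨95, _⟩ => e_80_y
  | ⟨96, _⟩ => e_105_y
  | ⟨97, _⟩ => e_119_y
  | ⟨98, _⟩ => e_114_y
  | ⟨99, _⟩ => e_92_y
  | ⟨100, _⟩ => e_115_y
  | ⟨101, _⟩ => e_84_y
  | ⟨102, _⟩ => e_118_y
  | ⟨103, _⟩ => e_86_y
  | ⟨104, _⟩ => e_87_y
  | ⟨105, _⟩ => e_89_y
  | ⟨106, _⟩ => e_91_y
  | ⟨107, _⟩ => e_113_y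
  | ⟨108, _⟩ => e_111_y
  | ⟨109, _⟩ => e_93_y
  | ⟨110, _⟩ => e_94_y
  | ⟨111, _⟩ => e_96_y
  | ⟨112, _⟩ => e_98_y
  | ⟨113, _⟩ => e_100_y
  | ⟨114, _⟩ => e_102_y
  | ⟨115, _⟩ => e_117_y
  | ⟨116, _⟩ => e_104_y
  | ⟨117, _⟩ => e_107_y
  | ⟨118, _⟩ => e_112_y
  | ⟨119, _⟩ => e_110_y
  | ⟨n+120, h⟩ => absurd h (by omega)
def nx_z : Fin 120 → Fin 120
  | ⟨0, _⟩ => 3
  | ⟨1, _⟩ => 6
  | ⟨2, _⟩ => 9
  | ⟨3, _⟩ => 0
  | ⟨4, _⟩ => 11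
  | ⟨5, _⟩ => 14
  | ⟨6, _⟩ => 1
  | ⟨7, _⟩ => 16
  | ⟨8, _⟩ => 19
  | ⟨9, _⟩ => 2
  | ⟨10, _⟩ => 22
  | ⟨11, _⟩ => 4
  | ⟨12, _⟩ => 24
  | ⟨13, _⟩ => 27
  | ⟨14, _⟩ => 5
  | ⟨15, _⟩ => 29
  | ⟨16, _⟩ => 7
  | ⟨17, _⟩ => 31
  | ⟨18, _⟩ => 33
  | ⟨19, _⟩ => 8
  | ⟨20, _⟩ => 35
  | ⟨21, _⟩ => 38
  | ⟨22, _⟩ => 10
  | ⟨23, _⟩ => 40
  | ⟨24, _⟩ => 12
  | ⟨25, _⟩ => 42
  | ⟨26, _⟩ => 44
  | ⟨27, _⟩ => 13
  | ⟨28, _⟩ => 46
  | ⟨29, _⟩ => 15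
  | ⟨30, _⟩ => 48
  | ⟨31, _⟩ => 17
  | ⟨32, _⟩ => 49
  | ⟨33, _⟩ => 18
  | ⟨34, _⟩ => 51
  | ⟨35, _⟩ => 20
  | ⟨36, _⟩ => 53
  | ⟨37, _⟩ => 55
  | ⟨38, _⟩ => 21
  | ⟨39, _⟩ => 57
  | ⟨40, _⟩ => 23
  | ⟨41, _⟩ => 59
  | ⟨42, _⟩ => 25
  | ⟨43, _⟩ => 60
  | ⟨44, _⟩ => 26
  | ⟨45, _⟩ => 63
  | ⟨46, _⟩ => 28
  | ⟨47, _⟩ => 65
  | ⟨48, _⟩ => 30
  | ⟨49, _⟩ => 32
  | ⟨50, _⟩ => 67
  | ⟨51, _⟩ => 34
  | ⟨52, _⟩ => 69
  | ⟨53, _⟩ => 36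
  | ⟨54, _⟩ => 70
  | ⟨55, _⟩ => 37
  | ⟨56, _⟩ => 73
  | ⟨57, _⟩ => 39
  | ⟨58, _⟩ => 75
  | ⟨59, _⟩ => 41
  | ⟨60, _⟩ => 43
  | ⟨61, _⟩ => 77
  | ⟨62, _⟩ => 79
  | ⟨63, _⟩ => 45
  | ⟨64, _⟩ => 81
  | ⟨65, _⟩ => 47
  | ⟨66, _⟩ => 84
  | ⟨67, _⟩ => 50
  | ⟨68, _⟩ => 86
  | ⟨69, _⟩ => 52
  | ⟨70, _⟩ => 54
  | ⟨71, _⟩ => 88
  | ⟨72, _⟩ => 90
  | ⟨73, _⟩ => 56
  | ⟨74, _⟩ => 92
  | ⟨75, _⟩ => 58
  | ⟨76, _⟩ => 94
  | ⟨77, _⟩ => 61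
  | ⟨78, _⟩ => 95
  | ⟨79, _⟩ => 62
  | ⟨80, _⟩ => 97
  | ⟨81, _⟩ => 64
  | ⟨82, _⟩ => 99
  | ⟨83, _⟩ => 101
  | ⟨84, _⟩ => 66
  | ⟨85, _⟩ => 103
  | ⟨86, _⟩ => 68
  | ⟨87, _⟩ => 105
  | ⟨88, _⟩ => 71
  | ⟨89, _⟩ => 106
  | ⟨90, _⟩ => 72
  | ⟨91, _⟩ => 108
  | ⟨92, _⟩ => 74
  | ⟨93, _⟩ => 110
  | ⟨94, _⟩ => 76
  | ⟨95, _⟩ => 78
  | ⟨96, _⟩ => 104
  | ⟨97, _⟩ => 80
  | ⟨98, _⟩ => 113
  | ⟨99, _⟩ => 82
  | ⟨100, _⟩ => 114
  | ⟨101, _⟩ => 83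
  | ⟨102, _⟩ => 115
  | ⟨103, _⟩ => 85
  | ⟨104, _⟩ => 96
  | ⟨105, _⟩ => 87
  | ⟨106, _⟩ => 89
  | ⟨107, _⟩ => 112
  | ⟨108, _⟩ => 91
  | ⟨109, _⟩ => 119
  | ⟨110, _⟩ => 93
  | ⟨111, _⟩ => 116
  | ⟨112, _⟩ => 107
  | ⟨113, _⟩ => 98
  | ⟨114, _⟩ => 100
  | ⟨115, _⟩ => 102
  | ⟨116, _⟩ => 111
  | ⟨117, _⟩ => 118
  | ⟨118, _⟩ => 117
  | ⟨119, _⟩ => 109
  | ⟨n+120, h⟩ => absurd h (by omega)
def px_z : Fin 120 → Fin 120
  | ⟨0, _⟩ => 3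
  | ⟨1, _⟩ => 6
  | ⟨2, _⟩ => 9
  | ⟨3, _⟩ => 0
  | ⟨4, _⟩ => 11
  | ⟨5, _⟩ => 14
  | ⟨6, _⟩ => 1
  | ⟨7, _⟩ => 16
  | ⟨8, _⟩ => 19
  | ⟨9, _⟩ => 2
  | ⟨10, _⟩ => 22
  | ⟨11, _⟩ => 4
  | ⟨12, _⟩ => 24
  | ⟨13, _⟩ => 27
  | ⟨14, _⟩ => 5
  | ⟨15, _⟩ => 29
  | ⟨16, _⟩ => 7
  | ⟨17, _⟩ => 31
  | ⟨18, _⟩ => 33
  | ⟨19, _⟩ => 8
  | ⟨20, _⟩ => 35
  | ⟨21, _⟩ => 38
  | ⟨22, _⟩ => 10
  | ⟨23, _⟩ => 40
  | ⟨24, _⟩ => 12
  | ⟨25, _⟩ => 42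
  | ⟨26, _⟩ => 44
  | ⟨27, _⟩ => 13
  | ⟨28, _⟩ => 46
  | ⟨29, _⟩ => 15
  | ⟨30, _⟩ => 48
  | ⟨31, _⟩ => 17
  | ⟨32, _⟩ => 49
  | ⟨33, _⟩ => 18
  | ⟨34, _⟩ => 51
  | ⟨35, _⟩ => 20
  | ⟨36, _⟩ => 53
  | ⟨37, _⟩ => 55
  | ⟨38, _⟩ => 21
  | ⟨39, _⟩ => 57
  | ⟨40, _⟩ => 23
  | ⟨41, _⟩ => 59
  | ⟨42, _⟩ => 25
  | ⟨43, _⟩ => 60
  | ⟨44, _⟩ => 26
  | ⟨45, _⟩ => 63
  | ⟨46, _⟩ => 28
  | ⟨47, _⟩ => 65
  | ⟨48, _⟩ => 30
  | ⟨49, _⟩ => 32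
  | ⟨50, _⟩ => 67
  | ⟨51, _⟩ => 34
  | ⟨52, _⟩ => 69
  | ⟨53, _⟩ => 36
  | ⟨54, _⟩ => 70
  | ⟨55, _⟩ => 37
  | ⟨56, _⟩ => 73
  | ⟨57, _⟩ => 39
  | ⟨58, _⟩ => 75
  | ⟨59, _⟩ => 41
  | ⟨60, _⟩ => 43
  | ⟨61, _⟩ => 77
  | ⟨62, _⟩ => 79
  | ⟨63, _⟩ => 45
  | ⟨64, _⟩ => 81
  | ⟨65, _⟩ => 47
  | ⟨66, _⟩ => 84
  | ⟨67, _⟩ => 50
  | ⟨68, _⟩ => 86
  | ⟨69, _⟩ => 52
  | ⟨70, _⟩ => 54
  | ⟨71, _⟩ => 88
  | ⟨72, _⟩ => 90
  | ⟨73, _⟩ => 56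
  | ⟨74, _⟩ => 92
  | ⟨75, _⟩ => 58
  | ⟨76, _⟩ => 94
  | ⟨77, _⟩ => 61
  | ⟨78, _⟩ => 95
  | ⟨79, _⟩ => 62
  | ⟨80, _⟩ => 97
  | ⟨81, _⟩ => 64
  | ⟨82, _⟩ => 99
  | ⟨83, _⟩ => 101
  | ⟨84, _⟩ => 66
  | ⟨85, _⟩ => 103
  | ⟨86, _⟩ => 68
  | ⟨87, _⟩ => 105
  | ⟨88, _⟩ => 71
  | ⟨89, _⟩ => 106
  | ⟨90, _⟩ => 72
  | ⟨91, _⟩ => 108
  | ⟨92, _⟩ => 74
  | ⟨93, _⟩ => 110
  | ⟨94, _⟩ => 76
  | ⟨95, _⟩ => 78
  | ⟨96, _⟩ => 104
  | ⟨97, _⟩ => 80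
  | ⟨98, _⟩ => 113
  | ⟨99, _⟩ => 82
  | ⟨100, _⟩ => 114
  | ⟨101, _⟩ => 83
  | ⟨102, _⟩ => 115
  | ⟨103, _⟩ => 85
  | ⟨104, _⟩ => 96
  | ⟨105, _⟩ => 87
  | ⟨106, _⟩ => 89
  | ⟨107, _⟩ => 112
  | ⟨108, _⟩ => 91
  | ⟨109, _⟩ => 119
  | ⟨110, _⟩ => 93
  | ⟨111, _⟩ => 116
  | ⟨112, _⟩ => 107
  | ⟨113, _⟩ => 98
  | ⟨114, _⟩ => 100
  | ⟨115, _⟩ => 102
  | ⟨116, _⟩ => 111
  | ⟨117, _⟩ => 118
  | ⟨118, _⟩ => 117
  | ⟨119, _⟩ => 109
  | ⟨n+120, h⟩ => absurd h (by omega)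
theorem closed_z : ∀ i : Fin 120, rep i * z = rep (nx_z i)
  | ⟨0, _⟩ => e_0_z
  | ⟨1, _⟩ => e_1_z
  | ⟨2, _⟩ => e_2_z
  | ⟨3, _⟩ => e_3_z
  | ⟨4, _⟩ => e_4_z
  | ⟨5, _⟩ => e_5_z
  | ⟨6, _⟩ => e_6_z
  | ⟨7, _⟩ => e_7_z
  | ⟨8, _⟩ => e_8_z
  | ⟨9, _⟩ => e_9_z
  | ⟨10, _⟩ => e_10_z
  | ⟨11, _⟩ => e_11_z
  | ⟨12, _⟩ => e_12_z
  | ⟨13, _⟩ => e_13_z
  | ⟨14, _⟩ => e_14_z
  | ⟨15, _⟩ => e_15_z
  | ⟨16, _⟩ => e_16_z
  | ⟨17, _⟩ => e_17_z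
  | ⟨18, _⟩ => e_18_z
  | ⟨19, _⟩ => e_19_z
  | ⟨20, _⟩ => e_20_z
  | ⟨21, _⟩ => e_21_z
  | ⟨22, _⟩ => e_22_z
  | ⟨23, _⟩ => e_23_z
  | ⟨24, _⟩ => e_24_z
  | ⟨25, _⟩ => e_25_z
  | ⟨26, _⟩ => e_26_z
  | ⟨27, _⟩ => e_27_z
  | ⟨28, _⟩ => e_28_z
  | ⟨29, _⟩ => e_29_z
  | ⟨30, _⟩ => e_30_z
  | ⟨31, _⟩ => e_31_z
  | ⟨32, _⟩ => e_32_z
  | ⟨33, _⟩ => e_33_z
  | ⟨34, _⟩ => e_34_z
  | ⟨35, _⟩ => e_35_z
  | ⟨36, _⟩ => e_36_z
  | ⟨37, _⟩ => e_37_z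
  | ⟨38, _⟩ => e_38_z
  | ⟨39, _⟩ => e_39_z
  | ⟨40, _⟩ => e_40_z
  | ⟨41, _⟩ => e_41_z
  | ⟨42, _⟩ => e_42_z
  | ⟨43, _⟩ => e_43_z
  | ⟨44, _⟩ => e_44_z
  | ⟨45, _⟩ => e_45_z
  | ⟨46, _⟩ => e_46_z
  | ⟨47, _⟩ => e_47_z
  | ⟨48, _⟩ => e_48_z
  | ⟨49, _⟩ => e_49_z
  | ⟨50, _⟩ => e_50_z
  | ⟨51, _⟩ => e_51_z
  | ⟨52, _⟩ => e_52_z
  | ⟨53, _⟩ => e_53_z
  | ⟨54, _⟩ => e_54_z
  | ⟨55, _⟩ => e_55_z
  | ⟨56, _⟩ => e_56_z
  | ⟨57, _⟩ => e_57_z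
  | ⟨58, _⟩ => e_58_z
  | ⟨59, _⟩ => e_59_z
  | ⟨60, _⟩ => e_60_z
  | ⟨61, _⟩ => e_61_z
  | ⟨62, _⟩ => e_62_z
  | ⟨63, _⟩ => e_63_z
  | ⟨64, _⟩ => e_64_z
  | ⟨65, _⟩ => e_65_z
  | ⟨66, _⟩ => e_66_z
  | ⟨67, _⟩ => e_67_z
  | ⟨68, _⟩ => e_68_z
  | ⟨69, _⟩ => e_69_z
  | ⟨70, _⟩ => e_70_z
  | ⟨71, _⟩ => e_71_z
  | ⟨72, _⟩ => e_72_z
  | ⟨73, _⟩ => e_73_z
  | ⟨74, _⟩ => e_74_z
  | ⟨75, _⟩ => e_75_z
  | ⟨76, _⟩ => e_76_z
  | ⟨77, _⟩ => e_77_z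
  | ⟨78, _⟩ => e_78_z
  | ⟨79, _⟩ => e_79_z
  | ⟨80, _⟩ => e_80_z
  | ⟨81, _⟩ => e_81_z
  | ⟨82, _⟩ => e_82_z
  | ⟨83, _⟩ => e_83_z
  | ⟨84, _⟩ => e_84_z
  | ⟨85, _⟩ => e_85_z
  | ⟨86, _⟩ => e_86_z
  | ⟨87, _⟩ => e_87_z
  | ⟨88, _⟩ => e_88_z
  | ⟨89, _⟩ => e_89_z
  | ⟨90, _⟩ => e_90_z
  | ⟨91, _⟩ => e_91_z
  | ⟨92, _⟩ => e_92_z
  | ⟨93, _⟩ => e_93_z
  | ⟨94, _⟩ => e_94_z
  | ⟨95, _⟩ => e_95_z
  | ⟨96, _⟩ => e_96_z
  | ⟨97, _⟩ => e_97_z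
  | ⟨98, _⟩ => e_98_z
  | ⟨99, _⟩ => e_99_z
  | ⟨100, _⟩ => e_100_z
  | ⟨101, _⟩ => e_101_z
  | ⟨102, _⟩ => e_102_z
  | ⟨103, _⟩ => e_103_z
  | ⟨104, _⟩ => e_104_z
  | ⟨105, _⟩ => e_105_z
  | ⟨106, _⟩ => e_106_z
  | ⟨107, _⟩ => e_107_z
  | ⟨108, _⟩ => e_108_z
  | ⟨109, _⟩ => e_109_z
  | ⟨110, _⟩ => e_110_z
  | ⟨111, _⟩ => e_111_z
  | ⟨112, _⟩ => e_112_z
  | ⟨113, _⟩ => e_113_z
  | ⟨114, _⟩ => e_114_z
  | ⟨115, _⟩ => e_115_z
  | ⟨116, _⟩ => e_116_z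
  | ⟨117, _⟩ => e_117_z
  | ⟨118, _⟩ => e_118_z
  | ⟨119, _⟩ => e_119_z
  | ⟨n+120, h⟩ => absurd h (by omega)
theorem pre_z : ∀ i : Fin 120, rep (px_z i) * z = rep i
  | ⟨0, _⟩ => e_3_z
  | ⟨1, _⟩ => e_6_z
  | ⟨2, _⟩ => e_9_z
  | ⟨3, _⟩ => e_0_z
  | ⟨4, _⟩ => e_11_z
  | ⟨5, _⟩ => e_14_z
  | ⟨6, _⟩ => e_1_z
  | ⟨7, _⟩ => e_16_z
  | ⟨8, _⟩ => e_19_z
  | ⟨9, _⟩ => e_2_z
  | ⟨10, _⟩ => e_22_z
  | ⟨11, _⟩ => e_4_z
  | ⟨12, _⟩ => e_24_z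
  | ⟨13, _⟩ => e_27_z
  | ⟨14, _⟩ => e_5_z
  | ⟨15, _⟩ => e_29_z
  | ⟨16, _⟩ => e_7_z
  | ⟨17, _⟩ => e_31_z
  | ⟨18, _⟩ => e_33_z
  | ⟨19, _⟩ => e_8_z
  | ⟨20, _⟩ => e_35_z
  | ⟨21, _⟩ => e_38_z
  | ⟨22, _⟩ => e_10_z
  | ⟨23, _⟩ => e_40_z
  | ⟨24, _⟩ => e_12_z
  | ⟨25, _⟩ => e_42_z
  | ⟨26, _⟩ => e_44_z
  | ⟨27, _⟩ => e_13_z
  | ⟨28, _⟩ => e_46_z
  | ⟨29, _⟩ => e_15_z
  | ⟨30, _⟩ => e_48_z
  | ⟨31, _⟩ => e_17_z
  | ⟨32, _⟩ => e_49_z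
  | ⟨33, _⟩ => e_18_z
  | ⟨34, _⟩ => e_51_z
  | ⟨35, _⟩ => e_20_z
  | ⟨36, _⟩ => e_53_z
  | ⟨37, _⟩ => e_55_z
  | ⟨38, _⟩ => e_21_z
  | ⟨39, _⟩ => e_57_z
  | ⟨40, _⟩ => e_23_z
  | ⟨41, _⟩ => e_59_z
  | ⟨42, _⟩ => e_25_z
  | ⟨43, _⟩ => e_60_z
  | ⟨44, _⟩ => e_26_z
  | ⟨45, _⟩ => e_63_z
  | ⟨46, _⟩ => e_28_z
  | ⟨47, _⟩ => e_65_z
  | ⟨48, _⟩ => e_30_z
  | ⟨49, _⟩ => e_32_z
  | ⟨50, _⟩ => e_67_z
  | ⟨51, _⟩ => e_34_z
  | ⟨52, _⟩ => e_69_z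
  | ⟨53, _⟩ => e_36_z
  | ⟨54, _⟩ => e_70_z
  | ⟨55, _⟩ => e_37_z
  | ⟨56, _⟩ => e_73_z
  | ⟨57, _⟩ => e_39_z
  | ⟨58, _⟩ => e_75_z
  | ⟨59, _⟩ => e_41_z
  | ⟨60, _⟩ => e_43_z
  | ⟨61, _⟩ => e_77_z
  | ⟨62, _⟩ => e_79_z
  | ⟨63, _⟩ => e_45_z
  | ⟨64, _⟩ => e_81_z
  | ⟨65, _⟩ => e_47_z
  | ⟨66, _⟩ => e_84_z
  | ⟨67, _⟩ => e_50_z
  | ⟨68, _⟩ => e_86_z
  | ⟨69, _⟩ => e_52_z
  | ⟨70, _⟩ => e_54_z
  | ⟨71, _⟩ => e_88_z
  | ⟨72, _⟩ => e_90_z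
  | ⟨73, _⟩ => e_56_z
  | ⟨74, _⟩ => e_92_z
  | ⟨75, _⟩ => e_58_z
  | ⟨76, _⟩ => e_94_z
  | ⟨77, _⟩ => e_61_z
  | ⟨78, _⟩ => e_95_z
  | ⟨79, _⟩ => e_62_z
  | ⟨80, _⟩ => e_97_z
  | ⟨81, _⟩ => e_64_z
  | ⟨82, _⟩ => e_99_z
  | ⟨83, _⟩ => e_101_z
  | ⟨84, _⟩ => e_66_z
  | ⟨85, _⟩ => e_103_z
  | ⟨86, _⟩ => e_68_z
  | ⟨87, _⟩ => e_105_z
  | ⟨88, _⟩ => e_71_z
  | ⟨89, _⟩ => e_106_z
  | ⟨90, _⟩ => e_72_z
  | ⟨91, _⟩ => e_108_z
  | ⟨92, _⟩ => e_74_z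
  | ⟨93, _⟩ => e_110_z
  | ⟨94, _⟩ => e_76_z
  | ⟨95, _⟩ => e_78_z
  | ⟨96, _⟩ => e_104_z
  | ⟨97, _⟩ => e_80_z
  | ⟨98, _⟩ => e_113_z
  | ⟨99, _⟩ => e_82_z
  | ⟨100, _⟩ => e_114_z
  | ⟨101, _⟩ => e_83_z
  | ⟨102, _⟩ => e_115_z
  | ⟨103, _⟩ => e_85_z
  | ⟨104, _⟩ => e_96_z
  | ⟨105, _⟩ => e_87_z
  | ⟨106, _⟩ => e_89_z
  | ⟨107, _⟩ => e_112_z
  | ⟨108, _⟩ => e_91_z
  | ⟨109, _⟩ => e_119_z
  | ⟨110, _⟩ => e_93_z
  | ⟨111, _⟩ => e_116_z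
  | ⟨112, _⟩ => e_107_z
  | ⟨113, _⟩ => e_98_z
  | ⟨114, _⟩ => e_100_z
  | ⟨115, _⟩ => e_102_z
  | ⟨116, _⟩ => e_111_z
  | ⟨117, _⟩ => e_118_z
  | ⟨118, _⟩ => e_117_z
  | ⟨119, _⟩ => e_109_z
  | ⟨n+120, h⟩ => absurd h (by omega)
theorem rep_surj : Function.Surjective rep := by
  let H : Subgroup P :=
    { carrier := {p | ∀ s : P, s ∈ Set.range rep ↔ s * p ∈ Set.range rep}
      mul_mem' := by
        intro a b ha hb s
        rw [ha s, hb (s * a), mul_assoc]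
      one_mem' := by intro s; rw [mul_one]
      inv_mem' := by
        intro a ha s
        rw [ha (s * a⁻¹), inv_mul_cancel_right] }
  have hgen : ∀ j : Fin 3, (PresentedGroup.of j : P) ∈ H := by
    intro j
    fin_cases j
    · intro s
      constructor
      · rintro ⟨i, rfl⟩
        exact ⟨nx_x i, (closed_x i).symm⟩
      · rintro ⟨i, hi⟩
        refine ⟨px_x i, ?_⟩
        have := pre_x i
        rw [hi] at this
        exact mul_right_cancel this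
    · intro s
      constructor
      · rintro ⟨i, rfl⟩
        exact ⟨nx_y i, (closed_y i).symm⟩
      · rintro ⟨i, hi⟩
        refine ⟨px_y i, ?_⟩
        have := pre_y i
        rw [hi] at this
        exact mul_right_cancel this
    · intro s
      constructor
      · rintro ⟨i, rfl⟩
        exact ⟨nx_z i, (closed_z i).symm⟩
      · rintro ⟨i, hi⟩
        refine ⟨px_z i, ?_⟩
        have := pre_z i
        rw [hi] at this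
        exact mul_right_cancel this
  intro p
  have hp : p ∈ H := PresentedGroup.generated_by rels H hgen p
  have h1 : (1 : P) * p ∈ Set.range rep := (hp 1).mp ⟨0, rfl⟩
  rw [one_mul] at h1
  exact h1

def gx5 : S5 := ⟨!![0, 4; 1, 4], by rw [Matrix.det_fin_two]; decide⟩
def gy5 : S5 := ⟨!![1, 1; 0, 1], by rw [Matrix.det_fin_two]; decide⟩
def gz5 : S5 := ⟨!![4, 0; 0, 4], by rw [Matrix.det_fin_two]; decide⟩

theorem lift_rel5 : ∀ r ∈ rels, FreeGroup.lift ![gx5, gy5, gz5] r = 1 := by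
  intro r hr
  simp only [rels, Set.mem_insert_iff, Set.mem_singleton_iff] at hr
  rcases hr with rfl | rfl | rfl | rfl | rfl | rfl
  all_goals
    simp only [map_pow, map_mul, map_inv, FreeGroup.lift_apply_of]
    decide

noncomputable def φ5 : P →* S5 := PresentedGroup.toGroup lift_rel5

theorem φ5_x : φ5 x = gx5 := by simp [φ5, x]
theorem φ5_y : φ5 y = gy5 := by simp [φ5, y]
theorem φ5_z : φ5 z = gz5 := by simp [φ5, z]

def m5_0 : S5 := ⟨!![1, 0; 0, 1], by rw [Matrix.det_fin_two]; decide⟩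
def m5_1 : S5 := ⟨!![0, 4; 1, 4], by rw [Matrix.det_fin_two]; decide⟩
def m5_2 : S5 := ⟨!![1, 1; 0, 1], by rw [Matrix.det_fin_two]; decide⟩
def m5_3 : S5 := ⟨!![4, 0; 0, 4], by rw [Matrix.det_fin_two]; decide⟩
def m5_4 : S5 := ⟨!![4, 1; 4, 0], by rw [Matrix.det_fin_two]; decide⟩
def m5_5 : S5 := ⟨!![0, 4; 1, 0], by rw [Matrix.det_fin_two]; decide⟩
def m5_6 : S5 := ⟨!![0, 1; 4, 1], by rw [Matrix.det_fin_two]; decide⟩
def m5_7 : S5 := ⟨!![1, 3; 1, 4], by rw [Matrix.det_fin_two]; decide⟩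
def m5_8 : S5 := ⟨!![1, 2; 0, 1], by rw [Matrix.det_fin_two]; decide⟩
def m5_9 : S5 := ⟨!![4, 4; 0, 4], by rw [Matrix.det_fin_two]; decide⟩
def m5_10 : S5 := ⟨!![4, 0; 4, 4], by rw [Matrix.det_fin_two]; decide⟩
def m5_11 : S5 := ⟨!![1, 4; 1, 0], by rw [Matrix.det_fin_two]; decide⟩
def m5_12 : S5 := ⟨!![4, 1; 0, 4], by rw [Matrix.det_fin_two]; decide⟩
def m5_13 : S5 := ⟨!![0, 4; 1, 1], by rw [Matrix.det_fin_two]; decide⟩
def m5_14 : S5 := ⟨!![0, 1; 4, 0], by rw [Matrix.det_fin_two]; decide⟩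
def m5_15 : S5 := ⟨!![3, 1; 4, 0], by rw [Matrix.det_fin_two]; decide⟩
def m5_16 : S5 := ⟨!![4, 2; 4, 1], by rw [Matrix.det_fin_two]; decide⟩
def m5_17 : S5 := ⟨!![2, 2; 1, 4], by rw [Matrix.det_fin_two]; decide⟩
def m5_18 : S5 := ⟨!![1, 3; 0, 1], by rw [Matrix.det_fin_two]; decide⟩
def m5_19 : S5 := ⟨!![4, 3; 0, 4], by rw [Matrix.det_fin_two]; decide⟩
def m5_20 : S5 := ⟨!![0, 1; 4, 2], by rw [Matrix.det_fin_two]; decide⟩
def m5_21 : S5 := ⟨!![4, 4; 4, 3], by rw [Matrix.det_fin_two]; decide⟩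
def m5_22 : S5 := ⟨!![1, 0; 1, 1], by rw [Matrix.det_fin_two]; decide⟩
def m5_23 : S5 := ⟨!![1, 0; 4, 1], by rw [Matrix.det_fin_two]; decide⟩
def m5_24 : S5 := ⟨!![1, 4; 0, 1], by rw [Matrix.det_fin_two]; decide⟩
def m5_25 : S5 := ⟨!![4, 1; 1, 3], by rw [Matrix.det_fin_two]; decide⟩
def m5_26 : S5 := ⟨!![0, 4; 1, 2], by rw [Matrix.det_fin_two]; decide⟩
def m5_27 : S5 := ⟨!![0, 1; 4, 4], by rw [Matrix.det_fin_two]; decide⟩
def m5_28 : S5 := ⟨!![3, 4; 4, 4], by rw [Matrix.det_fin_two]; decide⟩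
def m5_29 : S5 := ⟨!![2, 4; 1, 0], by rw [Matrix.det_fin_two]; decide⟩
def m5_30 : S5 := ⟨!![2, 1; 4, 0], by rw [Matrix.det_fin_two]; decide⟩
def m5_31 : S5 := ⟨!![3, 3; 4, 1], by rw [Matrix.det_fin_two]; decide⟩
def m5_32 : S5 := ⟨!![3, 1; 1, 4], by rw [Matrix.det_fin_two]; decide⟩
def m5_33 : S5 := ⟨!![4, 2; 0, 4], by rw [Matrix.det_fin_two]; decide⟩
def m5_34 : S5 := ⟨!![1, 4; 2, 4], by rw [Matrix.det_fin_two]; decide⟩
def m5_35 : S5 := ⟨!![0, 4; 1, 3], by rw [Matrix.det_fin_two]; decide⟩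
def m5_36 : S5 := ⟨!![4, 2; 3, 3], by rw [Matrix.det_fin_two]; decide⟩
def m5_37 : S5 := ⟨!![4, 3; 4, 2], by rw [Matrix.det_fin_two]; decide⟩
def m5_38 : S5 := ⟨!![1, 1; 1, 2], by rw [Matrix.det_fin_two]; decide⟩
def m5_39 : S5 := ⟨!![1, 1; 4, 0], by rw [Matrix.det_fin_two]; decide⟩
def m5_40 : S5 := ⟨!![4, 0; 1, 4], by rw [Matrix.det_fin_two]; decide⟩
def m5_41 : S5 := ⟨!![1, 0; 3, 1], by rw [Matrix.det_fin_two]; decide⟩
def m5_42 : S5 := ⟨!![1, 4; 4, 2], by rw [Matrix.det_fin_two]; decide⟩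
def m5_43 : S5 := ⟨!![4, 1; 2, 2], by rw [Matrix.det_fin_two]; decide⟩
def m5_44 : S5 := ⟨!![0, 1; 4, 3], by rw [Matrix.det_fin_two]; decide⟩
def m5_45 : S5 := ⟨!![3, 2; 4, 3], by rw [Matrix.det_fin_two]; decide⟩
def m5_46 : S5 := ⟨!![2, 1; 1, 1], by rw [Matrix.det_fin_two]; decide⟩
def m5_47 : S5 := ⟨!![2, 3; 4, 4], by rw [Matrix.det_fin_two]; decide⟩
def m5_48 : S5 := ⟨!![3, 4; 1, 0], by rw [Matrix.det_fin_two]; decide⟩
def m5_49 : S5 := ⟨!![2, 4; 4, 1], by rw [Matrix.det_fin_two]; decide⟩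
def m5_50 : S5 := ⟨!![1, 0; 2, 1], by rw [Matrix.det_fin_two]; decide⟩
def m5_51 : S5 := ⟨!![4, 1; 3, 1], by rw [Matrix.det_fin_two]; decide⟩
def m5_52 : S5 := ⟨!![2, 4; 3, 4], by rw [Matrix.det_fin_two]; decide⟩
def m5_53 : S5 := ⟨!![1, 3; 2, 2], by rw [Matrix.det_fin_two]; decide⟩
def m5_54 : S5 := ⟨!![3, 3; 2, 4], by rw [Matrix.det_fin_two]; decide⟩
def m5_55 : S5 := ⟨!![1, 2; 1, 3], by rw [Matrix.det_fin_two]; decide⟩
def m5_56 : S5 := ⟨!![1, 2; 4, 4], by rw [Matrix.det_fin_two]; decide⟩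
def m5_57 : S5 := ⟨!![4, 4; 1, 0], by rw [Matrix.det_fin_two]; decide⟩
def m5_58 : S5 := ⟨!![1, 1; 3, 4], by rw [Matrix.det_fin_two]; decide⟩
def m5_59 : S5 := ⟨!![4, 0; 2, 4], by rw [Matrix.det_fin_two]; decide⟩
def m5_60 : S5 := ⟨!![1, 4; 3, 3], by rw [Matrix.det_fin_two]; decide⟩
def m5_61 : S5 := ⟨!![2, 0; 3, 3], by rw [Matrix.det_fin_two]; decide⟩
def m5_62 : S5 := ⟨!![3, 0; 4, 2], by rw [Matrix.det_fin_two]; decide⟩
def m5_63 : S5 := ⟨!![2, 3; 1, 2], by rw [Matrix.det_fin_two]; decide⟩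
def m5_64 : S5 := ⟨!![2, 0; 4, 3], by rw [Matrix.det_fin_two]; decide⟩
def m5_65 : S5 := ⟨!![3, 2; 1, 1], by rw [Matrix.det_fin_two]; decide⟩
def m5_66 : S5 := ⟨!![1, 1; 2, 3], by rw [Matrix.det_fin_two]; decide⟩
def m5_67 : S5 := ⟨!![4, 0; 3, 4], by rw [Matrix.det_fin_two]; decide⟩
def m5_68 : S5 := ⟨!![2, 1; 3, 2], by rw [Matrix.det_fin_two]; decide⟩
def m5_69 : S5 := ⟨!![3, 1; 2, 1], by rw [Matrix.det_fin_two]; decide⟩
def m5_70 : S5 := ⟨!![2, 2; 3, 1], by rw [Matrix.det_fin_two]; decide⟩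
def m5_71 : S5 := ⟨!![2, 2; 4, 2], by rw [Matrix.det_fin_two]; decide⟩
def m5_72 : S5 := ⟨!![1, 3; 4, 3], by rw [Matrix.det_fin_two]; decide⟩
def m5_73 : S5 := ⟨!![4, 3; 1, 1], by rw [Matrix.det_fin_two]; decide⟩
def m5_74 : S5 := ⟨!![1, 2; 3, 2], by rw [Matrix.det_fin_two]; decide⟩
def m5_75 : S5 := ⟨!![4, 4; 2, 1], by rw [Matrix.det_fin_two]; decide⟩
def m5_76 : S5 := ⟨!![0, 3; 3, 4], by rw [Matrix.det_fin_two]; decide⟩
def m5_77 : S5 := ⟨!![3, 0; 2, 2], by rw [Matrix.det_fin_two]; decide⟩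
def m5_78 : S5 := ⟨!![0, 2; 2, 4], by rw [Matrix.det_fin_two]; decide⟩
def m5_79 : S5 := ⟨!![2, 0; 1, 3], by rw [Matrix.det_fin_two]; decide⟩
def m5_80 : S5 := ⟨!![0, 3; 3, 3], by rw [Matrix.det_fin_two]; decide⟩
def m5_81 : S5 := ⟨!![3, 0; 1, 2], by rw [Matrix.det_fin_two]; decide⟩
def m5_82 : S5 := ⟨!![1, 3; 3, 0], by rw [Matrix.det_fin_two]; decide⟩
def m5_83 : S5 := ⟨!![1, 2; 2, 0], by rw [Matrix.det_fin_two]; decide⟩
def m5_84 : S5 := ⟨!![4, 4; 3, 2], by rw [Matrix.det_fin_two]; decide⟩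
def m5_85 : S5 := ⟨!![2, 3; 3, 0], by rw [Matrix.det_fin_two]; decide⟩
def m5_86 : S5 := ⟨!![3, 4; 2, 3], by rw [Matrix.det_fin_two]; decide⟩
def m5_87 : S5 := ⟨!![2, 1; 2, 4], by rw [Matrix.det_fin_two]; decide⟩
def m5_88 : S5 := ⟨!![3, 3; 1, 3], by rw [Matrix.det_fin_two]; decide⟩
def m5_89 : S5 := ⟨!![3, 1; 3, 3], by rw [Matrix.det_fin_two]; decide⟩
def m5_90 : S5 := ⟨!![4, 2; 1, 2], by rw [Matrix.det_fin_two]; decide⟩
def m5_91 : S5 := ⟨!![2, 2; 2, 0], by rw [Matrix.det_fin_two]; decide⟩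
def m5_92 : S5 := ⟨!![4, 3; 2, 3], by rw [Matrix.det_fin_two]; decide⟩
def m5_93 : S5 := ⟨!![0, 3; 3, 2], by rw [Matrix.det_fin_two]; decide⟩
def m5_94 : S5 := ⟨!![0, 2; 2, 1], by rw [Matrix.det_fin_two]; decide⟩
def m5_95 : S5 := ⟨!![0, 3; 3, 1], by rw [Matrix.det_fin_two]; decide⟩
def m5_96 : S5 := ⟨!![3, 2; 3, 4], by rw [Matrix.det_fin_two]; decide⟩
def m5_97 : S5 := ⟨!![0, 2; 2, 2], by rw [Matrix.det_fin_two]; decide⟩
def m5_98 : S5 := ⟨!![3, 1; 0, 2], by rw [Matrix.det_fin_two]; decide⟩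
def m5_99 : S5 := ⟨!![4, 2; 2, 0], by rw [Matrix.det_fin_two]; decide⟩
def m5_100 : S5 := ⟨!![2, 2; 0, 3], by rw [Matrix.det_fin_two]; decide⟩
def m5_101 : S5 := ⟨!![4, 3; 3, 0], by rw [Matrix.det_fin_two]; decide⟩
def m5_102 : S5 := ⟨!![3, 0; 0, 2], by rw [Matrix.det_fin_two]; decide⟩
def m5_103 : S5 := ⟨!![3, 2; 2, 0], by rw [Matrix.det_fin_two]; decide⟩
def m5_104 : S5 := ⟨!![2, 3; 2, 1], by rw [Matrix.det_fin_two]; decide⟩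
def m5_105 : S5 := ⟨!![3, 4; 3, 1], by rw [Matrix.det_fin_two]; decide⟩
def m5_106 : S5 := ⟨!![2, 4; 2, 2], by rw [Matrix.det_fin_two]; decide⟩
def m5_107 : S5 := ⟨!![2, 1; 0, 3], by rw [Matrix.det_fin_two]; decide⟩
def m5_108 : S5 := ⟨!![3, 3; 3, 0], by rw [Matrix.det_fin_two]; decide⟩
def m5_109 : S5 := ⟨!![0, 3; 3, 0], by rw [Matrix.det_fin_two]; decide⟩
def m5_110 : S5 := ⟨!![0, 2; 2, 3], by rw [Matrix.det_fin_two]; decide⟩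
def m5_111 : S5 := ⟨!![3, 0; 3, 2], by rw [Matrix.det_fin_two]; decide⟩
def m5_112 : S5 := ⟨!![3, 4; 0, 2], by rw [Matrix.det_fin_two]; decide⟩
def m5_113 : S5 := ⟨!![2, 4; 0, 3], by rw [Matrix.det_fin_two]; decide⟩
def m5_114 : S5 := ⟨!![3, 3; 0, 2], by rw [Matrix.det_fin_two]; decide⟩
def m5_115 : S5 := ⟨!![2, 0; 0, 3], by rw [Matrix.det_fin_two]; decide⟩
def m5_116 : S5 := ⟨!![2, 0; 2, 3], by rw [Matrix.det_fin_two]; decide⟩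
def m5_117 : S5 := ⟨!![2, 3; 0, 3], by rw [Matrix.det_fin_two]; decide⟩
def m5_118 : S5 := ⟨!![3, 2; 0, 2], by rw [Matrix.det_fin_two]; decide⟩
def m5_119 : S5 := ⟨!![0, 2; 2, 0], by rw [Matrix.det_fin_two]; decide⟩
theorem t5_0 : φ5 r0 = m5_0 := by
  show φ5 1 = m5_0
  rw [map_one]; decide
theorem t5_1 : φ5 r1 = m5_1 := by
  show φ5 (r0 * x) = m5_1
  rw [map_mul, t5_0, φ5_x]; decide
theorem t5_2 : φ5 r2 = m5_2 := by
  show φ5 (r0 * y) = m5_2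
  rw [map_mul, t5_0, φ5_y]; decide
theorem t5_3 : φ5 r3 = m5_3 := by
  show φ5 (r0 * z) = m5_3
  rw [map_mul, t5_0, φ5_z]; decide
theorem t5_4 : φ5 r4 = m5_4 := by
  show φ5 (r1 * x) = m5_4
  rw [map_mul, t5_1, φ5_x]; decide
theorem t5_5 : φ5 r5 = m5_5 := by
  show φ5 (r1 * y) = m5_5
  rw [map_mul, t5_1, φ5_y]; decide
theorem t5_6 : φ5 r6 = m5_6 := by
  show φ5 (r1 * z) = m5_6
  rw [map_mul, t5_1, φ5_z]; decide
theorem t5_7 : φ5 r7 = m5_7 := by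
  show φ5 (r2 * x) = m5_7
  rw [map_mul, t5_2, φ5_x]; decide
theorem t5_8 : φ5 r8 = m5_8 := by
  show φ5 (r2 * y) = m5_8
  rw [map_mul, t5_2, φ5_y]; decide
theorem t5_9 : φ5 r9 = m5_9 := by
  show φ5 (r2 * z) = m5_9
  rw [map_mul, t5_2, φ5_z]; decide
theorem t5_10 : φ5 r10 = m5_10 := by
  show φ5 (r4 * y) = m5_10
  rw [map_mul, t5_4, φ5_y]; decide
theorem t5_11 : φ5 r11 = m5_11 := by
  show φ5 (r4 * z) = m5_11
  rw [map_mul, t5_4, φ5_z]; decide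
theorem t5_12 : φ5 r12 = m5_12 := by
  show φ5 (r5 * x) = m5_12
  rw [map_mul, t5_5, φ5_x]; decide
theorem t5_13 : φ5 r13 = m5_13 := by
  show φ5 (r5 * y) = m5_13
  rw [map_mul, t5_5, φ5_y]; decide
theorem t5_14 : φ5 r14 = m5_14 := by
  show φ5 (r5 * z) = m5_14
  rw [map_mul, t5_5, φ5_z]; decide
theorem t5_15 : φ5 r15 = m5_15 := by
  show φ5 (r7 * x) = m5_15
  rw [map_mul, t5_7, φ5_x]; decide
theorem t5_16 : φ5 r16 = m5_16 := by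
  show φ5 (r7 * z) = m5_16
  rw [map_mul, t5_7, φ5_z]; decide
theorem t5_17 : φ5 r17 = m5_17 := by
  show φ5 (r8 * x) = m5_17
  rw [map_mul, t5_8, φ5_x]; decide
theorem t5_18 : φ5 r18 = m5_18 := by
  show φ5 (r8 * y) = m5_18
  rw [map_mul, t5_8, φ5_y]; decide
theorem t5_19 : φ5 r19 = m5_19 := by
  show φ5 (r8 * z) = m5_19
  rw [map_mul, t5_8, φ5_z]; decide
theorem t5_20 : φ5 r20 = m5_20 := by
  show φ5 (r10 * x) = m5_20
  rw [map_mul, t5_10, φ5_x]; decide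
theorem t5_21 : φ5 r21 = m5_21 := by
  show φ5 (r10 * y) = m5_21
  rw [map_mul, t5_10, φ5_y]; decide
theorem t5_22 : φ5 r22 = m5_22 := by
  show φ5 (r10 * z) = m5_22
  rw [map_mul, t5_10, φ5_z]; decide
theorem t5_23 : φ5 r23 = m5_23 := by
  show φ5 (r12 * x) = m5_23
  rw [map_mul, t5_12, φ5_x]; decide
theorem t5_24 : φ5 r24 = m5_24 := by
  show φ5 (r12 * z) = m5_24
  rw [map_mul, t5_12, φ5_z]; decide
theorem t5_25 : φ5 r25 = m5_25 := by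
  show φ5 (r13 * x) = m5_25
  rw [map_mul, t5_13, φ5_x]; decide
theorem t5_26 : φ5 r26 = m5_26 := by
  show φ5 (r13 * y) = m5_26
  rw [map_mul, t5_13, φ5_y]; decide
theorem t5_27 : φ5 r27 = m5_27 := by
  show φ5 (r13 * z) = m5_27
  rw [map_mul, t5_13, φ5_z]; decide
theorem t5_28 : φ5 r28 = m5_28 := by
  show φ5 (r15 * y) = m5_28
  rw [map_mul, t5_15, φ5_y]; decide
theorem t5_29 : φ5 r29 = m5_29 := by
  show φ5 (r15 * z) = m5_29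
  rw [map_mul, t5_15, φ5_z]; decide
theorem t5_30 : φ5 r30 = m5_30 := by
  show φ5 (r17 * x) = m5_30
  rw [map_mul, t5_17, φ5_x]; decide
theorem t5_31 : φ5 r31 = m5_31 := by
  show φ5 (r17 * z) = m5_31
  rw [map_mul, t5_17, φ5_z]; decide
theorem t5_32 : φ5 r32 = m5_32 := by
  show φ5 (r18 * x) = m5_32
  rw [map_mul, t5_18, φ5_x]; decide
theorem t5_33 : φ5 r33 = m5_33 := by
  show φ5 (r18 * z) = m5_33
  rw [map_mul, t5_18, φ5_z]; decide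
theorem t5_34 : φ5 r34 = m5_34 := by
  show φ5 (r20 * x) = m5_34
  rw [map_mul, t5_20, φ5_x]; decide
theorem t5_35 : φ5 r35 = m5_35 := by
  show φ5 (r20 * z) = m5_35
  rw [map_mul, t5_20, φ5_z]; decide
theorem t5_36 : φ5 r36 = m5_36 := by
  show φ5 (r21 * x) = m5_36
  rw [map_mul, t5_21, φ5_x]; decide
theorem t5_37 : φ5 r37 = m5_37 := by
  show φ5 (r21 * y) = m5_37
  rw [map_mul, t5_21, φ5_y]; decide
theorem t5_38 : φ5 r38 = m5_38 := by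
  show φ5 (r21 * z) = m5_38
  rw [map_mul, t5_21, φ5_z]; decide
theorem t5_39 : φ5 r39 = m5_39 := by
  show φ5 (r23 * y) = m5_39
  rw [map_mul, t5_23, φ5_y]; decide
theorem t5_40 : φ5 r40 = m5_40 := by
  show φ5 (r23 * z) = m5_40
  rw [map_mul, t5_23, φ5_z]; decide
theorem t5_41 : φ5 r41 = m5_41 := by
  show φ5 (r25 * x) = m5_41
  rw [map_mul, t5_25, φ5_x]; decide
theorem t5_42 : φ5 r42 = m5_42 := by
  show φ5 (r25 * z) = m5_42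
  rw [map_mul, t5_25, φ5_z]; decide
theorem t5_43 : φ5 r43 = m5_43 := by
  show φ5 (r26 * x) = m5_43
  rw [map_mul, t5_26, φ5_x]; decide
theorem t5_44 : φ5 r44 = m5_44 := by
  show φ5 (r26 * z) = m5_44
  rw [map_mul, t5_26, φ5_z]; decide
theorem t5_45 : φ5 r45 = m5_45 := by
  show φ5 (r28 * y) = m5_45
  rw [map_mul, t5_28, φ5_y]; decide
theorem t5_46 : φ5 r46 = m5_46 := by
  show φ5 (r28 * z) = m5_46
  rw [map_mul, t5_28, φ5_z]; decide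
theorem t5_47 : φ5 r47 = m5_47 := by
  show φ5 (r30 * y) = m5_47
  rw [map_mul, t5_30, φ5_y]; decide
theorem t5_48 : φ5 r48 = m5_48 := by
  show φ5 (r30 * z) = m5_48
  rw [map_mul, t5_30, φ5_z]; decide
theorem t5_49 : φ5 r49 = m5_49 := by
  show φ5 (r32 * z) = m5_49
  rw [map_mul, t5_32, φ5_z]; decide
theorem t5_50 : φ5 r50 = m5_50 := by
  show φ5 (r34 * y) = m5_50
  rw [map_mul, t5_34, φ5_y]; decide
theorem t5_51 : φ5 r51 = m5_51 := by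
  show φ5 (r34 * z) = m5_51
  rw [map_mul, t5_34, φ5_z]; decide
theorem t5_52 : φ5 r52 = m5_52 := by
  show φ5 (r36 * x) = m5_52
  rw [map_mul, t5_36, φ5_x]; decide
theorem t5_53 : φ5 r53 = m5_53 := by
  show φ5 (r36 * z) = m5_53
  rw [map_mul, t5_36, φ5_z]; decide
theorem t5_54 : φ5 r54 = m5_54 := by
  show φ5 (r37 * x) = m5_54
  rw [map_mul, t5_37, φ5_x]; decide
theorem t5_55 : φ5 r55 = m5_55 := by
  show φ5 (r37 * z) = m5_55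
  rw [map_mul, t5_37, φ5_z]; decide
theorem t5_56 : φ5 r56 = m5_56 := by
  show φ5 (r39 * y) = m5_56
  rw [map_mul, t5_39, φ5_y]; decide
theorem t5_57 : φ5 r57 = m5_57 := by
  show φ5 (r39 * z) = m5_57
  rw [map_mul, t5_39, φ5_z]; decide
theorem t5_58 : φ5 r58 = m5_58 := by
  show φ5 (r41 * y) = m5_58
  rw [map_mul, t5_41, φ5_y]; decide
theorem t5_59 : φ5 r59 = m5_59 := by
  show φ5 (r41 * z) = m5_59
  rw [map_mul, t5_41, φ5_z]; decide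
theorem t5_60 : φ5 r60 = m5_60 := by
  show φ5 (r43 * z) = m5_60
  rw [map_mul, t5_43, φ5_z]; decide
theorem t5_61 : φ5 r61 = m5_61 := by
  show φ5 (r45 * x) = m5_61
  rw [map_mul, t5_45, φ5_x]; decide
theorem t5_62 : φ5 r62 = m5_62 := by
  show φ5 (r45 * y) = m5_62
  rw [map_mul, t5_45, φ5_y]; decide
theorem t5_63 : φ5 r63 = m5_63 := by
  show φ5 (r45 * z) = m5_63
  rw [map_mul, t5_45, φ5_z]; decide
theorem t5_64 : φ5 r64 = m5_64 := by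
  show φ5 (r47 * y) = m5_64
  rw [map_mul, t5_47, φ5_y]; decide
theorem t5_65 : φ5 r65 = m5_65 := by
  show φ5 (r47 * z) = m5_65
  rw [map_mul, t5_47, φ5_z]; decide
theorem t5_66 : φ5 r66 = m5_66 := by
  show φ5 (r50 * y) = m5_66
  rw [map_mul, t5_50, φ5_y]; decide
theorem t5_67 : φ5 r67 = m5_67 := by
  show φ5 (r50 * z) = m5_67
  rw [map_mul, t5_50, φ5_z]; decide
theorem t5_68 : φ5 r68 = m5_68 := by
  show φ5 (r52 * y) = m5_68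
  rw [map_mul, t5_52, φ5_y]; decide
theorem t5_69 : φ5 r69 = m5_69 := by
  show φ5 (r52 * z) = m5_69
  rw [map_mul, t5_52, φ5_z]; decide
theorem t5_70 : φ5 r70 = m5_70 := by
  show φ5 (r54 * z) = m5_70
  rw [map_mul, t5_54, φ5_z]; decide
theorem t5_71 : φ5 r71 = m5_71 := by
  show φ5 (r56 * x) = m5_71
  rw [map_mul, t5_56, φ5_x]; decide
theorem t5_72 : φ5 r72 = m5_72 := by
  show φ5 (r56 * y) = m5_72
  rw [map_mul, t5_56, φ5_y]; decide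
theorem t5_73 : φ5 r73 = m5_73 := by
  show φ5 (r56 * z) = m5_73
  rw [map_mul, t5_56, φ5_z]; decide
theorem t5_74 : φ5 r74 = m5_74 := by
  show φ5 (r58 * y) = m5_74
  rw [map_mul, t5_58, φ5_y]; decide
theorem t5_75 : φ5 r75 = m5_75 := by
  show φ5 (r58 * z) = m5_75
  rw [map_mul, t5_58, φ5_z]; decide
theorem t5_76 : φ5 r76 = m5_76 := by
  show φ5 (r61 * x) = m5_76
  rw [map_mul, t5_61, φ5_x]; decide
theorem t5_77 : φ5 r77 = m5_77 := by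
  show φ5 (r61 * z) = m5_77
  rw [map_mul, t5_61, φ5_z]; decide
theorem t5_78 : φ5 r78 = m5_78 := by
  show φ5 (r62 * x) = m5_78
  rw [map_mul, t5_62, φ5_x]; decide
theorem t5_79 : φ5 r79 = m5_79 := by
  show φ5 (r62 * z) = m5_79
  rw [map_mul, t5_62, φ5_z]; decide
theorem t5_80 : φ5 r80 = m5_80 := by
  show φ5 (r64 * x) = m5_80
  rw [map_mul, t5_64, φ5_x]; decide
theorem t5_81 : φ5 r81 = m5_81 := by
  show φ5 (r64 * z) = m5_81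
  rw [map_mul, t5_64, φ5_z]; decide
theorem t5_82 : φ5 r82 = m5_82 := by
  show φ5 (r66 * x) = m5_82
  rw [map_mul, t5_66, φ5_x]; decide
theorem t5_83 : φ5 r83 = m5_83 := by
  show φ5 (r66 * y) = m5_83
  rw [map_mul, t5_66, φ5_y]; decide
theorem t5_84 : φ5 r84 = m5_84 := by
  show φ5 (r66 * z) = m5_84
  rw [map_mul, t5_66, φ5_z]; decide
theorem t5_85 : φ5 r85 = m5_85 := by
  show φ5 (r68 * y) = m5_85
  rw [map_mul, t5_68, φ5_y]; decide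
theorem t5_86 : φ5 r86 = m5_86 := by
  show φ5 (r68 * z) = m5_86
  rw [map_mul, t5_68, φ5_z]; decide
theorem t5_87 : φ5 r87 = m5_87 := by
  show φ5 (r71 * x) = m5_87
  rw [map_mul, t5_71, φ5_x]; decide
theorem t5_88 : φ5 r88 = m5_88 := by
  show φ5 (r71 * z) = m5_88
  rw [map_mul, t5_71, φ5_z]; decide
theorem t5_89 : φ5 r89 = m5_89 := by
  show φ5 (r72 * x) = m5_89
  rw [map_mul, t5_72, φ5_x]; decide
theorem t5_90 : φ5 r90 = m5_90 := by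
  show φ5 (r72 * z) = m5_90
  rw [map_mul, t5_72, φ5_z]; decide
theorem t5_91 : φ5 r91 = m5_91 := by
  show φ5 (r74 * x) = m5_91
  rw [map_mul, t5_74, φ5_x]; decide
theorem t5_92 : φ5 r92 = m5_92 := by
  show φ5 (r74 * z) = m5_92
  rw [map_mul, t5_74, φ5_z]; decide
theorem t5_93 : φ5 r93 = m5_93 := by
  show φ5 (r76 * y) = m5_93
  rw [map_mul, t5_76, φ5_y]; decide
theorem t5_94 : φ5 r94 = m5_94 := by
  show φ5 (r76 * z) = m5_94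
  rw [map_mul, t5_76, φ5_z]; decide
theorem t5_95 : φ5 r95 = m5_95 := by
  show φ5 (r78 * z) = m5_95
  rw [map_mul, t5_78, φ5_z]; decide
theorem t5_96 : φ5 r96 = m5_96 := by
  show φ5 (r80 * x) = m5_96
  rw [map_mul, t5_80, φ5_x]; decide
theorem t5_97 : φ5 r97 = m5_97 := by
  show φ5 (r80 * z) = m5_97
  rw [map_mul, t5_80, φ5_z]; decide
theorem t5_98 : φ5 r98 = m5_98 := by
  show φ5 (r82 * x) = m5_98
  rw [map_mul, t5_82, φ5_x]; decide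
theorem t5_99 : φ5 r99 = m5_99 := by
  show φ5 (r82 * z) = m5_99
  rw [map_mul, t5_82, φ5_z]; decide
theorem t5_100 : φ5 r100 = m5_100 := by
  show φ5 (r83 * x) = m5_100
  rw [map_mul, t5_83, φ5_x]; decide
theorem t5_101 : φ5 r101 = m5_101 := by
  show φ5 (r83 * z) = m5_101
  rw [map_mul, t5_83, φ5_z]; decide
theorem t5_102 : φ5 r102 = m5_102 := by
  show φ5 (r85 * x) = m5_102
  rw [map_mul, t5_85, φ5_x]; decide
theorem t5_103 : φ5 r103 = m5_103 := by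
  show φ5 (r85 * z) = m5_103
  rw [map_mul, t5_85, φ5_z]; decide
theorem t5_104 : φ5 r104 = m5_104 := by
  show φ5 (r87 * y) = m5_104
  rw [map_mul, t5_87, φ5_y]; decide
theorem t5_105 : φ5 r105 = m5_105 := by
  show φ5 (r87 * z) = m5_105
  rw [map_mul, t5_87, φ5_z]; decide
theorem t5_106 : φ5 r106 = m5_106 := by
  show φ5 (r89 * z) = m5_106
  rw [map_mul, t5_89, φ5_z]; decide
theorem t5_107 : φ5 r107 = m5_107 := by
  show φ5 (r91 * x) = m5_107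
  rw [map_mul, t5_91, φ5_x]; decide
theorem t5_108 : φ5 r108 = m5_108 := by
  show φ5 (r91 * z) = m5_108
  rw [map_mul, t5_91, φ5_z]; decide
theorem t5_109 : φ5 r109 = m5_109 := by
  show φ5 (r93 * y) = m5_109
  rw [map_mul, t5_93, φ5_y]; decide
theorem t5_110 : φ5 r110 = m5_110 := by
  show φ5 (r93 * z) = m5_110
  rw [map_mul, t5_93, φ5_z]; decide
theorem t5_111 : φ5 r111 = m5_111 := by
  show φ5 (r96 * y) = m5_111
  rw [map_mul, t5_96, φ5_y]; decide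
theorem t5_112 : φ5 r112 = m5_112 := by
  show φ5 (r98 * y) = m5_112
  rw [map_mul, t5_98, φ5_y]; decide
theorem t5_113 : φ5 r113 = m5_113 := by
  show φ5 (r98 * z) = m5_113
  rw [map_mul, t5_98, φ5_z]; decide
theorem t5_114 : φ5 r114 = m5_114 := by
  show φ5 (r100 * z) = m5_114
  rw [map_mul, t5_100, φ5_z]; decide
theorem t5_115 : φ5 r115 = m5_115 := by
  show φ5 (r102 * z) = m5_115
  rw [map_mul, t5_102, φ5_z]; decide
theorem t5_116 : φ5 r116 = m5_116 := by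
  show φ5 (r104 * y) = m5_116
  rw [map_mul, t5_104, φ5_y]; decide
theorem t5_117 : φ5 r117 = m5_117 := by
  show φ5 (r107 * y) = m5_117
  rw [map_mul, t5_107, φ5_y]; decide
theorem t5_118 : φ5 r118 = m5_118 := by
  show φ5 (r109 * x) = m5_118
  rw [map_mul, t5_109, φ5_x]; decide
theorem t5_119 : φ5 r119 = m5_119 := by
  show φ5 (r109 * z) = m5_119
  rw [map_mul, t5_109, φ5_z]; decide
def M5 : Fin 120 → S5
  | ⟨0, _⟩ => m5_0
  | ⟨1, _⟩ => m5_1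
  | ⟨2, _⟩ => m5_2
  | ⟨3, _⟩ => m5_3
  | ⟨4, _⟩ => m5_4
  | ⟨5, _⟩ => m5_5
  | ⟨6, _⟩ => m5_6
  | ⟨7, _⟩ => m5_7
  | ⟨8, _⟩ => m5_8
  | ⟨9, _⟩ => m5_9
  | ⟨10, _⟩ => m5_10
  | ⟨11, _⟩ => m5_11
  | ⟨12, _⟩ => m5_12
  | ⟨13, _⟩ => m5_13
  | ⟨14, _⟩ => m5_14
  | ⟨15, _⟩ => m5_15
  | ⟨16, _⟩ => m5_16
  | ⟨17, _⟩ => m5_17
  | ⟨18, _⟩ => m5_18
  | ⟨19, _⟩ => m5_19
  | ⟨20, _⟩ => m5_20
  | ⟨21, _⟩ => m5_21
  | ⟨22, _⟩ => m5_22
  | ⟨23, _⟩ => m5_23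
  | ⟨24, _⟩ => m5_24
  | ⟨25, _⟩ => m5_25
  | ⟨26, _⟩ => m5_26
  | ⟨27, _⟩ => m5_27
  | ⟨28, _⟩ => m5_28
  | ⟨29, _⟩ => m5_29
  | ⟨30, _⟩ => m5_30
  | ⟨31, _⟩ => m5_31
  | ⟨32, _⟩ => m5_32
  | ⟨33, _⟩ => m5_33
  | ⟨34, _⟩ => m5_34
  | ⟨35, _⟩ => m5_35
  | ⟨36, _⟩ => m5_36
  | ⟨37, _⟩ => m5_37
  | ⟨38, _⟩ => m5_38
  | ⟨39, _⟩ => m5_39
  | ⟨40, _⟩ => m5_40
  | ⟨41, _⟩ => m5_41
  | ⟨42, _⟩ => m5_42
  | ⟨43, _⟩ => m5_43
  | ⟨44, _⟩ => m5_44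
  | ⟨45, _⟩ => m5_45
  | ⟨46, _⟩ => m5_46
  | ⟨47, _⟩ => m5_47
  | ⟨48, _⟩ => m5_48
  | ⟨49, _⟩ => m5_49
  | ⟨50, _⟩ => m5_50
  | ⟨51, _⟩ => m5_51
  | ⟨52, _⟩ => m5_52
  | ⟨53, _⟩ => m5_53
  | ⟨54, _⟩ => m5_54
  | ⟨55, _⟩ => m5_55
  | ⟨56, _⟩ => m5_56
  | ⟨57, _⟩ => m5_57
  | ⟨58, _⟩ => m5_58
  | ⟨59, _⟩ => m5_59
  | ⟨60, _⟩ => m5_60
  | ⟨61, _⟩ => m5_61
  | ⟨62, _⟩ => m5_62
  | ⟨63, _⟩ => m5_63
  | ⟨64, _⟩ => m5_64
  | ⟨65, _⟩ => m5_65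
  | ⟨66, _⟩ => m5_66
  | ⟨67, _⟩ => m5_67
  | ⟨68, _⟩ => m5_68
  | ⟨69, _⟩ => m5_69
  | ⟨70, _⟩ => m5_70
  | ⟨71, _⟩ => m5_71
  | ⟨72, _⟩ => m5_72
  | ⟨73, _⟩ => m5_73
  | ⟨74, _⟩ => m5_74
  | ⟨75, _⟩ => m5_75
  | ⟨76, _⟩ => m5_76
  | ⟨77, _⟩ => m5_77
  | ⟨78, _⟩ => m5_78
  | ⟨79, _⟩ => m5_79
  | ⟨80, _⟩ => m5_80
  | ⟨81, _⟩ => m5_81
  | ⟨82, _⟩ => m5_82
  | ⟨83, _⟩ => m5_83
  | ⟨84, _⟩ => m5_84
  | ⟨85, _⟩ => m5_85
  | ⟨86, _⟩ => m5_86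
  | ⟨87, _⟩ => m5_87
  | ⟨88, _⟩ => m5_88
  | ⟨89, _⟩ => m5_89
  | ⟨90, _⟩ => m5_90
  | ⟨91, _⟩ => m5_91
  | ⟨92, _⟩ => m5_92
  | ⟨93, _⟩ => m5_93
  | ⟨94, _⟩ => m5_94
  | ⟨95, _⟩ => m5_95
  | ⟨96, _⟩ => m5_96
  | ⟨97, _⟩ => m5_97
  | ⟨98, _⟩ => m5_98
  | ⟨99, _⟩ => m5_99
  | ⟨100, _⟩ => m5_100
  | ⟨101, _⟩ => m5_101
  | ⟨102, _⟩ => m5_102
  | ⟨103, _⟩ => m5_103
  | ⟨104, _⟩ => m5_104
  | ⟨105, _⟩ => m5_105
  | ⟨106, _⟩ => m5_106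
  | ⟨107, _⟩ => m5_107
  | ⟨108, _⟩ => m5_108
  | ⟨109, _⟩ => m5_109
  | ⟨110, _⟩ => m5_110
  | ⟨111, _⟩ => m5_111
  | ⟨112, _⟩ => m5_112
  | ⟨113, _⟩ => m5_113
  | ⟨114, _⟩ => m5_114
  | ⟨115, _⟩ => m5_115
  | ⟨116, _⟩ => m5_116
  | ⟨117, _⟩ => m5_117
  | ⟨118, _⟩ => m5_118
  | ⟨119, _⟩ => m5_119
  | ⟨n+120, h⟩ => absurd h (by omega)
theorem φ5_rep : ∀ i : Fin 120, φ5 (rep i) = M5 i
  | ⟨0, _⟩ => t5_0
  | ⟨1, _⟩ => t5_1
  | ⟨2, _⟩ => t5_2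
  | ⟨3, _⟩ => t5_3
  | ⟨4, _⟩ => t5_4
  | ⟨5, _⟩ => t5_5
  | ⟨6, _⟩ => t5_6
  | ⟨7, _⟩ => t5_7
  | ⟨8, _⟩ => t5_8
  | ⟨9, _⟩ => t5_9
  | ⟨10, _⟩ => t5_10
  | ⟨11, _⟩ => t5_11
  | ⟨12, _⟩ => t5_12
  | ⟨13, _⟩ => t5_13
  | ⟨14, _⟩ => t5_14
  | ⟨15, _⟩ => t5_15
  | ⟨16, _⟩ => t5_16
  | ⟨17, _⟩ => t5_17
  | ⟨18, _⟩ => t5_18
  | ⟨19, _⟩ => t5_19
  | ⟨20, _⟩ => t5_20
  | ⟨21, _⟩ => t5_21
  | ⟨22, _⟩ => t5_22
  | ⟨23, _⟩ => t5_23
  | ⟨24, _⟩ => t5_24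
  | ⟨25, _⟩ => t5_25
  | ⟨26, _⟩ => t5_26
  | ⟨27, _⟩ => t5_27
  | ⟨28, _⟩ => t5_28
  | ⟨29, _⟩ => t5_29
  | ⟨30, _⟩ => t5_30
  | ⟨31, _⟩ => t5_31
  | ⟨32, _⟩ => t5_32
  | ⟨33, _⟩ => t5_33
  | ⟨34, _⟩ => t5_34
  | ⟨35, _⟩ => t5_35
  | ⟨36, _⟩ => t5_36
  | ⟨37, _⟩ => t5_37
  | ⟨38, _⟩ => t5_38
  | ⟨39, _⟩ => t5_39
  | ⟨40, _⟩ => t5_40
  | ⟨41, _⟩ => t5_41
  | ⟨42, _⟩ => t5_42
  | ⟨43, _⟩ => t5_43
  | ⟨44, _⟩ => t5_44
  | ⟨45, _⟩ => t5_45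
  | ⟨46, _⟩ => t5_46
  | ⟨47, _⟩ => t5_47
  | ⟨48, _⟩ => t5_48
  | ⟨49, _⟩ => t5_49
  | ⟨50, _⟩ => t5_50
  | ⟨51, _⟩ => t5_51
  | ⟨52, _⟩ => t5_52
  | ⟨53, _⟩ => t5_53
  | ⟨54, _⟩ => t5_54
  | ⟨55, _⟩ => t5_55
  | ⟨56, _⟩ => t5_56
  | ⟨57, _⟩ => t5_57
  | ⟨58, _⟩ => t5_58
  | ⟨59, _⟩ => t5_59
  | ⟨60, _⟩ => t5_60
  | ⟨61, _⟩ => t5_61
  | ⟨62, _⟩ => t5_62
  | ⟨63, _⟩ => t5_63
  | ⟨64, _⟩ => t5_64
  | ⟨65, _⟩ => t5_65
  | ⟨66, _⟩ => t5_66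
  | ⟨67, _⟩ => t5_67
  | ⟨68, _⟩ => t5_68
  | ⟨69, _⟩ => t5_69
  | ⟨70, _⟩ => t5_70
  | ⟨71, _⟩ => t5_71
  | ⟨72, _⟩ => t5_72
  | ⟨73, _⟩ => t5_73
  | ⟨74, _⟩ => t5_74
  | ⟨75, _⟩ => t5_75
  | ⟨76, _⟩ => t5_76
  | ⟨77, _⟩ => t5_77
  | ⟨78, _⟩ => t5_78
  | ⟨79, _⟩ => t5_79
  | ⟨80, _⟩ => t5_80
  | ⟨81, _⟩ => t5_81
  | ⟨82, _⟩ => t5_82
  | ⟨83, _⟩ => t5_83
  | ⟨84, _⟩ => t5_84
  | ⟨85, _⟩ => t5_85
  | ⟨86, _⟩ => t5_86
  | ⟨87, _⟩ => t5_87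
  | ⟨88, _⟩ => t5_88
  | ⟨89, _⟩ => t5_89
  | ⟨90, _⟩ => t5_90
  | ⟨91, _⟩ => t5_91
  | ⟨92, _⟩ => t5_92
  | ⟨93, _⟩ => t5_93
  | ⟨94, _⟩ => t5_94
  | ⟨95, _⟩ => t5_95
  | ⟨96, _⟩ => t5_96
  | ⟨97, _⟩ => t5_97
  | ⟨98, _⟩ => t5_98
  | ⟨99, _⟩ => t5_99
  | ⟨100, _⟩ => t5_100
  | ⟨101, _⟩ => t5_101
  | ⟨102, _⟩ => t5_102
  | ⟨103, _⟩ => t5_103
  | ⟨104, _⟩ => t5_104
  | ⟨105, _⟩ => t5_105
  | ⟨106, _⟩ => t5_106
  | ⟨107, _⟩ => t5_107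
  | ⟨108, _⟩ => t5_108
  | ⟨109, _⟩ => t5_109
  | ⟨110, _⟩ => t5_110
  | ⟨111, _⟩ => t5_111
  | ⟨112, _⟩ => t5_112
  | ⟨113, _⟩ => t5_113
  | ⟨114, _⟩ => t5_114
  | ⟨115, _⟩ => t5_115
  | ⟨116, _⟩ => t5_116
  | ⟨117, _⟩ => t5_117
  | ⟨118, _⟩ => t5_118
  | ⟨119, _⟩ => t5_119
  | ⟨n+120, h⟩ => absurd h (by omega)
def codes5 : List ℕ := [126, 545, 131, 504, 109, 45, 230, 541, 136, 524, 604, 46, 509, 170, 105, 108, 239, 537, 141, 519, 355, 499, 151, 226, 146, 409, 295, 605, 623, 47, 107, 243, 533, 514, 571, 420, 464, 369, 281, 106, 529, 201, 371, 309, 480, 488, 157, 617, 48, 247, 176, 209, 597, 316, 568, 411, 611, 49, 581, 554, 471, 452, 353, 292, 477, 163, 431, 579, 332, 183, 212, 362, 491, 169, 336, 199, 590, 303, 560, 402, 465, 278, 91, 61, 349, 92, 448, 557, 418, 458, 289, 62, 444, 340, 185, 215, 588, 310, 258, 64, 387, 94, 253, 63, 192, 223, 322,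 382, 93, 90, 435, 328, 273, 397, 268, 377, 427, 392, 263, 60]

def enc5 (A : S5) : ℕ :=
  (A.1 0 0).val + 5 * (A.1 0 1).val + 25 * (A.1 1 0).val + 125 * (A.1 1 1).val

set_option maxRecDepth 100000 in
theorem dec5_M5 : ∀ i : Fin 120, codes5.idxOf (enc5 (M5 i)) = i.val := by decide

theorem φ5_rep_inj : ∀ i j : Fin 120, φ5 (rep i) = φ5 (rep j) → i = j := by
  intro i j h
  rw [φ5_rep, φ5_rep] at h
  have h1 := dec5_M5 i
  rw [h, dec5_M5 j] at h1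
  exact Fin.ext h1.symm

theorem rep_inj : Function.Injective rep := by
  intro i j h
  exact φ5_rep_inj i j (by rw [h])

theorem rep_zero : rep 0 = 1 := rfl

theorem card_P : Nat.card P = 120 := by
  have h := Nat.card_congr (Equiv.ofBijective rep ⟨rep_inj, rep_surj⟩)
  rw [← h, Nat.card_fin]

theorem finite_P : Finite P := Finite.of_surjective rep rep_surj

theorem card_S5 : Nat.card S5 = 120 := by
  have : Fact (Nat.Prime 5) := ⟨by norm_num⟩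
  have h := Cfsg.Agent.Lib.Helper38.SLCard.card_SL2 (F := ZMod 5)
  rw [ZMod.card 5] at h
  exact h

theorem φ5_inj : Function.Injective φ5 := by
  intro p q h
  obtain ⟨i, rfl⟩ := rep_surj p
  obtain ⟨j, rfl⟩ := rep_surj q
  rw [φ5_rep_inj i j h]

theorem φ5_bij : Function.Bijective φ5 := by
  have : Finite P := finite_P
  exact (Nat.bijective_iff_injective_and_card φ5).mpr ⟨φ5_inj, by rw [card_P, card_S5]⟩

/-- The presented group `⟨x, y, z | x³ = y⁵ = z² = 1, z⁻¹xz = x, z⁻¹yz = y, (xy)² = z⟩`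
is isomorphic to `SL(2,5)`. -/
noncomputable def presEquiv : P ≃* S5 := MulEquiv.ofBijective φ5 φ5_bij

def gx11 : S11 := ⟨!![0, 1; 10, 10], by rw [Matrix.det_fin_two]; decide⟩
def gy11 : S11 := ⟨!![0, 2; 5, 3], by rw [Matrix.det_fin_two]; decide⟩
def gz11 : S11 := ⟨!![10, 0; 0, 10], by rw [Matrix.det_fin_two]; decide⟩

theorem lift_rel11 : ∀ r ∈ rels, FreeGroup.lift ![gx11, gy11, gz11] r = 1 := by
  intro r hr
  simp only [rels, Set.mem_insert_iff, Set.mem_singleton_iff] at hr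
  rcases hr with rfl | rfl | rfl | rfl | rfl | rfl
  all_goals
    simp only [map_pow, map_mul, map_inv, FreeGroup.lift_apply_of]
    decide

/-- A fixed-point-free representation of the presented group (≅ SL(2,5)) on `(ZMod 11)²`. -/
noncomputable def θ : P →* S11 := PresentedGroup.toGroup lift_rel11

theorem θ_x : θ x = gx11 := by simp [θ, x]
theorem θ_y : θ y = gy11 := by simp [θ, y]
theorem θ_z : θ z = gz11 := by simp [θ, z]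

def m11_0 : S11 := ⟨!![1, 0; 0, 1], by rw [Matrix.det_fin_two]; decide⟩
def m11_1 : S11 := ⟨!![0, 1; 10, 10], by rw [Matrix.det_fin_two]; decide⟩
def m11_2 : S11 := ⟨!![0, 2; 5, 3], by rw [Matrix.det_fin_two]; decide⟩
def m11_3 : S11 := ⟨!![10, 0; 0, 10], by rw [Matrix.det_fin_two]; decide⟩
def m11_4 : S11 := ⟨!![10, 10; 1, 0], by rw [Matrix.det_fin_two]; decide⟩
def m11_5 : S11 := ⟨!![5, 3; 6, 6], by rw [Matrix.det_fin_two]; decide⟩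
def m11_6 : S11 := ⟨!![0, 10; 1, 1], by rw [Matrix.det_fin_two]; decide⟩
def m11_7 : S11 := ⟨!![9, 9; 8, 2], by rw [Matrix.det_fin_two]; decide⟩
def m11_8 : S11 := ⟨!![10, 6; 4, 8], by rw [Matrix.det_fin_two]; decide⟩
def m11_9 : S11 := ⟨!![0, 9; 6, 8], by rw [Matrix.det_fin_two]; decide⟩
def m11_10 : S11 := ⟨!![6, 6; 0, 2], by rw [Matrix.det_fin_two]; decide⟩
def m11_11 : S11 := ⟨!![1, 1; 10, 0], by rw [Matrix.det_fin_two]; decide⟩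
def m11_12 : S11 := ⟨!![8, 2; 5, 0], by rw [Matrix.det_fin_two]; decide⟩
def m11_13 : S11 := ⟨!![4, 8; 8, 8], by rw [Matrix.det_fin_two]; decide⟩
def m11_14 : S11 := ⟨!![6, 8; 5, 5], by rw [Matrix.det_fin_two]; decide⟩
def m11_15 : S11 := ⟨!![2, 0; 9, 6], by rw [Matrix.det_fin_two]; decide⟩
def m11_16 : S11 := ⟨!![2, 2; 3, 9], by rw [Matrix.det_fin_two]; decide⟩
def m11_17 : S11 := ⟨!![5, 4; 3, 7], by rw [Matrix.det_fin_two]; decide⟩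
def m11_18 : S11 := ⟨!![8, 5; 7, 10], by rw [Matrix.det_fin_two]; decide⟩
def m11_19 : S11 := ⟨!![1, 5; 7, 3], by rw [Matrix.det_fin_two]; decide⟩
def m11_20 : S11 := ⟨!![5, 0; 9, 9], by rw [Matrix.det_fin_two]; decide⟩
def m11_21 : S11 := ⟨!![8, 8; 10, 6], by rw [Matrix.det_fin_two]; decide⟩
def m11_22 : S11 := ⟨!![5, 5; 0, 9], by rw [Matrix.det_fin_two]; decide⟩
def m11_23 : S11 := ⟨!![9, 6; 0, 5], by rw [Matrix.det_fin_two]; decide⟩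
def m11_24 : S11 := ⟨!![3, 9; 6, 0], by rw [Matrix.det_fin_two]; decide⟩
def m11_25 : S11 := ⟨!![3, 7; 3, 0], by rw [Matrix.det_fin_two]; decide⟩
def m11_26 : S11 := ⟨!![7, 10; 7, 7], by rw [Matrix.det_fin_two]; decide⟩
def m11_27 : S11 := ⟨!![7, 3; 3, 3], by rw [Matrix.det_fin_two]; decide⟩
def m11_28 : S11 := ⟨!![0, 4; 8, 3], by rw [Matrix.det_fin_two]; decide⟩
def m11_29 : S11 := ⟨!![9, 0; 2, 5], by rw [Matrix.det_fin_two]; decide⟩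
def m11_30 : S11 := ⟨!![7, 1; 4, 7], by rw [Matrix.det_fin_two]; decide⟩
def m11_31 : S11 := ⟨!![6, 7; 8, 4], by rw [Matrix.det_fin_two]; decide⟩
def m11_32 : S11 := ⟨!![6, 3; 1, 8], by rw [Matrix.det_fin_two]; decide⟩
def m11_33 : S11 := ⟨!![3, 6; 4, 1], by rw [Matrix.det_fin_two]; decide⟩
def m11_34 : S11 := ⟨!![0, 5; 2, 0], by rw [Matrix.det_fin_two]; decide⟩
def m11_35 : S11 := ⟨!![6, 0; 2, 2], by rw [Matrix.det_fin_two]; decide⟩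
def m11_36 : S11 := ⟨!![3, 0; 5, 4], by rw [Matrix.det_fin_two]; decide⟩
def m11_37 : S11 := ⟨!![7, 7; 8, 5], by rw [Matrix.det_fin_two]; decide⟩
def m11_38 : S11 := ⟨!![3, 3; 1, 5], by rw [Matrix.det_fin_two]; decide⟩
def m11_39 : S11 := ⟨!![8, 3; 3, 4], by rw [Matrix.det_fin_two]; decide⟩
def m11_40 : S11 := ⟨!![2, 5; 0, 6], by rw [Matrix.det_fin_two]; decide⟩
def m11_41 : S11 := ⟨!![4, 7; 0, 3], by rw [Matrix.det_fin_two]; decide⟩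
def m11_42 : S11 := ⟨!![8, 4; 8, 0], by rw [Matrix.det_fin_two]; decide⟩
def m11_43 : S11 := ⟨!![1, 8; 4, 0], by rw [Matrix.det_fin_two]; decide⟩
def m11_44 : S11 := ⟨!![4, 1; 4, 4], by rw [Matrix.det_fin_two]; decide⟩
def m11_45 : S11 := ⟨!![9, 1; 4, 3], by rw [Matrix.det_fin_two]; decide⟩
def m11_46 : S11 := ⟨!![0, 7; 3, 8], by rw [Matrix.det_fin_two]; decide⟩
def m11_47 : S11 := ⟨!![5, 6; 2, 7], by rw [Matrix.det_fin_two]; decide⟩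
def m11_48 : S11 := ⟨!![4, 10; 7, 4], by rw [Matrix.det_fin_two]; decide⟩
def m11_49 : S11 := ⟨!![5, 8; 10, 3], by rw [Matrix.det_fin_two]; decide⟩
def m11_50 : S11 := ⟨!![3, 4; 0, 4], by rw [Matrix.det_fin_two]; decide⟩
def m11_51 : S11 := ⟨!![0, 6; 9, 0], by rw [Matrix.det_fin_two]; decide⟩
def m11_52 : S11 := ⟨!![0, 3; 7, 1], by rw [Matrix.det_fin_two]; decide⟩
def m11_53 : S11 := ⟨!![8, 0; 6, 7], by rw [Matrix.det_fin_two]; decide⟩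
def m11_54 : S11 := ⟨!![4, 0; 6, 3], by rw [Matrix.det_fin_two]; decide⟩
def m11_55 : S11 := ⟨!![4, 4; 3, 6], by rw [Matrix.det_fin_two]; decide⟩
def m11_56 : S11 := ⟨!![4, 3; 9, 7], by rw [Matrix.det_fin_two]; decide⟩
def m11_57 : S11 := ⟨!![3, 8; 8, 7], by rw [Matrix.det_fin_two]; decide⟩
def m11_58 : S11 := ⟨!![2, 7; 4, 9], by rw [Matrix.det_fin_two]; decide⟩
def m11_59 : S11 := ⟨!![7, 4; 0, 8], by rw [Matrix.det_fin_two]; decide⟩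
def m11_60 : S11 := ⟨!![10, 3; 7, 0], by rw [Matrix.det_fin_two]; decide⟩
def m11_61 : S11 := ⟨!![10, 8; 8, 1], by rw [Matrix.det_fin_two]; decide⟩
def m11_62 : S11 := ⟨!![5, 10; 4, 6], by rw [Matrix.det_fin_two]; decide⟩
def m11_63 : S11 := ⟨!![2, 10; 7, 8], by rw [Matrix.det_fin_two]; decide⟩
def m11_64 : S11 := ⟨!![8, 6; 2, 3], by rw [Matrix.det_fin_two]; decide⟩
def m11_65 : S11 := ⟨!![6, 5; 9, 4], by rw [Matrix.det_fin_two]; decide⟩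
def m11_66 : S11 := ⟨!![9, 7; 9, 1], by rw [Matrix.det_fin_two]; decide⟩
def m11_67 : S11 := ⟨!![8, 7; 0, 7], by rw [Matrix.det_fin_two]; decide⟩
def m11_68 : S11 := ⟨!![4, 9; 5, 6], by rw [Matrix.det_fin_two]; decide⟩
def m11_69 : S11 := ⟨!![0, 8; 4, 10], by rw [Matrix.det_fin_two]; decide⟩
def m11_70 : S11 := ⟨!![7, 0; 5, 8], by rw [Matrix.det_fin_two]; decide⟩
def m11_71 : S11 := ⟨!![8, 1; 4, 2], by rw [Matrix.det_fin_two]; decide⟩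
def m11_72 : S11 := ⟨!![4, 6; 2, 6], by rw [Matrix.det_fin_two]; decide⟩
def m11_73 : S11 := ⟨!![7, 8; 2, 4], by rw [Matrix.det_fin_two]; decide⟩
def m11_74 : S11 := ⟨!![2, 3; 1, 2], by rw [Matrix.det_fin_two]; decide⟩
def m11_75 : S11 := ⟨!![9, 4; 7, 2], by rw [Matrix.det_fin_two]; decide⟩
def m11_76 : S11 := ⟨!![3, 2; 10, 7], by rw [Matrix.det_fin_two]; decide⟩
def m11_77 : S11 := ⟨!![1, 3; 3, 10], by rw [Matrix.det_fin_two]; decide⟩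
def m11_78 : S11 := ⟨!![1, 6; 5, 9], by rw [Matrix.det_fin_two]; decide⟩
def m11_79 : S11 := ⟨!![6, 1; 7, 5], by rw [Matrix.det_fin_two]; decide⟩
def m11_80 : S11 := ⟨!![5, 2; 8, 10], by rw [Matrix.det_fin_two]; decide⟩
def m11_81 : S11 := ⟨!![3, 5; 9, 8], by rw [Matrix.det_fin_two]; decide⟩
def m11_82 : S11 := ⟨!![4, 2; 10, 8], by rw [Matrix.det_fin_two]; decide⟩
def m11_83 : S11 := ⟨!![2, 6; 5, 10], by rw [Matrix.det_fin_two]; decide⟩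
def m11_84 : S11 := ⟨!![2, 4; 2, 10], by rw [Matrix.det_fin_two]; decide⟩
def m11_85 : S11 := ⟨!![1, 2; 8, 6], by rw [Matrix.det_fin_two]; decide⟩
def m11_86 : S11 := ⟨!![7, 2; 6, 5], by rw [Matrix.det_fin_two]; decide⟩
def m11_87 : S11 := ⟨!![10, 7; 9, 2], by rw [Matrix.det_fin_two]; decide⟩
def m11_88 : S11 := ⟨!![3, 10; 7, 9], by rw [Matrix.det_fin_two]; decide⟩
def m11_89 : S11 := ⟨!![5, 9; 5, 7], by rw [Matrix.det_fin_two]; decide⟩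
def m11_90 : S11 := ⟨!![7, 5; 9, 5], by rw [Matrix.det_fin_two]; decide⟩
def m11_91 : S11 := ⟨!![8, 10; 9, 10], by rw [Matrix.det_fin_two]; decide⟩
def m11_92 : S11 := ⟨!![9, 8; 10, 9], by rw [Matrix.det_fin_two]; decide⟩
def m11_93 : S11 := ⟨!![10, 1; 2, 8], by rw [Matrix.det_fin_two]; decide⟩
def m11_94 : S11 := ⟨!![8, 9; 1, 4], by rw [Matrix.det_fin_two]; decide⟩
def m11_95 : S11 := ⟨!![10, 5; 6, 2], by rw [Matrix.det_fin_two]; decide⟩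
def m11_96 : S11 := ⟨!![9, 3; 1, 9], by rw [Matrix.det_fin_two]; decide⟩
def m11_97 : S11 := ⟨!![6, 9; 3, 1], by rw [Matrix.det_fin_two]; decide⟩
def m11_98 : S11 := ⟨!![9, 2; 3, 2], by rw [Matrix.det_fin_two]; decide⟩
def m11_99 : S11 := ⟨!![7, 9; 1, 3], by rw [Matrix.det_fin_two]; decide⟩
def m11_100 : S11 := ⟨!![5, 7; 1, 6], by rw [Matrix.det_fin_two]; decide⟩
def m11_101 : S11 := ⟨!![9, 5; 6, 1], by rw [Matrix.det_fin_two]; decide⟩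
def m11_102 : S11 := ⟨!![9, 10; 5, 2], by rw [Matrix.det_fin_two]; decide⟩
def m11_103 : S11 := ⟨!![10, 9; 3, 5], by rw [Matrix.det_fin_two]; decide⟩
def m11_104 : S11 := ⟨!![2, 8; 10, 2], by rw [Matrix.det_fin_two]; decide⟩
def m11_105 : S11 := ⟨!![1, 4; 2, 9], by rw [Matrix.det_fin_two]; decide⟩
def m11_106 : S11 := ⟨!![6, 2; 6, 4], by rw [Matrix.det_fin_two]; decide⟩
def m11_107 : S11 := ⟨!![1, 9; 1, 10], by rw [Matrix.det_fin_two]; decide⟩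
def m11_108 : S11 := ⟨!![3, 1; 2, 1], by rw [Matrix.det_fin_two]; decide⟩
def m11_109 : S11 := ⟨!![5, 1; 7, 6], by rw [Matrix.det_fin_two]; decide⟩
def m11_110 : S11 := ⟨!![1, 10; 9, 3], by rw [Matrix.det_fin_two]; decide⟩
def m11_111 : S11 := ⟨!![4, 5; 1, 7], by rw [Matrix.det_fin_two]; decide⟩
def m11_112 : S11 := ⟨!![10, 2; 10, 1], by rw [Matrix.det_fin_two]; decide⟩
def m11_113 : S11 := ⟨!![2, 9; 8, 9], by rw [Matrix.det_fin_two]; decide⟩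
def m11_114 : S11 := ⟨!![6, 4; 10, 5], by rw [Matrix.det_fin_two]; decide⟩
def m11_115 : S11 := ⟨!![2, 1; 6, 9], by rw [Matrix.det_fin_two]; decide⟩
def m11_116 : S11 := ⟨!![7, 6; 10, 4], by rw [Matrix.det_fin_two]; decide⟩
def m11_117 : S11 := ⟨!![1, 7; 6, 10], by rw [Matrix.det_fin_two]; decide⟩
def m11_118 : S11 := ⟨!![10, 4; 5, 1], by rw [Matrix.det_fin_two]; decide⟩
def m11_119 : S11 := ⟨!![6, 10; 4, 5], by rw [Matrix.det_fin_two]; decide⟩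
theorem t11_0 : θ r0 = m11_0 := by
  show θ 1 = m11_0
  rw [map_one]; decide
theorem t11_1 : θ r1 = m11_1 := by
  show θ (r0 * x) = m11_1
  rw [map_mul, t11_0, θ_x]; decide
theorem t11_2 : θ r2 = m11_2 := by
  show θ (r0 * y) = m11_2
  rw [map_mul, t11_0, θ_y]; decide
theorem t11_3 : θ r3 = m11_3 := by
  show θ (r0 * z) = m11_3
  rw [map_mul, t11_0, θ_z]; decide
theorem t11_4 : θ r4 = m11_4 := by
  show θ (r1 * x) = m11_4
  rw [map_mul, t11_1, θ_x]; decide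
theorem t11_5 : θ r5 = m11_5 := by
  show θ (r1 * y) = m11_5
  rw [map_mul, t11_1, θ_y]; decide
theorem t11_6 : θ r6 = m11_6 := by
  show θ (r1 * z) = m11_6
  rw [map_mul, t11_1, θ_z]; decide
theorem t11_7 : θ r7 = m11_7 := by
  show θ (r2 * x) = m11_7
  rw [map_mul, t11_2, θ_x]; decide
theorem t11_8 : θ r8 = m11_8 := by
  show θ (r2 * y) = m11_8
  rw [map_mul, t11_2, θ_y]; decide
theorem t11_9 : θ r9 = m11_9 := by
  show θ (r2 * z) = m11_9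
  rw [map_mul, t11_2, θ_z]; decide
theorem t11_10 : θ r10 = m11_10 := by
  show θ (r4 * y) = m11_10
  rw [map_mul, t11_4, θ_y]; decide
theorem t11_11 : θ r11 = m11_11 := by
  show θ (r4 * z) = m11_11
  rw [map_mul, t11_4, θ_z]; decide
theorem t11_12 : θ r12 = m11_12 := by
  show θ (r5 * x) = m11_12
  rw [map_mul, t11_5, θ_x]; decide
theorem t11_13 : θ r13 = m11_13 := by
  show θ (r5 * y) = m11_13
  rw [map_mul, t11_5, θ_y]; decide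
theorem t11_14 : θ r14 = m11_14 := by
  show θ (r5 * z) = m11_14
  rw [map_mul, t11_5, θ_z]; decide
theorem t11_15 : θ r15 = m11_15 := by
  show θ (r7 * x) = m11_15
  rw [map_mul, t11_7, θ_x]; decide
theorem t11_16 : θ r16 = m11_16 := by
  show θ (r7 * z) = m11_16
  rw [map_mul, t11_7, θ_z]; decide
theorem t11_17 : θ r17 = m11_17 := by
  show θ (r8 * x) = m11_17
  rw [map_mul, t11_8, θ_x]; decide
theorem t11_18 : θ r18 = m11_18 := by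
  show θ (r8 * y) = m11_18
  rw [map_mul, t11_8, θ_y]; decide
theorem t11_19 : θ r19 = m11_19 := by
  show θ (r8 * z) = m11_19
  rw [map_mul, t11_8, θ_z]; decide
theorem t11_20 : θ r20 = m11_20 := by
  show θ (r10 * x) = m11_20
  rw [map_mul, t11_10, θ_x]; decide
theorem t11_21 : θ r21 = m11_21 := by
  show θ (r10 * y) = m11_21
  rw [map_mul, t11_10, θ_y]; decide
theorem t11_22 : θ r22 = m11_22 := by
  show θ (r10 * z) = m11_22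
  rw [map_mul, t11_10, θ_z]; decide
theorem t11_23 : θ r23 = m11_23 := by
  show θ (r12 * x) = m11_23
  rw [map_mul, t11_12, θ_x]; decide
theorem t11_24 : θ r24 = m11_24 := by
  show θ (r12 * z) = m11_24
  rw [map_mul, t11_12, θ_z]; decide
theorem t11_25 : θ r25 = m11_25 := by
  show θ (r13 * x) = m11_25
  rw [map_mul, t11_13, θ_x]; decide
theorem t11_26 : θ r26 = m11_26 := by
  show θ (r13 * y) = m11_26
  rw [map_mul, t11_13, θ_y]; decide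
theorem t11_27 : θ r27 = m11_27 := by
  show θ (r13 * z) = m11_27
  rw [map_mul, t11_13, θ_z]; decide
theorem t11_28 : θ r28 = m11_28 := by
  show θ (r15 * y) = m11_28
  rw [map_mul, t11_15, θ_y]; decide
theorem t11_29 : θ r29 = m11_29 := by
  show θ (r15 * z) = m11_29
  rw [map_mul, t11_15, θ_z]; decide
theorem t11_30 : θ r30 = m11_30 := by
  show θ (r17 * x) = m11_30
  rw [map_mul, t11_17, θ_x]; decide
theorem t11_31 : θ r31 = m11_31 := by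
  show θ (r17 * z) = m11_31
  rw [map_mul, t11_17, θ_z]; decide
theorem t11_32 : θ r32 = m11_32 := by
  show θ (r18 * x) = m11_32
  rw [map_mul, t11_18, θ_x]; decide
theorem t11_33 : θ r33 = m11_33 := by
  show θ (r18 * z) = m11_33
  rw [map_mul, t11_18, θ_z]; decide
theorem t11_34 : θ r34 = m11_34 := by
  show θ (r20 * x) = m11_34
  rw [map_mul, t11_20, θ_x]; decide
theorem t11_35 : θ r35 = m11_35 := by
  show θ (r20 * z) = m11_35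
  rw [map_mul, t11_20, θ_z]; decide
theorem t11_36 : θ r36 = m11_36 := by
  show θ (r21 * x) = m11_36
  rw [map_mul, t11_21, θ_x]; decide
theorem t11_37 : θ r37 = m11_37 := by
  show θ (r21 * y) = m11_37
  rw [map_mul, t11_21, θ_y]; decide
theorem t11_38 : θ r38 = m11_38 := by
  show θ (r21 * z) = m11_38
  rw [map_mul, t11_21, θ_z]; decide
theorem t11_39 : θ r39 = m11_39 := by
  show θ (r23 * y) = m11_39
  rw [map_mul, t11_23, θ_y]; decide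
theorem t11_40 : θ r40 = m11_40 := by
  show θ (r23 * z) = m11_40
  rw [map_mul, t11_23, θ_z]; decide
theorem t11_41 : θ r41 = m11_41 := by
  show θ (r25 * x) = m11_41
  rw [map_mul, t11_25, θ_x]; decide
theorem t11_42 : θ r42 = m11_42 := by
  show θ (r25 * z) = m11_42
  rw [map_mul, t11_25, θ_z]; decide
theorem t11_43 : θ r43 = m11_43 := by
  show θ (r26 * x) = m11_43
  rw [map_mul, t11_26, θ_x]; decide
theorem t11_44 : θ r44 = m11_44 := by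
  show θ (r26 * z) = m11_44
  rw [map_mul, t11_26, θ_z]; decide
theorem t11_45 : θ r45 = m11_45 := by
  show θ (r28 * y) = m11_45
  rw [map_mul, t11_28, θ_y]; decide
theorem t11_46 : θ r46 = m11_46 := by
  show θ (r28 * z) = m11_46
  rw [map_mul, t11_28, θ_z]; decide
theorem t11_47 : θ r47 = m11_47 := by
  show θ (r30 * y) = m11_47
  rw [map_mul, t11_30, θ_y]; decide
theorem t11_48 : θ r48 = m11_48 := by
  show θ (r30 * z) = m11_48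
  rw [map_mul, t11_30, θ_z]; decide
theorem t11_49 : θ r49 = m11_49 := by
  show θ (r32 * z) = m11_49
  rw [map_mul, t11_32, θ_z]; decide
theorem t11_50 : θ r50 = m11_50 := by
  show θ (r34 * y) = m11_50
  rw [map_mul, t11_34, θ_y]; decide
theorem t11_51 : θ r51 = m11_51 := by
  show θ (r34 * z) = m11_51
  rw [map_mul, t11_34, θ_z]; decide
theorem t11_52 : θ r52 = m11_52 := by
  show θ (r36 * x) = m11_52
  rw [map_mul, t11_36, θ_x]; decide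
theorem t11_53 : θ r53 = m11_53 := by
  show θ (r36 * z) = m11_53
  rw [map_mul, t11_36, θ_z]; decide
theorem t11_54 : θ r54 = m11_54 := by
  show θ (r37 * x) = m11_54
  rw [map_mul, t11_37, θ_x]; decide
theorem t11_55 : θ r55 = m11_55 := by
  show θ (r37 * z) = m11_55
  rw [map_mul, t11_37, θ_z]; decide
theorem t11_56 : θ r56 = m11_56 := by
  show θ (r39 * y) = m11_56
  rw [map_mul, t11_39, θ_y]; decide
theorem t11_57 : θ r57 = m11_57 := by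
  show θ (r39 * z) = m11_57
  rw [map_mul, t11_39, θ_z]; decide
theorem t11_58 : θ r58 = m11_58 := by
  show θ (r41 * y) = m11_58
  rw [map_mul, t11_41, θ_y]; decide
theorem t11_59 : θ r59 = m11_59 := by
  show θ (r41 * z) = m11_59
  rw [map_mul, t11_41, θ_z]; decide
theorem t11_60 : θ r60 = m11_60 := by
  show θ (r43 * z) = m11_60
  rw [map_mul, t11_43, θ_z]; decide
theorem t11_61 : θ r61 = m11_61 := by
  show θ (r45 * x) = m11_61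
  rw [map_mul, t11_45, θ_x]; decide
theorem t11_62 : θ r62 = m11_62 := by
  show θ (r45 * y) = m11_62
  rw [map_mul, t11_45, θ_y]; decide
theorem t11_63 : θ r63 = m11_63 := by
  show θ (r45 * z) = m11_63
  rw [map_mul, t11_45, θ_z]; decide
theorem t11_64 : θ r64 = m11_64 := by
  show θ (r47 * y) = m11_64
  rw [map_mul, t11_47, θ_y]; decide
theorem t11_65 : θ r65 = m11_65 := by
  show θ (r47 * z) = m11_65
  rw [map_mul, t11_47, θ_z]; decide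
theorem t11_66 : θ r66 = m11_66 := by
  show θ (r50 * y) = m11_66
  rw [map_mul, t11_50, θ_y]; decide
theorem t11_67 : θ r67 = m11_67 := by
  show θ (r50 * z) = m11_67
  rw [map_mul, t11_50, θ_z]; decide
theorem t11_68 : θ r68 = m11_68 := by
  show θ (r52 * y) = m11_68
  rw [map_mul, t11_52, θ_y]; decide
theorem t11_69 : θ r69 = m11_69 := by
  show θ (r52 * z) = m11_69
  rw [map_mul, t11_52, θ_z]; decide
theorem t11_70 : θ r70 = m11_70 := by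
  show θ (r54 * z) = m11_70
  rw [map_mul, t11_54, θ_z]; decide
theorem t11_71 : θ r71 = m11_71 := by
  show θ (r56 * x) = m11_71
  rw [map_mul, t11_56, θ_x]; decide
theorem t11_72 : θ r72 = m11_72 := by
  show θ (r56 * y) = m11_72
  rw [map_mul, t11_56, θ_y]; decide
theorem t11_73 : θ r73 = m11_73 := by
  show θ (r56 * z) = m11_73
  rw [map_mul, t11_56, θ_z]; decide
theorem t11_74 : θ r74 = m11_74 := by
  show θ (r58 * y) = m11_74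
  rw [map_mul, t11_58, θ_y]; decide
theorem t11_75 : θ r75 = m11_75 := by
  show θ (r58 * z) = m11_75
  rw [map_mul, t11_58, θ_z]; decide
theorem t11_76 : θ r76 = m11_76 := by
  show θ (r61 * x) = m11_76
  rw [map_mul, t11_61, θ_x]; decide
theorem t11_77 : θ r77 = m11_77 := by
  show θ (r61 * z) = m11_77
  rw [map_mul, t11_61, θ_z]; decide
theorem t11_78 : θ r78 = m11_78 := by
  show θ (r62 * x) = m11_78
  rw [map_mul, t11_62, θ_x]; decide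
theorem t11_79 : θ r79 = m11_79 := by
  show θ (r62 * z) = m11_79
  rw [map_mul, t11_62, θ_z]; decide
theorem t11_80 : θ r80 = m11_80 := by
  show θ (r64 * x) = m11_80
  rw [map_mul, t11_64, θ_x]; decide
theorem t11_81 : θ r81 = m11_81 := by
  show θ (r64 * z) = m11_81
  rw [map_mul, t11_64, θ_z]; decide
theorem t11_82 : θ r82 = m11_82 := by
  show θ (r66 * x) = m11_82
  rw [map_mul, t11_66, θ_x]; decide
theorem t11_83 : θ r83 = m11_83 := by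
  show θ (r66 * y) = m11_83
  rw [map_mul, t11_66, θ_y]; decide
theorem t11_84 : θ r84 = m11_84 := by
  show θ (r66 * z) = m11_84
  rw [map_mul, t11_66, θ_z]; decide
theorem t11_85 : θ r85 = m11_85 := by
  show θ (r68 * y) = m11_85
  rw [map_mul, t11_68, θ_y]; decide
theorem t11_86 : θ r86 = m11_86 := by
  show θ (r68 * z) = m11_86
  rw [map_mul, t11_68, θ_z]; decide
theorem t11_87 : θ r87 = m11_87 := by
  show θ (r71 * x) = m11_87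
  rw [map_mul, t11_71, θ_x]; decide
theorem t11_88 : θ r88 = m11_88 := by
  show θ (r71 * z) = m11_88
  rw [map_mul, t11_71, θ_z]; decide
theorem t11_89 : θ r89 = m11_89 := by
  show θ (r72 * x) = m11_89
  rw [map_mul, t11_72, θ_x]; decide
theorem t11_90 : θ r90 = m11_90 := by
  show θ (r72 * z) = m11_90
  rw [map_mul, t11_72, θ_z]; decide
theorem t11_91 : θ r91 = m11_91 := by
  show θ (r74 * x) = m11_91
  rw [map_mul, t11_74, θ_x]; decide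
theorem t11_92 : θ r92 = m11_92 := by
  show θ (r74 * z) = m11_92
  rw [map_mul, t11_74, θ_z]; decide
theorem t11_93 : θ r93 = m11_93 := by
  show θ (r76 * y) = m11_93
  rw [map_mul, t11_76, θ_y]; decide
theorem t11_94 : θ r94 = m11_94 := by
  show θ (r76 * z) = m11_94
  rw [map_mul, t11_76, θ_z]; decide
theorem t11_95 : θ r95 = m11_95 := by
  show θ (r78 * z) = m11_95
  rw [map_mul, t11_78, θ_z]; decide
theorem t11_96 : θ r96 = m11_96 := by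
  show θ (r80 * x) = m11_96
  rw [map_mul, t11_80, θ_x]; decide
theorem t11_97 : θ r97 = m11_97 := by
  show θ (r80 * z) = m11_97
  rw [map_mul, t11_80, θ_z]; decide
theorem t11_98 : θ r98 = m11_98 := by
  show θ (r82 * x) = m11_98
  rw [map_mul, t11_82, θ_x]; decide
theorem t11_99 : θ r99 = m11_99 := by
  show θ (r82 * z) = m11_99
  rw [map_mul, t11_82, θ_z]; decide
theorem t11_100 : θ r100 = m11_100 := by
  show θ (r83 * x) = m11_100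
  rw [map_mul, t11_83, θ_x]; decide
theorem t11_101 : θ r101 = m11_101 := by
  show θ (r83 * z) = m11_101
  rw [map_mul, t11_83, θ_z]; decide
theorem t11_102 : θ r102 = m11_102 := by
  show θ (r85 * x) = m11_102
  rw [map_mul, t11_85, θ_x]; decide
theorem t11_103 : θ r103 = m11_103 := by
  show θ (r85 * z) = m11_103
  rw [map_mul, t11_85, θ_z]; decide
theorem t11_104 : θ r104 = m11_104 := by
  show θ (r87 * y) = m11_104
  rw [map_mul, t11_87, θ_y]; decide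
theorem t11_105 : θ r105 = m11_105 := by
  show θ (r87 * z) = m11_105
  rw [map_mul, t11_87, θ_z]; decide
theorem t11_106 : θ r106 = m11_106 := by
  show θ (r89 * z) = m11_106
  rw [map_mul, t11_89, θ_z]; decide
theorem t11_107 : θ r107 = m11_107 := by
  show θ (r91 * x) = m11_107
  rw [map_mul, t11_91, θ_x]; decide
theorem t11_108 : θ r108 = m11_108 := by
  show θ (r91 * z) = m11_108
  rw [map_mul, t11_91, θ_z]; decide
theorem t11_109 : θ r109 = m11_109 := by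
  show θ (r93 * y) = m11_109
  rw [map_mul, t11_93, θ_y]; decide
theorem t11_110 : θ r110 = m11_110 := by
  show θ (r93 * z) = m11_110
  rw [map_mul, t11_93, θ_z]; decide
theorem t11_111 : θ r111 = m11_111 := by
  show θ (r96 * y) = m11_111
  rw [map_mul, t11_96, θ_y]; decide
theorem t11_112 : θ r112 = m11_112 := by
  show θ (r98 * y) = m11_112
  rw [map_mul, t11_98, θ_y]; decide
theorem t11_113 : θ r113 = m11_113 := by
  show θ (r98 * z) = m11_113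
  rw [map_mul, t11_98, θ_z]; decide
theorem t11_114 : θ r114 = m11_114 := by
  show θ (r100 * z) = m11_114
  rw [map_mul, t11_100, θ_z]; decide
theorem t11_115 : θ r115 = m11_115 := by
  show θ (r102 * z) = m11_115
  rw [map_mul, t11_102, θ_z]; decide
theorem t11_116 : θ r116 = m11_116 := by
  show θ (r104 * y) = m11_116
  rw [map_mul, t11_104, θ_y]; decide
theorem t11_117 : θ r117 = m11_117 := by
  show θ (r107 * y) = m11_117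
  rw [map_mul, t11_107, θ_y]; decide
theorem t11_118 : θ r118 = m11_118 := by
  show θ (r109 * x) = m11_118
  rw [map_mul, t11_109, θ_x]; decide
theorem t11_119 : θ r119 = m11_119 := by
  show θ (r109 * z) = m11_119
  rw [map_mul, t11_109, θ_z]; decide
def M11 : Fin 120 → S11
  | ⟨0, _⟩ => m11_0
  | ⟨1, _⟩ => m11_1
  | ⟨2, _⟩ => m11_2
  | ⟨3, _⟩ => m11_3
  | ⟨4, _⟩ => m11_4
  | ⟨5, _⟩ => m11_5
  | ⟨6, _⟩ => m11_6
  | ⟨7, _⟩ => m11_7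
  | ⟨8, _⟩ => m11_8
  | ⟨9, _⟩ => m11_9
  | ⟨10, _⟩ => m11_10
  | ⟨11, _⟩ => m11_11
  | ⟨12, _⟩ => m11_12
  | ⟨13, _⟩ => m11_13
  | ⟨14, _⟩ => m11_14
  | ⟨15, _⟩ => m11_15
  | ⟨16, _⟩ => m11_16
  | ⟨17, _⟩ => m11_17
  | ⟨18, _⟩ => m11_18
  | ⟨19, _⟩ => m11_19
  | ⟨20, _⟩ => m11_20
  | ⟨21, _⟩ => m11_21
  | ⟨22, _⟩ => m11_22
  | ⟨23, _⟩ => m11_23
  | ⟨24, _⟩ => m11_24
  | ⟨25, _⟩ => m11_25
  | ⟨26, _⟩ => m11_26
  | ⟨27, _⟩ => m11_27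
  | ⟨28, _⟩ => m11_28
  | ⟨29, _⟩ => m11_29
  | ⟨30, _⟩ => m11_30
  | ⟨31, _⟩ => m11_31
  | ⟨32, _⟩ => m11_32
  | ⟨33, _⟩ => m11_33
  | ⟨34, _⟩ => m11_34
  | ⟨35, _⟩ => m11_35
  | ⟨36, _⟩ => m11_36
  | ⟨37, _⟩ => m11_37
  | ⟨38, _⟩ => m11_38
  | ⟨39, _⟩ => m11_39
  | ⟨40, _⟩ => m11_40
  | ⟨41, _⟩ => m11_41
  | ⟨42, _⟩ => m11_42
  | ⟨43, _⟩ => m11_43
  | ⟨44, _⟩ => m11_44
  | ⟨45, _⟩ => m11_45
  | ⟨46, _⟩ => m11_46
  | ⟨47, _⟩ => m11_47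
  | ⟨48, _⟩ => m11_48
  | ⟨49, _⟩ => m11_49
  | ⟨50, _⟩ => m11_50
  | ⟨51, _⟩ => m11_51
  | ⟨52, _⟩ => m11_52
  | ⟨53, _⟩ => m11_53
  | ⟨54, _⟩ => m11_54
  | ⟨55, _⟩ => m11_55
  | ⟨56, _⟩ => m11_56
  | ⟨57, _⟩ => m11_57
  | ⟨58, _⟩ => m11_58
  | ⟨59, _⟩ => m11_59
  | ⟨60, _⟩ => m11_60
  | ⟨61, _⟩ => m11_61
  | ⟨62, _⟩ => m11_62
  | ⟨63, _⟩ => m11_63
  | ⟨64, _⟩ => m11_64
  | ⟨65, _⟩ => m11_65
  | ⟨66, _⟩ => m11_66
  | ⟨67, _⟩ => m11_67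
  | ⟨68, _⟩ => m11_68
  | ⟨69, _⟩ => m11_69
  | ⟨70, _⟩ => m11_70
  | ⟨71, _⟩ => m11_71
  | ⟨72, _⟩ => m11_72
  | ⟨73, _⟩ => m11_73
  | ⟨74, _⟩ => m11_74
  | ⟨75, _⟩ => m11_75
  | ⟨76, _⟩ => m11_76
  | ⟨77, _⟩ => m11_77
  | ⟨78, _⟩ => m11_78
  | ⟨79, _⟩ => m11_79
  | ⟨80, _⟩ => m11_80
  | ⟨81, _⟩ => m11_81
  | ⟨82, _⟩ => m11_82
  | ⟨83, _⟩ => m11_83
  | ⟨84, _⟩ => m11_84
  | ⟨85, _⟩ => m11_85
  | ⟨86, _⟩ => m11_86
  | ⟨87, _⟩ => m11_87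
  | ⟨88, _⟩ => m11_88
  | ⟨89, _⟩ => m11_89
  | ⟨90, _⟩ => m11_90
  | ⟨91, _⟩ => m11_91
  | ⟨92, _⟩ => m11_92
  | ⟨93, _⟩ => m11_93
  | ⟨94, _⟩ => m11_94
  | ⟨95, _⟩ => m11_95
  | ⟨96, _⟩ => m11_96
  | ⟨97, _⟩ => m11_97
  | ⟨98, _⟩ => m11_98
  | ⟨99, _⟩ => m11_99
  | ⟨100, _⟩ => m11_100
  | ⟨101, _⟩ => m11_101
  | ⟨102, _⟩ => m11_102
  | ⟨103, _⟩ => m11_103
  | ⟨104, _⟩ => m11_104
  | ⟨105, _⟩ => m11_105
  | ⟨106, _⟩ => m11_106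
  | ⟨107, _⟩ => m11_107
  | ⟨108, _⟩ => m11_108
  | ⟨109, _⟩ => m11_109
  | ⟨110, _⟩ => m11_110
  | ⟨111, _⟩ => m11_111
  | ⟨112, _⟩ => m11_112
  | ⟨113, _⟩ => m11_113
  | ⟨114, _⟩ => m11_114
  | ⟨115, _⟩ => m11_115
  | ⟨116, _⟩ => m11_116
  | ⟨117, _⟩ => m11_117
  | ⟨118, _⟩ => m11_118
  | ⟨119, _⟩ => m11_119
  | ⟨n+120, h⟩ => absurd h (by omega)
theorem θ_rep : ∀ i : Fin 120, θ (rep i) = M11 i
  | ⟨0, _⟩ => t11_0
  | ⟨1, _⟩ => t11_1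
  | ⟨2, _⟩ => t11_2
  | ⟨3, _⟩ => t11_3
  | ⟨4, _⟩ => t11_4
  | ⟨5, _⟩ => t11_5
  | ⟨6, _⟩ => t11_6
  | ⟨7, _⟩ => t11_7
  | ⟨8, _⟩ => t11_8
  | ⟨9, _⟩ => t11_9
  | ⟨10, _⟩ => t11_10
  | ⟨11, _⟩ => t11_11
  | ⟨12, _⟩ => t11_12
  | ⟨13, _⟩ => t11_13
  | ⟨14, _⟩ => t11_14
  | ⟨15, _⟩ => t11_15
  | ⟨16, _⟩ => t11_16
  | ⟨17, _⟩ => t11_17
  | ⟨18, _⟩ => t11_18
  | ⟨19, _⟩ => t11_19
  | ⟨20, _⟩ => t11_20
  | ⟨21, _⟩ => t11_21
  | ⟨22, _⟩ => t11_22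
  | ⟨23, _⟩ => t11_23
  | ⟨24, _⟩ => t11_24
  | ⟨25, _⟩ => t11_25
  | ⟨26, _⟩ => t11_26
  | ⟨27, _⟩ => t11_27
  | ⟨28, _⟩ => t11_28
  | ⟨29, _⟩ => t11_29
  | ⟨30, _⟩ => t11_30
  | ⟨31, _⟩ => t11_31
  | ⟨32, _⟩ => t11_32
  | ⟨33, _⟩ => t11_33
  | ⟨34, _⟩ => t11_34
  | ⟨35, _⟩ => t11_35
  | ⟨36, _⟩ => t11_36
  | ⟨37, _⟩ => t11_37
  | ⟨38, _⟩ => t11_38
  | ⟨39, _⟩ => t11_39
  | ⟨40, _⟩ => t11_40
  | ⟨41, _⟩ => t11_41
  | ⟨42, _⟩ => t11_42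
  | ⟨43, _⟩ => t11_43
  | ⟨44, _⟩ => t11_44
  | ⟨45, _⟩ => t11_45
  | ⟨46, _⟩ => t11_46
  | ⟨47, _⟩ => t11_47
  | ⟨48, _⟩ => t11_48
  | ⟨49, _⟩ => t11_49
  | ⟨50, _⟩ => t11_50
  | ⟨51, _⟩ => t11_51
  | ⟨52, _⟩ => t11_52
  | ⟨53, _⟩ => t11_53
  | ⟨54, _⟩ => t11_54
  | ⟨55, _⟩ => t11_55
  | ⟨56, _⟩ => t11_56
  | ⟨57, _⟩ => t11_57
  | ⟨58, _⟩ => t11_58
  | ⟨59, _⟩ => t11_59
  | ⟨60, _⟩ => t11_60
  | ⟨61, _⟩ => t11_61
  | ⟨62, _⟩ => t11_62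
  | ⟨63, _⟩ => t11_63
  | ⟨64, _⟩ => t11_64
  | ⟨65, _⟩ => t11_65
  | ⟨66, _⟩ => t11_66
  | ⟨67, _⟩ => t11_67
  | ⟨68, _⟩ => t11_68
  | ⟨69, _⟩ => t11_69
  | ⟨70, _⟩ => t11_70
  | ⟨71, _⟩ => t11_71
  | ⟨72, _⟩ => t11_72
  | ⟨73, _⟩ => t11_73
  | ⟨74, _⟩ => t11_74
  | ⟨75, _⟩ => t11_75
  | ⟨76, _⟩ => t11_76
  | ⟨77, _⟩ => t11_77
  | ⟨78, _⟩ => t11_78
  | ⟨79, _⟩ => t11_79
  | ⟨80, _⟩ => t11_80
  | ⟨81, _⟩ => t11_81
  | ⟨82, _⟩ => t11_82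
  | ⟨83, _⟩ => t11_83
  | ⟨84, _⟩ => t11_84
  | ⟨85, _⟩ => t11_85
  | ⟨86, _⟩ => t11_86
  | ⟨87, _⟩ => t11_87
  | ⟨88, _⟩ => t11_88
  | ⟨89, _⟩ => t11_89
  | ⟨90, _⟩ => t11_90
  | ⟨91, _⟩ => t11_91
  | ⟨92, _⟩ => t11_92
  | ⟨93, _⟩ => t11_93
  | ⟨94, _⟩ => t11_94
  | ⟨95, _⟩ => t11_95
  | ⟨96, _⟩ => t11_96
  | ⟨97, _⟩ => t11_97
  | ⟨98, _⟩ => t11_98
  | ⟨99, _⟩ => t11_99
  | ⟨100, _⟩ => t11_100
  | ⟨101, _⟩ => t11_101
  | ⟨102, _⟩ => t11_102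
  | ⟨103, _⟩ => t11_103
  | ⟨104, _⟩ => t11_104
  | ⟨105, _⟩ => t11_105
  | ⟨106, _⟩ => t11_106
  | ⟨107, _⟩ => t11_107
  | ⟨108, _⟩ => t11_108
  | ⟨109, _⟩ => t11_109
  | ⟨110, _⟩ => t11_110
  | ⟨111, _⟩ => t11_111
  | ⟨112, _⟩ => t11_112
  | ⟨113, _⟩ => t11_113
  | ⟨114, _⟩ => t11_114
  | ⟨115, _⟩ => t11_115
  | ⟨116, _⟩ => t11_116
  | ⟨117, _⟩ => t11_117
  | ⟨118, _⟩ => t11_118
  | ⟨119, _⟩ => t11_119
  | ⟨n+120, h⟩ => absurd h (by omega)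
set_option maxRecDepth 100000 in
theorem θ_fpf_rep : ∀ i : Fin 120, i ≠ 0 →
    ((M11 i).1 0 0 - 1) * ((M11 i).1 1 1 - 1) - (M11 i).1 0 1 * (M11 i).1 1 0 ≠ 0 := by
  decide

/-- The representation `θ` is fixed-point-free: a non-identity element fixes no non-zero vector. -/
theorem θ_fpf (p : P) (hp : p ≠ 1) (v : Fin 2 → ZMod 11) (hv : (θ p).1.mulVec v = v) : v = 0 := by
  have : Fact (Nat.Prime 11) := ⟨by norm_num⟩
  obtain ⟨i, rfl⟩ := rep_surj p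
  have hi : i ≠ 0 := by
    rintro rfl
    exact hp rep_zero
  rw [θ_rep] at hv
  have hdet : ((M11 i).1 - 1).det ≠ 0 := by
    rw [Matrix.det_fin_two]
    simpa [Matrix.sub_apply] using θ_fpf_rep i hi
  apply Matrix.eq_zero_of_mulVec_eq_zero hdet
  rw [Matrix.sub_mulVec, hv, Matrix.one_mulVec, sub_self]

end Cfsg.Agent.Lib.Helper56.SL25Pres
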