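import Mathlib

/-!
# S3557 (2-closed transitive groups of degree 2p² have a derangement of prime order): pieces

Proof.  Let `P` be a Sylow `p`-subgroup of `G`.  Every `P`-orbit has size divisible by the `p`-part
of `|Ω|` (SylOrb).  If `p = 2` then `|Ω| = 8`, `P` is transitive and a central element of order `2`
of `P` is a derangement (PPow).  If `p` is odd, every `P`-orbit has size divisible by `p²`, so a
nonempty `P`-invariant set with nonempty complement is a `P`-orbit of size `p²`, and so is its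
complement (TwoOrb).  Take `z` central of order `p` in `P` (Cent).  If `z` has no fixed point we
are done.  Otherwise `S := Fix(z)` is `P`-invariant, and `K := {h ∈ P | h fixes S pointwise}` is
normalized by `P` and contains `z`; `z` moves every point outside `S`.  Fix `b ∉ S` and put
`L := (P_b) ⊔ K`.  Then `[P : L] ∣ p` (LIdx), so `L` is normalized by `P` (LNormal), and every
`g ∈ L` maps every `b' ∉ S` into `K b'` (LMem).  As `[P : K] ≥ p²`, `K ≠ L` (KNe), so there is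
`g ∈ L ∖ K` with `g ^ p ∈ K` and `[g, P] ⊆ K` (RelCent); such a `g` has no fixed point on `S`
(Fpf).  The permutation `g` on `S`, `z` outside `S` agrees on every pair of points with an element
of `G`, so it is induced by some `h ∈ G` (Glue, the only use of 2-closure); `h` is a derangement
of order `p` (OrdP).
-/

set_option autoImplicit false

namespace Cfsg.Agent.Lib.Helper56.TPStmt

universe u v

/-- SYLORB: for `G` transitive on `Ω`, every orbit of a Sylow `p`-subgroup has size divisible by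
the `p`-part of `|Ω|`.  (`|P a| = |P| / |P_a|`, `P_a` is a `p`-subgroup of `G_a` and
`|G| = |Ω| |G_a|`; the orbit size is a power of `p`.) -/
def SylOrb : Prop :=
  ∀ (G : Type u) (Ω : Type v) [Group G] [Finite G] [MulAction G Ω] [Finite Ω],
    MulAction.IsPretransitive G Ω → ∀ (p : ℕ) [Fact p.Prime] (P : Sylow p G) (a : Ω),
      p ^ (Nat.card Ω).factorization p ∣ Nat.card (MulAction.orbit (↥(P : Subgroup G)) a)

/-- PPOW: if every orbit of the `p`-subgroup `P` has size divisible by `|Ω|` (so `P` is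
transitive), then a central element of order `p` of `P` is a derangement.  (`P ≠ ⊥` as
`|Ω| ≥ 2`; a central element with a fixed point fixes its whole `P`-orbit, so it is `1` by
faithfulness.) -/
def PPow : Prop :=
  ∀ (G : Type u) (Ω : Type v) [Group G] [Finite G] [MulAction G Ω] [FaithfulSMul G Ω] [Finite Ω]
    (p : ℕ) [Fact p.Prime] (P : Subgroup G), IsPGroup p P → 2 ≤ Nat.card Ω →
    (∀ a : Ω, Nat.card Ω ∣ Nat.card (MulAction.orbit (↥P) a)) →
    ∃ g : G, orderOf g = p ∧ ∀ ω : Ω, g • ω ≠ ω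

/-- TWOORB: if `|Ω| = 2p²` and every `P`-orbit has size divisible by `p²`, then a nonempty
`P`-invariant set `S` with nonempty complement is a single orbit of size `p²`, and so is its
complement.  (The orbit of `a ∈ S` lies in `S`, the orbit of `b ∉ S` lies in `Sᶜ`, both have at
least `p²` elements.) -/
def TwoOrb : Prop :=
  ∀ (G : Type u) (Ω : Type v) [Group G] [MulAction G Ω] [Finite Ω] (p : ℕ) (P : Subgroup G),
    Nat.card Ω = 2 * p ^ 2 → 0 < p →
    (∀ a : Ω, p ^ 2 ∣ Nat.card (MulAction.orbit (↥P) a)) →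
    ∀ S : Set Ω, S.Nonempty → Sᶜ.Nonempty → (∀ g ∈ P, ∀ s ∈ S, g • s ∈ S) →
      (∀ a ∈ S, ∀ b ∈ S, ∃ g ∈ P, g • a = b) ∧
      (∀ a, a ∉ S → ∀ b, b ∉ S → ∃ g ∈ P, g • a = b) ∧
      (∀ a : Ω, Nat.card (MulAction.orbit (↥P) a) = p ^ 2)

/-- CENT: a nontrivial finite `p`-subgroup has a central element of order `p`. -/
def Cent : Prop :=
  ∀ (G : Type u) [Group G] [Finite G] (p : ℕ) [Fact p.Prime] (P : Subgroup G),
    IsPGroup p P → P ≠ ⊥ → ∃ z ∈ P, orderOf z = p ∧ ∀ h ∈ P, h * z = z * h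

/-- GLUE (the use of 2-closure): `K` fixes `S` pointwise, `z ∈ K`, `g` preserves `S`, and `g`
maps every `b ∉ S` into `K b`.  Then the permutation "`g` on `S`, `z` outside `S`" is induced by
an element of `G`.  (`σ a = if a ∈ S then g • a else z • a` is a permutation: `z` and `z⁻¹`
preserve `Sᶜ` because they fix `S` pointwise.  Pairs inside `S`: use `g`; pairs outside `S`: use
`z`; `a ∈ S`, `b ∉ S`: with `b' = g⁻¹ • (z • b) ∉ S` and `g • b' = κ' • b'`, the element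
`g * (κ'⁻¹ * z)` maps `a ↦ g • a` and `b ↦ z • b`.) -/
def Glue : Prop :=
  ∀ (G : Type u) (Ω : Type v) [Group G] [MulAction G Ω],
    (∀ σ : Equiv.Perm Ω, (∀ a b : Ω, ∃ g : G, σ a = g • a ∧ σ b = g • b) →
      ∃ g : G, ∀ a : Ω, σ a = g • a) →
    ∀ (S : Set Ω) (K : Subgroup G) (g z : G), (∀ κ ∈ K, ∀ s ∈ S, κ • s = s) → z ∈ K →
      (∀ s ∈ S, g • s ∈ S) → (∀ s ∈ S, g⁻¹ • s ∈ S) → (∀ b, b ∉ S → ∃ κ ∈ K, g • b = κ • b) →
      ∃ h : G, (∀ a ∈ S, h • a = g • a) ∧ (∀ b, b ∉ S → h • b = z • b)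

/-- LIDX: if the `P`-orbit of `b` has `p²` elements and some element of `K ≤ P` moves `b`, then
`L = P_b ⊔ K` has index `1` or `p` in `P`.  (`T = stabilizer G b ⊓ P` has `T.relIndex P = p²`
by orbit-stabilizer; `T.relIndex L * L.relIndex P = p²` and `T.relIndex L ≠ 1` as `L ≰ T`.) -/
def LIdx : Prop :=
  ∀ (G : Type u) (Ω : Type v) [Group G] [Finite G] [MulAction G Ω] (p : ℕ) [Fact p.Prime]
    (P K : Subgroup G), K ≤ P →
    ∀ b : Ω, Nat.card (MulAction.orbit (↥P) b) = p ^ 2 → (∃ z ∈ K, z • b ≠ b) →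
      ((MulAction.stabilizer G b ⊓ P) ⊔ K).relIndex P ∣ p

/-- LNORMAL: a subgroup of index `1` or `p` of a finite `p`-group `P` is normalized by `P`.
(`Subgroup.normal_of_index_eq_minFac_card` in `↥P`.) -/
def LNormal : Prop :=
  ∀ (G : Type u) [Group G] [Finite G] (p : ℕ) [Fact p.Prime] (P L : Subgroup G),
    IsPGroup p P → L ≤ P → L.relIndex P ∣ p → ∀ h ∈ P, ∀ l ∈ L, h * l * h⁻¹ ∈ L

/-- LMEM: if `K ≤ P` and `L = P_b ⊔ K` are normalized by `P`, every `g ∈ L` maps every point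
`t • b` (`t ∈ P`) into its `K`-orbit.  (First `x • b ∈ K b` for `x ∈ L`, by induction on the
join, keeping `x ∈ P`; then `g • (t • b) = t • ((t⁻¹ g t) • b) = t • (κ • b) = (t κ t⁻¹) • (t • b)`.) -/
def LMem : Prop :=
  ∀ (G : Type u) (Ω : Type v) [Group G] [MulAction G Ω] (P K : Subgroup G) (b : Ω),
    K ≤ P → (∀ h ∈ P, ∀ κ ∈ K, h * κ * h⁻¹ ∈ K) →
    (∀ h ∈ P, ∀ l ∈ (MulAction.stabilizer G b ⊓ P) ⊔ K,
      h * l * h⁻¹ ∈ (MulAction.stabilizer G b ⊓ P) ⊔ K) →
    ∀ g ∈ (MulAction.stabilizer G b ⊓ P) ⊔ K, ∀ t ∈ P, ∃ κ ∈ K, g • (t • b) = κ • (t • b)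

/-- RELCENT: in a finite `p`-group `H` with normal subgroups `K < L` there is `g ∈ L ∖ K` with
`g ^ p ∈ K` and `[g, H] ⊆ K`.  (In `H ⧸ K` the nontrivial normal subgroup `L / K` meets the
centre nontrivially; take an element of order `p` there and lift it to `L`.) -/
def RelCent : Prop :=
  ∀ (H : Type u) [Group H] [Finite H] (p : ℕ) [Fact p.Prime], IsPGroup p H →
    ∀ (K L : Subgroup H), K.Normal → L.Normal → K < L →
      ∃ g ∈ L, g ∉ K ∧ g ^ p ∈ K ∧ ∀ h : H, g * h * g⁻¹ * h⁻¹ ∈ K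

/-- KNE: if `K ≤ L ≤ P`, `K` fixes a point `a` whose `P`-orbit has `p²` elements and
`L.relIndex P ∣ p`, then `K ≠ L`.  (Otherwise `L ≤ T = stabilizer G a ⊓ P` and
`p² = T.relIndex P ∣ L.relIndex P ∣ p`.) -/
def KNe : Prop :=
  ∀ (G : Type u) (Ω : Type v) [Group G] [Finite G] [MulAction G Ω] (p : ℕ) [Fact p.Prime]
    (P K L : Subgroup G) (a : Ω), K ≤ L → L ≤ P → (∀ κ ∈ K, κ • a = a) →
    Nat.card (MulAction.orbit (↥P) a) = p ^ 2 → L.relIndex P ∣ p → K ≠ L

/-- FPF: `P` transitive on the `P`-invariant set `S`, `K` = pointwise stabilizer of `S` in `P`.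
If `g ∈ P ∖ K` and `[g, P] ⊆ K` then `g` has no fixed point on `S`.  (If `g • a = a` then
`g • (t • a) = (g t g⁻¹ t⁻¹) • (t • (g • a)) = t • a` for `t ∈ P`, so `g` fixes `S` pointwise.) -/
def Fpf : Prop :=
  ∀ (G : Type u) (Ω : Type v) [Group G] [MulAction G Ω] (P K : Subgroup G) (S : Set Ω),
    (∀ a ∈ S, ∀ b ∈ S, ∃ t ∈ P, t • a = b) → (∀ κ ∈ K, ∀ s ∈ S, κ • s = s) →
    (∀ h ∈ P, (∀ s ∈ S, h • s = s) → h ∈ K) → (∀ t ∈ P, ∀ s ∈ S, t • s ∈ S) →
    ∀ g ∈ P, g ∉ K → (∀ h ∈ P, g * h * g⁻¹ * h⁻¹ ∈ K) → ∀ a ∈ S, g • a ≠ a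

/-- ORDP: if `h` acts as `g` on `S` and as `z` outside `S`, where `g` preserves `S`, `g ^ p`
fixes `S` pointwise, `z` preserves `Sᶜ`, `z ^ p = 1`, and `h` moves some point, then `h` has
order `p`.  (`h ^ j • a = g ^ j • a` on `S`, `h ^ j • b = z ^ j • b` off `S`; faithfulness gives
`h ^ p = 1`; `orderOf_eq_prime`.) -/
def OrdP : Prop :=
  ∀ (G : Type u) (Ω : Type v) [Group G] [MulAction G Ω] [FaithfulSMul G Ω] (p : ℕ) [Fact p.Prime]
    (S : Set Ω) (K : Subgroup G) (g z h : G),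
    (∀ κ ∈ K, ∀ s ∈ S, κ • s = s) → g ^ p ∈ K → z ^ p = 1 → (∀ s ∈ S, g • s ∈ S) →
    (∀ b, b ∉ S → z • b ∉ S) →
    (∀ a ∈ S, h • a = g • a) → (∀ b, b ∉ S → h • b = z • b) → (∃ ω : Ω, h • ω ≠ ω) →
    orderOf h = p

end Cfsg.Agent.Lib.Helper56.TPStmt
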