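import Mathlib
import Cfsg.Agent.Lib.Helper25.ACStmt
import Cfsg.Agent.Lib.Helper25.ACOddStmt

/-!
# S3911 / CYCODD (call by helper25), second seat

`p` odd, `P` a `p`-group with a unique subgroup `N` of order `p`: `P` is cyclic.  Strong induction
on `Nat.card P`: proper subgroups are cyclic by induction, then `CycStep`, `PAb`, `AbCyc`.
-/

set_option autoImplicit false

namespace Cfsg.Agent.Lib.Helper56.AOCYCODD

open Cfsg.Agent.Lib.Helper25.ACStmt Cfsg.Agent.Lib.Helper25.ACOddStmt

universe u

theorem main (hAb : AbCyc.{u}) (hStep : CycStep.{u}) (hP : PAb.{u}) : CycOdd.{u} := by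
  have key : ∀ (n : ℕ) (P : Type u) [Group P] [Finite P] (p : ℕ) [Fact p.Prime],
      Nat.card P = n → p ≠ 2 → IsPGroup p P →
      ∀ N : Subgroup P, Nat.card ↥N = p → (∀ x : P, orderOf x = p → x ∈ N) → IsCyclic P := by
    intro n
    induction n using Nat.strong_induction_on with
    | _ n ih =>
      intro P _ _ p _ hn hp2 hPG N hN hNall
      have hprop : ∀ H : Subgroup P, H ≠ ⊤ → IsCyclic ↥H := by
        intro H hH
        by_cases hbot : H = ⊥
        · subst hbot
          infer_instance
        · have hlt : Nat.card ↥H < n := by
            rw [← hn]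
            exact lt_of_le_of_ne (Subgroup.card_le_card_group H)
              (fun h => hH (Subgroup.eq_top_of_card_eq H h))
          have hHp : IsPGroup p ↥H := hPG.to_subgroup H
          obtain ⟨k, hk⟩ := IsPGroup.iff_card.mp hHp
          have hk0 : k ≠ 0 := by
            intro h0
            apply hbot
            apply Subgroup.eq_bot_of_card_eq
            rw [hk, h0, pow_zero]
          have hpd : p ∣ Nat.card ↥H := by
            rw [hk]
            exact dvd_pow_self p hk0
          obtain ⟨y, hy⟩ := exists_prime_orderOf_dvd_card' p hpd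
          have hyP : orderOf (y : P) = p := by
            rw [Subgroup.orderOf_coe]
            exact hy
          have hyN : (y : P) ∈ N := hNall _ hyP
          have hz : Subgroup.zpowers (y : P) = N := by
            apply Subgroup.eq_of_le_of_card_ge (Subgroup.zpowers_le.mpr hyN)
            rw [Nat.card_zpowers, hyP, hN]
          have hNH : N ≤ H := by
            rw [← hz]
            exact Subgroup.zpowers_le.mpr y.2
          refine ih (Nat.card ↥H) hlt ↥H p rfl hp2 hHp (N.subgroupOf H) ?_ ?_
          · rw [← hN]
            exact Nat.card_congr (Subgroup.subgroupOfEquivOfLe hNH).toEquiv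
          · intro x hx
            rw [Subgroup.mem_subgroupOf]
            exact hNall _ (by rw [Subgroup.orderOf_coe]; exact hx)
      have hcomm := hStep P p hp2 hPG N hN hNall hprop
      have hab := hP P p hp2 hPG N hN hNall hcomm
      exact hAb P p hPG hab N hN hNall
  intro P _ _ p _ hp2 hPG N hN hNall
  exact key (Nat.card P) P p rfl hp2 hPG N hN hNall

end Cfsg.Agent.Lib.Helper56.AOCYCODD
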