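import Cfsg.Prelude.Def_ChevG2
import Cfsg.Agent.Lib.Helper56.FastMat
import Cfsg.Agent.Lib.Helper56.P6048S
import Cfsg.Agent.H18.ChevMap

/-!
# The derived subgroup of `G₂(2)` is the group `P` of `P6048`

`iso_P`: for every field `F` with a surjective ring homomorphism from `ZMod 2`, the commutator
subgroup of `chevG2.group F` is isomorphic to the presented group `P` (of order 6048).
-/

set_option autoImplicit false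

namespace Cfsg.Agent.Lib.Helper56.G22

open Cfsg.Agent.Lib.Helper56.FastMat Cfsg.Agent.Lib.Helper56.TC Cfsg.Agent.Lib.Helper56.P6048
  Cfsg.Agent.Lib.Helper56.P6048S
open scoped MatrixGroups Matrix commutatorElement

/-- If `c` normalizes `H` then the commutator subgroup of `⟨H, c⟩` lies in `H`. -/
theorem comm_le {Γ : Type*} [Group Γ] (H : Subgroup Γ) (c : Γ)
    (hc : c ∈ Subgroup.normalizer (H : Set Γ)) :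
    ⁅H ⊔ Subgroup.zpowers c, H ⊔ Subgroup.zpowers c⁆ ≤ H := by
  have hT : H ⊔ Subgroup.zpowers c ≤ Subgroup.normalizer (H : Set Γ) :=
    sup_le Subgroup.le_normalizer ((Subgroup.zpowers_le).mpr hc)
  let π : Subgroup.normalizer (H : Set Γ) →*
      Subgroup.normalizer (H : Set Γ) ⧸ H.subgroupOf (Subgroup.normalizer (H : Set Γ)) :=
    QuotientGroup.mk' (H.subgroupOf (Subgroup.normalizer (H : Set Γ)))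
  let cN : Subgroup.normalizer (H : Set Γ) := ⟨c, hc⟩
  have key : ∀ t ∈ H ⊔ Subgroup.zpowers c, ∀ ht : t ∈ Subgroup.normalizer (H : Set Γ),
      π ⟨t, ht⟩ ∈ Subgroup.zpowers (π cN) := by
    intro t ht
    rw [Subgroup.sup_eq_closure] at ht
    induction ht using Subgroup.closure_induction with
    | mem t h =>
      intro htN
      rcases h with h | h
      · have h1 : π ⟨t, htN⟩ = 1 :=
          (QuotientGroup.eq_one_iff _).mpr (Subgroup.mem_subgroupOf.mpr h)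
        rw [h1]; exact one_mem _
      · obtain ⟨k, rfl⟩ := Subgroup.mem_zpowers_iff.mp h
        have h1 : (⟨c ^ k, htN⟩ : Subgroup.normalizer (H : Set Γ)) = cN ^ k :=
          Subtype.ext (by simp [cN])
        rw [h1, map_zpow]; exact Subgroup.zpow_mem_zpowers _ _
    | one =>
      intro htN
      have h1 : (⟨1, htN⟩ : Subgroup.normalizer (H : Set Γ)) = 1 := rfl
      rw [h1, map_one]; exact one_mem _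
    | mul a b ha hb iha ihb =>
      intro htN
      have haN : a ∈ Subgroup.normalizer (H : Set Γ) :=
        hT (by rw [Subgroup.sup_eq_closure]; exact ha)
      have hbN : b ∈ Subgroup.normalizer (H : Set Γ) :=
        hT (by rw [Subgroup.sup_eq_closure]; exact hb)
      have h1 : (⟨a * b, htN⟩ : Subgroup.normalizer (H : Set Γ)) = ⟨a, haN⟩ * ⟨b, hbN⟩ := rfl
      rw [h1, map_mul]; exact mul_mem (iha haN) (ihb hbN)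
    | inv a ha iha =>
      intro htN
      have haN : a ∈ Subgroup.normalizer (H : Set Γ) :=
        hT (by rw [Subgroup.sup_eq_closure]; exact ha)
      have h1 : (⟨a⁻¹, htN⟩ : Subgroup.normalizer (H : Set Γ)) =
          (⟨a, haN⟩ : Subgroup.normalizer (H : Set Γ))⁻¹ := rfl
      rw [h1, map_inv]; exact inv_mem (iha haN)
  rw [Subgroup.commutator_le]
  intro g1 h1 g2 h2
  have h1N := hT h1
  have h2N := hT h2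
  obtain ⟨k1, e1⟩ := Subgroup.mem_zpowers_iff.mp (key g1 h1 h1N)
  obtain ⟨k2, e2⟩ := Subgroup.mem_zpowers_iff.mp (key g2 h2 h2N)
  have hcomm : π ((⟨g1, h1N⟩ : Subgroup.normalizer (H : Set Γ)) * ⟨g2, h2N⟩ *
      (⟨g1, h1N⟩ : Subgroup.normalizer (H : Set Γ))⁻¹ *
      (⟨g2, h2N⟩ : Subgroup.normalizer (H : Set Γ))⁻¹) = 1 := by
    have e1' : π ⟨g1, h1N⟩ = π cN ^ k1 := e1.symm
    have e2' : π ⟨g2, h2N⟩ = π cN ^ k2 := e2.symm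
    have hc2 : Commute (π cN ^ k1) (π cN ^ k2) := (Commute.refl (π cN)).zpow_zpow k1 k2
    simp only [map_mul, map_inv, e1', e2']
    rw [hc2.eq, mul_inv_cancel_right, mul_inv_cancel]
  exact Subgroup.mem_subgroupOf.mp ((QuotientGroup.eq_one_iff _).mp hcomm)

abbrev D := Cfsg.Lie.chevG2
abbrev I14 := D.Idx
abbrev G14 := GL I14 (ZMod 2)

/-- Literal matrices. -/
abbrev TM (L : List (List ℕ)) : Matrix I14 I14 (ZMod 2) := toMat D.rank D.nroots 2 L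

abbrev mul14 (A B : List (List ℕ)) : List (List ℕ) := mulL (D.rank + D.nroots) 2 A B

theorem TM_mul (A B : List (List ℕ)) : TM A * TM B = TM (mul14 A B) :=
  (toMat_mul D.rank D.nroots 2 A B).symm

abbrev id14 : List (List ℕ) := idL (D.rank + D.nroots)

theorem TM_one : TM id14 = 1 := toMat_one D.rank D.nroots 2

/-! ### The letters: `0, 1, 2` are the generators `a`, `b`, `b⁻¹` and `3 + r` is the root element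
`x_r(1)` -/

def LT : List (List (List ℕ)) := [[[1, 0, 0, 0, 0, 0, 0, 0, 0, 0, 0, 0, 0, 1], [0, 1, 0, 0, 0, 0, 0, 0, 0, 0, 0, 0, 0, 0], [0, 1, 1, 0, 0, 0, 0, 0, 0, 0, 0, 0, 0, 1], [0, 0, 0, 1, 0, 0, 0, 0, 1, 0, 0, 0, 0, 0], [0, 0, 0, 0, 1, 0, 0, 0, 0, 0, 1, 0, 0, 0], [0, 0, 0, 0, 0, 1, 0, 0, 0, 0, 0, 1, 0, 0], [0, 0, 0, 0, 0, 0, 1, 0, 0, 0, 0, 0, 0, 0], [0, 0, 0, 0, 0, 0, 0, 1, 0, 0, 0, 0, 1, 0], [0, 0, 0, 0, 0, 0, 0, 0, 1, 0, 0, 0, 0, 0], [0, 0, 0, 0, 0, 0, 0, 0, 0, 1, 0, 0, 0, 0], [0, 0, 0, 0, 0, 0, 0, 0, 0, 0, 1, 0, 0, 0], [0, 0, 0, 0, 0, 0, 0, 0, 0, 0, 0, 1, 0, 0], [0, 0, 0, 0, 0, 0, 0, 0, 0, 0, 0, 0, 1, 0], [0, 0, 0, 0, 0, 0, 0, 0, 0, 0, 0, 0, 0, 1]], [[0, 0, 1, 1, 1, 0, 0, 1, 1, 0, 1, 0, 1, 1], [1, 0, 1, 0, 1, 0, 0, 1, 0, 0, 1, 0, 1, 0], [0, 1, 1, 1, 0, 0, 0, 0, 1, 0, 0, 0, 0, 1], [1, 1, 1, 1,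 0, 0, 0, 1, 0, 0, 0, 0, 1, 0], [0, 1, 1, 1, 0, 1, 1, 0, 1, 0, 0, 1, 0, 1], [0, 0, 0, 0, 1, 0, 0, 0, 0, 0, 1, 0, 0, 0], [0, 1, 1, 1, 1, 0, 0, 0, 1, 1, 0, 0, 0, 1], [0, 1, 1, 0, 0, 0, 0, 0, 0, 0, 0, 0, 0, 1], [1, 0, 1, 0, 1, 1, 1, 0, 1, 1, 0, 1, 1, 1], [0, 1, 1, 0, 0, 1, 0, 0, 0, 0, 0, 1, 0, 1], [1, 0, 0, 1, 1, 0, 1, 0, 1, 0, 1, 1, 0, 1], [0, 1, 1, 0, 1, 0, 0, 0, 0, 1, 1, 0, 0, 1], [0, 1, 1, 0, 0, 0, 0, 1, 0, 0, 0, 0, 1, 1], [1, 0, 1, 1, 1, 1, 0, 0, 1, 1, 1, 1, 1, 0]], [[0, 0, 0, 1, 1, 0, 1, 0, 1, 1, 0, 1, 1, 1], [1, 0, 1, 0, 0, 1, 0, 1, 0, 0, 0, 0, 1, 0], [0, 1, 0, 1, 1, 1, 1, 1, 1, 1, 0, 1, 0, 1], [1, 1, 1, 1, 0, 0, 0, 1, 0, 0, 0, 0, 1, 0], [0, 0, 1, 0, 0, 1, 1, 1, 0, 0, 0, 1, 0, 0], [1, 1, 1, 0, 1, 1, 0, 0, 0, 0, 1, 0, 0, 0], [0, 0, 1, 0, 1, 0, 0, 1, 0, 1, 0, 0, 0, 0], [0, 1, 1, 0, 0, 1, 0, 1, 0,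 1, 0, 1, 0, 1], [1, 1, 0, 1, 0, 0, 0, 0, 0, 0, 0, 0, 1, 0], [0, 0, 0, 0, 0, 1, 0, 1, 0, 0, 0, 1, 0, 0], [0, 0, 1, 0, 0, 0, 1, 1, 0, 0, 0, 1, 0, 0], [1, 1, 1, 0, 1, 1, 0, 1, 0, 1, 1, 0, 0, 0], [0, 1, 1, 0, 0, 1, 0, 0, 0, 1, 0, 1, 1, 1], [1, 1, 1, 1, 1, 0, 1, 1, 1, 1, 0, 1, 1, 1]], [[1, 0, 0, 0, 0, 0, 0, 0, 0, 0, 0, 0, 0, 1], [0, 1, 0, 0, 0, 0, 0, 0, 0, 0, 0, 0, 0, 0], [0, 1, 1, 0, 0, 0, 0, 0, 0, 0, 0, 0, 0, 1], [0, 0, 0, 1, 0, 0, 0, 0, 1, 0, 0, 0, 0, 0], [0, 0, 0, 0, 1, 0, 0, 0, 0, 0, 1, 0, 0, 0], [0, 0, 0, 0, 0, 1, 0, 0, 0, 0, 0, 1, 0, 0], [0, 0, 0, 0, 0, 0, 1, 0, 0, 0, 0, 0, 0, 0], [0, 0, 0, 0, 0, 0, 0, 1, 0, 0, 0, 0, 1, 0], [0, 0, 0, 0, 0, 0, 0, 0, 1, 0, 0, 0, 0, 0], [0, 0, 0, 0, 0, 0, 0, 0, 0, 1, 0, 0, 0, 0], [0, 0, 0, 0, 0, 0, 0, 0, 0, 0, 1, 0, 0, 0], [0, 0, 0, 0, 0, 0, 0, 0, 0, 0, 0, 1, 0, 0],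 [0, 0, 0, 0, 0, 0, 0, 0, 0, 0, 0, 0, 1, 0], [0, 0, 0, 0, 0, 0, 0, 0, 0, 0, 0, 0, 0, 1]], [[1, 0, 0, 0, 0, 0, 0, 0, 0, 0, 0, 0, 1, 0], [0, 1, 0, 0, 0, 0, 0, 0, 0, 0, 0, 0, 1, 0], [0, 0, 1, 0, 0, 0, 0, 1, 0, 0, 0, 0, 0, 0], [1, 1, 0, 1, 0, 0, 0, 0, 0, 0, 0, 0, 1, 0], [0, 0, 0, 0, 1, 0, 0, 0, 0, 1, 0, 0, 0, 0], [0, 0, 0, 0, 0, 1, 0, 0, 0, 0, 0, 0, 0, 0], [0, 0, 0, 0, 0, 0, 1, 0, 0, 0, 0, 1, 0, 0], [0, 0, 0, 0, 0, 0, 0, 1, 0, 0, 0, 0, 0, 0], [0, 0, 0, 0, 0, 0, 0, 0, 1, 0, 0, 0, 0, 1], [0, 0, 0, 0, 0, 0, 0, 0, 0, 1, 0, 0, 0, 0], [0, 0, 0, 0, 0, 0, 0, 0, 0, 0, 1, 0, 0, 0], [0, 0, 0, 0, 0, 0, 0, 0, 0, 0, 0, 1, 0, 0], [0, 0, 0, 0, 0, 0, 0, 0, 0, 0, 0, 0, 1, 0], [0, 0, 0, 0, 0, 0, 0, 0, 0, 0, 0, 0, 0, 1]], [[1, 0, 0, 0, 0, 0, 0, 0, 0, 0, 0, 0, 0, 0], [0, 1, 0, 0, 0, 0, 0, 0, 0, 0, 0, 1, 0, 0], [0, 0, 1, 0,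 0, 1, 0, 0, 0, 1, 0, 0, 1, 0], [0, 0, 0, 1, 0, 0, 1, 0, 0, 0, 1, 0, 0, 1], [1, 0, 0, 0, 1, 0, 0, 0, 0, 0, 0, 1, 0, 0], [0, 0, 0, 0, 0, 1, 0, 0, 0, 0, 0, 0, 1, 0], [0, 0, 0, 0, 0, 0, 1, 0, 0, 0, 0, 0, 0, 1], [0, 0, 0, 0, 0, 0, 0, 1, 0, 0, 0, 0, 0, 0], [0, 0, 0, 0, 0, 0, 0, 0, 1, 0, 0, 0, 0, 0], [0, 0, 0, 0, 0, 0, 0, 0, 0, 1, 0, 0, 1, 0], [0, 0, 0, 0, 0, 0, 0, 0, 0, 0, 1, 0, 0, 1], [0, 0, 0, 0, 0, 0, 0, 0, 0, 0, 0, 1, 0, 0], [0, 0, 0, 0, 0, 0, 0, 0, 0, 0, 0, 0, 1, 0], [0, 0, 0, 0, 0, 0, 0, 0, 0, 0, 0, 0, 0, 1]], [[1, 0, 0, 0, 0, 0, 0, 0, 0, 0, 1, 0, 0, 0], [0, 1, 0, 0, 0, 0, 0, 0, 0, 0, 1, 0, 0, 0], [0, 0, 1, 0, 1, 0, 1, 0, 1, 0, 0, 0, 0, 0], [0, 0, 0, 1, 0, 0, 0, 0, 0, 0, 0, 0, 0, 0], [0, 0, 0, 0, 1, 0, 0, 0, 1, 0, 0, 0, 0, 0], [1, 1, 0, 0, 0, 1, 0, 0, 0, 0, 1, 0, 0, 0], [0, 0, 0, 0, 0, 0, 1, 0, 1,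 0, 0, 0, 0, 0], [0, 0, 0, 0, 0, 0, 0, 1, 0, 1, 0, 1, 0, 1], [0, 0, 0, 0, 0, 0, 0, 0, 1, 0, 0, 0, 0, 0], [0, 0, 0, 0, 0, 0, 0, 0, 0, 1, 0, 0, 0, 1], [0, 0, 0, 0, 0, 0, 0, 0, 0, 0, 1, 0, 0, 0], [0, 0, 0, 0, 0, 0, 0, 0, 0, 0, 0, 1, 0, 1], [0, 0, 0, 0, 0, 0, 0, 0, 0, 0, 0, 0, 1, 0], [0, 0, 0, 0, 0, 0, 0, 0, 0, 0, 0, 0, 0, 1]], [[1, 0, 0, 0, 0, 0, 0, 0, 0, 1, 0, 0, 0, 0], [0, 1, 0, 0, 0, 0, 0, 0, 0, 0, 0, 0, 0, 0], [0, 0, 1, 0, 0, 0, 0, 0, 0, 0, 0, 0, 0, 0], [0, 0, 0, 1, 1, 1, 0, 1, 0, 0, 0, 0, 0, 0], [0, 0, 0, 0, 1, 0, 0, 1, 0, 0, 0, 0, 0, 0], [0, 0, 0, 0, 0, 1, 0, 1, 0, 0, 0, 0, 0, 0], [0, 1, 0, 0, 0, 0, 1, 0, 0, 1, 0, 0, 0, 0], [0, 0, 0, 0, 0, 0, 0, 1, 0, 0, 0, 0, 0, 0], [0, 0, 0, 0, 0, 0, 0, 0, 1, 0, 1, 1, 1, 0], [0, 0, 0, 0, 0, 0, 0, 0, 0, 1, 0, 0, 0, 0], [0, 0, 0, 0, 0, 0, 0, 0, 0, 0, 1, 0, 1, 0],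 [0, 0, 0, 0, 0, 0, 0, 0, 0, 0, 0, 1, 1, 0], [0, 0, 0, 0, 0, 0, 0, 0, 0, 0, 0, 0, 1, 0], [0, 0, 0, 0, 0, 0, 0, 0, 0, 0, 0, 0, 0, 1]], [[1, 0, 0, 0, 0, 0, 0, 0, 0, 0, 0, 0, 0, 0], [0, 1, 0, 0, 0, 0, 0, 0, 1, 0, 0, 0, 0, 0], [0, 0, 1, 1, 0, 0, 0, 0, 0, 0, 0, 0, 0, 0], [0, 0, 0, 1, 0, 0, 0, 0, 0, 0, 0, 0, 0, 0], [0, 0, 0, 0, 1, 0, 0, 0, 0, 0, 0, 0, 0, 0], [0, 0, 0, 0, 0, 1, 1, 0, 0, 0, 0, 0, 0, 0], [0, 0, 0, 0, 0, 0, 1, 0, 0, 0, 0, 0, 0, 0], [1, 0, 0, 0, 0, 0, 0, 1, 1, 0, 0, 0, 0, 0], [0, 0, 0, 0, 0, 0, 0, 0, 1, 0, 0, 0, 0, 0], [0, 0, 0, 0, 0, 0, 0, 0, 0, 1, 1, 0, 0, 0], [0, 0, 0, 0, 0, 0, 0, 0, 0, 0, 1, 0, 0, 0], [0, 0, 0, 0, 0, 0, 0, 0, 0, 0, 0, 1, 0, 0], [0, 0, 0, 0, 0, 0, 0, 0, 0, 0, 0, 0, 1, 1], [0, 0, 0, 0, 0, 0, 0, 0, 0, 0, 0, 0, 0, 1]], [[1, 0, 0, 0, 0, 0, 0, 0, 0, 0, 0, 0, 0, 0], [0, 1, 0, 0,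 0, 0, 0, 1, 0, 0, 0, 0, 0, 0], [0, 0, 1, 0, 0, 0, 0, 0, 0, 0, 0, 0, 0, 0], [0, 0, 1, 1, 0, 0, 0, 0, 0, 0, 0, 0, 0, 0], [0, 0, 0, 0, 1, 0, 0, 0, 0, 0, 0, 0, 0, 0], [0, 0, 0, 0, 0, 1, 0, 0, 0, 0, 0, 0, 0, 0], [0, 0, 0, 0, 0, 1, 1, 0, 0, 0, 0, 0, 0, 0], [0, 0, 0, 0, 0, 0, 0, 1, 0, 0, 0, 0, 0, 0], [1, 0, 0, 0, 0, 0, 0, 1, 1, 0, 0, 0, 0, 0], [0, 0, 0, 0, 0, 0, 0, 0, 0, 1, 0, 0, 0, 0], [0, 0, 0, 0, 0, 0, 0, 0, 0, 1, 1, 0, 0, 0], [0, 0, 0, 0, 0, 0, 0, 0, 0, 0, 0, 1, 0, 0], [0, 0, 0, 0, 0, 0, 0, 0, 0, 0, 0, 0, 1, 0], [0, 0, 0, 0, 0, 0, 0, 0, 0, 0, 0, 0, 1, 1]], [[1, 0, 0, 0, 0, 0, 1, 0, 0, 0, 0, 0, 0, 0], [0, 1, 0, 0, 0, 0, 0, 0, 0, 0, 0, 0, 0, 0], [0, 0, 1, 0, 0, 0, 0, 0, 0, 0, 0, 0, 0, 0], [0, 0, 0, 1, 0, 0, 0, 0, 0, 0, 0, 0, 0, 0], [0, 0, 0, 1, 1, 0, 0, 0, 0, 0, 0, 0, 0, 0], [0, 0, 0, 1, 0, 1, 0, 0, 0,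 0, 0, 0, 0, 0], [0, 0, 0, 0, 0, 0, 1, 0, 0, 0, 0, 0, 0, 0], [0, 0, 0, 1, 1, 1, 0, 1, 0, 0, 0, 0, 0, 0], [0, 0, 0, 0, 0, 0, 0, 0, 1, 0, 0, 0, 0, 0], [0, 1, 0, 0, 0, 0, 1, 0, 0, 1, 0, 0, 0, 0], [0, 0, 0, 0, 0, 0, 0, 0, 1, 0, 1, 0, 0, 0], [0, 0, 0, 0, 0, 0, 0, 0, 1, 0, 0, 1, 0, 0], [0, 0, 0, 0, 0, 0, 0, 0, 1, 0, 1, 1, 1, 0], [0, 0, 0, 0, 0, 0, 0, 0, 0, 0, 0, 0, 0, 1]], [[1, 0, 0, 0, 0, 1, 0, 0, 0, 0, 0, 0, 0, 0], [0, 1, 0, 0, 0, 1, 0, 0, 0, 0, 0, 0, 0, 0], [0, 0, 1, 0, 0, 0, 0, 0, 0, 0, 0, 0, 0, 0], [0, 0, 0, 1, 0, 0, 0, 0, 0, 0, 0, 0, 0, 0], [0, 0, 1, 0, 1, 0, 0, 0, 0, 0, 0, 0, 0, 0], [0, 0, 0, 0, 0, 1, 0, 0, 0, 0, 0, 0, 0, 0], [0, 0, 1, 0, 0, 0, 1, 0, 0, 0, 0, 0, 0, 0], [0, 0, 0, 0, 0, 0, 0, 1, 0, 0, 0, 0, 0, 0], [0, 0, 1, 0, 1, 0, 1, 0, 1, 0, 0, 0, 0, 0], [0, 0, 0, 0, 0, 0, 0, 1, 0, 1, 0, 0, 0, 0],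 [1, 1, 0, 0, 0, 1, 0, 0, 0, 0, 1, 0, 0, 0], [0, 0, 0, 0, 0, 0, 0, 1, 0, 0, 0, 1, 0, 0], [0, 0, 0, 0, 0, 0, 0, 0, 0, 0, 0, 0, 1, 0], [0, 0, 0, 0, 0, 0, 0, 1, 0, 1, 0, 1, 0, 1]], [[1, 0, 0, 0, 0, 0, 0, 0, 0, 0, 0, 0, 0, 0], [0, 1, 0, 0, 1, 0, 0, 0, 0, 0, 0, 0, 0, 0], [0, 0, 1, 0, 0, 0, 0, 0, 0, 0, 0, 0, 0, 0], [0, 0, 0, 1, 0, 0, 0, 0, 0, 0, 0, 0, 0, 0], [0, 0, 0, 0, 1, 0, 0, 0, 0, 0, 0, 0, 0, 0], [0, 0, 1, 0, 0, 1, 0, 0, 0, 0, 0, 0, 0, 0], [0, 0, 0, 1, 0, 0, 1, 0, 0, 0, 0, 0, 0, 0], [0, 0, 0, 0, 0, 0, 0, 1, 0, 0, 0, 0, 0, 0], [0, 0, 0, 0, 0, 0, 0, 0, 1, 0, 0, 0, 0, 0], [0, 0, 1, 0, 0, 0, 0, 0, 0, 1, 0, 0, 0, 0], [0, 0, 0, 1, 0, 0, 0, 0, 0, 0, 1, 0, 0, 0], [1, 0, 0, 0, 1, 0, 0, 0, 0, 0, 0, 1, 0, 0], [0, 0, 1, 0, 0, 1, 0, 0, 0, 1, 0, 0, 1, 0], [0, 0, 0, 1, 0, 0, 1, 0, 0, 0, 1, 0, 0, 1]], [[1, 0, 0, 1,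 0, 0, 0, 0, 0, 0, 0, 0, 0, 0], [0, 1, 0, 1, 0, 0, 0, 0, 0, 0, 0, 0, 0, 0], [0, 0, 1, 0, 0, 0, 0, 0, 0, 0, 0, 0, 0, 0], [0, 0, 0, 1, 0, 0, 0, 0, 0, 0, 0, 0, 0, 0], [0, 0, 0, 0, 1, 0, 0, 0, 0, 0, 0, 0, 0, 0], [0, 0, 0, 0, 0, 1, 0, 0, 0, 0, 0, 0, 0, 0], [0, 0, 0, 0, 0, 0, 1, 0, 0, 0, 0, 0, 0, 0], [0, 0, 1, 0, 0, 0, 0, 1, 0, 0, 0, 0, 0, 0], [0, 0, 0, 0, 0, 0, 0, 0, 1, 0, 0, 0, 0, 0], [0, 0, 0, 0, 1, 0, 0, 0, 0, 1, 0, 0, 0, 0], [0, 0, 0, 0, 0, 0, 0, 0, 0, 0, 1, 0, 0, 0], [0, 0, 0, 0, 0, 0, 1, 0, 0, 0, 0, 1, 0, 0], [1, 1, 0, 1, 0, 0, 0, 0, 0, 0, 0, 0, 1, 0], [0, 0, 0, 0, 0, 0, 0, 0, 1, 0, 0, 0, 0, 1]], [[1, 0, 1, 0, 0, 0, 0, 0, 0, 0, 0, 0, 0, 0], [0, 1, 0, 0, 0, 0, 0, 0, 0, 0, 0, 0, 0, 0], [0, 0, 1, 0, 0, 0, 0, 0, 0, 0, 0, 0, 0, 0], [0, 0, 0, 1, 0, 0, 0, 0, 0, 0, 0, 0, 0, 0], [0, 0, 0, 0, 1, 0, 0, 0, 0,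 0, 0, 0, 0, 0], [0, 0, 0, 0, 0, 1, 0, 0, 0, 0, 0, 0, 0, 0], [0, 0, 0, 0, 0, 0, 1, 0, 0, 0, 0, 0, 0, 0], [0, 0, 0, 0, 0, 0, 0, 1, 0, 0, 0, 0, 0, 0], [0, 0, 0, 1, 0, 0, 0, 0, 1, 0, 0, 0, 0, 0], [0, 0, 0, 0, 0, 0, 0, 0, 0, 1, 0, 0, 0, 0], [0, 0, 0, 0, 1, 0, 0, 0, 0, 0, 1, 0, 0, 0], [0, 0, 0, 0, 0, 1, 0, 0, 0, 0, 0, 1, 0, 0], [0, 0, 0, 0, 0, 0, 0, 1, 0, 0, 0, 0, 1, 0], [0, 1, 1, 0, 0, 0, 0, 0, 0, 0, 0, 0, 0, 1]]]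

def LL (a : ℕ) : List (List ℕ) := LT.getD a id14

/-- The inverse letter. -/
def iv (a : ℕ) : ℕ := if a = 1 then 2 else if a = 2 then 1 else a

theorem iv_iv (a : ℕ) : iv (iv a) = a := by
  unfold iv
  split_ifs <;> omega

set_option maxRecDepth 100000 in
theorem LL_inv_lt : allBelow (fun a => decide (mul14 (LL a) (LL (iv a)) = id14)) 15 = true := by
  decide +kernel

theorem id_sq : mul14 id14 id14 = id14 := by decide +kernel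

theorem LL_inv (a : ℕ) : mul14 (LL a) (LL (iv a)) = id14 := by
  by_cases h : a < 15
  · exact of_decide_eq_true (allBelow_spec _ _ LL_inv_lt a h)
  · have h1 : LL a = id14 := List.getD_eq_default _ _ (Nat.le_of_not_lt h)
    have h2 : iv a = a := by
      unfold iv
      rw [if_neg (by omega), if_neg (by omega)]
    rw [h2, h1]
    exact id_sq

/-- The letters as units. -/
def gs (a : ℕ) : G14 :=
  ⟨TM (LL a), TM (LL (iv a)), by rw [TM_mul, LL_inv, TM_one], by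
    have h := LL_inv (iv a)
    rw [iv_iv] at h
    rw [TM_mul, h, TM_one]⟩

theorem gs_val (a : ℕ) : ((gs a : G14) : Matrix I14 I14 (ZMod 2)) = TM (LL a) := rfl

theorem gs_inv (a : ℕ) : (gs a)⁻¹ = gs (iv a) := by
  apply Units.ext
  rfl

theorem lett_gs (a : ℕ) (h : a < 3) : lett (gs 0) (gs 1) a = gs a := by
  interval_cases a
  · rfl
  · rfl
  · exact gs_inv 1

/-- The rows of a word. -/
def wp (w : List ℕ) : List (List ℕ) := w.foldl (fun acc a => mul14 acc (LL a)) id14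

theorem walk (w : List ℕ) : ∀ (L : List (List ℕ)) (g : G14),
    (g : Matrix I14 I14 (ZMod 2)) = TM L →
      ((g * (w.map gs).prod : G14) : Matrix I14 I14 (ZMod 2)) =
        TM (w.foldl (fun acc a => mul14 acc (LL a)) L) := by
  induction w with
  | nil =>
    intro L g hg
    simpa using hg
  | cons a w ih =>
    intro L g hg
    rw [List.map_cons, List.prod_cons, ← mul_assoc]
    exact ih (mul14 L (LL a)) (g * gs a) (by rw [Units.val_mul, hg, gs_val, TM_mul])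

theorem prod_val (w : List ℕ) :
    (((w.map gs).prod : G14) : Matrix I14 I14 (ZMod 2)) = TM (wp w) := by
  have h := walk w id14 1 (by rw [Units.val_one, TM_one])
  rwa [one_mul] at h

theorem prod_eq (w1 w2 : List ℕ) (h : wp w1 = wp w2) : (w1.map gs).prod = (w2.map gs).prod := by
  apply Units.ext
  rw [prod_val, prod_val, h]

/-! ### The presented group inside `GL(14, 2)` -/

set_option maxRecDepth 100000 in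
theorem rel_chk : ∀ w ∈ relsL, wp w = wp [] := by decide +kernel

theorem rel_lt : ∀ w ∈ relsL, ∀ a ∈ w, a < 3 := by decide

theorem map_lett_gs (w : List ℕ) (hw : ∀ a ∈ w, a < 3) :
    w.map (lett (gs 0) (gs 1)) = w.map gs :=
  List.map_congr_left fun a ha => lett_gs a (hw a ha)

theorem rel2 : ∀ w ∈ relsL, (w.map (lett (gs 0) (gs 1))).prod = 1 := by
  intro w hw
  rw [map_lett_gs w (rel_lt w hw), prod_eq w [] (rel_chk w hw)]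
  rfl

/-- The presented group inside `GL(14, 2)`. -/
noncomputable def φ2 : P →* G14 := hom (gs 0) (gs 1) rel2

theorem φ2_x : φ2 x = gs 0 := hom_x _ _ rel2
theorem φ2_y : φ2 y = gs 1 := hom_y _ _ rel2

theorem φ2_word (w : List ℕ) (hw : ∀ a ∈ w, a < 3) : φ2 ((w.map gl).prod) = (w.map gs).prod := by
  have h := map_word φ2 x y w
  rw [φ2_x, φ2_y, map_lett_gs w hw] at h
  exact h

theorem gs0_ne : gs 0 ≠ 1 := by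
  intro h
  have h1 : TM (LL 0) = TM id14 := by
    rw [TM_one, ← gs_val, h]
    rfl
  have h2 := normL_eq_of_toMat_eq D.rank D.nroots 2 _ _ h1
  revert h2
  decide +kernel

theorem φ2_inj : Function.Injective φ2 := by
  apply inj_of_ne
  rw [φ2_x]
  exact gs0_ne

/-! ### The root elements -/

set_option maxRecDepth 100000 in
theorem hx : ∀ r : Fin D.nroots, D.xMat (ZMod 2) r 1 = TM (LL (3 + r.val)) := by decide +kernel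

set_option maxRecDepth 100000 in
theorem hx0 : ∀ r : Fin D.nroots, D.xMat (ZMod 2) r 0 = 1 := by decide +kernel

theorem z01 : ∀ s : ZMod 2, s = 0 ∨ s = 1 := by decide

def RW : List (List ℕ) := [[0], [0, 1, 1, 1, 0, 1, 1, 1], [], [1, 0, 2, 0, 1, 1, 0, 2, 0, 1], [0, 2, 0, 1, 0, 1, 0, 1, 1, 0, 1, 0, 1, 0, 2], [2, 2, 0, 2, 0, 2, 0, 1, 0, 1, 0, 1, 1], [0, 1, 1, 1, 0], [0, 2, 0, 1, 0, 1, 1, 0, 1, 1, 1], [2, 0, 1, 1, 1, 0, 2, 0, 1, 1, 1, 0, 2], [1, 1, 1, 0, 1, 1, 0, 1, 1, 1, 0, 2, 0], [0, 2, 0, 1, 1, 0, 1, 1, 1, 0, 1, 0, 1, 0], [0, 2, 0, 1, 1, 1, 0, 1, 0]]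
def RK : List ℕ := [0, 0, 1, 1, 1, 0, 0, 1, 1, 1, 0, 0]

set_option maxRecDepth 100000 in
theorem root_chk : allBelow (fun r => decide (wp [3 + r] =
    wp (RW.getD r [] ++ (if RK.getD r 0 = 1 then [5] else [])))) 12 = true := by decide +kernel

theorem RW_lt : ∀ r < 12, ∀ a ∈ RW.getD r [], a < 3 := by decide

theorem root_dec (r : ℕ) (hr : r < 12) : ∃ p : P, ∃ k : ℕ, gs (3 + r) = φ2 p * gs 5 ^ k := by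
  have h := prod_eq _ _ (of_decide_eq_true (allBelow_spec _ _ root_chk r hr))
  rw [List.map_append, List.prod_append, ← φ2_word _ (RW_lt r hr)] at h
  refine ⟨((RW.getD r []).map gl).prod, (if RK.getD r 0 = 1 then 1 else 0), ?_⟩
  have h1 : ([3 + r].map gs).prod = gs (3 + r) := mul_one _
  rw [h1] at h
  rw [h]
  congr 1
  split_ifs
  · exact (mul_one _).trans (pow_one _).symm
  · exact (pow_zero _).symm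

theorem c_inv : (gs 5)⁻¹ = gs 5 := gs_inv 5

theorem c_sq : gs 5 * gs 5 = 1 := by
  have h := inv_mul_cancel (gs 5)
  rwa [c_inv] at h

def WA : List ℕ := [0]
def WB : List ℕ := [0, 1, 1, 1, 0, 2, 0, 1, 1, 1, 0]

set_option maxRecDepth 100000 in
theorem conj_chk : wp [5, 0, 5] = wp WA ∧ wp [5, 1, 5] = wp WB := by decide +kernel

theorem conj_x : gs 5 * φ2 x * (gs 5)⁻¹ ∈ φ2.range := by
  have h := prod_eq _ _ conj_chk.1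
  rw [← φ2_word WA (by decide)] at h
  refine ⟨(WA.map gl).prod, h.symm.trans ?_⟩
  rw [c_inv, φ2_x]
  show gs 5 * (gs 0 * (gs 5 * 1)) = gs 5 * gs 0 * gs 5
  rw [mul_one, mul_assoc]

theorem conj_y : gs 5 * φ2 y * (gs 5)⁻¹ ∈ φ2.range := by
  have h := prod_eq _ _ conj_chk.2
  rw [← φ2_word WB (by decide)] at h
  refine ⟨(WB.map gl).prod, h.symm.trans ?_⟩
  rw [c_inv, φ2_y]
  show gs 5 * (gs 1 * (gs 5 * 1)) = gs 5 * gs 1 * gs 5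
  rw [mul_one, mul_assoc]

theorem conj_mem2 (p : P) : gs 5 * φ2 p * (gs 5)⁻¹ ∈ φ2.range := by
  have hgen : ∀ j : Fin 2, (PresentedGroup.of j : P) ∈
      (φ2.range.comap (MulAut.conj (gs 5)).toMonoidHom).comap φ2 := by
    intro j
    fin_cases j
    · exact conj_x
    · exact conj_y
  exact PresentedGroup.generated_by rels _ hgen p

set_option maxRecDepth 100000 in
theorem gen_chk : wp [0] = wp [3] ∧ wp [1] = wp [3, 9, 12, 3, 11] := by decide +kernel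

theorem gs0_eq : gs 0 = gs 3 := by
  have h := prod_eq _ _ gen_chk.1
  simpa using h

theorem gs1_eq : gs 1 = gs 3 * gs 9 * gs 12 * gs 3 * gs 11 := by
  have h := prod_eq _ _ gen_chk.2
  simpa [mul_assoc] using h

/-! ### Passing to a field with two elements -/

section field

variable {F : Type*} [Field F] (f : ZMod 2 →+* F)

/-- The presented group inside `GL` over `F`. -/
noncomputable def φ : P →* GL I14 F := (Matrix.GeneralLinearGroup.map f).comp φ2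

theorem val_map (g : G14) :
    ((Matrix.GeneralLinearGroup.map f g : GL I14 F) : Matrix I14 I14 F) =
      (g : Matrix I14 I14 (ZMod 2)).map f := rfl

theorem map_inj : Function.Injective (Matrix.GeneralLinearGroup.map (n := I14) f) := by
  intro g h hgh
  apply Units.ext
  have h1 := congrArg (fun u : GL I14 F => (u : Matrix I14 I14 F)) hgh
  simp only [val_map] at h1
  exact Matrix.map_injective (RingHom.injective f) h1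

theorem φ_inj : Function.Injective (φ f) := (map_inj f).comp φ2_inj

/-- The outer involution. -/
noncomputable def cF : GL I14 F := Matrix.GeneralLinearGroup.map f (gs 5)

theorem cF_sq : cF f * cF f = 1 := by
  unfold cF
  rw [← map_mul, c_sq, map_one]

theorem cF_inv : (cF f)⁻¹ = cF f := inv_eq_of_mul_eq_one_left (cF_sq f)

theorem root_mem (r : Fin D.nroots) :
    Matrix.GeneralLinearGroup.map f (gs (3 + r.val)) ∈ D.group F := by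
  apply Subgroup.subset_closure
  refine ⟨r, f 1, ?_⟩
  rw [val_map, gs_val, ← hx r, Cfsg.Agent.H18.xMat_map]

theorem G_le (hf : Function.Surjective f) :
    D.group F ≤ (φ f).range ⊔ Subgroup.zpowers (cF f) := by
  unfold Cfsg.Lie.ChevalleyDatum.group
  rw [Subgroup.closure_le]
  rintro g ⟨r, t, hg⟩
  obtain ⟨s, rfl⟩ := hf t
  rcases z01 s with rfl | rfl
  · have h1 : g = 1 := by
      apply Units.ext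
      rw [hg, ← Cfsg.Agent.H18.xMat_map, hx0, Matrix.map_one f (map_zero f) (map_one f)]
      rfl
    rw [h1]
    exact one_mem _
  · obtain ⟨p, k, hpk⟩ := root_dec r.val r.isLt
    have h1 : g = Matrix.GeneralLinearGroup.map f (gs (3 + r.val)) := by
      apply Units.ext
      rw [hg, val_map, gs_val, ← hx r, Cfsg.Agent.H18.xMat_map]
    rw [h1, hpk, map_mul, map_pow]
    exact Subgroup.mul_mem_sup ⟨p, rfl⟩ (Subgroup.pow_mem _ (Subgroup.mem_zpowers _) _)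

theorem conj_mem (p : P) : cF f * φ f p * (cF f)⁻¹ ∈ (φ f).range := by
  obtain ⟨p', hp'⟩ := conj_mem2 p
  refine ⟨p', ?_⟩
  show Matrix.GeneralLinearGroup.map f (φ2 p') = _
  rw [hp']
  unfold cF φ
  rw [MonoidHom.comp_apply, ← map_inv, ← map_mul, ← map_mul]

theorem c_norm : cF f ∈ Subgroup.normalizer ((φ f).range : Set (GL I14 F)) := by
  rw [Subgroup.mem_normalizer_iff]
  intro h
  constructor
  · rintro ⟨p, rfl⟩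
    exact conj_mem f p
  · rintro ⟨p, hp⟩
    have h1 := conj_mem f p
    rw [hp, cF_inv] at h1
    have e : cF f * (cF f * h * cF f) * cF f = h := by
      simp only [mul_assoc, cF_sq, mul_one]
      rw [← mul_assoc, cF_sq, one_mul]
    rw [e] at h1
    exact h1

theorem H_le : (φ f).range ≤ D.group F := by
  rintro _ ⟨p, rfl⟩
  have hgen : ∀ j : Fin 2, (PresentedGroup.of j : P) ∈ (D.group F).comap (φ f) := by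
    intro j
    fin_cases j
    · show Matrix.GeneralLinearGroup.map f (φ2 x) ∈ D.group F
      rw [φ2_x, gs0_eq]
      exact root_mem f ⟨0, by decide⟩
    · show Matrix.GeneralLinearGroup.map f (φ2 y) ∈ D.group F
      rw [φ2_y, gs1_eq]
      simp only [map_mul]
      exact mul_mem (mul_mem (mul_mem (mul_mem (root_mem f ⟨0, by decide⟩) (root_mem f ⟨6, by decide⟩)) (root_mem f ⟨9, by decide⟩)) (root_mem f ⟨0, by decide⟩)) (root_mem f ⟨8, by decide⟩)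
  exact PresentedGroup.generated_by rels _ hgen p

theorem H_perf : (φ f).range ≤ ⁅D.group F, D.group F⁆ := by
  rintro _ ⟨p, rfl⟩
  have hgen : ∀ j : Fin 2, (PresentedGroup.of j : P) ∈ (⁅D.group F, D.group F⁆).comap (φ f) := by
    intro j
    fin_cases j
    · show φ f x ∈ ⁅D.group F, D.group F⁆
      have h := congrArg (φ f) x_comm
      rw [map_commutatorElement] at h
      rw [h]
      exact Subgroup.commutator_mem_commutator (H_le f ⟨_, rfl⟩) (H_le f ⟨_, rfl⟩)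
    · show φ f y ∈ ⁅D.group F, D.group F⁆
      have h := congrArg (φ f) y_comm
      rw [map_commutatorElement] at h
      rw [h]
      exact Subgroup.commutator_mem_commutator (H_le f ⟨_, rfl⟩) (H_le f ⟨_, rfl⟩)
  exact PresentedGroup.generated_by rels _ hgen p

theorem comm_eq (hf : Function.Surjective f) : ⁅D.group F, D.group F⁆ = (φ f).range :=
  le_antisymm ((Subgroup.commutator_mono (G_le f hf) (G_le f hf)).trans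
    (comm_le _ _ (c_norm f))) (H_perf f)

/-- The derived subgroup is the presented group. -/
theorem iso_P (hf : Function.Surjective f) : Nonempty (↥(commutator ↥(D.group F)) ≃* P) := by
  have hmap : (commutator ↥(D.group F)).map (D.group F).subtype = (φ f).range :=
    (Subgroup.map_subtype_commutator (D.group F)).trans (comm_eq f hf)
  exact ⟨((commutator ↥(D.group F)).equivMapOfInjective (D.group F).subtype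
    (Subgroup.subtype_injective _)).trans
    ((MulEquiv.subgroupCongr hmap).trans (MonoidHom.ofInjective (φ_inj f)).symm)⟩

end field

end Cfsg.Agent.Lib.Helper56.G22
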