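import Mathlib
import Cfsg.Agent.Lib.Helper23.HNStmt
import Cfsg.Agent.Lib.Helper87.FUSHStmt

/-!
# S1438 / FUSH, step A (sub-split by helper87): Frattini argument in the normal solvable `S`.
-/

set_option autoImplicit false

namespace Cfsg.Agent.Lib.Helper56.HNFUSHA

universe u

open Cfsg.Agent.Lib.Helper23.HNStmt Cfsg.Agent.Lib.Helper87.FUSHStmt

theorem main (hC : HallConj.{u}) : StepA.{u} := by
  intro X _ _ S H hSsolv hSn hHS hHall x hx m hm
  have hH'S : H.map (MulAut.conj m).toMonoidHom ≤ S := by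
    rintro _ ⟨h, hh, rfl⟩
    simp only [MulEquiv.coe_toMonoidHom, MulAut.conj_apply]
    exact hSn.conj_mem h (hHS hh) m
  have hcard : Nat.card H = Nat.card (H.map (MulAut.conj m).toMonoidHom) :=
    (Subgroup.card_map_of_injective (MulAut.conj m).injective).symm
  obtain ⟨s, hs, hsH⟩ := hC S H (H.map (MulAut.conj m).toMonoidHom) hSsolv hHS hH'S hcard hHall
  have key1 : ∀ h ∈ H, ∃ h' ∈ H, s * h' * s⁻¹ = m * h * m⁻¹ := by
    intro h hh
    have h1 : m * h * m⁻¹ ∈ H.map (MulAut.conj m).toMonoidHom := ⟨h, hh, by simp⟩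
    rw [hsH] at h1
    obtain ⟨h', hh', e⟩ := h1
    exact ⟨h', hh', by simpa using e⟩
  have key2 : ∀ h ∈ H, ∃ h' ∈ H, m * h' * m⁻¹ = s * h * s⁻¹ := by
    intro h hh
    have h1 : s * h * s⁻¹ ∈ H.map (MulAut.conj s).toMonoidHom := ⟨h, hh, by simp⟩
    rw [← hsH] at h1
    obtain ⟨h', hh', e⟩ := h1
    exact ⟨h', hh', by simpa using e⟩
  have hn₀ : s⁻¹ * m ∈ Subgroup.normalizer (H : Set X) := by
    rw [Subgroup.mem_normalizer_iff]
    intro h
    constructor
    · intro hh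
      obtain ⟨h', hh', e⟩ := key1 h hh
      have e1 : s⁻¹ * m * h * (s⁻¹ * m)⁻¹ = h' := by
        have e2 : s⁻¹ * m * h * (s⁻¹ * m)⁻¹ = s⁻¹ * (m * h * m⁻¹) * s := by group
        rw [e2, ← e]; group
      rw [e1]; exact hh'
    · intro hh
      obtain ⟨h', hh', e⟩ := key2 _ hh
      have e2 : m * h' * m⁻¹ = m * h * m⁻¹ := by rw [e]; group
      have e3 : h' = h := mul_left_cancel (mul_right_cancel e2)
      rw [← e3]; exact hh'
  refine ⟨s⁻¹ * m, hn₀, s, hs, ?_, by group⟩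
  exact (Subgroup.mem_normalizer_iff.mp hn₀ x).mp hx

end Cfsg.Agent.Lib.Helper56.HNFUSHA
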