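import Mathlib
import Cfsg.Agent.Lib.Helper40.HPStmt
import Cfsg.Agent.Lib.Helper56.EPNEGSQFIXB1
import Cfsg.Agent.Lib.Helper21.TPSUBPERP
import Cfsg.Agent.Lib.Helper48.TPORTHSUM
import Cfsg.Agent.Lib.Helper16.TPTSIN
import Cfsg.Agent.Lib.Helper11.TPCANCEL

/-!
# S5974 / NEGSQNOHYP (call by helper40)

`q ≡ 3 (mod 4)`, `m ≡ 2 (mod 4)`, `x * x = -1`: `x` stabilises no hyperbolic `m`-space.  An
invariant nondegenerate `W` of dimension `m` contains an invariant anisotropic plane `S`
(`plane_in`), `W = W' ⊥ S` with `W'` invariant nondegenerate of dimension `≡ 0 (mod 4)`, hence of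
plus type (`Helper56.EPNEGSQFIXB1.core`); if `W` were of plus type, so would `S` be (`Cancel`).
-/

set_option autoImplicit false

namespace Cfsg.Agent.Lib.Helper56.HPNEGSQNOHYP

open Module QuadraticMap
open Cfsg.Agent.Lib.Helper44.TPStmt Cfsg.Agent.Lib.Helper44.NegPairs

universe u

/-- an invariant anisotropic plane inside a nonzero invariant nondegenerate subspace -/
theorem plane_in (F : Type u) [Field F] [Fintype F] (hq : Fintype.card F % 4 = 3) (d : ℕ)
    (x : Matrix.GeneralLinearGroup (J d) F)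
    (hx : x ∈ Cfsg.isometryGroup F (Cfsg.quadFormPlus d F))
    (hx2 : (x : Matrix (J d) (J d) F) * (x : Matrix (J d) (J d) F) = -1)
    (Y : Submodule F (J d → F)) (hY : NDeg d F Y) (hSt : Stab (x : Matrix (J d) (J d) F) Y)
    (hne : Y ≠ ⊥) :
    ∃ S : Submodule F (J d → F), S ≤ Y ∧ Stab (x : Matrix (J d) (J d) F) S ∧ NDeg d F S ∧
      finrank F ↥S = 2 ∧ ∀ w ∈ S, Cfsg.quadFormPlus d F w = 0 → w = 0 := by
  classical
  obtain ⟨A, hAdef⟩ : ∃ A : (J d → F) →ₗ[F] (J d → F),
      A = Matrix.toLin' (x : Matrix (J d) (J d) F) := ⟨_, rfl⟩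
  have hAQ : ∀ u, plusQ d F (A u) = plusQ d F u := by
    intro u
    rw [hAdef, Matrix.toLin'_apply]
    exact hx u u
  have hAA : ∀ u, A (A u) = -u := by
    intro u
    rw [hAdef, ← Matrix.toLin'_mul_apply, hx2, Matrix.toLin'_apply, Matrix.neg_mulVec,
      Matrix.one_mulVec]
  have hpol : ∀ u w, polar (plusQ d F) (A u) (A w) = polar (plusQ d F) u w := by
    intro u w
    unfold polar
    rw [← map_add, hAQ, hAQ, hAQ]
  have hodd : Odd (Fintype.card F) := Nat.odd_iff.mpr (by omega)
  have h2 : (2 : F) ≠ 0 := Cfsg.Agent.Lib.Helper10.HypINVOL.two_ne_zero_of_odd hodd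
  have hnsq : ¬ IsSquare (-1 : F) := by
    rw [FiniteField.isSquare_neg_one_iff]
    omega
  have hBvAv : ∀ v, polar (plusQ d F) v (A v) = 0 := by
    intro v
    have h3 := hpol v (A v)
    rw [hAA, polar_neg_right, polar_comm] at h3
    have h4 : (2 : F) * polar (plusQ d F) v (A v) = 0 := by linear_combination -h3
    exact (mul_eq_zero.mp h4).resolve_left h2
  have hQpl : ∀ (v : J d → F) (a b : F),
      plusQ d F (a • v + b • A v) = (a * a + b * b) * plusQ d F v := by
    intro v a b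
    have e2 : plusQ d F (a • v + b • A v) = plusQ d F (a • v) + plusQ d F (b • A v)
        + polar (plusQ d F) (a • v) (b • A v) := QuadraticMap.map_add (plusQ d F) _ _
    have e3 : plusQ d F (a • v) = (a * a) • plusQ d F v := QuadraticMap.map_smul (plusQ d F) a v
    have e4 : plusQ d F (b • A v) = (b * b) • plusQ d F (A v) :=
      QuadraticMap.map_smul (plusQ d F) b (A v)
    have e5 : polar (plusQ d F) (a • v) (b • A v) = a • (b • polar (plusQ d F) v (A v)) := by
      rw [QuadraticMap.polar_smul_left, QuadraticMap.polar_smul_right]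
    rw [e2, e3, e4, e5, hAQ, hBvAv]
    simp only [smul_eq_mul, mul_zero, add_zero]
    ring
  have hsq : ∀ a b : F, a * a + b * b = 0 → a = 0 ∧ b = 0 := by
    intro a b hab
    have hb : b = 0 := by
      by_contra hb
      apply hnsq
      refine ⟨a / b, ?_⟩
      have h10 : a * a = -(b * b) := by linear_combination hab
      rw [div_mul_div_comm, h10, neg_div, div_self (mul_ne_zero hb hb)]
    refine ⟨?_, hb⟩
    rw [hb] at hab
    simpa using hab
  -- independence of `v`, `A v`
  have key : ∀ v : J d → F, v ≠ 0 → ∀ a b : F, a • v + b • A v = 0 → a = 0 ∧ b = 0 := by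
    intro v hv a b hs
    have hAs : a • A v - b • v = 0 := by
      have h5 := congrArg A hs
      rw [map_add, map_smul, map_smul, hAA, map_zero] at h5
      rw [← h5]
      module
    have h7 : (a * a + b * b) • v = 0 := by
      have h8 : (a * a + b * b) • v = a • (a • v + b • A v) - b • (a • A v - b • v) := by
        module
      rw [h8, hs, hAs, smul_zero, smul_zero, sub_zero]
    exact hsq a b ((smul_eq_zero.mp h7).resolve_right hv)
  -- the plane `⟨v, A v⟩`
  have hSmem : ∀ (v y : J d → F), y ∈ Submodule.span F (Set.range ![v, A v]) ↔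
      ∃ a b : F, a • v + b • A v = y := by
    intro v y
    rw [Submodule.mem_span_range_iff_exists_fun]
    constructor
    · rintro ⟨c, hc⟩
      refine ⟨c 0, c 1, ?_⟩
      rw [← hc, Fin.sum_univ_two]
      rfl
    · rintro ⟨a, b, hab⟩
      refine ⟨![a, b], ?_⟩
      rw [← hab, Fin.sum_univ_two]
      rfl
  have hSdim : ∀ v : J d → F, v ≠ 0 →
      finrank F ↥(Submodule.span F (Set.range ![v, A v])) = 2 := by
    intro v hv
    have hli : LinearIndependent F ![v, A v] := by
      rw [LinearIndependent.pair_iff]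
      intro s t hst
      exact key v hv s t hst
    rw [finrank_span_eq_card hli, Fintype.card_fin]
  have hSstab : ∀ v : J d → F,
      Stab (x : Matrix (J d) (J d) F) (Submodule.span F (Set.range ![v, A v])) := by
    intro v
    rintro _ ⟨y, hy, rfl⟩
    obtain ⟨a, b, rfl⟩ := (hSmem v y).mp hy
    rw [← hAdef, map_add, map_smul, map_smul, hAA, hSmem]
    refine ⟨-b, a, ?_⟩
    module
  have hSle : ∀ (v : J d → F) (Y : Submodule F (J d → F)), v ∈ Y → A v ∈ Y →
      Submodule.span F (Set.range ![v, A v]) ≤ Y := by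
    intro v Y hv hAv y hy
    obtain ⟨a, b, rfl⟩ := (hSmem v y).mp hy
    exact Y.add_mem (Y.smul_mem a hv) (Y.smul_mem b hAv)
  have hSnd : ∀ v : J d → F, plusQ d F v ≠ 0 →
      NDeg d F (Submodule.span F (Set.range ![v, A v])) := by
    intro v hQv y hy hy0
    obtain ⟨a, b, rfl⟩ := (hSmem v y).mp hy
    have hab : a * a + b * b ≠ 0 := by
      intro h
      obtain ⟨ha, hb⟩ := hsq a b h
      apply hy0
      rw [ha, hb, zero_smul, zero_smul, add_zero]
    have hself : polar (plusQ d F) (a • v + b • A v) (a • v + b • A v) ≠ 0 := by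
      have e : polar (plusQ d F) (a • v + b • A v) (a • v + b • A v)
          = 2 * ((a * a + b * b) * plusQ d F v) := by
        rw [← hQpl v a b]
        unfold polar
        have e1 : (a • v + b • A v) + (a • v + b • A v) = (2 : F) • (a • v + b • A v) := by
          module
        have e2 : plusQ d F ((2 : F) • (a • v + b • A v))
            = ((2 : F) * 2) • plusQ d F (a • v + b • A v) :=
          QuadraticMap.map_smul (plusQ d F) 2 _
        rw [e1, e2, smul_eq_mul]
        ring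
      rw [e]
      exact mul_ne_zero h2 (mul_ne_zero hab hQv)
    exact ⟨⟨_, hy, hself⟩, ⟨_, hy, hself⟩⟩
  have hSts : ∀ v : J d → F, plusQ d F v = 0 →
      TSub d F (Submodule.span F (Set.range ![v, A v])) := by
    intro v hQv y hy
    obtain ⟨a, b, rfl⟩ := (hSmem v y).mp hy
    show plusQ d F (a • v + b • A v) = 0
    rw [hQpl, hQv, mul_zero]
  -- a nonsingular vector in a nonzero nondegenerate subspace
  have hexQ : ∀ Y : Submodule F (J d → F), NDeg d F Y → Y ≠ ⊥ → ∃ v ∈ Y, plusQ d F v ≠ 0 := by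
    intro Y hY hne
    by_contra hcon
    push Not at hcon
    obtain ⟨w, hw, hw0⟩ := (Submodule.ne_bot_iff Y).mp hne
    obtain ⟨⟨y, hy, hyw⟩, _⟩ := hY w hw hw0
    apply hyw
    show polar (plusQ d F) y w = 0
    unfold polar
    rw [hcon _ (Y.add_mem hy hw), hcon y hy, hcon w hw]
    simp
  have hAst : ∀ Y : Submodule F (J d → F), Stab (x : Matrix (J d) (J d) F) Y →
      ∀ w ∈ Y, A w ∈ Y := by
    intro Y hY w hw
    rw [hAdef]
    exact hY (Submodule.mem_map_of_mem hw)
  obtain ⟨v, hvY, hQv⟩ := hexQ Y hY hne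
  have hv0 : v ≠ 0 := by
    intro h
    apply hQv
    rw [h]
    exact map_zero (plusQ d F)
  refine ⟨Submodule.span F (Set.range ![v, A v]), hSle v Y hvY (hAst Y hSt v hvY), hSstab v,
    hSnd v hQv, hSdim v hv0, ?_⟩
  intro w hw hQw
  obtain ⟨a, b, rfl⟩ := (hSmem v w).mp hw
  have h1 : plusQ d F (a • v + b • A v) = 0 := hQw
  rw [hQpl] at h1
  obtain ⟨ha, hb⟩ := hsq a b ((mul_eq_zero.mp h1).resolve_right hQv)
  rw [ha, hb, zero_smul, zero_smul, add_zero]

theorem main : Cfsg.Agent.Lib.Helper40.HPStmt.NegSqNoHyp.{u} := by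
  intro F _ _ hq d m hm x hx hx2 W hHyp hSt
  obtain ⟨hfr, hND, hPl⟩ := (Cfsg.Agent.Lib.Helper40.HPStmt.hypJ_iff d m W).mp hHyp
  have hPlus : Plus d F W := hPl
  have hWne : W ≠ ⊥ := by
    intro h
    rw [h, finrank_bot] at hfr
    omega
  obtain ⟨S, hSW, hSst, hSnd, hSdim, hani⟩ := plane_in F hq d x hx hx2 W hND hSt hWne
  obtain ⟨W', hW'le, hND', -, horth', hdim', hStab'⟩ :=
    Cfsg.Agent.Lib.Helper21.TPSUBPERP.main F d W S hND hSnd hSW
  have hSt' : Stab (x : Matrix (J d) (J d) F) W' := hStab' x hx hSt hSst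
  have hW'dim : finrank F ↥W' = m - 2 := by
    rw [hSdim, hfr] at hdim'
    omega
  have hm4 : m - 2 = 4 * ((m - 2) / 4) := by omega
  have hW'plus : Plus d F W' := Cfsg.Agent.Lib.Helper56.EPNEGSQFIXB1.core
    Cfsg.Agent.Lib.Helper21.TPSUBPERP.main Cfsg.Agent.Lib.Helper48.TPORTHSUM.main
    Cfsg.Agent.Lib.Helper16.TPTSIN.main F hq d x hx hx2 ((m - 2) / 4) W' hND' hSt'
    (hW'dim.trans hm4)
  have horth : ∀ u ∈ W', ∀ v ∈ S, polar (Cfsg.quadFormPlus d F) u v = 0 := by
    intro u hu v hv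
    rw [polar_comm]
    exact horth' v hv u hu
  obtain ⟨-, -, hdimsum⟩ := Cfsg.Agent.Lib.Helper48.TPORTHSUM.main F d W' S hND' hSnd horth
  have hEq : W' ⊔ S = W :=
    Submodule.eq_of_le_of_finrank_eq (sup_le hW'le hSW) (by rw [hdimsum, hW'dim, hSdim, hfr]; omega)
  have hSplus : Plus d F S :=
    Cfsg.Agent.Lib.Helper11.TPCANCEL.main F d W' S hND' hSnd horth (by rw [hEq]; exact hPlus)
      hW'plus
  obtain ⟨U, hU, hUts, hUd⟩ := hSplus
  have hU1 : 0 < finrank F ↥U := by rw [hSdim] at hUd; omega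
  obtain ⟨⟨w, hwU⟩, hw⟩ := Module.finrank_pos_iff_exists_ne_zero.mp hU1
  exact hw (Subtype.ext (hani w (hU hwU) (hUts w hwU)))

end Cfsg.Agent.Lib.Helper56.HPNEGSQNOHYP
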