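import Mathlib
import Cfsg.Agent.Lib.Helper26.J3Stmt
import Cfsg.Agent.Lib.Helper56.J3FRCore
import Cfsg.Agent.Lib.Helper56.J3FR2

/-! Piece FR3 of S3366 (helper26's call): uniqueness and existence of the normal form on `R`. -/

set_option autoImplicit false
universe u

namespace Cfsg.Agent.Lib.Helper56.J3FR3

open Cfsg.Agent.Lib.Helper26.J3Stmt Cfsg.Agent.Lib.Helper56.J3FRCore Cfsg.Agent.Lib.Helper56.J3FR2

variable {X : Type u} [Group X]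

theorem nf_eq (hH : Hyp X) (hZ : ZFacts X) {r1 r2 : X} (h1 : r1 ∈ R X) (h2 : r2 ∈ R X)
    (u : V) (c : ZMod 3) :
    iotaOf r1 r2 u * zOf r1 r2 ^ c.val =
      N r1 r2 (r1 * r2 * r1⁻¹ * r2⁻¹) (u 0).val (u 1).val ((u 0 * u 1).val + 2 * c.val) := by
  have H := heis hH hZ h1 h2
  have hz : zOf r1 r2 = (r1 * r2 * r1⁻¹ * r2⁻¹)⁻¹ := rfl
  rw [iota_eq, hz, inv_pow3 H.hw, ← N_w]

theorem inj (hH : Hyp X) (hZ : ZFacts X) {r1 r2 : X} (h1 : r1 ∈ R X) (h2 : r2 ∈ R X)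
    (hne : r1 * r2 ≠ r2 * r1) (u u' : V) (c c' : ZMod 3)
    (h : iotaOf r1 r2 u * zOf r1 r2 ^ c.val = iotaOf r1 r2 u' * zOf r1 r2 ^ c'.val) :
    u = u' ∧ c = c' := by
  have H := heis hH hZ h1 h2
  have hw1 : r1 * r2 * r1⁻¹ * r2⁻¹ ≠ 1 := by
    intro hw1
    apply hne
    calc r1 * r2 = (r1 * r2 * r1⁻¹ * r2⁻¹) * (r2 * r1) := by group
      _ = r2 * r1 := by rw [hw1, one_mul]
  rw [nf_eq hH hZ h1 h2, nf_eq hH hZ h1 h2] at h
  obtain ⟨hi, hj, hk⟩ := N_inj H hw1 h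
  simp only [ZMod.natCast_zmod_val] at hi hj
  push_cast at hk
  simp only [ZMod.natCast_zmod_val] at hk
  rw [hi, hj] at hk
  have key : ∀ p q r : ZMod 3, p + 2 * q = p + 2 * r → q = r := by decide
  refine ⟨?_, key _ _ _ hk⟩
  funext x
  fin_cases x
  · exact hi
  · exact hj

theorem main : FR3.{u} := by
  intro X _ hH hZ r1 h1 r2 h2 hne
  refine ⟨inj hH hZ h1 h2 hne, ?_⟩
  haveI : Finite X := hH.1
  have hzR : zOf r1 r2 ∈ R X :=
    inv_mem (mul_mem (mul_mem (mul_mem h1 h2) (inv_mem h1)) (inv_mem h2))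
  let Φ : V × ZMod 3 → ↥(R X) := fun p =>
    ⟨iotaOf r1 r2 p.1 * zOf r1 r2 ^ p.2.val, mul_mem (iota_mem h1 h2 p.1) (pow_mem hzR _)⟩
  have hinj : Function.Injective Φ := by
    intro p q hpq
    have h := congrArg Subtype.val hpq
    obtain ⟨e1, e2⟩ := inj hH hZ h1 h2 hne p.1 q.1 p.2 q.2 h
    exact Prod.ext e1 e2
  have hcard : Nat.card ↥(R X) ≤ Nat.card (V × ZMod 3) := by
    have e1 : Nat.card ↥(R X) = 27 := hH.2.2.1
    have e2 : Nat.card (V × ZMod 3) = 27 := by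
      rw [Nat.card_eq_fintype_card]; rfl
    rw [e1, e2]
  have hbij := hinj.bijective_of_nat_card_le hcard
  intro r hr
  obtain ⟨p, hp⟩ := hbij.2 ⟨r, hr⟩
  exact ⟨p.1, p.2, (congrArg Subtype.val hp).symm⟩

end Cfsg.Agent.Lib.Helper56.J3FR3
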