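import Mathlib
import Cfsg.Agent.Lib.Helper56.PEStmt

set_option autoImplicit false

namespace Cfsg.Agent.Lib.Helper56.PEFinal

open Equiv Equiv.Perm Cfsg.Agent.Lib.Helper56.PEStmt

theorem solv_map_iff {G : Type} [Group G] (K : Subgroup G) (φ : G ≃* G) :
    Group.IsSolvable ↥(K.map φ.toMonoidHom) → Group.IsSolvable ↥K := by
  intro h
  have e : ↥K ≃* ↥(K.map φ.toMonoidHom) := K.equivMapOfInjective φ.toMonoidHom φ.injective
  exact Group.isSolvable_of_isSolvable_injective (f := e.toMonoidHom) e.injective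

theorem good_conj {α : Type} {p : ℕ} {f g : Perm α} (κ : Perm α) (h : Good p f g) :
    Good p (κ * f * κ⁻¹) (κ * g * κ⁻¹) := by
  refine ⟨?_, ?_⟩
  · intro ⟨k, hk⟩
    apply h.1
    refine ⟨k, ?_⟩
    rw [← hk]
    have : κ * f * κ⁻¹ * (κ * g * κ⁻¹) = MulAut.conj κ (f * g) := by
      simp [MulAut.conj_apply, mul_assoc]
    rw [this]
    exact (orderOf_injective (MulAut.conj κ).toMonoidHom (MulAut.conj κ).injective (f * g)).symm
  · intro hs
    apply h.2
    have hmap : (Subgroup.closure ({f, g} : Set (Perm α))).map (MulAut.conj κ).toMonoidHom =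
        Subgroup.closure ({κ * f * κ⁻¹, κ * g * κ⁻¹} : Set (Perm α)) := by
      rw [MonoidHom.map_closure]
      congr 1
      simp [Set.image_pair, MulAut.conj_apply]
    rw [← hmap] at hs
    exact solv_map_iff _ _ hs

theorem good_swap {α : Type} {p : ℕ} {f g : Perm α} (h : Good p f g) : Good p g f := by
  refine ⟨?_, ?_⟩
  · intro ⟨k, hk⟩
    apply h.1
    refine ⟨k, ?_⟩
    rw [← hk]
    have : g * f = MulAut.conj g (f * g) := by
      simp [MulAut.conj_apply, mul_assoc]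
    rw [this]
    exact (orderOf_injective (MulAut.conj g).toMonoidHom (MulAut.conj g).injective (f * g)).symm
  · have : ({g, f} : Set (Perm α)) = {f, g} := Set.pair_comm g f
    rw [this]
    exact h.2

/-- symmetry of the existence statement -/
theorem good_symm {α : Type} {p : ℕ} {σ τ : Perm α} (g : Perm α) (h : Good p τ (g * σ * g⁻¹)) :
    Good p σ (g⁻¹ * τ * g⁻¹⁻¹) := by
  have h1 := good_conj g⁻¹ h
  have h2 := good_swap h1
  have e : g⁻¹ * (g * σ * g⁻¹) * g⁻¹⁻¹ = σ := by group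
  rw [e] at h2
  exact h2

/-- parity fix from an odd element commuting with `τ` -/
theorem parfix_right {α : Type} [DecidableEq α] [Fintype α] {p : ℕ} {σ τ : Perm α}
    (h : ∃ g : Perm α, Good p σ (g * τ * g⁻¹))
    (hκ : ∃ κ : Perm α, Perm.sign κ = -1 ∧ κ * τ = τ * κ) :
    ∃ g : Perm α, Perm.sign g = 1 ∧ Good p σ (g * τ * g⁻¹) := by
  obtain ⟨g, hg⟩ := h
  obtain ⟨κ, hκs, hκc⟩ := hκ
  rcases Int.units_eq_one_or (Perm.sign g) with h1 | h1
  · exact ⟨g, h1, hg⟩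
  · refine ⟨g * κ, by simp [h1, hκs], ?_⟩
    have e : g * κ * τ * (g * κ)⁻¹ = g * τ * g⁻¹ := by
      have : κ * τ * κ⁻¹ = τ := by rw [hκc]; group
      calc g * κ * τ * (g * κ)⁻¹ = g * (κ * τ * κ⁻¹) * g⁻¹ := by group
        _ = g * τ * g⁻¹ := by rw [this]
    rw [e]; exact hg

/-- parity fix from an odd element commuting with `σ` -/
theorem parfix_left {α : Type} [DecidableEq α] [Fintype α] {p : ℕ} {σ τ : Perm α}
    (h : ∃ g : Perm α, Good p σ (g * τ * g⁻¹))
    (hκ : ∃ κ : Perm α, Perm.sign κ = -1 ∧ κ * σ = σ * κ) :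
    ∃ g : Perm α, Perm.sign g = 1 ∧ Good p σ (g * τ * g⁻¹) := by
  obtain ⟨g, hg⟩ := h
  obtain ⟨κ, hκs, hκc⟩ := hκ
  rcases Int.units_eq_one_or (Perm.sign g) with h1 | h1
  · exact ⟨g, h1, hg⟩
  · refine ⟨κ * g, by simp [h1, hκs], ?_⟩
    have h2 := good_conj κ hg
    have e1 : κ * σ * κ⁻¹ = σ := by rw [hκc]; group
    have e2 : κ * (g * τ * g⁻¹) * κ⁻¹ = κ * g * τ * (κ * g)⁻¹ := by group
    rw [e1, e2] at h2
    exact h2

theorem parts_pow {α : Type} [DecidableEq α] [Fintype α] {p : ℕ} (hp : p.Prime) {σ : Perm α}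
    (hσ : ∃ k : ℕ, orderOf σ = p ^ k) : ∀ q ∈ σ.cycleType, ∃ i, 1 ≤ i ∧ q = p ^ i := by
  obtain ⟨k, hk⟩ := hσ
  intro q hq
  have h1 : q ∣ p ^ k := hk ▸ dvd_of_mem_cycleType hq
  obtain ⟨i, _, rfl⟩ := (Nat.dvd_prime_pow hp).mp h1
  refine ⟨i, ?_, rfl⟩
  have h2 := two_le_of_mem_cycleType hq
  by_contra hi
  have : i = 0 := by omega
  subst this
  simp at h2

theorem exists_max_part {α : Type} [DecidableEq α] [Fintype α] {σ : Perm α} (hσ1 : σ ≠ 1) :
    ∃ R ∈ σ.cycleType, ∀ q ∈ σ.cycleType, q ≤ R := by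
  have hne : σ.cycleType.toFinset.Nonempty := by
    rw [Finset.nonempty_iff_ne_empty]
    intro h
    exact hσ1 (cycleType_eq_zero.mp (Multiset.toFinset_eq_empty.mp h))
  exact ⟨σ.cycleType.toFinset.max' hne, Multiset.mem_toFinset.mp (Finset.max'_mem _ _),
    fun q hq => Finset.le_max' _ _ (Multiset.mem_toFinset.mpr hq)⟩

theorem exists_point {α : Type} [DecidableEq α] [Fintype α] {σ : Perm α} {R : ℕ}
    (hR : R ∈ σ.cycleType) : ∃ x, (σ.cycleOf x).support.card = R := by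
  rw [cycleType_def] at hR
  obtain ⟨c, hc, rfl⟩ := Multiset.mem_map.mp hR
  have hc' : c ∈ σ.cycleFactorsFinset := hc
  have hcyc := (mem_cycleFactorsFinset_iff.mp hc').1
  obtain ⟨x, hx⟩ := hcyc.nonempty_support
  exact ⟨x, by rw [← cycle_is_cycleOf hx hc']; rfl⟩

theorem not_nodup_of_all_eq {m : Multiset ℕ} (h : ∀ q ∈ m, q = 3) (hc : 2 ≤ Multiset.card m) :
    ¬ m.Nodup := by
  intro hn
  have h1 : m = Multiset.replicate (Multiset.card m) 3 := Multiset.eq_replicate_card.mpr h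
  rw [h1] at hn
  have := Multiset.nodup_iff_count_le_one.mp hn 3
  rw [Multiset.count_replicate_self] at this
  omega

theorem eq_single {m : Multiset ℕ} (h : ∀ q ∈ m, q = 3) (h0 : m ≠ 0)
    (hc : ¬ 2 ≤ Multiset.card m) : m = {3} := by
  have h1 : m = Multiset.replicate (Multiset.card m) 3 := Multiset.eq_replicate_card.mpr h
  have hc1 : Multiset.card m = 1 := by
    have : Multiset.card m ≠ 0 := fun h => h0 (Multiset.card_eq_zero.mp h)
    omega
  rw [h1, hc1]; rfl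

theorem perm_main (hC1 : Case1) (hC2A : Case2A) (hC2B : Case2B) (hC3 : Case3) (hOC : OddCent)
    (hOC3 : OddCent3) {n : ℕ} (hn : 5 ≤ n) (p : ℕ) (hp : p.Prime) (hp3 : 3 ≤ p)
    (σ τ : Perm (Fin n)) (hσ1 : σ ≠ 1) (hτ1 : τ ≠ 1) (hσ : ∃ k : ℕ, orderOf σ = p ^ k)
    (hτ : ∃ k : ℕ, orderOf τ = p ^ k) :
    ∃ g : Perm (Fin n), Perm.sign g = 1 ∧ Good p σ (g * τ * g⁻¹) := by
  have hp2 : p ≠ 2 := by omega
  have hpσ := parts_pow hp hσ
  have hpτ := parts_pow hp hτ
  obtain ⟨R, hR, hRmax⟩ := exists_max_part hσ1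
  obtain ⟨S, hS, hSmax⟩ := exists_max_part hτ1
  obtain ⟨r, hr1, rfl⟩ := hpσ R hR
  obtain ⟨s, hs1, rfl⟩ := hpτ S hS
  obtain ⟨x, hx⟩ := exists_point hR
  obtain ⟨z, hz⟩ := exists_point hS
  have hp1 : 1 < p := hp.one_lt
  have hσi : ∀ q ∈ σ.cycleType, ∃ i, 1 ≤ i ∧ i ≤ r ∧ q = p ^ i := by
    intro q hq
    obtain ⟨i, hi1, rfl⟩ := hpσ q hq
    exact ⟨i, hi1, (Nat.pow_le_pow_iff_right hp1).mp (hRmax _ hq), rfl⟩
  have hτi : ∀ q ∈ τ.cycleType, ∃ i, 1 ≤ i ∧ i ≤ s ∧ q = p ^ i := by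
    intro q hq
    obtain ⟨i, hi1, rfl⟩ := hpτ q hq
    exact ⟨i, hi1, (Nat.pow_le_pow_iff_right hp1).mp (hSmax _ hq), rfl⟩
  have hcardn : Fintype.card (Fin n) = n := Fintype.card_fin n
  rcases lt_trichotomy r s with hrs | hrs | hrs
  · obtain ⟨a, rfl⟩ : ∃ a, s = a + 1 := ⟨s - 1, by omega⟩
    obtain ⟨g, hg⟩ := hC3 p hp hp2 τ σ z a hz hσ1 (fun q hq => by
      obtain ⟨i, hi1, hir, rfl⟩ := hσi q hq
      exact ⟨i, hi1, by omega, rfl⟩)
    have h4 : ∃ g' : Perm (Fin n), Good p σ (g' * τ * g'⁻¹) := ⟨g⁻¹, good_symm g hg⟩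
    refine parfix_left h4 (hOC3 p hp hp3 σ a (fun q hq => by
      obtain ⟨i, hi1, hir, rfl⟩ := hσi q hq
      exact ⟨i, by omega, rfl⟩) ?_)
    rw [← hz]; exact Finset.card_le_univ _
  · subst hrs
    by_cases h5 : 5 ≤ p ^ r
    · exact hC1 p hp hp2 σ τ x z (p ^ r) h5 (dvd_pow_self p (by omega))
        (Odd.pow (hp.odd_of_ne_two hp2)) hx hz
    · have hp3' : p = 3 := by
        by_contra hne
        have h5p : 5 ≤ p := by
          rcases Nat.lt_or_ge p 5 with h | h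
          · exfalso
            have h4 : p = 4 := by omega
            subst h4
            exact absurd hp (by decide)
          · exact h
        have h6 : p ^ 1 ≤ p ^ r := Nat.pow_le_pow_right (by omega) hr1
        rw [pow_one] at h6
        omega
      subst hp3'
      have hr : r = 1 := by
        by_contra hne
        have : 3 ^ 2 ≤ 3 ^ r := Nat.pow_le_pow_right (by norm_num) (by omega)
        omega
      subst hr
      have hσ3 : ∀ q ∈ σ.cycleType, q = 3 := by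
        intro q hq
        obtain ⟨i, hi1, hir, rfl⟩ := hσi q hq
        have : i = 1 := by omega
        subst this; rfl
      have hτ3 : ∀ q ∈ τ.cycleType, q = 3 := by
        intro q hq
        obtain ⟨i, hi1, hir, rfl⟩ := hτi q hq
        have : i = 1 := by omega
        subst this; rfl
      by_cases ha : 2 ≤ Multiset.card σ.cycleType
      · exact parfix_left (hC2A σ τ hτ1 hσ3 hτ3 ha) (hOC σ (Or.inl (not_nodup_of_all_eq hσ3 ha)))
      · by_cases hb : 2 ≤ Multiset.card τ.cycleType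
        · obtain ⟨g, hg⟩ := hC2A τ σ hσ1 hτ3 hσ3 hb
          exact parfix_right ⟨g⁻¹, good_symm g hg⟩
            (hOC τ (Or.inl (not_nodup_of_all_eq hτ3 hb)))
        · have hσc : σ.cycleType = {3} :=
            eq_single hσ3 (fun h => hσ1 (cycleType_eq_zero.mp h)) ha
          have hτc : τ.cycleType = {3} :=
            eq_single hτ3 (fun h => hτ1 (cycleType_eq_zero.mp h)) hb
          refine parfix_right (hC2B σ τ (by rw [hcardn]; exact hn) hσc hτc) (hOC τ (Or.inr ?_))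
          rw [hτc, hcardn]
          simp only [Multiset.sum_singleton]
          omega
  · obtain ⟨a, rfl⟩ : ∃ a, r = a + 1 := ⟨r - 1, by omega⟩
    have h3 := hC3 p hp hp2 σ τ x a hx hτ1 (fun q hq => by
      obtain ⟨i, hi1, his, rfl⟩ := hτi q hq
      exact ⟨i, hi1, by omega, rfl⟩)
    refine parfix_right h3 (hOC3 p hp hp3 τ a (fun q hq => by
      obtain ⟨i, hi1, his, rfl⟩ := hτi q hq
      exact ⟨i, by omega, rfl⟩) ?_)
    rw [← hx]; exact Finset.card_le_univ _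

theorem final (hC1 : Case1) (hC2A : Case2A) (hC2B : Case2B) (hC3 : Case3) (hOC : OddCent)
    (hOC3 : OddCent3) (n : ℕ) (hn : 5 ≤ n) (p : ℕ) (hp : p.Prime) (hp3 : 3 ≤ p)
    (u w : alternatingGroup (Fin n)) (hu : u ≠ 1) (hw : w ≠ 1)
    (hu' : ∃ k : ℕ, orderOf u = p ^ k) (hw' : ∃ k : ℕ, orderOf w = p ^ k) :
    ∃ g : alternatingGroup (Fin n), (¬ ∃ k : ℕ, orderOf (u * (g * w * g⁻¹)) = p ^ k) ∧
      ¬ Group.IsSolvable ↥(Subgroup.closure
        ({u, g * w * g⁻¹} : Set (alternatingGroup (Fin n)))) := by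
  have hσ1 : (u : Perm (Fin n)) ≠ 1 := fun h => hu (Subtype.ext h)
  have hτ1 : (w : Perm (Fin n)) ≠ 1 := fun h => hw (Subtype.ext h)
  have hσ : ∃ k : ℕ, orderOf (u : Perm (Fin n)) = p ^ k := by
    obtain ⟨k, hk⟩ := hu'
    exact ⟨k, by rw [Subgroup.orderOf_coe]; exact hk⟩
  have hτ : ∃ k : ℕ, orderOf (w : Perm (Fin n)) = p ^ k := by
    obtain ⟨k, hk⟩ := hw'
    exact ⟨k, by rw [Subgroup.orderOf_coe]; exact hk⟩
  obtain ⟨g, hgs, hg1, hg2⟩ := perm_main hC1 hC2A hC2B hC3 hOC hOC3 hn p hp hp3 u w hσ1 hτ1 hσ hτ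
  refine ⟨⟨g, mem_alternatingGroup.mpr hgs⟩, ?_, ?_⟩
  · intro ⟨k, hk⟩
    apply hg1
    refine ⟨k, ?_⟩
    rw [← hk, ← Subgroup.orderOf_coe]
    rfl
  · intro hs
    apply hg2
    have hmap : (Subgroup.closure ({u, (⟨g, mem_alternatingGroup.mpr hgs⟩ :
        alternatingGroup (Fin n)) * w * (⟨g, mem_alternatingGroup.mpr hgs⟩ :
        alternatingGroup (Fin n))⁻¹} : Set (alternatingGroup (Fin n)))).map
        (alternatingGroup (Fin n)).subtype =
        Subgroup.closure ({(u : Perm (Fin n)), g * w * g⁻¹} : Set (Perm (Fin n))) := by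
      rw [MonoidHom.map_closure]
      congr 1
      simp [Set.image_pair]
    rw [← hmap]
    exact Group.isSolvable_of_surjective
      (f := ((Subgroup.closure ({u, (⟨g, mem_alternatingGroup.mpr hgs⟩ :
        alternatingGroup (Fin n)) * w * (⟨g, mem_alternatingGroup.mpr hgs⟩ :
        alternatingGroup (Fin n))⁻¹} : Set (alternatingGroup (Fin n)))).equivMapOfInjective
        (alternatingGroup (Fin n)).subtype (Subgroup.subtype_injective _)).toMonoidHom)
      (MulEquiv.surjective _)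

end Cfsg.Agent.Lib.Helper56.PEFinal
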