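import Mathlib
import Cfsg.Agent.Lib.Helper56.PEStmt

set_option autoImplicit false

namespace Cfsg.Agent.Lib.Helper56.PEK3

open Equiv Equiv.Perm Cfsg.Agent.Lib.Helper56.PEStmt

theorem rot_val {n : ℕ} (i : Fin n) :
    ((finRotate n i : Fin n) : ℕ) = if i.val + 1 = n then 0 else i.val + 1 := by
  obtain ⟨m, rfl⟩ : ∃ m, n = m + 1 := ⟨n - 1, by have := i.isLt; omega⟩
  rw [coe_finRotate]
  by_cases h : i = Fin.last m
  · subst h; simp
  · have h' : i.val ≠ m := fun h' => h (Fin.ext h')
    have h'' : ¬ (i.val + 1 = m + 1) := by omega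
    rw [if_neg h, if_neg h'']

theorem via_cycleType {α β : Type} [Fintype α] [DecidableEq α] [Fintype β] [DecidableEq β]
    (e : Perm α) (ι : α ↪ β) : (e.viaEmbedding ι).cycleType = e.cycleType := by
  classical
  unfold viaEmbedding
  convert cycleType_extendDomain (Equiv.ofInjective ι.1 ι.2) (g := e)

theorem via_inv {α β : Type} (e : Perm α) (ι : α ↪ β) :
    (e.viaEmbedding ι)⁻¹ = e⁻¹.viaEmbedding ι := by
  rw [← viaEmbeddingHom_apply, ← viaEmbeddingHom_apply, map_inv]

set_option maxHeartbeats 4000000 in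
theorem main (hCyc : CycPts) (hBM : BM) (hFix : FixCert) (hRNS : RNS) : K3 := by
  intro β _ _ p hp c hc hfull S q μ' hS5 hpS hSR h3S hq3 hqS hμ' hsum
  classical
  obtain ⟨hcR, hinj, -⟩ := hCyc c hc hfull
  obtain ⟨M, hM⟩ := hSR
  obtain ⟨d, hd⟩ := hqS
  have hM3 : 3 ≤ M := by
    by_contra h
    have : M ≤ 2 := by omega
    nlinarith
  have hd1 : 1 ≤ d := by
    rcases Nat.eq_zero_or_pos d with h | h
    · subst h; omega
    · exact h
  obtain ⟨x₀, -⟩ := hc
  set R := Fintype.card β with hR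
  let X : ℕ → β := fun i => (c ^ i) x₀
  have hXs : ∀ i, c (X i) = X (i + 1) := fun i => by
    show c ((c ^ i) x₀) = (c ^ (i + 1)) x₀
    rw [pow_succ', Perm.mul_apply]
  have hXpow : ∀ k i, (c ^ k) (X i) = X (k + i) := fun k i => by
    show (c ^ k) ((c ^ i) x₀) = (c ^ (k + i)) x₀
    rw [pow_add, Perm.mul_apply]
  have hXR : X R = X 0 := by
    show (c ^ R) x₀ = (c ^ 0) x₀
    rw [hcR]; simp
  have hXinj : ∀ i j, i < R → j < R → X i = X j → i = j :=
    fun i j hi hj h => hinj x₀ i j hi hj h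
  set Mq := M * d with hMq
  have hRq : R = q * Mq := by rw [hM, hd, hMq]; ring
  have hMq3 : 3 ≤ Mq := by nlinarith
  have hι₁lt : ∀ i : Fin S, i.val * M < R := fun i => by
    rw [hM]; exact Nat.mul_lt_mul_of_pos_right i.isLt (by omega)
  let ι₁ : Fin S ↪ β := ⟨fun i => X (i.val * M), fun i j h => by
    have := hXinj _ _ (hι₁lt i) (hι₁lt j) h
    exact Fin.ext (Nat.eq_of_mul_eq_mul_right (by omega) this)⟩
  have hι₁ : ∀ i : Fin S, ι₁ i = X (i.val * M) := fun _ => rfl
  let e : ℕ → ℕ := fun j => if j = 0 then 1 else if j = 1 then 2 else 1 + j * Mq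
  have he0 : e 0 = 1 := rfl
  have he1 : e 1 = 2 := rfl
  have hebig : ∀ j, 2 ≤ j → e j = 1 + j * Mq := fun j hj => by
    simp only [e]; rw [if_neg (by omega), if_neg (by omega)]
  have hjM : ∀ j, 2 ≤ j → 6 ≤ j * Mq := fun j hj => by nlinarith
  have helt : ∀ j, j < q → e j + 1 < R := by
    intro j hj
    rcases Nat.lt_or_ge j 2 with h2 | h2
    · have hR15 : 15 ≤ R := by rw [hM]; nlinarith
      interval_cases j
      · rw [he0]; omega
      · rw [he1]; omega
    · rw [hebig j h2, hRq]
      have : j * Mq + Mq ≤ q * Mq := by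
        have : (j + 1) * Mq ≤ q * Mq := Nat.mul_le_mul_right _ (by omega)
        linarith [Nat.succ_mul j Mq]
      omega
  have heinj : ∀ i j, i < q → j < q → e i = e j → i = j := by
    intro i j hi hj h
    rcases Nat.lt_or_ge i 2 with hi2 | hi2 <;> rcases Nat.lt_or_ge j 2 with hj2 | hj2
    · have hi01 : i = 0 ∨ i = 1 := by omega
      have hj01 : j = 0 ∨ j = 1 := by omega
      rcases hi01 with rfl | rfl <;> rcases hj01 with rfl | rfl
      · rfl
      · rw [he0, he1] at h; omega
      · rw [he0, he1] at h; omega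
      · rfl
    · rw [hebig j hj2] at h
      have := hjM j hj2
      interval_cases i
      · rw [he0] at h; omega
      · rw [he1] at h; omega
    · rw [hebig i hi2] at h
      have := hjM i hi2
      interval_cases j
      · rw [he0] at h; omega
      · rw [he1] at h; omega
    · rw [hebig i hi2, hebig j hj2] at h
      exact Nat.eq_of_mul_eq_mul_right (by omega) (by omega : i * Mq = j * Mq)
  let ι₂ : Fin q ↪ β := ⟨fun j => X (e j.val), fun i j h => by
    have := hXinj _ _ (by have := helt i.val i.isLt; omega) (by have := helt j.val j.isLt; omega) h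
    exact Fin.ext (heinj _ _ i.isLt j.isLt this)⟩
  have hι₂ : ∀ j : Fin q, ι₂ j = X (e j.val) := fun _ => rfl
  have hdisj : ∀ (i : Fin S) (j : Fin q), ι₁ i ≠ ι₂ j := by
    intro i j h
    rw [hι₁, hι₂] at h
    have h' := hXinj _ _ (hι₁lt i) (by have := helt j.val j.isLt; omega) h
    rcases Nat.lt_or_ge j.val 2 with hj2 | hj2
    · have hiM : i.val * M = 0 ∨ 3 ≤ i.val * M := by
        rcases Nat.eq_zero_or_pos i.val with h0 | h0
        · left; rw [h0]; simp
        · right; nlinarith
      have hj01 : j.val = 0 ∨ j.val = 1 := by omega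
      rcases hj01 with h0 | h1
      · rw [h0, he0] at h'; omega
      · rw [h1, he1] at h'; omega
    · rw [hebig _ hj2] at h'
      have h1 : M ∣ i.val * M := dvd_mul_left _ _
      have h2 : M ∣ j.val * Mq := by rw [hMq]; exact Dvd.dvd.mul_left (dvd_mul_right _ _) _
      have h3 : M ∣ 1 := by
        rw [h'] at h1
        exact (Nat.dvd_add_left h2).mp h1
      have := Nat.le_of_dvd (by norm_num) h3
      omega
  -- the special cycle from BM
  obtain ⟨g₁, -, hgood⟩ := hBM p hp (finRotate S) (isCycle_finRotate_of_le (by omega))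
    (support_finRotate_of_le (by omega)) (by rw [Fintype.card_fin]; exact hpS)
    (by rw [Fintype.card_fin]; exact hS5)
  set t₁' : Perm (Fin S) := g₁ * finRotate S * g₁⁻¹ with ht₁'
  set t₁ : Perm β := t₁'.viaEmbedding ι₁ with ht₁
  set t₂ : Perm β := (finRotate q).viaEmbedding ι₂ with ht₂
  have ht₁ι : ∀ i, t₁ (ι₁ i) = ι₁ (t₁' i) := fun i => viaEmbedding_apply _ _ _
  have ht₁off : ∀ y, y ∉ Set.range ι₁ → t₁ y = y := fun y hy =>
    viaEmbedding_apply_of_notMem _ _ _ hy
  have ht₂ι : ∀ j, t₂ (ι₂ j) = ι₂ (finRotate q j) := fun j => viaEmbedding_apply _ _ _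
  have ht₂off : ∀ y, y ∉ Set.range ι₂ → t₂ y = y := fun y hy =>
    viaEmbedding_apply_of_notMem _ _ _ hy
  have ht₂inv : t₂⁻¹ = (finRotate q)⁻¹.viaEmbedding ι₂ := via_inv _ _
  have ht₂invι : ∀ j, t₂⁻¹ (ι₂ j) = ι₂ ((finRotate q)⁻¹ j) := fun j => by
    rw [ht₂inv]; exact viaEmbedding_apply _ _ _
  have ht₂invoff : ∀ y, y ∉ Set.range ι₂ → t₂⁻¹ y = y := fun y hy => by
    rw [ht₂inv]; exact viaEmbedding_apply_of_notMem _ _ _ hy
  have hr12 : ∀ (i : Fin S) , ι₁ i ∉ Set.range ι₂ := fun i ⟨j, hj⟩ => hdisj i j hj.symm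
  have hr21 : ∀ (j : Fin q) , ι₂ j ∉ Set.range ι₁ := fun j ⟨i, hi⟩ => hdisj i j hi
  -- the rest
  set D : Finset β := (Finset.univ.image ι₁) ∪ (Finset.univ.image ι₂) with hD
  have hDmem : ∀ y, y ∈ D ↔ y ∈ Set.range ι₁ ∨ y ∈ Set.range ι₂ := by
    intro y; simp [hD]
  have hDcard : D.card = S + q := by
    rw [hD, Finset.card_union_of_disjoint, Finset.card_image_of_injective _ ι₁.injective,
      Finset.card_image_of_injective _ ι₂.injective]
    · simp
    · rw [Finset.disjoint_left]
      intro y hy1 hy2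
      simp only [Finset.mem_image, Finset.mem_univ, true_and] at hy1 hy2
      obtain ⟨i, rfl⟩ := hy1
      obtain ⟨j, hj⟩ := hy2
      exact hdisj i j hj.symm
  have hcardc : Fintype.card {y // y ∉ D} = R - (S + q) := by
    rw [Fintype.card_subtype_compl, Fintype.card_coe, hDcard]
  obtain ⟨ρ', hρ'⟩ := (Equiv.Perm.exists_with_cycleType_iff (α := {y // y ∉ D}) (m := μ')).mpr
    ⟨by rw [hcardc]; omega, hμ'⟩
  set ρ : Perm β := ofSubtype ρ' with hρ
  have hρfix : ∀ y, y ∈ D → ρ y = y := fun y hy =>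
    ofSubtype_apply_of_not_mem ρ' (by simpa using hy)
  have hρD : ∀ y, ρ y ∈ D → y ∈ D := by
    intro y hy
    by_contra hny
    have : ρ y = (ρ' ⟨y, hny⟩ : β) := ofSubtype_apply_of_mem ρ' hny
    rw [this] at hy
    exact (ρ' ⟨y, hny⟩).2 hy
  have hρct : ρ.cycleType = μ' := by rw [hρ, cycleType_ofSubtype, hρ']
  -- disjointness
  have hd12 : Perm.Disjoint t₁ t₂ := by
    intro y
    by_cases hy : y ∈ Set.range ι₁
    · right
      obtain ⟨i, rfl⟩ := hy
      exact ht₂off _ (hr12 i)
    · left; exact ht₁off y hy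
  have hd12' : Perm.Disjoint t₁ t₂⁻¹ := hd12.inv_right
  have hd3 : Perm.Disjoint (t₁ * t₂) ρ := by
    intro y
    by_cases hy : y ∈ D
    · right; exact hρfix y hy
    · left
      rw [hDmem] at hy
      push Not at hy
      rw [Perm.mul_apply, ht₂off y hy.2, ht₁off y hy.1]
  have hd3' : Perm.Disjoint (t₁ * t₂⁻¹) ρ := by
    intro y
    by_cases hy : y ∈ D
    · right; exact hρfix y hy
    · left
      rw [hDmem] at hy
      push Not at hy
      rw [Perm.mul_apply, ht₂invoff y hy.2, ht₁off y hy.1]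
  have hct1 : t₁.cycleType = {S} := by
    rw [ht₁, via_cycleType, ht₁', cycleType_conj, cycleType_finRotate_of_le (by omega)]
  have hct2 : t₂.cycleType = {q} := by
    rw [ht₂, via_cycleType, cycleType_finRotate_of_le (by omega)]
  have hctA : (t₁ * t₂ * ρ).cycleType = S ::ₘ q ::ₘ μ' := by
    rw [hd3.cycleType_mul, hd12.cycleType_mul, hct1, hct2, hρct]
    simp
  have hctB : (t₁ * t₂⁻¹ * ρ).cycleType = S ::ₘ q ::ₘ μ' := by
    rw [hd3'.cycleType_mul, hd12'.cycleType_mul, cycleType_inv, hct1, hct2, hρct]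
    simp
  -- equivariance for RNS
  have hcM : ∀ b : Fin S, (c ^ M) (ι₁ b) = ι₁ (finRotate S b) := by
    intro b
    rw [hι₁, hι₁, hXpow, rot_val]
    by_cases hb : b.val + 1 = S
    · rw [if_pos hb]
      have : M + b.val * M = R := by
        calc M + b.val * M = (b.val + 1) * M := by ring
          _ = S * M := by rw [hb]
          _ = R := hM.symm
      rw [this, hXR]; simp
    · rw [if_neg hb]; congr 1; ring
  have hNS : ∀ Y : Perm β, (∀ b, Y (ι₁ b) = ι₁ (t₁' b)) →
      ¬ Group.IsSolvable ↥(Subgroup.closure ({c, Y} : Set (Perm β))) := by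
    intro Y hY
    exact hRNS ι₁ ι₁.injective (finRotate S) t₁' (c ^ M) Y hcM hY hgood.2 _
      (pow_mem (Subgroup.subset_closure (by simp)) M) (Subgroup.subset_closure (by simp))
  have hYA : ∀ b, (t₁ * t₂ * ρ) (ι₁ b) = ι₁ (t₁' b) := by
    intro b
    rw [Perm.mul_apply, Perm.mul_apply, hρfix _ ((hDmem _).mpr (Or.inl ⟨b, rfl⟩)),
      ht₂off _ (hr12 b), ht₁ι]
  have hYB : ∀ b, (t₁ * t₂⁻¹ * ρ) (ι₁ b) = ι₁ (t₁' b) := by
    intro b
    rw [Perm.mul_apply, Perm.mul_apply, hρfix _ ((hDmem _).mpr (Or.inl ⟨b, rfl⟩)),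
      ht₂invoff _ (hr12 b), ht₁ι]
  -- arrows of the device cycle
  have hL1 : ∀ j : Fin q, c (ι₂ (finRotate q j)) ≠ ι₂ j := by
    intro j h
    rw [hι₂, hι₂, hXs, rot_val] at h
    by_cases hj : j.val + 1 = q
    · rw [if_pos hj, he0] at h
      have h' := hXinj _ _ (by have := helt 0 (by omega); rw [he0] at this; omega)
        (by have := helt j.val j.isLt; omega) h
      have hj2 : 2 ≤ j.val := by omega
      rw [hebig _ hj2] at h'
      have := hjM _ hj2
      omega
    · rw [if_neg hj] at h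
      have hlt : j.val + 1 < q := by have := j.isLt; omega
      have h' := hXinj _ _ (helt _ hlt) (by have := helt j.val j.isLt; omega) h
      rcases Nat.lt_or_ge j.val 2 with hj2 | hj2
      · have hj01 : j.val = 0 ∨ j.val = 1 := by omega
        rcases hj01 with h0 | h1
        · rw [h0, he0] at h'; simp only [zero_add] at h'; rw [he1] at h'; omega
        · rw [h1, he1] at h'
          have : e (1 + 1) = 1 + 2 * Mq := hebig 2 (le_refl 2)
          rw [this] at h'; omega
      · rw [hebig _ hj2, hebig _ (by omega : 2 ≤ j.val + 1), Nat.succ_mul] at h'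
        omega
  have hL2 : ∀ j : Fin q, c (ι₂ j) = ι₂ (finRotate q j) ↔ j.val = 0 := by
    intro j
    rw [hι₂, hι₂, hXs, rot_val]
    constructor
    · intro h
      by_contra hj0
      by_cases hj : j.val + 1 = q
      · rw [if_pos hj, he0] at h
        have h' := hXinj _ _ (helt j.val j.isLt) (by omega) h
        have hj2 : 2 ≤ j.val := by omega
        rw [hebig _ hj2] at h'
        omega
      · rw [if_neg hj] at h
        have hlt : j.val + 1 < q := by have := j.isLt; omega
        have h' := hXinj _ _ (helt j.val j.isLt) (by have := helt _ hlt; omega) h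
        rcases Nat.lt_or_ge j.val 2 with hj2 | hj2
        · have h1 : j.val = 1 := by omega
          rw [h1, he1] at h'
          have : e (1 + 1) = 1 + 2 * Mq := hebig 2 (le_refl 2)
          rw [this] at h'; omega
        · rw [hebig _ hj2, hebig _ (by omega : 2 ≤ j.val + 1), Nat.succ_mul] at h'
          omega
    · intro h0
      rw [h0, if_neg (by omega), he0]
      simp only [zero_add]
      rw [he1]
  -- fixed points
  have hrr : ∀ j : Fin q, finRotate q ((finRotate q)⁻¹ j) = j := fun j =>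
    (finRotate q).apply_symm_apply j
  set A : Perm β := t₁ * t₂ * ρ with hA
  set B : Perm β := t₁ * t₂⁻¹ * ρ with hB
  have hX2 : X 2 = ι₂ ⟨1, by omega⟩ := by
    rw [hι₂]
    show X 2 = X (e 1)
    rw [he1]
  have hAι : ∀ j, A (ι₂ j) = ι₂ (finRotate q j) := by
    intro j
    rw [hA, Perm.mul_apply, Perm.mul_apply, hρfix _ ((hDmem _).mpr (Or.inr ⟨j, rfl⟩)), ht₂ι,
      ht₁off _ (hr21 _)]
  have hBι : ∀ j, B (ι₂ j) = ι₂ ((finRotate q)⁻¹ j) := by
    intro j
    rw [hB, Perm.mul_apply, Perm.mul_apply, hρfix _ ((hDmem _).mpr (Or.inr ⟨j, rfl⟩)), ht₂invι,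
      ht₁off _ (hr21 _)]
  have hABoff : ∀ y, y ∉ Set.range ι₂ → A y = B y := by
    intro y hy
    have hρy : ρ y ∉ Set.range ι₂ := by
      intro h
      have hyD : y ∈ D := hρD y ((hDmem _).mpr (Or.inr h))
      rw [hρfix y hyD] at h
      exact hy h
    rw [hA, hB, Perm.mul_apply, Perm.mul_apply, Perm.mul_apply, Perm.mul_apply, ht₂off _ hρy,
      ht₂invoff _ hρy]
  set FA := Finset.univ.filter (fun y => (c * A) y = y) with hFA
  set FB := Finset.univ.filter (fun y => (c * B) y = y) with hFB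
  have hX2A : X 2 ∉ FA := by
    rw [hFA, Finset.mem_filter, hX2, Perm.mul_apply, hAι]
    intro h
    exact hL1 _ h.2
  have hFBeq : FB = insert (X 2) FA := by
    ext y
    rw [Finset.mem_insert, hFB, hFA, Finset.mem_filter, Finset.mem_filter]
    simp only [Finset.mem_univ, true_and, Perm.mul_apply]
    by_cases hy : y ∈ Set.range ι₂
    · obtain ⟨j, rfl⟩ := hy
      rw [hAι, hBι]
      constructor
      · intro h
        left
        have h1 : c (ι₂ ((finRotate q)⁻¹ j)) = ι₂ (finRotate q ((finRotate q)⁻¹ j)) := by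
          rw [h, hrr]
        have h2 := (hL2 _).mp h1
        have h3 : (finRotate q)⁻¹ j = ⟨0, by omega⟩ := Fin.ext h2
        have h4 : j = finRotate q ⟨0, by omega⟩ := by rw [← h3, hrr]
        rw [hX2, h4]
        congr 1
        apply Fin.ext
        rw [rot_val]
        show (if 0 + 1 = q then 0 else 0 + 1) = 1
        rw [if_neg (by omega)]
      · rintro (h | h)
        · rw [hX2] at h
          have hj : j = ⟨1, by omega⟩ := ι₂.injective h
          have h0 : (finRotate q)⁻¹ j = ⟨0, by omega⟩ := by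
            rw [Perm.inv_eq_iff_eq, hj]
            apply Fin.ext
            rw [rot_val]
            show 1 = (if 0 + 1 = q then 0 else 0 + 1)
            rw [if_neg (by omega)]
          rw [h0]
          have := (hL2 ⟨0, by omega⟩).mpr rfl
          rw [this, ← h0, hrr]
        · exact absurd h (hL1 j)
    · rw [← hABoff y hy]
      constructor
      · intro h; right; exact h
      · rintro (h | h)
        · exfalso; apply hy; rw [h, hX2]; exact ⟨_, rfl⟩
        · exact h
  have hcard : FB.card = FA.card + 1 := by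
    rw [hFBeq, Finset.card_insert_of_notMem hX2A]
  by_cases hpA : ∃ k : ℕ, orderOf (c * A) = p ^ k
  · refine ⟨B, hctB, ?_, hNS B hYB⟩
    intro hpB
    have h1 := hFix p hp (c * A) hpA
    have h2 := hFix p hp (c * B) hpB
    rw [← hFA] at h1
    rw [← hFB, hcard] at h2
    have h3 : FA.card + 1 ≡ FA.card + 0 [MOD p] := by
      simpa using h2.trans h1.symm
    have h4 : 1 ≡ 0 [MOD p] := Nat.ModEq.add_left_cancel' _ h3
    have h5 : p ∣ 1 := (Nat.modEq_zero_iff_dvd).mp h4
    exact hp.one_lt.ne' (Nat.dvd_one.mp h5)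
  · exact ⟨A, hctA, hpA, hNS A hYA⟩

end Cfsg.Agent.Lib.Helper56.PEK3
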