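import Cfsg.Prelude.Def_LieTwisted
import Cfsg.Agent.Lib.Helper56.FastMat
import Cfsg.Agent.Lib.Helper56.P504

/-!
# The derived subgroup of the small Ree group over the field with three elements: tables

The 504 matrices (as rows of numerals) of a subgroup of `GL(14, 3)` generated by two elements `LX`,
`LY`, closed under right multiplication by the generators along the coset table of the presented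
group `P504.P`, with the root elements of the Chevalley datum `chevG2` as literal rows.
-/

set_option autoImplicit false

namespace Cfsg.Agent.Lib.Helper56.Ree3Tab

open Cfsg.Agent.Lib.Helper56.FastMat Cfsg.Agent.Lib.Helper56.P504
open scoped MatrixGroups Matrix

abbrev D := Cfsg.Lie.chevG2
abbrev I14 := D.Idx
abbrev G14 := GL I14 (ZMod 3)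

/-- Literal matrices. -/
abbrev TM (L : List (List ℕ)) : Matrix I14 I14 (ZMod 3) := toMat D.rank D.nroots 3 L

abbrev mul14 (A B : List (List ℕ)) : List (List ℕ) := mulL (D.rank + D.nroots) 3 A B

theorem TM_mul (A B : List (List ℕ)) : TM A * TM B = TM (mul14 A B) :=
  (toMat_mul D.rank D.nroots 3 A B).symm

abbrev id14 : List (List ℕ) := idL (D.rank + D.nroots)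

theorem TM_one : TM id14 = 1 := toMat_one D.rank D.nroots 3

/-! ### The root elements and the generating words -/

/-- The root elements `x_r(c)`, as rows. -/
def xT : List (List (List (List ℕ))) :=
  [[[[1, 0, 0, 0, 0, 0, 0, 0, 0, 0, 0, 0, 0, 0], [0, 1, 0, 0, 0, 0, 0, 0, 0, 0, 0, 0, 0, 0], [0, 0, 1, 0, 0, 0, 0, 0, 0, 0, 0, 0, 0, 0], [0, 0, 0, 1, 0, 0, 0, 0, 0, 0, 0, 0, 0, 0], [0, 0, 0, 0, 1, 0, 0, 0, 0, 0, 0, 0, 0, 0], [0, 0, 0, 0, 0, 1, 0, 0, 0, 0, 0, 0, 0, 0], [0, 0, 0, 0, 0, 0, 1, 0, 0, 0, 0, 0, 0, 0], [0, 0, 0, 0, 0, 0, 0, 1, 0, 0, 0, 0, 0, 0], [0, 0, 0, 0, 0, 0, 0, 0, 1, 0, 0, 0, 0, 0], [0, 0, 0, 0, 0, 0, 0, 0, 0, 1,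 0, 0, 0, 0], [0, 0, 0, 0, 0, 0, 0, 0, 0, 0, 1, 0, 0, 0], [0, 0, 0, 0, 0, 0, 0, 0, 0, 0, 0, 1, 0, 0], [0, 0, 0, 0, 0, 0, 0, 0, 0, 0, 0, 0, 1, 0], [0, 0, 0, 0, 0, 0, 0, 0, 0, 0, 0, 0, 0, 1]],
   [[1, 0, 0, 0, 0, 0, 0, 0, 0, 0, 0, 0, 0, 2], [0, 1, 0, 0, 0, 0, 0, 0, 0, 0, 0, 0, 0, 1], [0, 1, 1, 0, 0, 0, 0, 0, 0, 0, 0, 0, 0, 2], [0, 0, 0, 1, 0, 0, 0, 0, 1, 0, 0, 0, 0, 0], [0, 0, 0, 0, 1, 0, 0, 0, 0, 0, 1, 0, 0, 0], [0, 0, 0, 0, 0, 1, 0, 0, 0, 0, 0, 2, 0, 0], [0, 0, 0, 0, 0, 0, 1, 0, 0, 0, 0, 0, 0, 0], [0, 0, 0, 0, 0, 0, 0, 1, 0, 0, 0, 0, 2, 0], [0, 0, 0, 0, 0, 0, 0, 0, 1, 0, 0, 0, 0, 0], [0, 0, 0, 0, 0, 0, 0, 0, 0, 1, 0, 0, 0, 0],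 [0, 0, 0, 0, 0, 0, 0, 0, 0, 0, 1, 0, 0, 0], [0, 0, 0, 0, 0, 0, 0, 0, 0, 0, 0, 1, 0, 0], [0, 0, 0, 0, 0, 0, 0, 0, 0, 0, 0, 0, 1, 0], [0, 0, 0, 0, 0, 0, 0, 0, 0, 0, 0, 0, 0, 1]],
   [[1, 0, 0, 0, 0, 0, 0, 0, 0, 0, 0, 0, 0, 1], [0, 1, 0, 0, 0, 0, 0, 0, 0, 0, 0, 0, 0, 2], [0, 2, 1, 0, 0, 0, 0, 0, 0, 0, 0, 0, 0, 2], [0, 0, 0, 1, 0, 0, 0, 0, 2, 0, 0, 0, 0, 0], [0, 0, 0, 0, 1, 0, 0, 0, 0, 0, 2, 0, 0, 0], [0, 0, 0, 0, 0, 1, 0, 0, 0, 0, 0, 1, 0, 0], [0, 0, 0, 0, 0, 0, 1, 0, 0, 0, 0, 0, 0, 0], [0, 0, 0, 0, 0, 0, 0, 1, 0, 0, 0, 0, 1, 0], [0, 0, 0, 0, 0, 0, 0, 0, 1, 0, 0, 0, 0, 0], [0, 0, 0, 0, 0, 0, 0, 0, 0, 1, 0, 0, 0, 0], [0, 0, 0, 0,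 0, 0, 0, 0, 0, 0, 1, 0, 0, 0], [0, 0, 0, 0, 0, 0, 0, 0, 0, 0, 0, 1, 0, 0], [0, 0, 0, 0, 0, 0, 0, 0, 0, 0, 0, 0, 1, 0], [0, 0, 0, 0, 0, 0, 0, 0, 0, 0, 0, 0, 0, 1]]],
  [[[1, 0, 0, 0, 0, 0, 0, 0, 0, 0, 0, 0, 0, 0], [0, 1, 0, 0, 0, 0, 0, 0, 0, 0, 0, 0, 0, 0], [0, 0, 1, 0, 0, 0, 0, 0, 0, 0, 0, 0, 0, 0], [0, 0, 0, 1, 0, 0, 0, 0, 0, 0, 0, 0, 0, 0], [0, 0, 0, 0, 1, 0, 0, 0, 0, 0, 0, 0, 0, 0], [0, 0, 0, 0, 0, 1, 0, 0, 0, 0, 0, 0, 0, 0], [0, 0, 0, 0, 0, 0, 1, 0, 0, 0, 0, 0, 0, 0], [0, 0, 0, 0, 0, 0, 0, 1, 0, 0, 0, 0, 0, 0], [0, 0, 0, 0, 0, 0, 0, 0, 1, 0, 0, 0, 0, 0], [0, 0, 0, 0, 0, 0, 0, 0, 0, 1, 0, 0, 0, 0], [0, 0, 0, 0, 0, 0, 0, 0,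 0, 0, 1, 0, 0, 0], [0, 0, 0, 0, 0, 0, 0, 0, 0, 0, 0, 1, 0, 0], [0, 0, 0, 0, 0, 0, 0, 0, 0, 0, 0, 0, 1, 0], [0, 0, 0, 0, 0, 0, 0, 0, 0, 0, 0, 0, 0, 1]],
   [[1, 0, 0, 0, 0, 0, 0, 0, 0, 0, 0, 0, 2, 0], [0, 1, 0, 0, 0, 0, 0, 0, 0, 0, 0, 0, 2, 0], [0, 0, 1, 0, 0, 0, 0, 1, 0, 0, 0, 0, 0, 0], [0, 2, 0, 1, 0, 0, 0, 0, 0, 0, 0, 0, 2, 0], [0, 0, 0, 0, 1, 0, 0, 0, 0, 1, 0, 0, 0, 0], [0, 0, 0, 0, 0, 1, 0, 0, 0, 0, 0, 0, 0, 0], [0, 0, 0, 0, 0, 0, 1, 0, 0, 0, 0, 2, 0, 0], [0, 0, 0, 0, 0, 0, 0, 1, 0, 0, 0, 0, 0, 0], [0, 0, 0, 0, 0, 0, 0, 0, 1, 0, 0, 0, 0, 2], [0, 0, 0, 0, 0, 0, 0, 0, 0, 1, 0, 0, 0, 0], [0, 0, 0, 0, 0, 0, 0, 0, 0, 0, 1, 0,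 0, 0], [0, 0, 0, 0, 0, 0, 0, 0, 0, 0, 0, 1, 0, 0], [0, 0, 0, 0, 0, 0, 0, 0, 0, 0, 0, 0, 1, 0], [0, 0, 0, 0, 0, 0, 0, 0, 0, 0, 0, 0, 0, 1]],
   [[1, 0, 0, 0, 0, 0, 0, 0, 0, 0, 0, 0, 1, 0], [0, 1, 0, 0, 0, 0, 0, 0, 0, 0, 0, 0, 1, 0], [0, 0, 1, 0, 0, 0, 0, 2, 0, 0, 0, 0, 0, 0], [0, 1, 0, 1, 0, 0, 0, 0, 0, 0, 0, 0, 2, 0], [0, 0, 0, 0, 1, 0, 0, 0, 0, 2, 0, 0, 0, 0], [0, 0, 0, 0, 0, 1, 0, 0, 0, 0, 0, 0, 0, 0], [0, 0, 0, 0, 0, 0, 1, 0, 0, 0, 0, 1, 0, 0], [0, 0, 0, 0, 0, 0, 0, 1, 0, 0, 0, 0, 0, 0], [0, 0, 0, 0, 0, 0, 0, 0, 1, 0, 0, 0, 0, 1], [0, 0, 0, 0, 0, 0, 0, 0, 0, 1, 0, 0, 0, 0], [0, 0, 0, 0, 0, 0, 0, 0, 0, 0, 1, 0, 0, 0], [0, 0,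 0, 0, 0, 0, 0, 0, 0, 0, 0, 1, 0, 0], [0, 0, 0, 0, 0, 0, 0, 0, 0, 0, 0, 0, 1, 0], [0, 0, 0, 0, 0, 0, 0, 0, 0, 0, 0, 0, 0, 1]]],
  [[[1, 0, 0, 0, 0, 0, 0, 0, 0, 0, 0, 0, 0, 0], [0, 1, 0, 0, 0, 0, 0, 0, 0, 0, 0, 0, 0, 0], [0, 0, 1, 0, 0, 0, 0, 0, 0, 0, 0, 0, 0, 0], [0, 0, 0, 1, 0, 0, 0, 0, 0, 0, 0, 0, 0, 0], [0, 0, 0, 0, 1, 0, 0, 0, 0, 0, 0, 0, 0, 0], [0, 0, 0, 0, 0, 1, 0, 0, 0, 0, 0, 0, 0, 0], [0, 0, 0, 0, 0, 0, 1, 0, 0, 0, 0, 0, 0, 0], [0, 0, 0, 0, 0, 0, 0, 1, 0, 0, 0, 0, 0, 0], [0, 0, 0, 0, 0, 0, 0, 0, 1, 0, 0, 0, 0, 0], [0, 0, 0, 0, 0, 0, 0, 0, 0, 1, 0, 0, 0, 0], [0, 0, 0, 0, 0, 0, 0, 0, 0, 0, 1, 0, 0, 0], [0, 0, 0, 0, 0, 0,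 0, 0, 0, 0, 0, 1, 0, 0], [0, 0, 0, 0, 0, 0, 0, 0, 0, 0, 0, 0, 1, 0], [0, 0, 0, 0, 0, 0, 0, 0, 0, 0, 0, 0, 0, 1]],
   [[1, 0, 0, 0, 0, 0, 0, 0, 0, 0, 0, 1, 0, 0], [0, 1, 0, 0, 0, 0, 0, 0, 0, 0, 0, 0, 0, 0], [0, 0, 1, 0, 0, 0, 0, 0, 0, 0, 0, 0, 1, 0], [0, 0, 0, 1, 0, 0, 0, 0, 0, 0, 0, 0, 0, 2], [1, 0, 0, 0, 1, 0, 0, 0, 0, 0, 0, 2, 0, 0], [0, 0, 0, 0, 0, 1, 0, 0, 0, 1, 0, 0, 1, 0], [0, 0, 0, 0, 0, 0, 1, 0, 0, 0, 2, 0, 0, 2], [0, 0, 0, 0, 0, 0, 0, 1, 0, 0, 0, 0, 0, 0], [0, 0, 0, 0, 0, 0, 0, 0, 1, 0, 0, 0, 0, 0], [0, 0, 0, 0, 0, 0, 0, 0, 0, 1, 0, 0, 2, 0], [0, 0, 0, 0, 0, 0, 0, 0, 0, 0, 1, 0, 0, 2], [0, 0, 0, 0, 0, 0, 0, 0, 0, 0,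 0, 1, 0, 0], [0, 0, 0, 0, 0, 0, 0, 0, 0, 0, 0, 0, 1, 0], [0, 0, 0, 0, 0, 0, 0, 0, 0, 0, 0, 0, 0, 1]],
   [[1, 0, 0, 0, 0, 0, 0, 0, 0, 0, 0, 2, 0, 0], [0, 1, 0, 0, 0, 0, 0, 0, 0, 0, 0, 0, 0, 0], [0, 0, 1, 0, 0, 0, 0, 0, 0, 0, 0, 0, 2, 0], [0, 0, 0, 1, 0, 0, 0, 0, 0, 0, 0, 0, 0, 1], [2, 0, 0, 0, 1, 0, 0, 0, 0, 0, 0, 2, 0, 0], [0, 0, 0, 0, 0, 1, 0, 0, 0, 2, 0, 0, 1, 0], [0, 0, 0, 0, 0, 0, 1, 0, 0, 0, 1, 0, 0, 2], [0, 0, 0, 0, 0, 0, 0, 1, 0, 0, 0, 0, 0, 0], [0, 0, 0, 0, 0, 0, 0, 0, 1, 0, 0, 0, 0, 0], [0, 0, 0, 0, 0, 0, 0, 0, 0, 1, 0, 0, 1, 0], [0, 0, 0, 0, 0, 0, 0, 0, 0, 0, 1, 0, 0, 1], [0, 0, 0, 0, 0, 0, 0, 0, 0, 0, 0, 1, 0, 0],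 [0, 0, 0, 0, 0, 0, 0, 0, 0, 0, 0, 0, 1, 0], [0, 0, 0, 0, 0, 0, 0, 0, 0, 0, 0, 0, 0, 1]]],
  [[[1, 0, 0, 0, 0, 0, 0, 0, 0, 0, 0, 0, 0, 0], [0, 1, 0, 0, 0, 0, 0, 0, 0, 0, 0, 0, 0, 0], [0, 0, 1, 0, 0, 0, 0, 0, 0, 0, 0, 0, 0, 0], [0, 0, 0, 1, 0, 0, 0, 0, 0, 0, 0, 0, 0, 0], [0, 0, 0, 0, 1, 0, 0, 0, 0, 0, 0, 0, 0, 0], [0, 0, 0, 0, 0, 1, 0, 0, 0, 0, 0, 0, 0, 0], [0, 0, 0, 0, 0, 0, 1, 0, 0, 0, 0, 0, 0, 0], [0, 0, 0, 0, 0, 0, 0, 1, 0, 0, 0, 0, 0, 0], [0, 0, 0, 0, 0, 0, 0, 0, 1, 0, 0, 0, 0, 0], [0, 0, 0, 0, 0, 0, 0, 0, 0, 1, 0, 0, 0, 0], [0, 0, 0, 0, 0, 0, 0, 0, 0, 0, 1, 0, 0, 0], [0, 0, 0, 0, 0, 0, 0, 0, 0, 0, 0, 1, 0, 0], [0, 0, 0, 0,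 0, 0, 0, 0, 0, 0, 0, 0, 1, 0], [0, 0, 0, 0, 0, 0, 0, 0, 0, 0, 0, 0, 0, 1]],
   [[1, 0, 0, 0, 0, 0, 0, 0, 0, 0, 2, 0, 0, 0], [0, 1, 0, 0, 0, 0, 0, 0, 0, 0, 0, 0, 0, 0], [0, 0, 1, 0, 0, 0, 0, 0, 1, 0, 0, 0, 0, 0], [0, 0, 0, 1, 0, 0, 0, 0, 0, 0, 0, 0, 0, 0], [0, 0, 0, 0, 1, 0, 1, 0, 2, 0, 0, 0, 0, 0], [2, 1, 0, 0, 0, 1, 0, 0, 0, 0, 2, 0, 0, 0], [0, 0, 0, 0, 0, 0, 1, 0, 1, 0, 0, 0, 0, 0], [0, 0, 0, 0, 0, 0, 0, 1, 0, 0, 0, 0, 0, 2], [0, 0, 0, 0, 0, 0, 0, 0, 1, 0, 0, 0, 0, 0], [0, 0, 0, 0, 0, 0, 0, 0, 0, 1, 0, 2, 0, 1], [0, 0, 0, 0, 0, 0, 0, 0, 0, 0, 1, 0, 0, 0], [0, 0, 0, 0, 0, 0, 0, 0, 0, 0, 0, 1, 0, 1], [0, 0, 0, 0, 0, 0, 0, 0,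 0, 0, 0, 0, 1, 0], [0, 0, 0, 0, 0, 0, 0, 0, 0, 0, 0, 0, 0, 1]],
   [[1, 0, 0, 0, 0, 0, 0, 0, 0, 0, 1, 0, 0, 0], [0, 1, 0, 0, 0, 0, 0, 0, 0, 0, 0, 0, 0, 0], [0, 0, 1, 0, 0, 0, 0, 0, 2, 0, 0, 0, 0, 0], [0, 0, 0, 1, 0, 0, 0, 0, 0, 0, 0, 0, 0, 0], [0, 0, 0, 0, 1, 0, 2, 0, 2, 0, 0, 0, 0, 0], [1, 2, 0, 0, 0, 1, 0, 0, 0, 0, 2, 0, 0, 0], [0, 0, 0, 0, 0, 0, 1, 0, 2, 0, 0, 0, 0, 0], [0, 0, 0, 0, 0, 0, 0, 1, 0, 0, 0, 0, 0, 1], [0, 0, 0, 0, 0, 0, 0, 0, 1, 0, 0, 0, 0, 0], [0, 0, 0, 0, 0, 0, 0, 0, 0, 1, 0, 1, 0, 1], [0, 0, 0, 0, 0, 0, 0, 0, 0, 0, 1, 0, 0, 0], [0, 0, 0, 0, 0, 0, 0, 0, 0, 0, 0, 1, 0, 2], [0, 0, 0, 0, 0, 0, 0, 0, 0, 0, 0, 0,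 1, 0], [0, 0, 0, 0, 0, 0, 0, 0, 0, 0, 0, 0, 0, 1]]],
  [[[1, 0, 0, 0, 0, 0, 0, 0, 0, 0, 0, 0, 0, 0], [0, 1, 0, 0, 0, 0, 0, 0, 0, 0, 0, 0, 0, 0], [0, 0, 1, 0, 0, 0, 0, 0, 0, 0, 0, 0, 0, 0], [0, 0, 0, 1, 0, 0, 0, 0, 0, 0, 0, 0, 0, 0], [0, 0, 0, 0, 1, 0, 0, 0, 0, 0, 0, 0, 0, 0], [0, 0, 0, 0, 0, 1, 0, 0, 0, 0, 0, 0, 0, 0], [0, 0, 0, 0, 0, 0, 1, 0, 0, 0, 0, 0, 0, 0], [0, 0, 0, 0, 0, 0, 0, 1, 0, 0, 0, 0, 0, 0], [0, 0, 0, 0, 0, 0, 0, 0, 1, 0, 0, 0, 0, 0], [0, 0, 0, 0, 0, 0, 0, 0, 0, 1, 0, 0, 0, 0], [0, 0, 0, 0, 0, 0, 0, 0, 0, 0, 1, 0, 0, 0], [0, 0, 0, 0, 0, 0, 0, 0, 0, 0, 0, 1, 0, 0], [0, 0, 0, 0, 0, 0, 0, 0, 0, 0, 0, 0, 1, 0], [0,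 0, 0, 0, 0, 0, 0, 0, 0, 0, 0, 0, 0, 1]],
   [[1, 0, 0, 0, 0, 0, 0, 0, 0, 2, 0, 0, 0, 0], [0, 1, 0, 0, 0, 0, 0, 0, 0, 0, 0, 0, 0, 0], [0, 0, 1, 0, 0, 0, 0, 0, 0, 0, 0, 0, 0, 0], [0, 0, 0, 1, 0, 0, 0, 2, 0, 0, 0, 0, 0, 0], [0, 0, 0, 0, 1, 2, 0, 1, 0, 0, 0, 0, 0, 0], [0, 0, 0, 0, 0, 1, 0, 1, 0, 0, 0, 0, 0, 0], [2, 2, 0, 0, 0, 0, 1, 0, 0, 2, 0, 0, 0, 0], [0, 0, 0, 0, 0, 0, 0, 1, 0, 0, 0, 0, 0, 0], [0, 0, 0, 0, 0, 0, 0, 0, 1, 0, 0, 0, 1, 0], [0, 0, 0, 0, 0, 0, 0, 0, 0, 1, 0, 0, 0, 0], [0, 0, 0, 0, 0, 0, 0, 0, 0, 0, 1, 1, 2, 0], [0, 0, 0, 0, 0, 0, 0, 0, 0, 0, 0, 1, 1, 0], [0, 0, 0, 0, 0, 0, 0, 0, 0, 0, 0, 0, 1, 0], [0, 0, 0, 0, 0,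 0, 0, 0, 0, 0, 0, 0, 0, 1]],
   [[1, 0, 0, 0, 0, 0, 0, 0, 0, 1, 0, 0, 0, 0], [0, 1, 0, 0, 0, 0, 0, 0, 0, 0, 0, 0, 0, 0], [0, 0, 1, 0, 0, 0, 0, 0, 0, 0, 0, 0, 0, 0], [0, 0, 0, 1, 0, 0, 0, 1, 0, 0, 0, 0, 0, 0], [0, 0, 0, 0, 1, 1, 0, 1, 0, 0, 0, 0, 0, 0], [0, 0, 0, 0, 0, 1, 0, 2, 0, 0, 0, 0, 0, 0], [1, 1, 0, 0, 0, 0, 1, 0, 0, 2, 0, 0, 0, 0], [0, 0, 0, 0, 0, 0, 0, 1, 0, 0, 0, 0, 0, 0], [0, 0, 0, 0, 0, 0, 0, 0, 1, 0, 0, 0, 2, 0], [0, 0, 0, 0, 0, 0, 0, 0, 0, 1, 0, 0, 0, 0], [0, 0, 0, 0, 0, 0, 0, 0, 0, 0, 1, 2, 2, 0], [0, 0, 0, 0, 0, 0, 0, 0, 0, 0, 0, 1, 2, 0], [0, 0, 0, 0, 0, 0, 0, 0, 0, 0, 0, 0, 1, 0], [0, 0, 0, 0, 0, 0, 0, 0, 0,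 0, 0, 0, 0, 1]]],
  [[[1, 0, 0, 0, 0, 0, 0, 0, 0, 0, 0, 0, 0, 0], [0, 1, 0, 0, 0, 0, 0, 0, 0, 0, 0, 0, 0, 0], [0, 0, 1, 0, 0, 0, 0, 0, 0, 0, 0, 0, 0, 0], [0, 0, 0, 1, 0, 0, 0, 0, 0, 0, 0, 0, 0, 0], [0, 0, 0, 0, 1, 0, 0, 0, 0, 0, 0, 0, 0, 0], [0, 0, 0, 0, 0, 1, 0, 0, 0, 0, 0, 0, 0, 0], [0, 0, 0, 0, 0, 0, 1, 0, 0, 0, 0, 0, 0, 0], [0, 0, 0, 0, 0, 0, 0, 1, 0, 0, 0, 0, 0, 0], [0, 0, 0, 0, 0, 0, 0, 0, 1, 0, 0, 0, 0, 0], [0, 0, 0, 0, 0, 0, 0, 0, 0, 1, 0, 0, 0, 0], [0, 0, 0, 0, 0, 0, 0, 0, 0, 0, 1, 0, 0, 0], [0, 0, 0, 0, 0, 0, 0, 0, 0, 0, 0, 1, 0, 0], [0, 0, 0, 0, 0, 0, 0, 0, 0, 0, 0, 0, 1, 0], [0, 0, 0, 0, 0, 0, 0, 0, 0, 0, 0, 0, 0,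 1]],
   [[1, 0, 0, 0, 0, 0, 0, 0, 0, 0, 0, 0, 0, 0], [0, 1, 0, 0, 0, 0, 0, 0, 2, 0, 0, 0, 0, 0], [0, 0, 1, 2, 0, 0, 0, 0, 0, 0, 0, 0, 0, 0], [0, 0, 0, 1, 0, 0, 0, 0, 0, 0, 0, 0, 0, 0], [0, 0, 0, 0, 1, 0, 0, 0, 0, 0, 0, 0, 0, 0], [0, 0, 0, 0, 0, 1, 2, 0, 0, 0, 0, 0, 0, 0], [0, 0, 0, 0, 0, 0, 1, 0, 0, 0, 0, 0, 0, 0], [0, 2, 0, 0, 0, 0, 0, 1, 2, 0, 0, 0, 0, 0], [0, 0, 0, 0, 0, 0, 0, 0, 1, 0, 0, 0, 0, 0], [0, 0, 0, 0, 0, 0, 0, 0, 0, 1, 1, 0, 0, 0], [0, 0, 0, 0, 0, 0, 0, 0, 0, 0, 1, 0, 0, 0], [0, 0, 0, 0, 0, 0, 0, 0, 0, 0, 0, 1, 0, 0], [0, 0, 0, 0, 0, 0, 0, 0, 0, 0, 0, 0, 1, 1], [0, 0, 0, 0, 0, 0, 0, 0, 0, 0, 0, 0, 0, 1]],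
   [[1, 0, 0, 0, 0, 0, 0, 0, 0, 0, 0, 0, 0, 0], [0, 1, 0, 0, 0, 0, 0, 0, 1, 0, 0, 0, 0, 0], [0, 0, 1, 1, 0, 0, 0, 0, 0, 0, 0, 0, 0, 0], [0, 0, 0, 1, 0, 0, 0, 0, 0, 0, 0, 0, 0, 0], [0, 0, 0, 0, 1, 0, 0, 0, 0, 0, 0, 0, 0, 0], [0, 0, 0, 0, 0, 1, 1, 0, 0, 0, 0, 0, 0, 0], [0, 0, 0, 0, 0, 0, 1, 0, 0, 0, 0, 0, 0, 0], [0, 1, 0, 0, 0, 0, 0, 1, 2, 0, 0, 0, 0, 0], [0, 0, 0, 0, 0, 0, 0, 0, 1, 0, 0, 0, 0, 0], [0, 0, 0, 0, 0, 0, 0, 0, 0, 1, 2, 0, 0, 0], [0, 0, 0, 0, 0, 0, 0, 0, 0, 0, 1, 0, 0, 0], [0, 0, 0, 0, 0, 0, 0, 0, 0, 0, 0, 1, 0, 0], [0, 0, 0, 0, 0, 0, 0, 0, 0, 0, 0, 0, 1, 2], [0, 0, 0, 0, 0, 0, 0, 0, 0, 0, 0, 0, 0, 1]]],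
  [[[1, 0, 0, 0, 0, 0, 0, 0, 0, 0, 0, 0, 0, 0], [0, 1, 0, 0, 0, 0, 0, 0, 0, 0, 0, 0, 0, 0], [0, 0, 1, 0, 0, 0, 0, 0, 0, 0, 0, 0, 0, 0], [0, 0, 0, 1, 0, 0, 0, 0, 0, 0, 0, 0, 0, 0], [0, 0, 0, 0, 1, 0, 0, 0, 0, 0, 0, 0, 0, 0], [0, 0, 0, 0, 0, 1, 0, 0, 0, 0, 0, 0, 0, 0], [0, 0, 0, 0, 0, 0, 1, 0, 0, 0, 0, 0, 0, 0], [0, 0, 0, 0, 0, 0, 0, 1, 0, 0, 0, 0, 0, 0], [0, 0, 0, 0, 0, 0, 0, 0, 1, 0, 0, 0, 0, 0], [0, 0, 0, 0, 0, 0, 0, 0, 0, 1, 0, 0, 0, 0], [0, 0, 0, 0, 0, 0, 0, 0, 0, 0, 1, 0, 0, 0], [0, 0, 0, 0, 0, 0, 0, 0, 0, 0, 0, 1, 0, 0], [0, 0, 0, 0, 0, 0, 0, 0, 0, 0, 0, 0, 1, 0], [0, 0, 0, 0, 0, 0, 0, 0, 0, 0, 0, 0, 0, 1]],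
   [[1, 0, 0, 0, 0, 0, 0, 0, 0, 0, 0, 0, 0, 0], [0, 1, 0, 0, 0, 0, 0, 1, 0, 0, 0, 0, 0, 0], [0, 0, 1, 0, 0, 0, 0, 0, 0, 0, 0, 0, 0, 0], [0, 0, 2, 1, 0, 0, 0, 0, 0, 0, 0, 0, 0, 0], [0, 0, 0, 0, 1, 0, 0, 0, 0, 0, 0, 0, 0, 0], [0, 0, 0, 0, 0, 1, 0, 0, 0, 0, 0, 0, 0, 0], [0, 0, 0, 0, 0, 2, 1, 0, 0, 0, 0, 0, 0, 0], [0, 0, 0, 0, 0, 0, 0, 1, 0, 0, 0, 0, 0, 0], [0, 1, 0, 0, 0, 0, 0, 2, 1, 0, 0, 0, 0, 0], [0, 0, 0, 0, 0, 0, 0, 0, 0, 1, 0, 0, 0, 0], [0, 0, 0, 0, 0, 0, 0, 0, 0, 1, 1, 0, 0, 0], [0, 0, 0, 0, 0, 0, 0, 0, 0, 0, 0, 1, 0, 0], [0, 0, 0, 0, 0, 0, 0, 0, 0, 0, 0, 0, 1, 0], [0, 0, 0, 0, 0, 0, 0, 0, 0, 0, 0, 0, 1, 1]],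
   [[1, 0, 0, 0, 0, 0, 0, 0, 0, 0, 0, 0, 0, 0], [0, 1, 0, 0, 0, 0, 0, 2, 0, 0, 0, 0, 0, 0], [0, 0, 1, 0, 0, 0, 0, 0, 0, 0, 0, 0, 0, 0], [0, 0, 1, 1, 0, 0, 0, 0, 0, 0, 0, 0, 0, 0], [0, 0, 0, 0, 1, 0, 0, 0, 0, 0, 0, 0, 0, 0], [0, 0, 0, 0, 0, 1, 0, 0, 0, 0, 0, 0, 0, 0], [0, 0, 0, 0, 0, 1, 1, 0, 0, 0, 0, 0, 0, 0], [0, 0, 0, 0, 0, 0, 0, 1, 0, 0, 0, 0, 0, 0], [0, 2, 0, 0, 0, 0, 0, 2, 1, 0, 0, 0, 0, 0], [0, 0, 0, 0, 0, 0, 0, 0, 0, 1, 0, 0, 0, 0], [0, 0, 0, 0, 0, 0, 0, 0, 0, 2, 1, 0, 0, 0], [0, 0, 0, 0, 0, 0, 0, 0, 0, 0, 0, 1, 0, 0], [0, 0, 0, 0, 0, 0, 0, 0, 0, 0, 0, 0, 1, 0], [0, 0, 0, 0, 0, 0, 0, 0, 0, 0, 0, 0, 2, 1]]],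
  [[[1, 0, 0, 0, 0, 0, 0, 0, 0, 0, 0, 0, 0, 0], [0, 1, 0, 0, 0, 0, 0, 0, 0, 0, 0, 0, 0, 0], [0, 0, 1, 0, 0, 0, 0, 0, 0, 0, 0, 0, 0, 0], [0, 0, 0, 1, 0, 0, 0, 0, 0, 0, 0, 0, 0, 0], [0, 0, 0, 0, 1, 0, 0, 0, 0, 0, 0, 0, 0, 0], [0, 0, 0, 0, 0, 1, 0, 0, 0, 0, 0, 0, 0, 0], [0, 0, 0, 0, 0, 0, 1, 0, 0, 0, 0, 0, 0, 0], [0, 0, 0, 0, 0, 0, 0, 1, 0, 0, 0, 0, 0, 0], [0, 0, 0, 0, 0, 0, 0, 0, 1, 0, 0, 0, 0, 0], [0, 0, 0, 0, 0, 0, 0, 0, 0, 1, 0, 0, 0, 0], [0, 0, 0, 0, 0, 0, 0, 0, 0, 0, 1, 0, 0, 0], [0, 0, 0, 0, 0, 0, 0, 0, 0, 0, 0, 1, 0, 0], [0, 0, 0, 0, 0, 0, 0, 0, 0, 0, 0, 0, 1, 0], [0, 0, 0, 0, 0, 0, 0, 0, 0, 0, 0, 0, 0, 1]],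
   [[1, 0, 0, 0, 0, 0, 1, 0, 0, 0, 0, 0, 0, 0], [0, 1, 0, 0, 0, 0, 0, 0, 0, 0, 0, 0, 0, 0], [0, 0, 1, 0, 0, 0, 0, 0, 0, 0, 0, 0, 0, 0], [0, 0, 0, 1, 0, 0, 0, 0, 0, 0, 0, 0, 0, 0], [0, 0, 0, 2, 1, 0, 0, 0, 0, 0, 0, 0, 0, 0], [0, 0, 0, 2, 2, 1, 0, 0, 0, 0, 0, 0, 0, 0], [0, 0, 0, 0, 0, 0, 1, 0, 0, 0, 0, 0, 0, 0], [0, 0, 0, 2, 0, 0, 0, 1, 0, 0, 0, 0, 0, 0], [0, 0, 0, 0, 0, 0, 0, 0, 1, 0, 0, 0, 0, 0], [1, 1, 0, 0, 0, 0, 2, 0, 0, 1, 0, 0, 0, 0], [0, 0, 0, 0, 0, 0, 0, 0, 2, 0, 1, 0, 0, 0], [0, 0, 0, 0, 0, 0, 0, 0, 1, 0, 1, 1, 0, 0], [0, 0, 0, 0, 0, 0, 0, 0, 1, 0, 0, 0, 1, 0], [0, 0, 0, 0, 0, 0, 0, 0, 0, 0, 0, 0, 0, 1]],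
   [[1, 0, 0, 0, 0, 0, 2, 0, 0, 0, 0, 0, 0, 0], [0, 1, 0, 0, 0, 0, 0, 0, 0, 0, 0, 0, 0, 0], [0, 0, 1, 0, 0, 0, 0, 0, 0, 0, 0, 0, 0, 0], [0, 0, 0, 1, 0, 0, 0, 0, 0, 0, 0, 0, 0, 0], [0, 0, 0, 1, 1, 0, 0, 0, 0, 0, 0, 0, 0, 0], [0, 0, 0, 2, 1, 1, 0, 0, 0, 0, 0, 0, 0, 0], [0, 0, 0, 0, 0, 0, 1, 0, 0, 0, 0, 0, 0, 0], [0, 0, 0, 1, 0, 0, 0, 1, 0, 0, 0, 0, 0, 0], [0, 0, 0, 0, 0, 0, 0, 0, 1, 0, 0, 0, 0, 0], [2, 2, 0, 0, 0, 0, 2, 0, 0, 1, 0, 0, 0, 0], [0, 0, 0, 0, 0, 0, 0, 0, 1, 0, 1, 0, 0, 0], [0, 0, 0, 0, 0, 0, 0, 0, 1, 0, 2, 1, 0, 0], [0, 0, 0, 0, 0, 0, 0, 0, 2, 0, 0, 0, 1, 0], [0, 0, 0, 0, 0, 0, 0, 0, 0, 0, 0, 0, 0, 1]]],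
  [[[1, 0, 0, 0, 0, 0, 0, 0, 0, 0, 0, 0, 0, 0], [0, 1, 0, 0, 0, 0, 0, 0, 0, 0, 0, 0, 0, 0], [0, 0, 1, 0, 0, 0, 0, 0, 0, 0, 0, 0, 0, 0], [0, 0, 0, 1, 0, 0, 0, 0, 0, 0, 0, 0, 0, 0], [0, 0, 0, 0, 1, 0, 0, 0, 0, 0, 0, 0, 0, 0], [0, 0, 0, 0, 0, 1, 0, 0, 0, 0, 0, 0, 0, 0], [0, 0, 0, 0, 0, 0, 1, 0, 0, 0, 0, 0, 0, 0], [0, 0, 0, 0, 0, 0, 0, 1, 0, 0, 0, 0, 0, 0], [0, 0, 0, 0, 0, 0, 0, 0, 1, 0, 0, 0, 0, 0], [0, 0, 0, 0, 0, 0, 0, 0, 0, 1, 0, 0, 0, 0], [0, 0, 0, 0, 0, 0, 0, 0, 0, 0, 1, 0, 0, 0], [0, 0, 0, 0, 0, 0, 0, 0, 0, 0, 0, 1, 0, 0], [0, 0, 0, 0, 0, 0, 0, 0, 0, 0, 0, 0, 1, 0], [0, 0, 0, 0, 0, 0, 0, 0, 0, 0, 0, 0, 0, 1]],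
   [[1, 0, 0, 0, 0, 1, 0, 0, 0, 0, 0, 0, 0, 0], [0, 1, 0, 0, 0, 0, 0, 0, 0, 0, 0, 0, 0, 0], [0, 0, 1, 0, 0, 0, 0, 0, 0, 0, 0, 0, 0, 0], [0, 0, 0, 1, 0, 0, 0, 0, 0, 0, 0, 0, 0, 0], [0, 0, 2, 0, 1, 0, 0, 0, 0, 0, 0, 0, 0, 0], [0, 0, 0, 0, 0, 1, 0, 0, 0, 0, 0, 0, 0, 0], [0, 0, 1, 0, 1, 0, 1, 0, 0, 0, 0, 0, 0, 0], [0, 0, 0, 0, 0, 0, 0, 1, 0, 0, 0, 0, 0, 0], [0, 0, 1, 0, 0, 0, 0, 0, 1, 0, 0, 0, 0, 0], [0, 0, 0, 0, 0, 0, 0, 2, 0, 1, 0, 0, 0, 0], [1, 2, 0, 0, 0, 2, 0, 0, 0, 0, 1, 0, 0, 0], [0, 0, 0, 0, 0, 0, 0, 2, 0, 2, 0, 1, 0, 0], [0, 0, 0, 0, 0, 0, 0, 0, 0, 0, 0, 0, 1, 0], [0, 0, 0, 0, 0, 0, 0, 2, 0, 0, 0, 0, 0, 1]],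
   [[1, 0, 0, 0, 0, 2, 0, 0, 0, 0, 0, 0, 0, 0], [0, 1, 0, 0, 0, 0, 0, 0, 0, 0, 0, 0, 0, 0], [0, 0, 1, 0, 0, 0, 0, 0, 0, 0, 0, 0, 0, 0], [0, 0, 0, 1, 0, 0, 0, 0, 0, 0, 0, 0, 0, 0], [0, 0, 1, 0, 1, 0, 0, 0, 0, 0, 0, 0, 0, 0], [0, 0, 0, 0, 0, 1, 0, 0, 0, 0, 0, 0, 0, 0], [0, 0, 1, 0, 2, 0, 1, 0, 0, 0, 0, 0, 0, 0], [0, 0, 0, 0, 0, 0, 0, 1, 0, 0, 0, 0, 0, 0], [0, 0, 2, 0, 0, 0, 0, 0, 1, 0, 0, 0, 0, 0], [0, 0, 0, 0, 0, 0, 0, 1, 0, 1, 0, 0, 0, 0], [2, 1, 0, 0, 0, 2, 0, 0, 0, 0, 1, 0, 0, 0], [0, 0, 0, 0, 0, 0, 0, 2, 0, 1, 0, 1, 0, 0], [0, 0, 0, 0, 0, 0, 0, 0, 0, 0, 0, 0, 1, 0], [0, 0, 0, 0, 0, 0, 0, 1, 0, 0, 0, 0, 0, 1]]],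
  [[[1, 0, 0, 0, 0, 0, 0, 0, 0, 0, 0, 0, 0, 0], [0, 1, 0, 0, 0, 0, 0, 0, 0, 0, 0, 0, 0, 0], [0, 0, 1, 0, 0, 0, 0, 0, 0, 0, 0, 0, 0, 0], [0, 0, 0, 1, 0, 0, 0, 0, 0, 0, 0, 0, 0, 0], [0, 0, 0, 0, 1, 0, 0, 0, 0, 0, 0, 0, 0, 0], [0, 0, 0, 0, 0, 1, 0, 0, 0, 0, 0, 0, 0, 0], [0, 0, 0, 0, 0, 0, 1, 0, 0, 0, 0, 0, 0, 0], [0, 0, 0, 0, 0, 0, 0, 1, 0, 0, 0, 0, 0, 0], [0, 0, 0, 0, 0, 0, 0, 0, 1, 0, 0, 0, 0, 0], [0, 0, 0, 0, 0, 0, 0, 0, 0, 1, 0, 0, 0, 0], [0, 0, 0, 0, 0, 0, 0, 0, 0, 0, 1, 0, 0, 0], [0, 0, 0, 0, 0, 0, 0, 0, 0, 0, 0, 1, 0, 0], [0, 0, 0, 0, 0, 0, 0, 0, 0, 0, 0, 0, 1, 0], [0, 0, 0, 0, 0, 0, 0, 0, 0, 0, 0, 0, 0, 1]],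
   [[1, 0, 0, 0, 2, 0, 0, 0, 0, 0, 0, 0, 0, 0], [0, 1, 0, 0, 0, 0, 0, 0, 0, 0, 0, 0, 0, 0], [0, 0, 1, 0, 0, 0, 0, 0, 0, 0, 0, 0, 0, 0], [0, 0, 0, 1, 0, 0, 0, 0, 0, 0, 0, 0, 0, 0], [0, 0, 0, 0, 1, 0, 0, 0, 0, 0, 0, 0, 0, 0], [0, 0, 1, 0, 0, 1, 0, 0, 0, 0, 0, 0, 0, 0], [0, 0, 0, 1, 0, 0, 1, 0, 0, 0, 0, 0, 0, 0], [0, 0, 0, 0, 0, 0, 0, 1, 0, 0, 0, 0, 0, 0], [0, 0, 0, 0, 0, 0, 0, 0, 1, 0, 0, 0, 0, 0], [0, 0, 2, 0, 0, 1, 0, 0, 0, 1, 0, 0, 0, 0], [0, 0, 0, 1, 0, 0, 2, 0, 0, 0, 1, 0, 0, 0], [2, 0, 0, 0, 2, 0, 0, 0, 0, 0, 0, 1, 0, 0], [0, 0, 1, 0, 0, 0, 0, 0, 0, 0, 0, 0, 1, 0], [0, 0, 0, 2, 0, 0, 0, 0, 0, 0, 0, 0, 0, 1]],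
   [[1, 0, 0, 0, 1, 0, 0, 0, 0, 0, 0, 0, 0, 0], [0, 1, 0, 0, 0, 0, 0, 0, 0, 0, 0, 0, 0, 0], [0, 0, 1, 0, 0, 0, 0, 0, 0, 0, 0, 0, 0, 0], [0, 0, 0, 1, 0, 0, 0, 0, 0, 0, 0, 0, 0, 0], [0, 0, 0, 0, 1, 0, 0, 0, 0, 0, 0, 0, 0, 0], [0, 0, 2, 0, 0, 1, 0, 0, 0, 0, 0, 0, 0, 0], [0, 0, 0, 2, 0, 0, 1, 0, 0, 0, 0, 0, 0, 0], [0, 0, 0, 0, 0, 0, 0, 1, 0, 0, 0, 0, 0, 0], [0, 0, 0, 0, 0, 0, 0, 0, 1, 0, 0, 0, 0, 0], [0, 0, 2, 0, 0, 2, 0, 0, 0, 1, 0, 0, 0, 0], [0, 0, 0, 1, 0, 0, 1, 0, 0, 0, 1, 0, 0, 0], [1, 0, 0, 0, 2, 0, 0, 0, 0, 0, 0, 1, 0, 0], [0, 0, 2, 0, 0, 0, 0, 0, 0, 0, 0, 0, 1, 0], [0, 0, 0, 1, 0, 0, 0, 0, 0, 0, 0, 0, 0, 1]]],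
  [[[1, 0, 0, 0, 0, 0, 0, 0, 0, 0, 0, 0, 0, 0], [0, 1, 0, 0, 0, 0, 0, 0, 0, 0, 0, 0, 0, 0], [0, 0, 1, 0, 0, 0, 0, 0, 0, 0, 0, 0, 0, 0], [0, 0, 0, 1, 0, 0, 0, 0, 0, 0, 0, 0, 0, 0], [0, 0, 0, 0, 1, 0, 0, 0, 0, 0, 0, 0, 0, 0], [0, 0, 0, 0, 0, 1, 0, 0, 0, 0, 0, 0, 0, 0], [0, 0, 0, 0, 0, 0, 1, 0, 0, 0, 0, 0, 0, 0], [0, 0, 0, 0, 0, 0, 0, 1, 0, 0, 0, 0, 0, 0], [0, 0, 0, 0, 0, 0, 0, 0, 1, 0, 0, 0, 0, 0], [0, 0, 0, 0, 0, 0, 0, 0, 0, 1, 0, 0, 0, 0], [0, 0, 0, 0, 0, 0, 0, 0, 0, 0, 1, 0, 0, 0], [0, 0, 0, 0, 0, 0, 0, 0, 0, 0, 0, 1, 0, 0], [0, 0, 0, 0, 0, 0, 0, 0, 0, 0, 0, 0, 1, 0], [0, 0, 0, 0, 0, 0, 0, 0, 0, 0, 0, 0, 0, 1]],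
   [[1, 0, 0, 1, 0, 0, 0, 0, 0, 0, 0, 0, 0, 0], [0, 1, 0, 1, 0, 0, 0, 0, 0, 0, 0, 0, 0, 0], [0, 0, 1, 0, 0, 0, 0, 0, 0, 0, 0, 0, 0, 0], [0, 0, 0, 1, 0, 0, 0, 0, 0, 0, 0, 0, 0, 0], [0, 0, 0, 0, 1, 0, 0, 0, 0, 0, 0, 0, 0, 0], [0, 0, 0, 0, 0, 1, 0, 0, 0, 0, 0, 0, 0, 0], [0, 0, 0, 0, 0, 0, 1, 0, 0, 0, 0, 0, 0, 0], [0, 0, 1, 0, 0, 0, 0, 1, 0, 0, 0, 0, 0, 0], [0, 0, 0, 0, 0, 0, 0, 0, 1, 0, 0, 0, 0, 0], [0, 0, 0, 0, 1, 0, 0, 0, 0, 1, 0, 0, 0, 0], [0, 0, 0, 0, 0, 0, 0, 0, 0, 0, 1, 0, 0, 0], [0, 0, 0, 0, 0, 0, 2, 0, 0, 0, 0, 1, 0, 0], [0, 1, 0, 2, 0, 0, 0, 0, 0, 0, 0, 0, 1, 0], [0, 0, 0, 0, 0, 0, 0, 0, 2, 0, 0, 0, 0, 1]],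
   [[1, 0, 0, 2, 0, 0, 0, 0, 0, 0, 0, 0, 0, 0], [0, 1, 0, 2, 0, 0, 0, 0, 0, 0, 0, 0, 0, 0], [0, 0, 1, 0, 0, 0, 0, 0, 0, 0, 0, 0, 0, 0], [0, 0, 0, 1, 0, 0, 0, 0, 0, 0, 0, 0, 0, 0], [0, 0, 0, 0, 1, 0, 0, 0, 0, 0, 0, 0, 0, 0], [0, 0, 0, 0, 0, 1, 0, 0, 0, 0, 0, 0, 0, 0], [0, 0, 0, 0, 0, 0, 1, 0, 0, 0, 0, 0, 0, 0], [0, 0, 2, 0, 0, 0, 0, 1, 0, 0, 0, 0, 0, 0], [0, 0, 0, 0, 0, 0, 0, 0, 1, 0, 0, 0, 0, 0], [0, 0, 0, 0, 2, 0, 0, 0, 0, 1, 0, 0, 0, 0], [0, 0, 0, 0, 0, 0, 0, 0, 0, 0, 1, 0, 0, 0], [0, 0, 0, 0, 0, 0, 1, 0, 0, 0, 0, 1, 0, 0], [0, 2, 0, 2, 0, 0, 0, 0, 0, 0, 0, 0, 1, 0], [0, 0, 0, 0, 0, 0, 0, 0, 1, 0, 0, 0, 0, 1]]],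
  [[[1, 0, 0, 0, 0, 0, 0, 0, 0, 0, 0, 0, 0, 0], [0, 1, 0, 0, 0, 0, 0, 0, 0, 0, 0, 0, 0, 0], [0, 0, 1, 0, 0, 0, 0, 0, 0, 0, 0, 0, 0, 0], [0, 0, 0, 1, 0, 0, 0, 0, 0, 0, 0, 0, 0, 0], [0, 0, 0, 0, 1, 0, 0, 0, 0, 0, 0, 0, 0, 0], [0, 0, 0, 0, 0, 1, 0, 0, 0, 0, 0, 0, 0, 0], [0, 0, 0, 0, 0, 0, 1, 0, 0, 0, 0, 0, 0, 0], [0, 0, 0, 0, 0, 0, 0, 1, 0, 0, 0, 0, 0, 0], [0, 0, 0, 0, 0, 0, 0, 0, 1, 0, 0, 0, 0, 0], [0, 0, 0, 0, 0, 0, 0, 0, 0, 1, 0, 0, 0, 0], [0, 0, 0, 0, 0, 0, 0, 0, 0, 0, 1, 0, 0, 0], [0, 0, 0, 0, 0, 0, 0, 0, 0, 0, 0, 1, 0, 0], [0, 0, 0, 0, 0, 0, 0, 0, 0, 0, 0, 0, 1, 0], [0, 0, 0, 0, 0, 0, 0, 0, 0, 0, 0, 0, 0, 1]],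
   [[1, 0, 1, 0, 0, 0, 0, 0, 0, 0, 0, 0, 0, 0], [0, 1, 2, 0, 0, 0, 0, 0, 0, 0, 0, 0, 0, 0], [0, 0, 1, 0, 0, 0, 0, 0, 0, 0, 0, 0, 0, 0], [0, 0, 0, 1, 0, 0, 0, 0, 0, 0, 0, 0, 0, 0], [0, 0, 0, 0, 1, 0, 0, 0, 0, 0, 0, 0, 0, 0], [0, 0, 0, 0, 0, 1, 0, 0, 0, 0, 0, 0, 0, 0], [0, 0, 0, 0, 0, 0, 1, 0, 0, 0, 0, 0, 0, 0], [0, 0, 0, 0, 0, 0, 0, 1, 0, 0, 0, 0, 0, 0], [0, 0, 0, 1, 0, 0, 0, 0, 1, 0, 0, 0, 0, 0], [0, 0, 0, 0, 0, 0, 0, 0, 0, 1, 0, 0, 0, 0], [0, 0, 0, 0, 1, 0, 0, 0, 0, 0, 1, 0, 0, 0], [0, 0, 0, 0, 0, 2, 0, 0, 0, 0, 0, 1, 0, 0], [0, 0, 0, 0, 0, 0, 0, 2, 0, 0, 0, 0, 1, 0], [0, 2, 2, 0, 0, 0, 0, 0, 0, 0, 0, 0, 0, 1]],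
   [[1, 0, 2, 0, 0, 0, 0, 0, 0, 0, 0, 0, 0, 0], [0, 1, 1, 0, 0, 0, 0, 0, 0, 0, 0, 0, 0, 0], [0, 0, 1, 0, 0, 0, 0, 0, 0, 0, 0, 0, 0, 0], [0, 0, 0, 1, 0, 0, 0, 0, 0, 0, 0, 0, 0, 0], [0, 0, 0, 0, 1, 0, 0, 0, 0, 0, 0, 0, 0, 0], [0, 0, 0, 0, 0, 1, 0, 0, 0, 0, 0, 0, 0, 0], [0, 0, 0, 0, 0, 0, 1, 0, 0, 0, 0, 0, 0, 0], [0, 0, 0, 0, 0, 0, 0, 1, 0, 0, 0, 0, 0, 0], [0, 0, 0, 2, 0, 0, 0, 0, 1, 0, 0, 0, 0, 0], [0, 0, 0, 0, 0, 0, 0, 0, 0, 1, 0, 0, 0, 0], [0, 0, 0, 0, 2, 0, 0, 0, 0, 0, 1, 0, 0, 0], [0, 0, 0, 0, 0, 1, 0, 0, 0, 0, 0, 1, 0, 0], [0, 0, 0, 0, 0, 0, 0, 1, 0, 0, 0, 0, 1, 0], [0, 1, 2, 0, 0, 0, 0, 0, 0, 0, 0, 0, 0, 1]]]]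

def xL (r c : ℕ) : List (List ℕ) := if r < 12 then (xT.getD r []).getD c [] else id14

set_option maxRecDepth 100000 in
theorem hx_0 : ∀ c : ZMod 3, D.x (ZMod 3) 0 c = TM (xL 0 c.val) := by decide +kernel
set_option maxRecDepth 100000 in
theorem hx_1 : ∀ c : ZMod 3, D.x (ZMod 3) 1 c = TM (xL 1 c.val) := by decide +kernel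
set_option maxRecDepth 100000 in
theorem hx_2 : ∀ c : ZMod 3, D.x (ZMod 3) 2 c = TM (xL 2 c.val) := by decide +kernel
set_option maxRecDepth 100000 in
theorem hx_3 : ∀ c : ZMod 3, D.x (ZMod 3) 3 c = TM (xL 3 c.val) := by decide +kernel
set_option maxRecDepth 100000 in
theorem hx_4 : ∀ c : ZMod 3, D.x (ZMod 3) 4 c = TM (xL 4 c.val) := by decide +kernel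
set_option maxRecDepth 100000 in
theorem hx_5 : ∀ c : ZMod 3, D.x (ZMod 3) 5 c = TM (xL 5 c.val) := by decide +kernel
set_option maxRecDepth 100000 in
theorem hx_6 : ∀ c : ZMod 3, D.x (ZMod 3) 6 c = TM (xL 6 c.val) := by decide +kernel
set_option maxRecDepth 100000 in
theorem hx_7 : ∀ c : ZMod 3, D.x (ZMod 3) 7 c = TM (xL 7 c.val) := by decide +kernel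
set_option maxRecDepth 100000 in
theorem hx_8 : ∀ c : ZMod 3, D.x (ZMod 3) 8 c = TM (xL 8 c.val) := by decide +kernel
set_option maxRecDepth 100000 in
theorem hx_9 : ∀ c : ZMod 3, D.x (ZMod 3) 9 c = TM (xL 9 c.val) := by decide +kernel
set_option maxRecDepth 100000 in
theorem hx_10 : ∀ c : ZMod 3, D.x (ZMod 3) 10 c = TM (xL 10 c.val) := by decide +kernel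
set_option maxRecDepth 100000 in
theorem hx_11 : ∀ c : ZMod 3, D.x (ZMod 3) 11 c = TM (xL 11 c.val) := by decide +kernel

theorem hx (r : ℕ) (c : ZMod 3) : D.x (ZMod 3) r c = TM (xL r c.val) := by
  by_cases h : r < 12
  · interval_cases r
    · exact hx_0 c
    · exact hx_1 c
    · exact hx_2 c
    · exact hx_3 c
    · exact hx_4 c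
    · exact hx_5 c
    · exact hx_6 c
    · exact hx_7 c
    · exact hx_8 c
    · exact hx_9 c
    · exact hx_10 c
    · exact hx_11 c
  · have h1 : ¬ r < D.nroots := h
    unfold Cfsg.Lie.ChevalleyDatum.x
    rw [dif_neg h1]
    unfold xL
    rw [if_neg h]
    exact TM_one.symm

/-- The matrix of a word, as rows. -/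
def wordL (w : List (ℕ × ZMod 3)) : List (List ℕ) :=
  w.foldr (fun p acc => mul14 (xL p.1 p.2.val) acc) id14

theorem wordMat_eq (w : List (ℕ × ZMod 3)) : D.wordMat (ZMod 3) w = TM (wordL w) := by
  induction w with
  | nil =>
    unfold Cfsg.Lie.ChevalleyDatum.wordMat
    rw [List.map_nil, List.prod_nil]
    exact TM_one.symm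
  | cons p w ih =>
    unfold Cfsg.Lie.ChevalleyDatum.wordMat at ih ⊢
    rw [List.map_cons, List.prod_cons, ih, hx, TM_mul]
    rfl

/-! ### The image of the presented group -/

def T14_c0 : Fin 63 → List (List ℕ)
  | ⟨0, _⟩ => [[1, 0, 0, 0, 0, 0, 0, 0, 0, 0, 0, 0, 0, 0], [0, 1, 0, 0, 0, 0, 0, 0, 0, 0, 0, 0, 0, 0], [0, 0, 1, 0, 0, 0, 0, 0, 0, 0, 0, 0, 0, 0], [0, 0, 0, 1, 0, 0, 0, 0, 0, 0, 0, 0, 0, 0], [0, 0, 0, 0, 1, 0, 0, 0, 0, 0, 0, 0, 0, 0], [0, 0, 0, 0, 0, 1, 0, 0, 0, 0, 0, 0, 0, 0], [0, 0, 0, 0, 0, 0, 1, 0, 0, 0, 0, 0, 0, 0], [0, 0, 0, 0, 0, 0, 0, 1, 0, 0, 0, 0, 0, 0], [0, 0, 0, 0, 0, 0, 0, 0, 1, 0, 0, 0, 0, 0], [0, 0,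 0, 0, 0, 0, 0, 0, 0, 1, 0, 0, 0, 0], [0, 0, 0, 0, 0, 0, 0, 0, 0, 0, 1, 0, 0, 0], [0, 0, 0, 0, 0, 0, 0, 0, 0, 0, 0, 1, 0, 0], [0, 0, 0, 0, 0, 0, 0, 0, 0, 0, 0, 0, 1, 0], [0, 0, 0, 0, 0, 0, 0, 0, 0, 0, 0, 0, 0, 1]]
  | ⟨1, _⟩ => [[1, 2, 2, 1, 2, 2, 0, 0, 2, 1, 1, 2, 0, 0], [0, 1, 2, 2, 0, 0, 0, 0, 1, 0, 0, 0, 1, 2], [0, 1, 1, 1, 0, 0, 0, 1, 2, 0, 0, 0, 1, 2], [0, 2, 2, 0, 0, 0, 0, 0, 2, 0, 0, 0, 1, 1], [1, 1, 0, 2, 1, 1, 1, 0, 1, 2, 1, 2, 1, 0], [2, 2, 1, 0, 2, 0, 0, 1, 0, 2, 1, 1, 0, 1], [2, 2, 2, 1, 1, 0, 1, 0, 2, 0, 2, 2, 1, 2], [0, 2, 1, 0, 0, 0, 0, 1, 0, 0, 0, 0, 2, 2], [0, 0, 0, 1, 0, 0, 0, 0, 1, 0, 0, 0, 0, 1], [0, 1, 2,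 0, 0, 1, 0, 2, 0, 1, 0, 1, 2, 1], [1, 2, 2, 2, 2, 0, 1, 0, 1, 0, 0, 1, 1, 1], [1, 2, 1, 0, 1, 2, 0, 0, 0, 1, 2, 1, 1, 0], [0, 1, 2, 0, 0, 0, 0, 1, 0, 0, 0, 0, 0, 1], [0, 1, 1, 2, 0, 0, 0, 0, 1, 0, 0, 0, 2, 1]]
  | ⟨2, _⟩ => [[1, 0, 2, 0, 1, 0, 0, 0, 0, 0, 0, 0, 0, 0], [0, 1, 1, 0, 0, 0, 0, 0, 0, 0, 0, 0, 0, 0], [0, 0, 1, 0, 0, 0, 0, 0, 0, 0, 0, 0, 0, 0], [0, 0, 0, 1, 0, 0, 0, 0, 0, 0, 0, 0, 0, 0], [0, 0, 0, 0, 1, 0, 0, 0, 0, 0, 0, 0, 0, 0], [0, 0, 2, 0, 0, 1, 0, 0, 0, 0, 0, 0, 0, 0], [0, 0, 0, 2, 0, 0, 1, 0, 0, 0, 0, 0, 0, 0], [0, 0, 0, 0, 0, 0, 0, 1, 0, 0, 0, 0, 0, 0], [0, 0, 0, 2, 0, 0, 0, 0, 1, 0, 0, 0, 0, 0], [0, 0, 2, 0,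 0, 2, 0, 0, 0, 1, 0, 0, 0, 0], [0, 0, 0, 1, 2, 0, 1, 0, 0, 0, 1, 0, 0, 0], [1, 0, 2, 0, 2, 1, 0, 0, 0, 0, 0, 1, 0, 0], [0, 0, 2, 0, 0, 0, 0, 1, 0, 0, 0, 0, 1, 0], [0, 1, 2, 1, 0, 0, 0, 0, 0, 0, 0, 0, 0, 1]]
  | ⟨3, _⟩ => [[0, 2, 1, 0, 0, 0, 1, 0, 2, 1, 1, 2, 0, 0], [0, 0, 0, 0, 0, 0, 0, 1, 1, 0, 0, 0, 1, 2], [0, 0, 2, 1, 0, 0, 0, 2, 2, 0, 0, 0, 1, 2], [0, 0, 2, 2, 0, 0, 0, 1, 2, 0, 0, 0, 1, 1], [0, 1, 0, 1, 2, 1, 2, 1, 1, 2, 1, 2, 1, 0], [0, 0, 0, 2, 2, 2, 1, 1, 0, 2, 1, 1, 0, 1], [1, 1, 0, 2, 2, 2, 0, 1, 2, 0, 2, 2, 1, 2], [0, 1, 2, 2, 0, 0, 0, 0, 0, 0, 0, 0, 2, 2], [0, 1, 2, 1, 0, 0, 0, 0, 1, 0, 0, 0, 0, 1], [1, 2, 0, 1, 2,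 1, 0, 1, 0, 1, 0, 1, 2, 1], [2, 0, 0, 1, 2, 1, 1, 1, 1, 0, 0, 1, 1, 1], [2, 2, 0, 2, 2, 2, 2, 1, 0, 1, 2, 1, 1, 0], [0, 2, 2, 1, 0, 0, 0, 1, 0, 0, 0, 0, 0, 1], [0, 2, 2, 2, 0, 0, 0, 2, 1, 0, 0, 0, 2, 1]]
  | ⟨4, _⟩ => [[2, 2, 1, 2, 0, 0, 1, 2, 1, 0, 2, 1, 0, 1], [0, 2, 0, 0, 0, 0, 0, 1, 0, 0, 0, 0, 2, 1], [0, 1, 1, 1, 0, 0, 0, 1, 2, 0, 0, 0, 1, 2], [0, 2, 2, 0, 0, 0, 0, 0, 2, 0, 0, 0, 1, 1], [1, 1, 0, 2, 1, 1, 1, 0, 1, 2, 1, 2, 1, 0], [2, 1, 0, 2, 2, 0, 0, 0, 1, 2, 1, 1, 2, 2], [2, 0, 0, 1, 1, 0, 1, 0, 0, 0, 2, 2, 0, 1], [0, 2, 1, 0, 0, 0, 0, 1, 0, 0, 0, 0, 2, 2], [0, 1, 1, 1, 0, 0, 0, 0, 2, 0, 0, 0, 2, 0], [1, 1, 0, 2, 1, 1,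 0, 0, 1, 2, 2, 0, 1, 1], [2, 2, 0, 1, 2, 2, 1, 0, 1, 1, 1, 1, 2, 1], [0, 1, 0, 1, 1, 0, 2, 0, 2, 2, 0, 2, 2, 2], [0, 2, 2, 2, 0, 0, 0, 1, 1, 0, 0, 0, 1, 1], [0, 0, 1, 0, 0, 0, 0, 2, 2, 0, 0, 0, 0, 2]]
  | ⟨5, _⟩ => [[1, 0, 1, 0, 2, 0, 0, 0, 0, 0, 0, 0, 0, 0], [0, 1, 2, 0, 0, 0, 0, 0, 0, 0, 0, 0, 0, 0], [0, 0, 1, 0, 0, 0, 0, 0, 0, 0, 0, 0, 0, 0], [0, 0, 0, 1, 0, 0, 0, 0, 0, 0, 0, 0, 0, 0], [0, 0, 0, 0, 1, 0, 0, 0, 0, 0, 0, 0, 0, 0], [0, 0, 1, 0, 0, 1, 0, 0, 0, 0, 0, 0, 0, 0], [0, 0, 0, 1, 0, 0, 1, 0, 0, 0, 0, 0, 0, 0], [0, 0, 0, 0, 0, 0, 0, 1, 0, 0, 0, 0, 0, 0], [0, 0, 0, 1, 0, 0, 0, 0, 1, 0, 0, 0, 0, 0], [0, 0, 2, 0, 0, 1, 0,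 0, 0, 1, 0, 0, 0, 0], [0, 0, 0, 1, 1, 0, 2, 0, 0, 0, 1, 0, 0, 0], [2, 0, 2, 0, 2, 2, 0, 0, 0, 0, 0, 1, 0, 0], [0, 0, 1, 0, 0, 0, 0, 2, 0, 0, 0, 0, 1, 0], [0, 2, 2, 2, 0, 0, 0, 0, 0, 0, 0, 0, 0, 1]]
  | ⟨6, _⟩ => [[2, 0, 1, 1, 2, 2, 2, 0, 0, 0, 0, 0, 0, 0], [0, 2, 2, 2, 0, 0, 0, 2, 0, 0, 0, 0, 0, 0], [0, 2, 1, 2, 0, 0, 0, 2, 1, 0, 0, 0, 2, 2], [0, 1, 1, 0, 0, 0, 0, 1, 2, 0, 0, 0, 2, 0], [2, 1, 2, 2, 1, 2, 2, 1, 2, 1, 2, 2, 0, 0], [1, 0, 2, 0, 1, 0, 1, 1, 1, 2, 2, 0, 0, 0], [2, 2, 0, 2, 2, 2, 1, 1, 0, 2, 0, 0, 0, 0], [0, 2, 2, 2, 0, 0, 0, 1, 2, 0, 0, 0, 0, 0], [0, 0, 1, 1, 0, 0, 0, 2, 0, 0, 0, 0, 0, 0], [0, 0, 0, 2, 1, 1, 2, 0,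 0, 0, 0, 0, 0, 0], [0, 0, 2, 1, 1, 2, 0, 0, 0, 0, 0, 0, 0, 0], [0, 0, 1, 1, 2, 0, 0, 0, 0, 0, 0, 0, 0, 0], [0, 0, 1, 2, 0, 0, 0, 0, 0, 0, 0, 0, 0, 0], [0, 0, 2, 0, 0, 0, 0, 0, 0, 0, 0, 0, 0, 0]]
  | ⟨7, _⟩ => [[2, 2, 0, 1, 0, 1, 2, 0, 2, 1, 1, 2, 0, 0], [0, 2, 0, 1, 0, 0, 0, 2, 1, 0, 0, 0, 1, 2], [0, 2, 2, 1, 0, 0, 0, 0, 2, 0, 0, 0, 1, 2], [0, 1, 0, 1, 0, 0, 0, 2, 2, 0, 0, 0, 1, 1], [2, 1, 1, 2, 2, 1, 0, 2, 1, 2, 1, 2, 1, 0], [1, 1, 0, 0, 0, 1, 2, 1, 0, 2, 1, 1, 0, 1], [0, 0, 2, 1, 2, 1, 2, 2, 2, 0, 2, 2, 1, 2], [0, 0, 2, 1, 0, 0, 0, 2, 0, 0, 0, 0, 2, 2], [0, 2, 2, 1, 0, 0, 0, 0, 1, 0, 0, 0, 0, 1], [2, 0, 1, 2, 2, 1, 0, 0, 0,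 1, 0, 1, 2, 1], [0, 1, 0, 0, 0, 2, 1, 2, 1, 0, 0, 1, 1, 1], [0, 2, 1, 2, 1, 2, 1, 2, 0, 1, 2, 1, 1, 0], [0, 0, 0, 2, 0, 0, 0, 1, 0, 0, 0, 0, 0, 1], [0, 0, 1, 2, 0, 0, 0, 1, 1, 0, 0, 0, 2, 1]]
  | ⟨8, _⟩ => [[0, 0, 2, 0, 2, 1, 0, 2, 1, 0, 2, 1, 0, 1], [0, 0, 2, 1, 0, 0, 0, 0, 0, 0, 0, 0, 2, 1], [0, 0, 2, 1, 0, 0, 0, 2, 2, 0, 0, 0, 1, 2], [0, 0, 2, 2, 0, 0, 0, 1, 2, 0, 0, 0, 1, 1], [0, 1, 0, 1, 2, 1, 2, 1, 1, 2, 1, 2, 1, 0], [0, 0, 1, 1, 2, 2, 1, 2, 1, 2, 1, 1, 2, 2], [1, 1, 1, 0, 2, 2, 0, 0, 0, 0, 2, 2, 0, 1], [0, 1, 2, 2, 0, 0, 0, 0, 0, 0, 0, 0, 2, 2], [0, 1, 0, 2, 0, 0, 0, 2, 2, 0, 0, 0, 2, 0], [1, 2, 1, 1, 0, 2, 2, 1, 1, 2,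 2, 0, 1, 1], [0, 0, 2, 1, 2, 2, 2, 2, 1, 1, 1, 1, 2, 1], [2, 0, 2, 2, 2, 0, 2, 2, 2, 2, 0, 2, 2, 2], [0, 0, 2, 2, 0, 0, 0, 2, 1, 0, 0, 0, 1, 1], [0, 2, 2, 0, 0, 0, 0, 2, 2, 0, 0, 0, 0, 2]]
  | ⟨9, _⟩ => [[0, 2, 0, 0, 1, 1, 2, 1, 0, 2, 0, 0, 0, 2], [0, 0, 1, 1, 0, 0, 0, 2, 2, 0, 0, 0, 0, 0], [0, 1, 1, 1, 0, 0, 0, 1, 2, 0, 0, 0, 1, 2], [0, 2, 2, 0, 0, 0, 0, 0, 2, 0, 0, 0, 1, 1], [1, 1, 0, 2, 1, 1, 1, 0, 1, 2, 1, 2, 1, 0], [2, 0, 2, 1, 2, 0, 0, 2, 2, 2, 1, 1, 1, 0], [2, 1, 1, 1, 1, 0, 1, 0, 1, 0, 2, 2, 2, 0], [0, 2, 1, 0, 0, 0, 0, 1, 0, 0, 0, 0, 2, 2], [0, 2, 2, 1, 0, 0, 0, 0, 0, 0, 0, 0, 1, 2], [2, 2, 2, 2, 2, 1, 0, 2, 1, 0, 1,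 2, 1, 0], [0, 0, 2, 0, 2, 1, 1, 0, 2, 2, 2, 1, 2, 0], [0, 2, 0, 2, 2, 2, 2, 1, 1, 2, 2, 2, 2, 0], [0, 0, 2, 1, 0, 0, 0, 1, 2, 0, 0, 0, 2, 1], [0, 0, 2, 2, 0, 0, 0, 2, 2, 0, 0, 0, 2, 2]]
  | ⟨10, _⟩ => [[2, 0, 0, 2, 1, 2, 2, 0, 0, 0, 0, 0, 0, 0], [0, 2, 1, 2, 0, 0, 0, 2, 0, 0, 0, 0, 0, 0], [0, 1, 2, 0, 0, 0, 0, 1, 1, 0, 0, 0, 2, 2], [0, 1, 0, 1, 0, 0, 0, 0, 2, 0, 0, 0, 2, 0], [1, 1, 2, 0, 2, 0, 1, 1, 2, 1, 2, 2, 0, 0], [1, 0, 2, 0, 0, 1, 0, 1, 1, 2, 2, 0, 0, 0], [2, 2, 2, 1, 1, 0, 1, 1, 0, 2, 0, 0, 0, 0], [0, 2, 1, 0, 0, 0, 0, 1, 2, 0, 0, 0, 0, 0], [0, 0, 1, 1, 0, 0, 0, 2, 0, 0, 0, 0, 0, 0], [0, 0, 2, 0, 1, 1, 2, 0, 0, 0, 0, 0,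 0, 0], [0, 0, 0, 1, 1, 2, 0, 0, 0, 0, 0, 0, 0, 0], [0, 0, 1, 1, 2, 0, 0, 0, 0, 0, 0, 0, 0, 0], [0, 0, 1, 2, 0, 0, 0, 0, 0, 0, 0, 0, 0, 0], [0, 0, 2, 0, 0, 0, 0, 0, 0, 0, 0, 0, 0, 0]]
  | ⟨11, _⟩ => [[2, 0, 0, 0, 0, 0, 0, 0, 0, 1, 2, 1, 1, 2], [0, 2, 0, 0, 0, 0, 0, 0, 1, 0, 0, 0, 2, 1], [0, 0, 0, 0, 0, 0, 0, 0, 0, 0, 0, 0, 0, 2], [0, 0, 0, 0, 0, 0, 0, 0, 0, 0, 0, 0, 2, 2], [0, 0, 0, 0, 0, 0, 0, 0, 0, 0, 0, 2, 2, 1], [0, 0, 0, 0, 0, 0, 0, 0, 0, 0, 2, 2, 1, 1], [0, 0, 0, 0, 0, 0, 0, 0, 0, 2, 2, 1, 1, 0], [0, 0, 0, 0, 0, 0, 0, 0, 2, 0, 0, 0, 2, 1], [0, 1, 0, 0, 0, 0, 0, 2, 1, 0, 0, 0, 1, 2], [1, 1, 0, 0, 0, 0, 2, 0, 1, 1, 1, 2, 1,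 0], [1, 0, 0, 0, 0, 2, 1, 2, 2, 2, 0, 2, 0, 1], [1, 2, 0, 0, 2, 1, 1, 2, 1, 2, 1, 1, 1, 2], [0, 1, 0, 2, 0, 0, 0, 1, 2, 0, 0, 0, 0, 2], [0, 1, 2, 1, 0, 0, 0, 1, 2, 0, 0, 0, 1, 1]]
  | ⟨12, _⟩ => [[1, 2, 2, 1, 0, 1, 1, 2, 1, 1, 2, 2, 1, 1], [0, 1, 0, 1, 0, 0, 0, 1, 1, 0, 0, 0, 2, 2], [0, 2, 1, 2, 0, 0, 0, 2, 1, 0, 0, 0, 2, 2], [0, 1, 1, 0, 0, 0, 0, 1, 2, 0, 0, 0, 2, 0], [2, 1, 2, 2, 1, 2, 2, 1, 2, 1, 2, 2, 0, 0], [1, 1, 1, 1, 1, 0, 1, 2, 0, 2, 2, 0, 1, 1], [2, 1, 2, 2, 2, 2, 1, 0, 1, 2, 0, 0, 1, 0], [0, 2, 2, 2, 0, 0, 0, 1, 2, 0, 0, 0, 0, 0], [0, 2, 0, 1, 0, 0, 0, 1, 1, 0, 0, 0, 1, 0], [2, 1, 0, 0, 0, 1, 1, 0, 1, 1, 1, 0, 1, 1],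 [0, 2, 1, 1, 2, 2, 2, 1, 0, 1, 1, 1, 2, 0], [1, 0, 1, 1, 1, 0, 1, 1, 1, 1, 0, 1, 1, 1], [0, 0, 2, 2, 0, 0, 0, 2, 1, 0, 0, 0, 1, 1], [0, 1, 1, 0, 0, 0, 0, 1, 1, 0, 0, 0, 0, 1]]
  | ⟨13, _⟩ => [[1, 1, 2, 2, 2, 2, 2, 2, 1, 0, 2, 1, 0, 1], [0, 1, 2, 2, 0, 0, 0, 2, 0, 0, 0, 0, 2, 1], [0, 2, 2, 1, 0, 0, 0, 0, 2, 0, 0, 0, 1, 2], [0, 1, 0, 1, 0, 0, 0, 2, 2, 0, 0, 0, 1, 1], [2, 1, 1, 2, 2, 1, 0, 2, 1, 2, 1, 2, 1, 0], [1, 2, 1, 2, 0, 1, 2, 1, 1, 2, 1, 1, 2, 2], [0, 2, 2, 0, 2, 1, 2, 0, 0, 0, 2, 2, 0, 1], [0, 0, 2, 1, 0, 0, 0, 2, 0, 0, 0, 0, 2, 2], [0, 1, 2, 0, 0, 0, 0, 1, 2, 0, 0, 0, 2, 0], [1, 0, 2, 1, 2, 0, 1, 2, 1, 2, 2, 0, 1, 1], [1,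 1, 1, 0, 0, 2, 0, 1, 1, 1, 1, 1, 2, 1], [1, 2, 1, 0, 2, 0, 2, 1, 2, 2, 0, 2, 2, 2], [0, 1, 0, 2, 0, 0, 0, 0, 1, 0, 0, 0, 1, 1], [0, 1, 2, 0, 0, 0, 0, 2, 2, 0, 0, 0, 0, 2]]
  | ⟨14, _⟩ => [[0, 1, 0, 0, 1, 2, 2, 1, 0, 2, 0, 0, 0, 2], [0, 0, 1, 2, 0, 0, 0, 2, 2, 0, 0, 0, 0, 0], [0, 0, 2, 1, 0, 0, 0, 2, 2, 0, 0, 0, 1, 2], [0, 0, 2, 2, 0, 0, 0, 1, 2, 0, 0, 0, 1, 1], [0, 1, 0, 1, 2, 1, 2, 1, 1, 2, 1, 2, 1, 0], [0, 0, 2, 0, 2, 2, 1, 0, 2, 2, 1, 1, 1, 0], [1, 1, 2, 1, 2, 2, 0, 2, 1, 0, 2, 2, 2, 0], [0, 1, 2, 2, 0, 0, 0, 0, 0, 0, 0, 0, 2, 2], [0, 1, 1, 0, 0, 0, 0, 1, 0, 0, 0, 0, 1, 2], [1, 2, 1, 2, 1, 0, 1, 0, 1, 0, 1, 2, 1, 0], [1, 0,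 2, 2, 2, 0, 0, 2, 2, 2, 2, 1, 2, 0], [2, 2, 0, 1, 1, 2, 1, 0, 1, 2, 2, 2, 2, 0], [0, 1, 2, 0, 0, 0, 0, 0, 2, 0, 0, 0, 2, 1], [0, 2, 1, 2, 0, 0, 0, 1, 2, 0, 0, 0, 2, 2]]
  | ⟨15, _⟩ => [[2, 2, 2, 0, 2, 2, 0, 2, 1, 2, 0, 0, 2, 2], [0, 2, 2, 2, 0, 0, 0, 0, 2, 0, 0, 0, 0, 0], [0, 0, 2, 0, 0, 0, 0, 2, 2, 0, 0, 0, 0, 1], [0, 2, 2, 1, 0, 0, 0, 2, 2, 0, 0, 0, 2, 1], [0, 2, 2, 1, 2, 0, 2, 2, 0, 2, 0, 1, 2, 0], [2, 2, 2, 2, 2, 1, 2, 2, 0, 2, 2, 1, 1, 0], [2, 2, 1, 2, 0, 1, 2, 1, 0, 0, 2, 1, 1, 0], [0, 2, 0, 1, 0, 0, 0, 2, 0, 0, 0, 0, 2, 1], [0, 1, 2, 1, 0, 0, 0, 0, 1, 0, 0, 0, 0, 1], [1, 0, 1, 0, 2, 1, 0, 0, 0, 1, 0, 1, 2, 0], [2, 1, 1,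 2, 2, 1, 1, 2, 0, 0, 0, 1, 2, 0], [2, 2, 0, 2, 2, 2, 2, 1, 0, 1, 2, 1, 1, 0], [0, 2, 2, 1, 0, 0, 0, 1, 0, 0, 0, 0, 0, 1], [0, 2, 2, 2, 0, 0, 0, 2, 1, 0, 0, 0, 2, 1]]
  | ⟨16, _⟩ => [[2, 0, 2, 0, 0, 2, 2, 0, 0, 0, 0, 0, 0, 0], [0, 2, 0, 2, 0, 0, 0, 2, 0, 0, 0, 0, 0, 0], [0, 0, 2, 1, 0, 0, 0, 0, 1, 0, 0, 0, 2, 2], [0, 1, 2, 2, 0, 0, 0, 2, 2, 0, 0, 0, 2, 0], [0, 1, 2, 2, 2, 1, 0, 1, 2, 1, 2, 2, 0, 0], [1, 0, 1, 1, 2, 2, 2, 1, 1, 2, 2, 0, 0, 0], [2, 2, 0, 0, 0, 1, 1, 1, 0, 2, 0, 0, 0, 0], [0, 2, 0, 1, 0, 0, 0, 1, 2, 0, 0, 0, 0, 0], [0, 0, 1, 1, 0, 0, 0, 2, 0, 0, 0, 0, 0, 0], [0, 0, 1, 1, 1, 1, 2, 0, 0, 0, 0, 0, 0, 0], [0, 0, 1, 1,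 1, 2, 0, 0, 0, 0, 0, 0, 0, 0], [0, 0, 1, 1, 2, 0, 0, 0, 0, 0, 0, 0, 0, 0], [0, 0, 1, 2, 0, 0, 0, 0, 0, 0, 0, 0, 0, 0], [0, 0, 2, 0, 0, 0, 0, 0, 0, 0, 0, 0, 0, 0]]
  | ⟨17, _⟩ => [[0, 2, 2, 1, 2, 0, 2, 1, 0, 1, 2, 1, 1, 2], [0, 0, 2, 0, 0, 0, 0, 2, 1, 0, 0, 0, 2, 1], [0, 2, 1, 2, 0, 0, 0, 0, 0, 0, 0, 0, 0, 2], [0, 2, 2, 2, 0, 0, 0, 2, 0, 0, 0, 0, 2, 2], [2, 1, 1, 1, 1, 2, 0, 2, 0, 0, 0, 2, 2, 1], [2, 1, 2, 0, 2, 2, 2, 1, 0, 0, 2, 2, 1, 1], [1, 0, 2, 2, 0, 2, 2, 1, 0, 2, 2, 1, 1, 0], [0, 1, 0, 2, 0, 0, 0, 2, 2, 0, 0, 0, 2, 1], [0, 0, 1, 1, 0, 0, 0, 0, 1, 0, 0, 0, 1, 2], [0, 1, 2, 1, 1, 1, 0, 1, 1, 1, 1, 2, 1, 0], [0, 1, 1, 1, 2,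 2, 1, 2, 2, 2, 0, 2, 0, 1], [2, 1, 0, 1, 1, 0, 2, 0, 1, 2, 1, 1, 1, 2], [0, 0, 2, 2, 0, 0, 0, 1, 2, 0, 0, 0, 0, 2], [0, 2, 1, 0, 0, 0, 0, 2, 2, 0, 0, 0, 1, 1]]
  | ⟨18, _⟩ => [[0, 0, 0, 2, 0, 2, 0, 0, 1, 1, 2, 2, 1, 1], [0, 0, 0, 2, 0, 0, 0, 0, 1, 0, 0, 0, 2, 2], [0, 1, 2, 0, 0, 0, 0, 1, 1, 0, 0, 0, 2, 2], [0, 1, 0, 1, 0, 0, 0, 0, 2, 0, 0, 0, 2, 0], [1, 1, 2, 0, 2, 0, 1, 1, 2, 1, 2, 2, 0, 0], [1, 2, 0, 0, 0, 1, 0, 0, 0, 2, 2, 0, 1, 1], [2, 1, 2, 0, 1, 0, 1, 1, 1, 2, 0, 0, 1, 0], [0, 2, 1, 0, 0, 0, 0, 1, 2, 0, 0, 0, 0, 0], [0, 2, 1, 0, 0, 0, 0, 2, 1, 0, 0, 0, 1, 0], [2, 2, 1, 0, 1, 0, 2, 1, 1, 1, 1, 0, 1, 1], [1, 2, 0, 0, 0, 2,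 0, 0, 0, 1, 1, 1, 2, 0], [2, 1, 2, 0, 1, 0, 1, 2, 1, 1, 0, 1, 1, 1], [0, 1, 0, 2, 0, 0, 0, 0, 1, 0, 0, 0, 1, 1], [0, 2, 1, 0, 0, 0, 0, 1, 1, 0, 0, 0, 0, 1]]
  | ⟨19, _⟩ => [[2, 0, 0, 0, 0, 0, 0, 0, 0, 1, 2, 0, 0, 1], [0, 2, 0, 0, 0, 0, 0, 0, 1, 0, 0, 0, 2, 0], [0, 0, 0, 0, 0, 0, 0, 0, 0, 0, 0, 0, 0, 2], [0, 0, 0, 0, 0, 0, 0, 0, 0, 0, 0, 0, 2, 2], [0, 0, 0, 0, 0, 0, 0, 0, 0, 0, 0, 2, 2, 1], [0, 0, 0, 0, 0, 0, 0, 0, 0, 0, 2, 2, 1, 2], [0, 0, 0, 0, 0, 0, 0, 0, 0, 2, 2, 1, 2, 1], [0, 0, 0, 0, 0, 0, 0, 0, 2, 0, 0, 0, 2, 1], [0, 1, 0, 0, 0, 0, 0, 2, 1, 0, 0, 0, 2, 0], [1, 1, 0, 0, 0, 0, 2, 0, 1, 1, 2, 0, 0, 0], [1, 0, 0, 0, 0, 2, 1,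 2, 2, 1, 2, 1, 1, 2], [0, 2, 0, 0, 2, 1, 1, 2, 1, 0, 2, 2, 1, 2], [0, 1, 0, 2, 0, 0, 0, 1, 1, 0, 0, 0, 2, 1], [0, 0, 2, 1, 0, 0, 0, 1, 0, 0, 0, 0, 2, 2]]
  | ⟨20, _⟩ => [[0, 1, 0, 1, 1, 0, 0, 1, 2, 2, 1, 1, 2, 2], [0, 0, 1, 0, 0, 0, 0, 0, 2, 0, 0, 0, 1, 1], [0, 2, 1, 2, 0, 0, 0, 2, 1, 0, 0, 0, 2, 2], [0, 1, 1, 0, 0, 0, 0, 1, 2, 0, 0, 0, 2, 0], [2, 1, 2, 2, 1, 2, 2, 1, 2, 1, 2, 2, 0, 0], [1, 2, 0, 2, 1, 0, 1, 0, 2, 2, 2, 0, 2, 2], [2, 0, 1, 2, 2, 2, 1, 2, 2, 2, 0, 0, 2, 0], [0, 2, 2, 2, 0, 0, 0, 1, 2, 0, 0, 0, 0, 0], [0, 1, 2, 1, 0, 0, 0, 0, 2, 0, 0, 0, 2, 0], [1, 1, 1, 0, 2, 1, 0, 2, 0, 2, 2, 0, 1, 1], [0, 0, 2, 1, 0, 2, 1, 1,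 1, 2, 2, 2, 2, 0], [1, 0, 1, 2, 1, 2, 1, 2, 2, 0, 2, 1, 1, 1], [0, 0, 0, 2, 0, 0, 0, 1, 2, 0, 0, 0, 2, 2], [0, 1, 1, 2, 0, 0, 0, 1, 0, 0, 0, 0, 2, 1]]
  | ⟨21, _⟩ => [[0, 0, 1, 0, 1, 0, 2, 1, 0, 2, 0, 0, 0, 2], [0, 0, 1, 0, 0, 0, 0, 2, 2, 0, 0, 0, 0, 0], [0, 2, 2, 1, 0, 0, 0, 0, 2, 0, 0, 0, 1, 2], [0, 1, 0, 1, 0, 0, 0, 2, 2, 0, 0, 0, 1, 1], [2, 1, 1, 2, 2, 1, 0, 2, 1, 2, 1, 2, 1, 0], [1, 0, 2, 1, 0, 1, 2, 1, 2, 2, 1, 1, 1, 0], [0, 1, 2, 2, 2, 1, 2, 1, 1, 0, 2, 2, 2, 0], [0, 0, 2, 1, 0, 0, 0, 2, 0, 0, 0, 0, 2, 2], [0, 0, 2, 2, 0, 0, 0, 2, 0, 0, 0, 0, 1, 2], [0, 2, 2, 1, 2, 2, 2, 1, 1, 0, 1, 2, 1, 0], [2, 0, 2, 2, 0, 2, 2, 1, 2,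 2, 2, 1, 2, 0], [1, 2, 1, 1, 2, 2, 0, 2, 1, 2, 2, 2, 2, 0], [0, 2, 0, 2, 0, 0, 0, 2, 2, 0, 0, 0, 2, 1], [0, 1, 2, 2, 0, 0, 0, 0, 2, 0, 0, 0, 2, 2]]
  | ⟨22, _⟩ => [[2, 1, 0, 1, 1, 0, 0, 1, 1, 2, 0, 0, 2, 2], [0, 2, 1, 0, 0, 0, 0, 0, 2, 0, 0, 0, 0, 0], [0, 1, 1, 2, 0, 0, 0, 2, 2, 0, 0, 0, 0, 1], [0, 0, 1, 0, 0, 0, 0, 1, 2, 0, 0, 0, 2, 1], [1, 2, 2, 2, 1, 2, 2, 1, 0, 2, 0, 1, 2, 0], [0, 2, 0, 2, 1, 0, 1, 0, 0, 2, 2, 1, 1, 0], [0, 2, 1, 2, 2, 2, 1, 2, 0, 0, 2, 1, 1, 0], [0, 0, 2, 2, 0, 0, 0, 1, 0, 0, 0, 0, 2, 1], [0, 2, 2, 1, 0, 0, 0, 0, 1, 0, 0, 0, 0, 1], [2, 0, 1, 0, 2, 1, 0, 2, 0, 1, 0, 1, 2, 0], [0, 1, 2, 1, 0, 2, 1, 1, 0, 0,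 0, 1, 2, 0], [0, 2, 1, 2, 1, 2, 1, 2, 0, 1, 2, 1, 1, 0], [0, 0, 0, 2, 0, 0, 0, 1, 0, 0, 0, 0, 0, 1], [0, 0, 1, 2, 0, 0, 0, 1, 1, 0, 0, 0, 2, 1]]
  | ⟨23, _⟩ => [[1, 2, 0, 0, 1, 1, 2, 1, 0, 0, 2, 1, 1, 1], [0, 1, 1, 1, 0, 0, 0, 2, 0, 0, 0, 0, 2, 1], [0, 2, 1, 1, 0, 0, 0, 1, 0, 0, 0, 0, 1, 1], [0, 1, 2, 0, 0, 0, 0, 0, 2, 0, 0, 0, 0, 1], [2, 1, 0, 2, 1, 1, 1, 0, 0, 0, 1, 1, 0, 1], [1, 2, 2, 1, 2, 0, 0, 2, 0, 2, 0, 1, 2, 1], [0, 2, 1, 1, 1, 0, 1, 0, 2, 0, 2, 0, 0, 2], [0, 0, 1, 0, 0, 0, 0, 1, 0, 0, 0, 0, 2, 0], [0, 1, 2, 1, 0, 0, 0, 0, 1, 0, 0, 0, 0, 1], [1, 1, 2, 2, 2, 1, 0, 2, 0, 1, 0, 1, 2, 2], [2, 2, 2, 0, 2, 1, 1, 0, 2, 0, 0,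 1, 0, 2], [2, 2, 0, 2, 2, 2, 2, 1, 0, 1, 2, 1, 1, 0], [0, 2, 2, 1, 0, 0, 0, 1, 0, 0, 0, 0, 0, 1], [0, 2, 2, 2, 0, 0, 0, 2, 1, 0, 0, 0, 2, 1]]
  | ⟨24, _⟩ => [[0, 0, 0, 2, 0, 2, 0, 0, 0, 0, 2, 0, 2, 0], [0, 0, 0, 2, 0, 0, 0, 0, 0, 0, 0, 0, 2, 0], [0, 0, 2, 0, 0, 0, 0, 1, 1, 0, 0, 0, 0, 1], [0, 1, 0, 1, 0, 0, 0, 0, 0, 0, 0, 0, 2, 0], [0, 0, 2, 0, 2, 0, 1, 1, 2, 1, 0, 1, 0, 2], [1, 2, 0, 0, 0, 1, 0, 0, 0, 0, 2, 0, 0, 0], [0, 0, 2, 0, 1, 0, 1, 1, 1, 2, 0, 1, 0, 1], [0, 0, 1, 0, 0, 0, 0, 1, 2, 0, 0, 0, 0, 1], [0, 0, 1, 0, 0, 0, 0, 2, 1, 0, 0, 0, 0, 1], [0, 0, 1, 0, 1, 0, 2, 1, 1, 1, 0, 1, 0, 2], [1, 2, 0, 0, 0, 2, 0, 0, 0, 0, 1, 0,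 0, 0], [0, 0, 2, 0, 1, 0, 1, 2, 1, 1, 0, 2, 0, 2], [0, 1, 0, 2, 0, 0, 0, 0, 0, 0, 0, 0, 1, 0], [0, 0, 1, 0, 0, 0, 0, 1, 1, 0, 0, 0, 0, 2]]
  | ⟨25, _⟩ => [[1, 1, 2, 0, 2, 0, 1, 2, 0, 1, 2, 1, 1, 2], [0, 1, 2, 0, 0, 0, 0, 1, 1, 0, 0, 0, 2, 1], [0, 1, 1, 1, 0, 0, 0, 0, 0, 0, 0, 0, 0, 2], [0, 1, 0, 1, 0, 0, 0, 1, 0, 0, 0, 0, 2, 2], [1, 2, 2, 2, 1, 1, 0, 1, 0, 0, 0, 2, 2, 1], [1, 2, 1, 1, 0, 1, 1, 2, 0, 0, 2, 2, 1, 1], [2, 0, 1, 2, 1, 1, 1, 2, 0, 2, 2, 1, 1, 0], [0, 2, 1, 1, 0, 0, 0, 1, 2, 0, 0, 0, 2, 1], [0, 2, 1, 2, 0, 0, 0, 1, 1, 0, 0, 0, 1, 2], [2, 1, 1, 1, 1, 2, 1, 2, 1, 1, 1, 2, 1, 0], [2, 2, 1, 2, 0, 2, 1, 2, 2, 2, 0, 2, 0,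 1], [0, 0, 2, 1, 1, 2, 0, 1, 1, 2, 1, 1, 1, 2], [0, 2, 0, 2, 0, 0, 0, 1, 2, 0, 0, 0, 0, 2], [0, 0, 1, 2, 0, 0, 0, 0, 2, 0, 0, 0, 1, 1]]
  | ⟨26, _⟩ => [[2, 1, 2, 1, 1, 2, 2, 2, 2, 1, 0, 1, 1, 1], [0, 2, 1, 2, 0, 0, 0, 2, 1, 0, 0, 0, 0, 1], [0, 0, 2, 0, 0, 0, 0, 2, 2, 0, 0, 0, 0, 1], [0, 2, 2, 1, 0, 0, 0, 2, 2, 0, 0, 0, 2, 1], [0, 2, 2, 1, 2, 0, 2, 2, 0, 2, 0, 1, 2, 0], [2, 2, 0, 2, 2, 1, 2, 0, 1, 2, 2, 1, 1, 2], [2, 0, 2, 1, 0, 1, 2, 2, 1, 0, 2, 1, 2, 2], [0, 2, 0, 1, 0, 0, 0, 2, 0, 0, 0, 0, 2, 1], [0, 2, 0, 0, 0, 0, 0, 1, 2, 0, 0, 0, 1, 0], [2, 1, 0, 1, 0, 0, 1, 2, 1, 2, 1, 0, 1, 2], [1, 0, 2, 1, 0, 2, 1, 0, 2, 1, 2, 1, 0, 1],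 [0, 1, 0, 0, 1, 2, 2, 1, 2, 0, 1, 1, 2, 1], [0, 1, 0, 2, 0, 0, 0, 1, 1, 0, 0, 0, 2, 1], [0, 0, 1, 2, 0, 0, 0, 2, 0, 0, 0, 0, 1, 1]]
  | ⟨27, _⟩ => [[2, 1, 2, 1, 2, 0, 2, 1, 1, 1, 2, 2, 1, 1], [0, 2, 2, 0, 0, 0, 0, 2, 1, 0, 0, 0, 2, 2], [0, 0, 2, 1, 0, 0, 0, 0, 1, 0, 0, 0, 2, 2], [0, 1, 2, 2, 0, 0, 0, 2, 2, 0, 0, 0, 2, 0], [0, 1, 2, 2, 2, 1, 0, 1, 2, 1, 2, 2, 0, 0], [1, 0, 2, 0, 2, 2, 2, 1, 0, 2, 2, 0, 1, 1], [2, 1, 1, 1, 0, 1, 1, 2, 1, 2, 0, 0, 1, 0], [0, 2, 0, 1, 0, 0, 0, 1, 2, 0, 0, 0, 0, 0], [0, 2, 2, 2, 0, 0, 0, 0, 1, 0, 0, 0, 1, 0], [2, 0, 1, 2, 2, 2, 0, 2, 1, 1, 1, 0, 1, 1], [2, 2, 1, 1, 2, 2, 1, 2, 0, 1, 1, 1, 2, 0], [0,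 2, 0, 2, 2, 0, 1, 0, 1, 1, 0, 1, 1, 1], [0, 2, 2, 2, 0, 0, 0, 1, 1, 0, 0, 0, 1, 1], [0, 0, 2, 0, 0, 0, 0, 1, 1, 0, 0, 0, 0, 1]]
  | ⟨28, _⟩ => [[2, 1, 2, 0, 0, 2, 2, 0, 0, 1, 2, 0, 0, 1], [0, 2, 0, 2, 0, 0, 0, 2, 1, 0, 0, 0, 2, 0], [0, 2, 1, 2, 0, 0, 0, 0, 0, 0, 0, 0, 0, 2], [0, 2, 2, 2, 0, 0, 0, 2, 0, 0, 0, 0, 2, 2], [2, 1, 1, 1, 1, 2, 0, 2, 0, 0, 0, 2, 2, 1], [2, 2, 1, 1, 2, 2, 2, 1, 0, 0, 2, 2, 1, 2], [1, 1, 0, 0, 0, 2, 2, 2, 0, 2, 2, 1, 2, 1], [0, 1, 0, 2, 0, 0, 0, 2, 2, 0, 0, 0, 2, 1], [0, 1, 2, 2, 0, 0, 0, 1, 1, 0, 0, 0, 2, 0], [1, 1, 2, 2, 2, 2, 1, 0, 1, 1, 2, 0, 0, 0], [2, 2, 1, 1, 1, 2, 0, 0, 2, 1, 2, 1, 1, 2], [2, 1,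 2, 2, 1, 0, 0, 0, 1, 0, 2, 2, 1, 2], [0, 2, 1, 2, 0, 0, 0, 0, 1, 0, 0, 0, 2, 1], [0, 2, 1, 0, 0, 0, 0, 0, 0, 0, 0, 0, 2, 2]]
  | ⟨29, _⟩ => [[1, 0, 0, 2, 2, 2, 1, 0, 2, 2, 1, 1, 2, 2], [0, 1, 2, 2, 0, 0, 0, 1, 2, 0, 0, 0, 1, 1], [0, 1, 2, 0, 0, 0, 0, 1, 1, 0, 0, 0, 2, 2], [0, 1, 0, 1, 0, 0, 0, 0, 2, 0, 0, 0, 2, 0], [1, 1, 2, 0, 2, 0, 1, 1, 2, 1, 2, 2, 0, 0], [1, 1, 1, 0, 0, 1, 0, 2, 2, 2, 2, 0, 2, 2], [2, 0, 2, 2, 1, 0, 1, 1, 2, 2, 0, 0, 2, 0], [0, 2, 1, 0, 0, 0, 0, 1, 2, 0, 0, 0, 0, 0], [0, 1, 1, 2, 0, 0, 0, 2, 2, 0, 0, 0, 2, 0], [1, 2, 2, 0, 1, 2, 2, 0, 0, 2, 2, 0, 1, 1], [2, 0, 0, 1, 2, 2, 0, 0, 1, 2, 2, 2, 2, 0], [2, 1, 1,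 2, 2, 0, 0, 0, 2, 0, 2, 1, 1, 1], [0, 2, 2, 2, 0, 0, 0, 0, 2, 0, 0, 0, 2, 2], [0, 2, 2, 0, 0, 0, 0, 0, 0, 0, 0, 0, 2, 1]]
  | ⟨30, _⟩ => [[2, 0, 0, 0, 0, 0, 0, 0, 0, 1, 2, 2, 2, 0], [0, 2, 0, 0, 0, 0, 0, 0, 1, 0, 0, 0, 2, 2], [0, 0, 0, 0, 0, 0, 0, 0, 0, 0, 0, 0, 0, 2], [0, 0, 0, 0, 0, 0, 0, 0, 0, 0, 0, 0, 2, 2], [0, 0, 0, 0, 0, 0, 0, 0, 0, 0, 0, 2, 2, 1], [0, 0, 0, 0, 0, 0, 0, 0, 0, 0, 2, 2, 1, 0], [0, 0, 0, 0, 0, 0, 0, 0, 0, 2, 2, 1, 0, 2], [0, 0, 0, 0, 0, 0, 0, 0, 2, 0, 0, 0, 2, 1], [0, 1, 0, 0, 0, 0, 0, 2, 1, 0, 0, 0, 0, 1], [1, 1, 0, 0, 0, 0, 2, 0, 1, 1, 0, 1, 2, 2], [1, 0, 0, 0, 0, 2, 1, 2, 2, 0, 1, 0, 0, 1], [2, 2, 0, 0,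 2, 1, 1, 2, 1, 1, 0, 2, 0, 2], [0, 1, 0, 2, 0, 0, 0, 1, 0, 0, 0, 0, 1, 0], [0, 2, 2, 1, 0, 0, 0, 1, 1, 0, 0, 0, 0, 2]]
  | ⟨31, _⟩ => [[0, 1, 1, 2, 2, 1, 1, 1, 2, 0, 0, 2, 1, 0], [0, 0, 2, 1, 0, 0, 0, 1, 0, 0, 0, 0, 0, 2], [0, 2, 1, 1, 0, 0, 0, 0, 1, 0, 0, 0, 1, 1], [0, 0, 1, 2, 0, 0, 0, 1, 2, 0, 0, 0, 2, 0], [2, 0, 1, 2, 1, 1, 0, 2, 2, 1, 1, 1, 1, 1], [0, 0, 0, 2, 1, 2, 1, 2, 2, 2, 2, 0, 1, 1], [2, 2, 1, 2, 0, 1, 2, 0, 2, 0, 2, 2, 0, 1], [0, 2, 0, 1, 0, 0, 0, 2, 0, 0, 0, 0, 2, 2], [0, 1, 0, 0, 0, 0, 0, 2, 1, 0, 0, 0, 1, 2], [1, 0, 0, 1, 0, 0, 2, 2, 2, 1, 1, 2, 1, 1], [1, 2, 1, 2, 0, 2, 1, 1, 0, 2, 0, 2, 2, 0], [1, 2, 0, 0, 2,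 1, 1, 2, 1, 2, 1, 1, 1, 2], [0, 1, 0, 2, 0, 0, 0, 1, 2, 0, 0, 0, 0, 2], [0, 1, 2, 1, 0, 0, 0, 1, 2, 0, 0, 0, 1, 1]]
  | ⟨32, _⟩ => [[2, 0, 2, 2, 0, 1, 0, 0, 1, 2, 0, 0, 2, 2], [0, 2, 0, 1, 0, 0, 0, 0, 2, 0, 0, 0, 0, 0], [0, 2, 1, 1, 0, 0, 0, 2, 2, 0, 0, 0, 0, 1], [0, 1, 1, 2, 0, 0, 0, 0, 2, 0, 0, 0, 2, 1], [2, 2, 2, 0, 1, 1, 2, 0, 0, 2, 0, 1, 2, 0], [1, 2, 1, 0, 1, 2, 0, 1, 0, 2, 2, 1, 1, 0], [1, 2, 2, 0, 2, 0, 0, 0, 0, 0, 2, 1, 1, 0], [0, 1, 2, 0, 0, 0, 0, 0, 0, 0, 0, 0, 2, 1], [0, 0, 0, 1, 0, 0, 0, 0, 1, 0, 0, 0, 0, 1], [0, 0, 0, 0, 0, 1, 0, 1, 0, 1, 0, 1, 2, 0], [1, 1, 1, 0, 2, 0, 1, 0, 0, 0, 0, 1, 2, 0], [1, 2, 1, 0, 1, 2,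 0, 0, 0, 1, 2, 1, 1, 0], [0, 1, 2, 0, 0, 0, 0, 1, 0, 0, 0, 0, 0, 1], [0, 1, 1, 2, 0, 0, 0, 0, 1, 0, 0, 0, 2, 1]]
  | ⟨33, _⟩ => [[2, 0, 0, 1, 2, 2, 1, 2, 0, 0, 2, 1, 1, 1], [0, 2, 2, 2, 0, 0, 0, 1, 0, 0, 0, 0, 2, 1], [0, 0, 1, 2, 0, 0, 0, 2, 0, 0, 0, 0, 1, 1], [0, 2, 2, 2, 0, 0, 0, 0, 2, 0, 0, 0, 0, 1], [0, 2, 2, 0, 1, 2, 2, 0, 0, 0, 1, 1, 0, 1], [2, 0, 0, 2, 2, 2, 0, 1, 0, 2, 0, 1, 2, 1], [0, 1, 1, 2, 2, 0, 0, 0, 2, 0, 2, 0, 0, 2], [0, 0, 2, 0, 0, 0, 0, 0, 0, 0, 0, 0, 2, 0], [0, 2, 2, 1, 0, 0, 0, 0, 1, 0, 0, 0, 0, 1], [2, 0, 1, 1, 2, 1, 0, 1, 0, 1, 0, 1, 2, 2], [0, 1, 1, 2, 0, 2, 1, 0, 2, 0, 0, 1, 0, 2], [0, 2, 1, 2, 1, 2, 1,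 2, 0, 1, 2, 1, 1, 0], [0, 0, 0, 2, 0, 0, 0, 1, 0, 0, 0, 0, 0, 1], [0, 0, 1, 2, 0, 0, 0, 1, 1, 0, 0, 0, 2, 1]]
  | ⟨34, _⟩ => [[0, 0, 2, 1, 1, 2, 2, 2, 0, 0, 2, 0, 2, 0], [0, 0, 1, 2, 0, 0, 0, 2, 0, 0, 0, 0, 2, 0], [0, 1, 1, 0, 0, 0, 0, 1, 1, 0, 0, 0, 0, 1], [0, 1, 2, 1, 0, 0, 0, 2, 0, 0, 0, 0, 2, 0], [1, 2, 1, 2, 1, 0, 1, 1, 2, 1, 0, 1, 0, 2], [1, 2, 0, 2, 2, 1, 2, 0, 0, 0, 2, 0, 0, 0], [1, 1, 1, 2, 0, 2, 1, 1, 1, 2, 0, 1, 0, 1], [0, 1, 0, 2, 0, 0, 0, 1, 2, 0, 0, 0, 0, 1], [0, 1, 0, 0, 0, 0, 0, 2, 1, 0, 0, 0, 0, 1], [1, 2, 0, 2, 0, 0, 2, 1, 1, 1, 0, 1, 0, 2], [1, 2, 2, 1, 0, 2, 1, 0, 0, 0, 1, 0, 0, 0], [2, 2, 0, 0, 2, 1, 1, 2,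 1, 1, 0, 2, 0, 2], [0, 1, 0, 2, 0, 0, 0, 1, 0, 0, 0, 0, 1, 0], [0, 2, 2, 1, 0, 0, 0, 1, 1, 0, 0, 0, 0, 2]]
  | ⟨35, _⟩ => [[2, 2, 0, 0, 1, 1, 2, 1, 0, 1, 1, 0, 1, 0], [0, 2, 1, 1, 0, 0, 0, 2, 1, 0, 0, 0, 1, 0], [0, 0, 1, 1, 0, 0, 0, 1, 1, 0, 0, 0, 1, 1], [0, 0, 2, 0, 0, 0, 0, 0, 2, 0, 0, 0, 2, 0], [0, 1, 0, 2, 1, 1, 1, 0, 2, 1, 1, 1, 1, 1], [0, 1, 2, 1, 2, 0, 0, 2, 1, 2, 2, 0, 0, 0], [1, 0, 1, 1, 1, 0, 1, 0, 0, 0, 2, 2, 1, 1], [0, 1, 1, 0, 0, 0, 0, 1, 0, 0, 0, 0, 2, 2], [0, 0, 2, 1, 0, 0, 0, 0, 2, 0, 0, 0, 2, 2], [0, 0, 2, 2, 2, 1, 0, 2, 2, 2, 2, 2, 2, 2], [1, 1, 2, 0, 2, 1, 1, 0, 2, 1, 1, 0, 0, 0], [1, 2, 0, 2, 2, 2, 2, 1, 2,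 0, 2, 2, 1, 1], [0, 1, 2, 1, 0, 0, 0, 1, 1, 0, 0, 0, 1, 0], [0, 1, 2, 2, 0, 0, 0, 2, 0, 0, 0, 0, 2, 2]]
  | ⟨36, _⟩ => [[0, 2, 1, 1, 2, 2, 2, 0, 2, 1, 0, 1, 1, 1], [0, 0, 2, 2, 0, 0, 0, 2, 1, 0, 0, 0, 0, 1], [0, 1, 1, 2, 0, 0, 0, 2, 2, 0, 0, 0, 0, 1], [0, 0, 1, 0, 0, 0, 0, 1, 2, 0, 0, 0, 2, 1], [1, 2, 2, 2, 1, 2, 2, 1, 0, 2, 0, 1, 2, 0], [0, 1, 2, 0, 1, 0, 1, 1, 1, 2, 2, 1, 1, 2], [0, 2, 0, 2, 2, 2, 1, 1, 1, 0, 2, 1, 2, 2], [0, 0, 2, 2, 0, 0, 0, 1, 0, 0, 0, 0, 2, 1], [0, 2, 1, 1, 0, 0, 0, 2, 2, 0, 0, 0, 1, 0], [2, 0, 0, 2, 1, 1, 2, 0, 1, 2, 1, 0, 1, 2], [2, 1, 2, 1, 1, 2, 0, 0, 2, 1, 2, 1, 0, 1], [1, 2, 1, 1, 2, 0, 0, 0, 2, 0,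 1, 1, 2, 1], [0, 2, 1, 2, 0, 0, 0, 0, 1, 0, 0, 0, 2, 1], [0, 1, 2, 0, 0, 0, 0, 0, 0, 0, 0, 0, 1, 1]]
  | ⟨37, _⟩ => [[0, 1, 2, 1, 2, 2, 0, 0, 0, 0, 0, 2, 0, 1], [0, 0, 2, 2, 0, 0, 0, 0, 0, 0, 0, 0, 0, 2], [0, 2, 1, 1, 0, 0, 0, 1, 0, 0, 0, 0, 1, 1], [0, 1, 2, 0, 0, 0, 0, 0, 2, 0, 0, 0, 0, 1], [2, 1, 0, 2, 1, 1, 1, 0, 0, 0, 1, 1, 0, 1], [1, 0, 1, 0, 2, 0, 0, 1, 0, 2, 0, 1, 1, 0], [0, 1, 2, 1, 1, 0, 1, 0, 0, 0, 2, 0, 0, 1], [0, 0, 1, 0, 0, 0, 0, 1, 0, 0, 0, 0, 2, 0], [0, 0, 0, 1, 0, 0, 0, 0, 2, 0, 0, 0, 0, 0], [0, 0, 2, 0, 0, 1, 0, 2, 0, 2, 0, 0, 2, 0], [0, 1, 2, 2, 2, 0, 1, 0, 0, 0, 1, 0, 0, 1], [2, 0, 1, 0, 1, 2, 0, 0, 0, 0, 0,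 2, 0, 0], [0, 0, 2, 0, 0, 0, 0, 1, 0, 0, 0, 0, 1, 0], [0, 2, 1, 2, 0, 0, 0, 0, 0, 0, 0, 0, 0, 2]]
  | ⟨38, _⟩ => [[0, 0, 0, 2, 2, 2, 1, 0, 1, 1, 2, 1, 2, 1], [0, 0, 2, 2, 0, 0, 0, 1, 1, 0, 0, 0, 2, 1], [0, 0, 2, 0, 0, 0, 0, 1, 1, 0, 0, 0, 0, 1], [0, 1, 0, 1, 0, 0, 0, 0, 0, 0, 0, 0, 2, 0], [0, 0, 2, 0, 2, 0, 1, 1, 2, 1, 0, 1, 0, 2], [1, 2, 1, 0, 0, 1, 0, 2, 2, 0, 2, 0, 0, 2], [0, 2, 2, 2, 1, 0, 1, 1, 1, 2, 0, 1, 1, 1], [0, 0, 1, 0, 0, 0, 0, 1, 2, 0, 0, 0, 0, 1], [0, 2, 1, 2, 0, 0, 0, 2, 1, 0, 0, 0, 1, 1], [2, 1, 2, 0, 1, 2, 2, 0, 0, 1, 1, 1, 0, 1], [1, 0, 0, 1, 2, 2, 0, 0, 2, 1, 1, 0, 2, 2], [1, 2, 1, 2, 2, 0, 0, 0, 1, 0, 1, 1,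 2, 2], [0, 1, 2, 2, 0, 0, 0, 0, 1, 0, 0, 0, 1, 0], [0, 1, 2, 0, 0, 0, 0, 0, 0, 0, 0, 0, 1, 1]]
  | ⟨39, _⟩ => [[2, 2, 0, 1, 0, 1, 1, 0, 0, 1, 2, 0, 0, 1], [0, 2, 0, 1, 0, 0, 0, 1, 1, 0, 0, 0, 2, 0], [0, 1, 1, 1, 0, 0, 0, 0, 0, 0, 0, 0, 0, 2], [0, 1, 0, 1, 0, 0, 0, 1, 0, 0, 0, 0, 2, 2], [1, 2, 2, 2, 1, 1, 0, 1, 0, 0, 0, 2, 2, 1], [1, 1, 0, 0, 0, 1, 1, 2, 0, 0, 2, 2, 1, 2], [2, 2, 1, 1, 1, 1, 1, 1, 0, 2, 2, 1, 2, 1], [0, 2, 1, 1, 0, 0, 0, 1, 2, 0, 0, 0, 2, 1], [0, 1, 1, 1, 0, 0, 0, 0, 1, 0, 0, 0, 2, 0], [1, 1, 2, 2, 1, 1, 0, 0, 1, 1, 2, 0, 0, 0], [0, 1, 0, 0, 0, 2, 2, 1, 2, 1, 2, 1, 1, 2], [1, 0, 2, 2, 2, 2, 2, 1, 1, 0, 2, 2, 1,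 2], [0, 0, 0, 2, 0, 0, 0, 2, 1, 0, 0, 0, 2, 1], [0, 1, 2, 2, 0, 0, 0, 2, 0, 0, 0, 0, 2, 2]]
  | ⟨40, _⟩ => [[2, 0, 2, 2, 0, 2, 1, 2, 0, 0, 0, 2, 0, 0], [0, 2, 0, 2, 0, 0, 0, 1, 0, 0, 0, 0, 0, 2], [0, 0, 2, 0, 0, 0, 0, 2, 2, 0, 0, 0, 0, 1], [0, 2, 2, 1, 0, 0, 0, 2, 2, 0, 0, 0, 2, 1], [0, 2, 2, 1, 2, 0, 2, 2, 0, 2, 0, 1, 2, 0], [2, 2, 1, 2, 2, 1, 2, 1, 2, 2, 2, 1, 1, 1], [2, 1, 0, 0, 0, 1, 2, 0, 2, 0, 2, 1, 0, 1], [0, 2, 0, 1, 0, 0, 0, 2, 0, 0, 0, 0, 2, 1], [0, 0, 1, 2, 0, 0, 0, 2, 0, 0, 0, 0, 2, 2], [0, 2, 1, 2, 1, 2, 2, 0, 1, 0, 2, 2, 0, 2], [0, 0, 1, 2, 1, 0, 1, 2, 2, 2, 1, 1, 2, 1], [1, 2, 1, 2, 2, 2, 1, 2, 0, 1, 0, 2, 2, 0],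 [0, 0, 1, 0, 0, 0, 0, 1, 2, 0, 0, 0, 1, 1], [0, 1, 2, 2, 0, 0, 0, 1, 1, 0, 0, 0, 0, 2]]
  | ⟨41, _⟩ => [[2, 2, 2, 2, 1, 1, 2, 2, 2, 2, 1, 1, 2, 2], [0, 2, 1, 1, 0, 0, 0, 2, 2, 0, 0, 0, 1, 1], [0, 0, 2, 1, 0, 0, 0, 0, 1, 0, 0, 0, 2, 2], [0, 1, 2, 2, 0, 0, 0, 2, 2, 0, 0, 0, 2, 0], [0, 1, 2, 2, 2, 1, 0, 1, 2, 1, 2, 2, 0, 0], [1, 0, 0, 2, 2, 2, 2, 1, 2, 2, 2, 0, 2, 2], [2, 0, 2, 2, 0, 1, 1, 0, 2, 2, 0, 0, 2, 0], [0, 2, 0, 1, 0, 0, 0, 1, 2, 0, 0, 0, 0, 0], [0, 1, 0, 0, 0, 0, 0, 1, 2, 0, 0, 0, 2, 0], [1, 0, 0, 1, 0, 0, 1, 1, 0, 2, 2, 0, 1, 1], [1, 0, 2, 2, 0, 2, 2, 2, 1, 2, 2, 2, 2, 0], [0, 2, 0, 0, 1, 1, 2, 1, 2, 0, 2, 1, 1, 1], [0,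 1, 0, 2, 0, 0, 0, 2, 2, 0, 0, 0, 2, 2], [0, 0, 1, 1, 0, 0, 0, 2, 0, 0, 0, 0, 2, 1]]
  | ⟨42, _⟩ => [[1, 0, 2, 2, 1, 1, 2, 2, 0, 1, 2, 2, 2, 0], [0, 1, 1, 1, 0, 0, 0, 2, 1, 0, 0, 0, 2, 2], [0, 2, 1, 2, 0, 0, 0, 0, 0, 0, 0, 0, 0, 2], [0, 2, 2, 2, 0, 0, 0, 2, 0, 0, 0, 0, 2, 2], [2, 1, 1, 1, 1, 2, 0, 2, 0, 0, 0, 2, 2, 1], [2, 0, 0, 2, 2, 2, 2, 1, 0, 0, 2, 2, 1, 0], [1, 2, 1, 1, 0, 2, 2, 0, 0, 2, 2, 1, 0, 2], [0, 1, 0, 2, 0, 0, 0, 2, 2, 0, 0, 0, 2, 1], [0, 2, 0, 0, 0, 0, 0, 2, 1, 0, 0, 0, 0, 1], [2, 0, 0, 2, 0, 0, 2, 2, 1, 1, 0, 1, 2, 2], [1, 1, 2, 2, 0, 2, 2, 2, 2, 0, 1, 0, 0, 1], [1, 1, 0, 0, 2, 2, 1, 2, 1, 1, 0, 2, 0, 2], [0, 1,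 0, 2, 0, 0, 0, 2, 0, 0, 0, 0, 1, 0], [0, 1, 2, 2, 0, 0, 0, 1, 1, 0, 0, 0, 0, 2]]
  | ⟨43, _⟩ => [[2, 1, 1, 2, 0, 0, 1, 2, 2, 0, 0, 2, 1, 0], [0, 2, 0, 0, 0, 0, 0, 1, 0, 0, 0, 0, 0, 2], [0, 0, 1, 1, 0, 0, 0, 1, 1, 0, 0, 0, 1, 1], [0, 0, 2, 0, 0, 0, 0, 0, 2, 0, 0, 0, 2, 0], [0, 1, 0, 2, 1, 1, 1, 0, 2, 1, 1, 1, 1, 1], [0, 1, 0, 2, 2, 0, 0, 0, 2, 2, 2, 0, 1, 1], [1, 0, 0, 1, 1, 0, 1, 0, 2, 0, 2, 2, 0, 1], [0, 1, 1, 0, 0, 0, 0, 1, 0, 0, 0, 0, 2, 2], [0, 0, 1, 1, 0, 0, 0, 0, 1, 0, 0, 0, 1, 2], [0, 1, 0, 2, 1, 1, 0, 0, 2, 1, 1, 2, 1, 1], [0, 2, 0, 1, 2, 2, 1, 0, 0, 2, 0, 2, 2, 0], [2, 1, 0, 1, 1, 0, 2, 0, 1, 2, 1, 1, 1, 2], [0, 0, 2,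 2, 0, 0, 0, 1, 2, 0, 0, 0, 0, 2], [0, 2, 1, 0, 0, 0, 0, 2, 2, 0, 0, 0, 1, 1]]
  | ⟨44, _⟩ => [[1, 0, 0, 0, 0, 0, 0, 0, 0, 0, 0, 1, 0, 2], [0, 1, 0, 0, 0, 0, 0, 0, 0, 0, 0, 0, 0, 1], [0, 1, 1, 0, 0, 0, 0, 0, 0, 0, 0, 0, 1, 2], [0, 0, 0, 1, 0, 0, 0, 0, 1, 0, 0, 0, 0, 2], [1, 0, 0, 0, 1, 0, 0, 0, 0, 0, 1, 2, 0, 2], [0, 0, 0, 0, 0, 1, 0, 0, 0, 1, 0, 2, 1, 0], [0, 0, 0, 0, 0, 0, 1, 0, 0, 0, 2, 0, 0, 2], [0, 0, 0, 0, 0, 0, 0, 1, 0, 0, 0, 0, 2, 0], [0, 0, 0, 0, 0, 0, 0, 0, 1, 0, 0, 0, 0, 0], [0, 0, 0, 0, 0, 0, 0, 0, 0, 1, 0, 0, 2, 0], [0, 0, 0, 0, 0, 0, 0, 0, 0, 0, 1, 0, 0, 2], [0, 0, 0, 0, 0, 0, 0, 0, 0, 0, 0, 1, 0, 0], [0, 0, 0, 0,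 0, 0, 0, 0, 0, 0, 0, 0, 1, 0], [0, 0, 0, 0, 0, 0, 0, 0, 0, 0, 0, 0, 0, 1]]
  | ⟨45, _⟩ => [[1, 2, 2, 1, 1, 2, 2, 2, 1, 2, 1, 0, 1, 1], [0, 1, 1, 2, 0, 0, 0, 2, 2, 0, 0, 0, 1, 0], [0, 2, 1, 0, 0, 0, 0, 1, 1, 0, 0, 0, 0, 1], [0, 0, 2, 1, 0, 0, 0, 2, 1, 0, 0, 0, 2, 1], [2, 0, 1, 2, 1, 0, 1, 1, 1, 1, 0, 1, 2, 1], [0, 2, 0, 2, 2, 1, 2, 0, 2, 1, 2, 1, 1, 2], [1, 2, 1, 2, 0, 2, 1, 1, 0, 1, 2, 0, 0, 0], [0, 1, 0, 2, 0, 0, 0, 1, 1, 0, 0, 0, 2, 0], [0, 1, 0, 0, 0, 0, 0, 2, 1, 0, 0, 0, 1, 2], [1, 2, 0, 2, 0, 0, 2, 1, 0, 1, 1, 2, 1, 2], [1, 1, 2, 1, 0, 2, 1, 0, 1, 2, 0, 2, 1, 2], [1, 2, 0, 0, 2, 1, 1, 2, 1, 2, 1, 1, 1, 2], [0, 1, 0, 2, 0,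 0, 0, 1, 2, 0, 0, 0, 0, 2], [0, 1, 2, 1, 0, 0, 0, 1, 2, 0, 0, 0, 1, 1]]
  | ⟨46, _⟩ => [[0, 1, 2, 0, 1, 0, 0, 0, 0, 0, 2, 1, 1, 1], [0, 0, 1, 0, 0, 0, 0, 0, 0, 0, 0, 0, 2, 1], [0, 1, 2, 0, 0, 0, 0, 0, 0, 0, 0, 0, 1, 1], [0, 0, 0, 1, 0, 0, 0, 0, 2, 0, 0, 0, 0, 1], [1, 0, 0, 0, 2, 0, 0, 0, 0, 0, 1, 1, 0, 1], [0, 1, 2, 0, 0, 1, 0, 0, 0, 2, 0, 1, 2, 1], [0, 0, 0, 1, 0, 0, 2, 0, 2, 0, 2, 0, 0, 2], [0, 0, 0, 0, 0, 0, 0, 2, 0, 0, 0, 0, 2, 0], [0, 0, 0, 1, 0, 0, 0, 0, 1, 0, 0, 0, 0, 1], [0, 2, 1, 0, 0, 1, 0, 0, 0, 1, 0, 1, 2, 2], [1, 0, 0, 1, 2, 0, 1, 0, 2, 0, 0, 1, 0, 2], [1, 2, 1, 0, 1, 2, 0, 0, 0, 1, 2, 1, 1, 0], [0, 1, 2, 0, 0, 0,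 0, 1, 0, 0, 0, 0, 0, 1], [0, 1, 1, 2, 0, 0, 0, 0, 1, 0, 0, 0, 2, 1]]
  | ⟨47, _⟩ => [[2, 2, 2, 1, 2, 1, 2, 2, 1, 0, 1, 1, 0, 1], [0, 2, 2, 1, 0, 0, 0, 2, 0, 0, 0, 0, 1, 1], [0, 2, 2, 0, 0, 0, 0, 2, 2, 0, 0, 0, 0, 2], [0, 2, 0, 1, 0, 0, 0, 0, 1, 0, 0, 0, 2, 1], [2, 1, 1, 0, 2, 0, 2, 1, 2, 2, 0, 2, 1, 2], [2, 2, 1, 0, 0, 1, 0, 1, 1, 1, 2, 1, 1, 1], [2, 0, 2, 2, 2, 0, 1, 2, 1, 2, 1, 0, 2, 1], [0, 2, 2, 0, 0, 0, 0, 1, 2, 0, 0, 0, 1, 0], [0, 0, 2, 2, 0, 0, 0, 2, 0, 0, 0, 0, 1, 2], [0, 1, 2, 0, 2, 2, 2, 0, 0, 0, 1, 2, 0, 1], [2, 1, 1, 1, 0, 2, 2, 1, 1, 2, 2, 1, 1, 2], [1, 2, 1, 1, 2, 2, 0, 2, 1, 2, 2, 2, 2, 0], [0, 2, 0, 2, 0, 0, 0,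 2, 2, 0, 0, 0, 2, 1], [0, 1, 2, 2, 0, 0, 0, 0, 2, 0, 0, 0, 2, 2]]
  | ⟨48, _⟩ => [[0, 0, 1, 1, 2, 2, 1, 1, 0, 0, 2, 0, 2, 0], [0, 0, 2, 2, 0, 0, 0, 1, 0, 0, 0, 0, 2, 0], [0, 2, 1, 0, 0, 0, 0, 1, 1, 0, 0, 0, 0, 1], [0, 1, 1, 1, 0, 0, 0, 1, 0, 0, 0, 0, 2, 0], [2, 1, 1, 1, 1, 0, 1, 1, 2, 1, 0, 1, 0, 2], [1, 2, 0, 2, 1, 1, 1, 0, 0, 0, 2, 0, 0, 0], [2, 2, 1, 1, 0, 1, 1, 1, 1, 2, 0, 1, 0, 1], [0, 2, 0, 1, 0, 0, 0, 1, 2, 0, 0, 0, 0, 1], [0, 2, 0, 0, 0, 0, 0, 2, 1, 0, 0, 0, 0, 1], [2, 1, 0, 1, 0, 0, 2, 1, 1, 1, 0, 1, 0, 2], [1, 2, 1, 1, 0, 2, 2, 0, 0, 0, 1, 0, 0, 0], [1, 1, 0, 0, 2, 2, 1, 2, 1, 1, 0, 2, 0, 2], [0, 1, 0, 2, 0, 0, 0, 2,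 0, 0, 0, 0, 1, 0], [0, 1, 2, 2, 0, 0, 0, 1, 1, 0, 0, 0, 0, 2]]
  | ⟨49, _⟩ => [[2, 2, 0, 2, 2, 0, 0, 2, 0, 1, 1, 0, 1, 0], [0, 2, 2, 0, 0, 0, 0, 0, 1, 0, 0, 0, 1, 0], [0, 1, 2, 1, 0, 0, 0, 2, 1, 0, 0, 0, 1, 1], [0, 0, 0, 1, 0, 0, 0, 2, 2, 0, 0, 0, 2, 0], [1, 2, 2, 1, 2, 1, 2, 1, 2, 1, 1, 1, 1, 1], [0, 1, 1, 2, 0, 1, 2, 2, 1, 2, 2, 0, 0, 0], [0, 1, 2, 0, 1, 2, 0, 1, 0, 0, 2, 2, 1, 1], [0, 0, 1, 2, 0, 0, 0, 0, 0, 0, 0, 0, 2, 2], [0, 2, 1, 1, 0, 0, 0, 2, 2, 0, 0, 0, 2, 2], [2, 2, 2, 1, 1, 1, 2, 1, 2, 2, 2, 2, 2, 2], [1, 1, 0, 1, 2, 0, 2, 0, 2, 1, 1, 0, 0, 0], [0, 0, 1, 1, 2, 1, 1, 2, 2, 0, 2, 2, 1, 1], [0, 1, 2, 0, 0, 0, 0, 2, 1,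 0, 0, 0, 1, 0], [0, 0, 2, 1, 0, 0, 0, 1, 0, 0, 0, 0, 2, 2]]
  | ⟨50, _⟩ => [[2, 2, 1, 0, 0, 2, 1, 0, 0, 1, 1, 0, 1, 0], [0, 2, 0, 2, 0, 0, 0, 1, 1, 0, 0, 0, 1, 0], [0, 2, 1, 1, 0, 0, 0, 0, 1, 0, 0, 0, 1, 1], [0, 0, 1, 2, 0, 0, 0, 1, 2, 0, 0, 0, 2, 0], [2, 0, 1, 2, 1, 1, 0, 2, 2, 1, 1, 1, 1, 1], [0, 1, 2, 1, 1, 2, 1, 2, 1, 2, 2, 0, 0, 0], [2, 2, 0, 0, 0, 1, 2, 2, 0, 0, 2, 2, 1, 1], [0, 2, 0, 1, 0, 0, 0, 2, 0, 0, 0, 0, 2, 2], [0, 1, 2, 1, 0, 0, 0, 1, 2, 0, 0, 0, 2, 2], [1, 1, 2, 1, 2, 1, 1, 0, 2, 2, 2, 2, 2, 2], [1, 1, 2, 1, 2, 2, 0, 0, 2, 1, 1, 0, 0, 0], [2, 1, 2, 1, 1, 0, 0, 0, 2, 0, 2, 2, 1, 1], [0, 1, 2, 2, 0, 0, 0, 0, 1, 0,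 0, 0, 1, 0], [0, 2, 1, 0, 0, 0, 0, 0, 0, 0, 0, 0, 2, 2]]
  | ⟨51, _⟩ => [[1, 0, 0, 1, 1, 2, 2, 1, 2, 1, 0, 1, 1, 1], [0, 1, 1, 2, 0, 0, 0, 2, 1, 0, 0, 0, 0, 1], [0, 2, 1, 1, 0, 0, 0, 2, 2, 0, 0, 0, 0, 1], [0, 1, 1, 2, 0, 0, 0, 0, 2, 0, 0, 0, 2, 1], [2, 2, 2, 0, 1, 1, 2, 0, 0, 2, 0, 1, 2, 0], [1, 0, 0, 2, 1, 2, 0, 2, 1, 2, 2, 1, 1, 2], [1, 1, 1, 1, 2, 0, 0, 0, 1, 0, 2, 1, 2, 2], [0, 1, 2, 0, 0, 0, 0, 0, 0, 0, 0, 0, 2, 1], [0, 2, 2, 2, 0, 0, 0, 0, 2, 0, 0, 0, 1, 0], [2, 2, 1, 2, 2, 2, 0, 1, 1, 2, 1, 0, 1, 2], [0, 2, 2, 2, 0, 2, 2, 0, 2, 1, 2, 1, 0, 1], [2, 0, 1, 1, 1, 1, 1, 2, 2, 0, 1, 1, 2, 1], [0, 0, 0, 2, 0, 0, 0, 2, 1, 0, 0,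 0, 2, 1], [0, 2, 1, 1, 0, 0, 0, 1, 0, 0, 0, 0, 1, 1]]
  | ⟨52, _⟩ => [[2, 2, 1, 2, 0, 1, 0, 0, 0, 0, 0, 2, 0, 1], [0, 2, 0, 1, 0, 0, 0, 0, 0, 0, 0, 0, 0, 2], [0, 0, 1, 2, 0, 0, 0, 2, 0, 0, 0, 0, 1, 1], [0, 2, 2, 2, 0, 0, 0, 0, 2, 0, 0, 0, 0, 1], [0, 2, 2, 0, 1, 2, 2, 0, 0, 0, 1, 1, 0, 1], [2, 0, 2, 0, 2, 2, 0, 2, 0, 2, 0, 1, 1, 0], [0, 2, 2, 0, 2, 0, 0, 0, 0, 0, 2, 0, 0, 1], [0, 0, 2, 0, 0, 0, 0, 0, 0, 0, 0, 0, 2, 0], [0, 0, 0, 2, 0, 0, 0, 0, 2, 0, 0, 0, 0, 0], [0, 0, 0, 0, 0, 2, 0, 1, 0, 2, 0, 0, 2, 0], [0, 2, 2, 0, 1, 0, 2, 0, 0, 0, 1, 0, 0, 1], [1, 0, 1, 0, 1, 1, 0, 0, 0, 0, 0, 2, 0, 0], [0, 0, 1, 0, 0, 0, 0, 2, 0, 0, 0, 0,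 1, 0], [0, 1, 1, 1, 0, 0, 0, 0, 0, 0, 0, 0, 0, 2]]
  | ⟨53, _⟩ => [[1, 1, 2, 0, 2, 2, 0, 2, 1, 1, 2, 1, 2, 1], [0, 1, 2, 2, 0, 0, 0, 0, 1, 0, 0, 0, 2, 1], [0, 1, 1, 0, 0, 0, 0, 1, 1, 0, 0, 0, 0, 1], [0, 1, 2, 1, 0, 0, 0, 2, 0, 0, 0, 0, 2, 0], [1, 2, 1, 2, 1, 0, 1, 1, 2, 1, 0, 1, 0, 2], [1, 1, 2, 2, 2, 1, 2, 2, 2, 0, 2, 0, 0, 2], [1, 0, 2, 1, 0, 2, 1, 2, 1, 2, 0, 1, 1, 1], [0, 1, 0, 2, 0, 0, 0, 1, 2, 0, 0, 0, 0, 1], [0, 0, 1, 2, 0, 0, 0, 0, 1, 0, 0, 0, 1, 1], [0, 2, 2, 0, 1, 2, 0, 0, 0, 1, 1, 1, 0, 1], [1, 2, 1, 2, 2, 1, 1, 2, 2, 1, 1, 0, 2, 2], [2, 1, 0, 1, 1, 1, 1, 2, 1, 0, 1, 1, 2, 2], [0, 1, 2, 1, 0, 0, 0, 1, 1, 0, 0, 0, 1,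 0], [0, 2, 1, 1, 0, 0, 0, 1, 0, 0, 0, 0, 1, 1]]
  | ⟨54, _⟩ => [[2, 0, 2, 1, 2, 2, 0, 0, 1, 2, 2, 1, 1, 0], [0, 2, 2, 2, 0, 0, 0, 0, 2, 0, 0, 0, 2, 1], [0, 0, 1, 1, 0, 0, 0, 1, 1, 0, 0, 0, 1, 1], [0, 0, 2, 0, 0, 0, 0, 0, 2, 0, 0, 0, 2, 0], [0, 1, 0, 2, 1, 1, 1, 0, 2, 1, 1, 1, 1, 1], [0, 1, 1, 0, 2, 0, 0, 1, 0, 2, 2, 0, 2, 2], [1, 0, 2, 1, 1, 0, 1, 0, 1, 0, 2, 2, 2, 1], [0, 1, 1, 0, 0, 0, 0, 1, 0, 0, 0, 0, 2, 2], [0, 0, 0, 1, 0, 0, 0, 0, 0, 0, 0, 0, 0, 2], [0, 2, 2, 0, 0, 1, 0, 2, 0, 0, 0, 2, 1, 1], [2, 0, 2, 2, 2, 0, 1, 0, 2, 0, 2, 1, 2, 0], [0, 1, 1, 0, 1, 2, 0, 0, 0, 2, 1, 1, 0, 2], [0, 2, 2, 0, 0, 0, 0, 1, 0, 0, 0, 0, 2, 1],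 [0, 0, 1, 2, 0, 0, 0, 0, 2, 0, 0, 0, 1, 1]]
  | ⟨55, _⟩ => [[1, 0, 2, 1, 0, 1, 1, 2, 0, 0, 0, 2, 0, 0], [0, 1, 0, 1, 0, 0, 0, 1, 0, 0, 0, 0, 0, 2], [0, 1, 1, 2, 0, 0, 0, 2, 2, 0, 0, 0, 0, 1], [0, 0, 1, 0, 0, 0, 0, 1, 2, 0, 0, 0, 2, 1], [1, 2, 2, 2, 1, 2, 2, 1, 0, 2, 0, 1, 2, 0], [0, 0, 1, 1, 1, 0, 1, 2, 2, 2, 2, 1, 1, 1], [0, 2, 2, 2, 2, 2, 1, 0, 2, 0, 2, 1, 0, 1], [0, 0, 2, 2, 0, 0, 0, 1, 0, 0, 0, 0, 2, 1], [0, 2, 0, 1, 0, 0, 0, 1, 0, 0, 0, 0, 2, 2], [2, 1, 0, 0, 0, 1, 1, 0, 1, 0, 2, 2, 0, 2], [1, 1, 1, 1, 2, 2, 2, 1, 2, 2, 1, 1, 2, 1], [0, 2, 1, 1, 1, 0, 1, 1, 0, 1, 0, 2, 2, 0], [0, 1, 2, 2, 0, 0, 0, 2, 2, 0, 0, 0, 1, 1], [0,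 0, 1, 0, 0, 0, 0, 1, 1, 0, 0, 0, 0, 2]]
  | ⟨56, _⟩ => [[2, 0, 1, 2, 0, 0, 1, 2, 0, 0, 1, 0, 2, 1], [0, 2, 0, 0, 0, 0, 0, 1, 0, 0, 0, 0, 1, 0], [0, 2, 1, 1, 0, 0, 0, 1, 0, 0, 0, 0, 1, 1], [0, 1, 2, 0, 0, 0, 0, 0, 2, 0, 0, 0, 0, 1], [2, 1, 0, 2, 1, 1, 1, 0, 0, 0, 1, 1, 0, 1], [1, 1, 0, 2, 2, 0, 0, 0, 0, 2, 0, 1, 0, 2], [0, 0, 0, 1, 1, 0, 1, 0, 1, 0, 2, 0, 0, 0], [0, 0, 1, 0, 0, 0, 0, 1, 0, 0, 0, 0, 2, 0], [0, 2, 1, 1, 0, 0, 0, 0, 0, 0, 0, 0, 0, 2], [2, 1, 0, 2, 1, 1, 0, 0, 0, 0, 0, 2, 0, 2], [1, 2, 0, 1, 2, 2, 1, 0, 2, 0, 2, 2, 0, 2], [1, 1, 0, 1, 1, 0, 2, 0, 0, 2, 2, 1, 0, 2], [0, 1, 2, 2, 0, 0, 0, 1, 0, 0, 0, 0, 2, 2], [0, 1,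 1, 0, 0, 0, 0, 2, 2, 0, 0, 0, 2, 1]]
  | ⟨57, _⟩ => [[0, 0, 0, 2, 1, 2, 2, 0, 2, 2, 2, 2, 2, 2], [0, 0, 1, 2, 0, 0, 0, 2, 2, 0, 0, 0, 2, 2], [0, 0, 2, 0, 0, 0, 0, 1, 1, 0, 0, 0, 0, 1], [0, 1, 0, 1, 0, 0, 0, 0, 0, 0, 0, 0, 2, 0], [0, 0, 2, 0, 2, 0, 1, 1, 2, 1, 0, 1, 0, 2], [1, 2, 2, 0, 0, 1, 0, 1, 1, 0, 2, 0, 0, 1], [0, 1, 2, 1, 1, 0, 1, 1, 1, 2, 0, 1, 2, 1], [0, 0, 1, 0, 0, 0, 0, 1, 2, 0, 0, 0, 0, 1], [0, 1, 1, 1, 0, 0, 0, 2, 1, 0, 0, 0, 2, 1], [1, 2, 2, 0, 1, 1, 2, 0, 0, 1, 2, 1, 0, 1], [1, 0, 0, 1, 1, 2, 0, 0, 1, 2, 1, 0, 2, 1], [2, 1, 1, 1, 2, 0, 0, 0, 1, 0, 2, 1, 1, 2], [0, 1, 1, 2, 0, 0, 0, 0, 2, 0, 0, 0, 1, 0], [0, 2, 2,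 0, 0, 0, 0, 0, 0, 0, 0, 0, 2, 1]]
  | ⟨58, _⟩ => [[0, 0, 1, 2, 1, 2, 1, 1, 0, 1, 2, 2, 2, 0], [0, 0, 1, 2, 0, 0, 0, 1, 1, 0, 0, 0, 2, 2], [0, 1, 1, 1, 0, 0, 0, 0, 0, 0, 0, 0, 0, 2], [0, 1, 0, 1, 0, 0, 0, 1, 0, 0, 0, 0, 2, 2], [1, 2, 2, 2, 1, 1, 0, 1, 0, 0, 0, 2, 2, 1], [1, 0, 2, 2, 0, 1, 1, 2, 0, 0, 2, 2, 1, 0], [2, 1, 1, 0, 1, 1, 1, 0, 0, 2, 2, 1, 0, 2], [0, 2, 1, 1, 0, 0, 0, 1, 2, 0, 0, 0, 2, 1], [0, 0, 1, 0, 0, 0, 0, 2, 1, 0, 0, 0, 0, 1], [0, 2, 1, 1, 1, 0, 2, 1, 1, 1, 0, 1, 2, 2], [1, 2, 2, 0, 0, 2, 0, 2, 2, 0, 1, 0, 0, 1], [0, 0, 2, 0, 1, 0, 1, 2, 1, 1, 0, 2, 0, 2], [0, 1, 0, 2, 0, 0, 0, 0, 0, 0, 0, 0, 1, 0], [0, 0, 1, 0,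 0, 0, 0, 1, 1, 0, 0, 0, 0, 2]]
  | ⟨59, _⟩ => [[1, 1, 0, 2, 0, 2, 1, 0, 2, 0, 0, 2, 1, 0], [0, 1, 0, 2, 0, 0, 0, 1, 0, 0, 0, 0, 0, 2], [0, 1, 2, 1, 0, 0, 0, 2, 1, 0, 0, 0, 1, 1], [0, 0, 0, 1, 0, 0, 0, 2, 2, 0, 0, 0, 2, 0], [1, 2, 2, 1, 2, 1, 2, 1, 2, 1, 1, 1, 1, 1], [0, 2, 0, 0, 0, 1, 2, 1, 2, 2, 2, 0, 1, 1], [0, 1, 2, 1, 1, 2, 0, 0, 2, 0, 2, 2, 0, 1], [0, 0, 1, 2, 0, 0, 0, 0, 0, 0, 0, 0, 2, 2], [0, 2, 1, 2, 0, 0, 0, 1, 1, 0, 0, 0, 1, 2], [2, 2, 1, 2, 1, 2, 1, 1, 2, 1, 1, 2, 1, 1], [2, 2, 0, 0, 0, 2, 1, 2, 0, 2, 0, 2, 2, 0], [0, 0, 2, 1, 1, 2, 0, 1, 1, 2, 1, 1, 1, 2], [0, 2, 0, 2, 0, 0, 0, 1, 2, 0, 0, 0, 0, 2], [0, 0, 1, 2, 0,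 0, 0, 0, 2, 0, 0, 0, 1, 1]]
  | ⟨60, _⟩ => [[2, 2, 2, 2, 0, 1, 0, 0, 0, 0, 0, 1, 0, 2], [0, 2, 0, 1, 0, 0, 0, 0, 0, 0, 0, 0, 0, 1], [0, 0, 2, 2, 0, 0, 0, 1, 0, 0, 0, 0, 1, 2], [0, 2, 1, 2, 0, 0, 0, 0, 1, 0, 0, 0, 0, 2], [0, 2, 1, 0, 2, 2, 1, 0, 0, 0, 1, 2, 0, 2], [2, 0, 1, 0, 1, 2, 0, 1, 0, 1, 0, 2, 1, 0], [0, 2, 1, 0, 1, 0, 0, 0, 0, 0, 2, 0, 0, 2], [0, 0, 1, 0, 0, 0, 0, 0, 0, 0, 0, 0, 2, 0], [0, 0, 0, 2, 0, 0, 0, 0, 1, 0, 0, 0, 0, 0], [0, 0, 0, 0, 0, 2, 0, 2, 0, 1, 0, 0, 2, 0], [0, 2, 1, 0, 2, 0, 1, 0, 0, 0, 1, 0, 0, 2], [1, 0, 2, 0, 2, 1, 0, 0, 0, 0, 0, 1, 0, 0], [0, 0, 2, 0, 0, 0, 0, 1, 0, 0, 0, 0, 1, 0], [0, 1, 2, 1, 0, 0,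 0, 0, 0, 0, 0, 0, 0, 1]]
  | ⟨61, _⟩ => [[1, 0, 0, 0, 1, 0, 0, 0, 1, 2, 1, 0, 1, 1], [0, 1, 1, 0, 0, 0, 0, 0, 2, 0, 0, 0, 1, 0], [0, 0, 2, 0, 0, 0, 0, 1, 1, 0, 0, 0, 0, 1], [0, 1, 2, 1, 0, 0, 0, 1, 1, 0, 0, 0, 2, 1], [0, 1, 0, 1, 2, 0, 1, 0, 1, 1, 0, 1, 2, 1], [1, 1, 2, 2, 2, 1, 1, 1, 2, 1, 2, 1, 1, 2], [1, 2, 2, 0, 2, 1, 0, 1, 0, 1, 2, 0, 0, 0], [0, 1, 2, 1, 0, 0, 0, 0, 1, 0, 0, 0, 2, 0], [0, 0, 1, 1, 0, 0, 0, 0, 1, 0, 0, 0, 1, 2], [0, 1, 1, 0, 1, 1, 0, 2, 0, 1, 1, 2, 1, 2], [0, 0, 2, 1, 2, 2, 1, 1, 1, 2, 0, 2, 1, 2], [2, 1, 0, 1, 1, 0, 2, 0, 1, 2, 1, 1, 1, 2], [0, 0, 2, 2, 0, 0, 0, 1, 2, 0, 0, 0, 0, 2], [0, 2, 1, 0, 0, 0, 0,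 2, 2, 0, 0, 0, 1, 1]]
  | ⟨62, _⟩ => [[1, 0, 0, 0, 0, 0, 0, 0, 0, 0, 0, 2, 0, 1], [0, 1, 0, 0, 0, 0, 0, 0, 0, 0, 0, 0, 0, 2], [0, 2, 1, 0, 0, 0, 0, 0, 0, 0, 0, 0, 2, 2], [0, 0, 0, 1, 0, 0, 0, 0, 2, 0, 0, 0, 0, 1], [2, 0, 0, 0, 1, 0, 0, 0, 0, 0, 2, 2, 0, 2], [0, 0, 0, 0, 0, 1, 0, 0, 0, 2, 0, 1, 1, 0], [0, 0, 0, 0, 0, 0, 1, 0, 0, 0, 1, 0, 0, 2], [0, 0, 0, 0, 0, 0, 0, 1, 0, 0, 0, 0, 1, 0], [0, 0, 0, 0, 0, 0, 0, 0, 1, 0, 0, 0, 0, 0], [0, 0, 0, 0, 0, 0, 0, 0, 0, 1, 0, 0, 1, 0], [0, 0, 0, 0, 0, 0, 0, 0, 0, 0, 1, 0, 0, 1], [0, 0, 0, 0, 0, 0, 0, 0, 0, 0, 0, 1, 0, 0], [0, 0, 0, 0, 0, 0, 0, 0, 0, 0, 0, 0, 1, 0], [0, 0, 0, 0, 0, 0, 0, 0,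 0, 0, 0, 0, 0, 1]]
  | ⟨n+63, h⟩ => absurd h (by omega)
def T14_c1 : Fin 63 → List (List ℕ)
  | ⟨0, _⟩ => [[0, 0, 2, 0, 2, 2, 0, 2, 1, 0, 1, 1, 0, 1], [0, 0, 2, 2, 0, 0, 0, 0, 0, 0, 0, 0, 1, 1], [0, 1, 2, 0, 0, 0, 0, 2, 2, 0, 0, 0, 0, 2], [0, 0, 2, 1, 0, 0, 0, 2, 1, 0, 0, 0, 2, 1], [1, 0, 2, 1, 2, 0, 2, 2, 2, 2, 0, 2, 1, 2], [0, 0, 2, 2, 2, 1, 2, 2, 1, 1, 2, 1, 1, 1], [2, 1, 1, 2, 0, 1, 2, 1, 1, 2, 1, 0, 2, 1], [0, 2, 0, 1, 0, 0, 0, 2, 2, 0, 0, 0, 1, 0], [0, 2, 2, 1, 0, 0, 0, 0, 0, 0, 0, 0, 1, 2], [2, 2, 1, 0, 2, 1, 0, 0, 0, 0, 1, 2, 0, 1], [0, 0, 1, 2, 2, 1, 1, 2, 1, 2, 2, 1, 1, 2], [0, 2, 0, 2, 2, 2, 2, 1, 1, 2, 2, 2, 2, 0],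 [0, 0, 2, 1, 0, 0, 0, 1, 2, 0, 0, 0, 2, 1], [0, 0, 2, 2, 0, 0, 0, 2, 2, 0, 0, 0, 2, 2]]
  | ⟨1, _⟩ => [[1, 1, 1, 1, 2, 2, 2, 0, 1, 2, 0, 1, 0, 1], [0, 1, 2, 2, 0, 0, 0, 2, 2, 0, 0, 0, 0, 1], [0, 0, 1, 2, 0, 0, 0, 2, 0, 0, 0, 0, 1, 1], [0, 2, 1, 0, 0, 0, 0, 1, 2, 0, 0, 0, 2, 0], [0, 0, 2, 2, 1, 2, 2, 1, 1, 0, 1, 1, 2, 2], [2, 2, 2, 0, 1, 0, 1, 1, 1, 2, 2, 0, 2, 2], [1, 2, 0, 2, 2, 2, 1, 1, 2, 1, 1, 1, 2, 1], [0, 1, 2, 2, 0, 0, 0, 1, 1, 0, 0, 0, 1, 1], [0, 1, 1, 1, 0, 0, 0, 2, 1, 0, 0, 0, 2, 1], [1, 0, 0, 2, 1, 1, 2, 0, 2, 1, 2, 1, 1, 1], [1, 2, 2, 1, 1, 2, 0, 0, 1, 2, 1, 0, 1, 2], [2, 1, 1, 1, 2, 0, 0, 0, 1, 0, 2, 1, 1, 2], [0,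 1, 1, 2, 0, 0, 0, 0, 2, 0, 0, 0, 1, 0], [0, 2, 2, 0, 0, 0, 0, 0, 0, 0, 0, 0, 2, 1]]
  | ⟨2, _⟩ => [[2, 2, 2, 0, 2, 1, 0, 2, 1, 1, 1, 1, 1, 1], [0, 2, 2, 1, 0, 0, 0, 0, 1, 0, 0, 0, 1, 1], [0, 2, 2, 1, 0, 0, 0, 2, 0, 0, 0, 0, 1, 2], [0, 2, 2, 2, 0, 0, 0, 1, 1, 0, 0, 0, 2, 0], [2, 1, 0, 1, 2, 1, 2, 1, 2, 0, 1, 2, 2, 1], [2, 1, 1, 1, 2, 2, 1, 2, 2, 1, 2, 0, 1, 2], [0, 2, 1, 0, 2, 2, 0, 0, 0, 2, 1, 2, 0, 2], [0, 0, 2, 2, 0, 0, 0, 0, 2, 0, 0, 0, 1, 2], [0, 1, 0, 2, 0, 0, 0, 2, 1, 0, 0, 0, 0, 2], [1, 0, 1, 1, 0, 2, 2, 1, 2, 1, 0, 2, 1, 2], [2, 2, 2, 1, 2, 2, 2, 2, 2, 0, 1, 0, 0, 2], [1, 2, 2, 2, 2, 0, 2, 2, 1, 2, 0, 2, 0, 1], [0, 2,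 2, 2, 0, 0, 0, 2, 0, 0, 0, 0, 1, 0], [0, 1, 2, 0, 0, 0, 0, 2, 2, 0, 0, 0, 0, 2]]
  | ⟨3, _⟩ => [[2, 2, 2, 0, 1, 0, 0, 0, 0, 0, 1, 0, 2, 2], [0, 2, 1, 0, 0, 0, 0, 0, 0, 0, 0, 0, 1, 0], [0, 1, 1, 0, 0, 0, 0, 0, 0, 0, 0, 0, 1, 2], [0, 0, 0, 1, 0, 0, 0, 0, 1, 0, 0, 0, 0, 2], [1, 0, 0, 0, 1, 0, 0, 0, 0, 0, 1, 2, 0, 2], [0, 2, 2, 0, 0, 1, 0, 0, 0, 1, 0, 2, 0, 1], [0, 0, 0, 2, 0, 0, 1, 0, 2, 0, 2, 0, 0, 0], [0, 0, 0, 0, 0, 0, 0, 1, 0, 0, 0, 0, 2, 0], [0, 0, 0, 2, 0, 0, 0, 0, 0, 0, 0, 0, 0, 1], [0, 2, 2, 0, 0, 2, 0, 0, 0, 0, 0, 1, 0, 1], [2, 0, 0, 1, 2, 0, 1, 0, 1, 0, 2, 1, 0, 1], [0, 2, 2, 0, 2, 1, 0, 0, 0, 1, 2, 2, 0, 1], [0, 2, 2,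 0, 0, 0, 0, 1, 0, 0, 0, 0, 2, 1], [0, 0, 2, 1, 0, 0, 0, 0, 1, 0, 0, 0, 2, 2]]
  | ⟨4, _⟩ => [[0, 0, 2, 0, 2, 2, 0, 2, 1, 0, 1, 1, 0, 1], [0, 0, 2, 2, 0, 0, 0, 0, 0, 0, 0, 0, 1, 1], [0, 2, 1, 0, 0, 0, 0, 1, 1, 0, 0, 0, 0, 1], [0, 0, 2, 1, 0, 0, 0, 2, 1, 0, 0, 0, 2, 1], [2, 0, 1, 2, 1, 0, 1, 1, 1, 1, 0, 1, 2, 1], [0, 0, 2, 2, 2, 1, 2, 2, 1, 1, 2, 1, 1, 1], [1, 2, 2, 1, 0, 2, 1, 2, 2, 1, 2, 0, 1, 2], [0, 1, 0, 2, 0, 0, 0, 1, 1, 0, 0, 0, 2, 0], [0, 1, 1, 2, 0, 0, 0, 0, 0, 0, 0, 0, 2, 1], [1, 1, 2, 0, 1, 2, 0, 0, 0, 0, 2, 1, 0, 2], [0, 0, 1, 2, 2, 1, 1, 2, 1, 2, 2, 1, 1, 2], [0, 1, 0, 1, 1, 1, 1, 2, 2, 1, 1, 1, 1, 0], [0, 0, 2, 1,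 0, 0, 0, 1, 2, 0, 0, 0, 2, 1], [0, 0, 1, 1, 0, 0, 0, 1, 1, 0, 0, 0, 1, 1]]
  | ⟨5, _⟩ => [[1, 0, 0, 0, 0, 0, 0, 0, 0, 0, 0, 2, 0, 1], [0, 1, 0, 0, 0, 0, 0, 0, 0, 0, 0, 0, 0, 2], [0, 1, 2, 0, 0, 0, 0, 0, 0, 0, 0, 0, 1, 1], [0, 0, 0, 1, 0, 0, 0, 0, 2, 0, 0, 0, 0, 1], [1, 0, 0, 0, 2, 0, 0, 0, 0, 0, 1, 1, 0, 1], [0, 0, 0, 0, 0, 1, 0, 0, 0, 2, 0, 1, 1, 0], [0, 0, 0, 0, 0, 0, 2, 0, 0, 0, 2, 0, 0, 1], [0, 0, 0, 0, 0, 0, 0, 2, 0, 0, 0, 0, 2, 0], [0, 0, 0, 0, 0, 0, 0, 0, 2, 0, 0, 0, 0, 0], [0, 0, 0, 0, 0, 0, 0, 0, 0, 2, 0, 0, 2, 0], [0, 0, 0, 0, 0, 0, 0, 0, 0, 0, 1, 0, 0, 1], [0, 0, 0, 0, 0, 0, 0, 0, 0, 0, 0, 2, 0, 0], [0, 0, 0, 0, 0,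 0, 0, 0, 0, 0, 0, 0, 1, 0], [0, 0, 0, 0, 0, 0, 0, 0, 0, 0, 0, 0, 0, 2]]
  | ⟨6, _⟩ => [[1, 1, 1, 1, 1, 1, 1, 1, 1, 2, 1, 0, 1, 1], [0, 1, 1, 1, 0, 0, 0, 1, 2, 0, 0, 0, 1, 0], [0, 2, 2, 0, 0, 0, 0, 2, 2, 0, 0, 0, 0, 2], [0, 2, 0, 1, 0, 0, 0, 0, 1, 0, 0, 0, 2, 1], [2, 1, 1, 0, 2, 0, 2, 1, 2, 2, 0, 2, 1, 2], [2, 0, 2, 0, 0, 1, 0, 2, 2, 1, 2, 1, 1, 2], [2, 1, 2, 1, 2, 0, 1, 2, 0, 2, 1, 0, 0, 0], [0, 2, 2, 0, 0, 0, 0, 1, 2, 0, 0, 0, 1, 0], [0, 1, 2, 1, 0, 0, 0, 2, 2, 0, 0, 0, 2, 1], [1, 0, 2, 0, 2, 1, 2, 0, 0, 2, 2, 1, 2, 1], [2, 2, 2, 1, 0, 2, 1, 2, 1, 2, 0, 2, 1, 2], [0, 0, 1, 2, 2, 1, 0, 2, 2, 1, 2, 2, 2, 1], [0, 2, 0, 2, 0, 0,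 0, 1, 2, 0, 0, 0, 0, 2], [0, 0, 2, 1, 0, 0, 0, 0, 1, 0, 0, 0, 2, 2]]
  | ⟨7, _⟩ => [[2, 2, 1, 2, 0, 2, 2, 1, 1, 1, 2, 1, 2, 1], [0, 2, 0, 2, 0, 0, 0, 2, 1, 0, 0, 0, 2, 1], [0, 2, 1, 0, 0, 0, 0, 1, 1, 0, 0, 0, 0, 1], [0, 1, 1, 1, 0, 0, 0, 1, 0, 0, 0, 0, 2, 0], [2, 1, 1, 1, 1, 0, 1, 1, 2, 1, 0, 1, 0, 2], [1, 0, 2, 2, 1, 1, 1, 2, 2, 0, 2, 0, 0, 2], [2, 1, 0, 0, 0, 1, 1, 0, 1, 2, 0, 1, 1, 1], [0, 2, 0, 1, 0, 0, 0, 1, 2, 0, 0, 0, 0, 1], [0, 1, 2, 2, 0, 0, 0, 1, 1, 0, 0, 0, 1, 1], [1, 0, 2, 2, 2, 2, 1, 0, 0, 1, 1, 1, 0, 1], [1, 1, 2, 2, 2, 0, 2, 1, 2, 1, 1, 0, 2, 2], [0, 0, 2, 2, 1, 2, 2, 1, 1, 0, 1, 1, 2, 2], [0, 1, 2, 0, 0, 0, 0,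 2, 1, 0, 0, 0, 1, 0], [0, 0, 1, 2, 0, 0, 0, 2, 0, 0, 0, 0, 1, 1]]
  | ⟨8, _⟩ => [[0, 0, 0, 2, 1, 1, 2, 1, 1, 2, 2, 1, 1, 0], [0, 0, 1, 1, 0, 0, 0, 2, 2, 0, 0, 0, 2, 1], [0, 1, 2, 1, 0, 0, 0, 2, 1, 0, 0, 0, 1, 1], [0, 0, 0, 1, 0, 0, 0, 2, 2, 0, 0, 0, 2, 0], [1, 2, 2, 1, 2, 1, 2, 1, 2, 1, 1, 1, 1, 1], [0, 0, 2, 1, 0, 1, 2, 0, 0, 2, 2, 0, 2, 2], [0, 1, 2, 2, 1, 2, 0, 2, 1, 0, 2, 2, 2, 1], [0, 0, 1, 2, 0, 0, 0, 0, 0, 0, 0, 0, 2, 2], [0, 2, 1, 0, 0, 0, 0, 0, 0, 0, 0, 0, 0, 2], [2, 0, 2, 1, 1, 0, 0, 0, 0, 0, 0, 2, 1, 1], [0, 0, 0, 1, 1, 1, 0, 2, 2, 0, 2, 1, 2, 0], [1, 0, 1, 0, 2, 1, 1, 0, 0, 2, 1, 1, 0, 2], [0, 0, 1, 1, 0, 0, 0, 0,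 0, 0, 0, 0, 2, 1], [0, 1, 2, 1, 0, 0, 0, 1, 2, 0, 0, 0, 1, 1]]
  | ⟨9, _⟩ => [[1, 0, 1, 1, 1, 0, 1, 2, 1, 2, 2, 1, 1, 0], [0, 1, 1, 0, 0, 0, 0, 1, 2, 0, 0, 0, 2, 1], [0, 2, 1, 1, 0, 0, 0, 0, 1, 0, 0, 0, 1, 1], [0, 0, 1, 2, 0, 0, 0, 1, 2, 0, 0, 0, 2, 0], [2, 0, 1, 2, 1, 1, 0, 2, 2, 1, 1, 1, 1, 1], [0, 2, 1, 0, 1, 2, 1, 2, 0, 2, 2, 0, 2, 2], [2, 2, 2, 1, 0, 1, 2, 1, 1, 0, 2, 2, 2, 1], [0, 2, 0, 1, 0, 0, 0, 2, 0, 0, 0, 0, 2, 2], [0, 1, 1, 2, 0, 0, 0, 0, 0, 0, 0, 0, 0, 2], [1, 1, 2, 2, 1, 2, 0, 1, 0, 0, 0, 2, 1, 1], [1, 0, 2, 1, 1, 2, 2, 1, 2, 0, 2, 1, 2, 0], [2, 2, 0, 2, 1, 0, 2, 0, 0, 2, 1, 1, 0, 2], [0, 1, 1, 2, 0, 0, 0, 2, 0,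 0, 0, 0, 2, 1], [0, 2, 1, 0, 0, 0, 0, 2, 2, 0, 0, 0, 1, 1]]
  | ⟨10, _⟩ => [[0, 0, 1, 0, 2, 0, 1, 2, 0, 0, 0, 2, 0, 0], [0, 0, 2, 0, 0, 0, 0, 1, 0, 0, 0, 0, 0, 2], [0, 2, 1, 1, 0, 0, 0, 2, 2, 0, 0, 0, 0, 1], [0, 1, 1, 2, 0, 0, 0, 0, 2, 0, 0, 0, 2, 1], [2, 2, 2, 0, 1, 1, 2, 0, 0, 2, 0, 1, 2, 0], [1, 1, 2, 1, 1, 2, 0, 0, 2, 2, 2, 1, 1, 1], [1, 0, 0, 2, 2, 0, 0, 0, 2, 0, 2, 1, 0, 1], [0, 1, 2, 0, 0, 0, 0, 0, 0, 0, 0, 0, 2, 1], [0, 1, 1, 0, 0, 0, 0, 0, 0, 0, 0, 0, 2, 2], [1, 0, 0, 2, 1, 0, 0, 0, 1, 0, 2, 2, 0, 2], [2, 2, 2, 2, 1, 1, 0, 0, 2, 2, 1, 1, 2, 1], [2, 2, 1, 0, 2, 1, 1, 0, 0, 1, 0, 2, 2, 0], [0, 2, 1, 1, 0, 0, 0, 0, 2, 0,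 0, 0, 1, 1], [0, 2, 2, 1, 0, 0, 0, 1, 1, 0, 0, 0, 0, 2]]
  | ⟨11, _⟩ => [[2, 1, 2, 0, 1, 0, 2, 1, 0, 0, 1, 0, 2, 1], [0, 2, 1, 0, 0, 0, 0, 2, 0, 0, 0, 0, 1, 0], [0, 0, 1, 2, 0, 0, 0, 2, 0, 0, 0, 0, 1, 1], [0, 2, 2, 2, 0, 0, 0, 0, 2, 0, 0, 0, 0, 1], [0, 2, 2, 0, 1, 2, 2, 0, 0, 0, 1, 1, 0, 1], [2, 0, 1, 1, 2, 2, 0, 0, 0, 2, 0, 1, 0, 2], [0, 0, 0, 1, 2, 0, 0, 0, 1, 0, 2, 0, 0, 0], [0, 0, 2, 0, 0, 0, 0, 0, 0, 0, 0, 0, 2, 0], [0, 1, 1, 0, 0, 0, 0, 0, 0, 0, 0, 0, 0, 2], [1, 0, 0, 1, 1, 0, 0, 0, 0, 0, 0, 2, 0, 2], [0, 1, 1, 2, 2, 1, 0, 0, 2, 0, 2, 2, 0, 2], [2, 0, 1, 0, 2, 2, 1, 0, 0, 2, 2, 1, 0, 2], [0, 0, 2, 1, 0, 0, 0, 0, 0, 0, 0,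 0, 2, 2], [0, 2, 2, 2, 0, 0, 0, 1, 2, 0, 0, 0, 2, 1]]
  | ⟨12, _⟩ => [[2, 2, 2, 2, 0, 2, 1, 2, 2, 2, 2, 2, 2, 2], [0, 2, 0, 2, 0, 0, 0, 1, 2, 0, 0, 0, 2, 2], [0, 1, 1, 0, 0, 0, 0, 1, 1, 0, 0, 0, 0, 1], [0, 1, 2, 1, 0, 0, 0, 2, 0, 0, 0, 0, 2, 0], [1, 2, 1, 2, 1, 0, 1, 1, 2, 1, 0, 1, 0, 2], [1, 0, 1, 2, 2, 1, 2, 1, 1, 0, 2, 0, 0, 1], [1, 2, 0, 0, 0, 2, 1, 0, 1, 2, 0, 1, 2, 1], [0, 1, 0, 2, 0, 0, 0, 1, 2, 0, 0, 0, 0, 1], [0, 2, 2, 1, 0, 0, 0, 1, 1, 0, 0, 0, 2, 1], [2, 0, 2, 1, 2, 1, 1, 0, 0, 1, 2, 1, 0, 1], [1, 1, 1, 2, 1, 0, 1, 2, 1, 2, 1, 0, 2, 1], [0, 0, 2, 1, 1, 1, 2, 1, 1, 0, 2, 1, 1, 2], [0, 1, 1, 0, 0, 0, 0, 1, 2, 0, 0, 0,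 1, 0], [0, 0, 1, 1, 0, 0, 0, 2, 0, 0, 0, 0, 2, 1]]
  | ⟨13, _⟩ => [[0, 0, 1, 0, 0, 0, 1, 0, 2, 1, 0, 2, 0, 2], [0, 0, 0, 0, 0, 0, 0, 1, 1, 0, 0, 0, 0, 2], [0, 2, 2, 1, 0, 0, 0, 2, 0, 0, 0, 0, 1, 2], [0, 2, 2, 2, 0, 0, 0, 1, 1, 0, 0, 0, 2, 0], [2, 1, 0, 1, 2, 1, 2, 1, 2, 0, 1, 2, 2, 1], [2, 0, 0, 2, 2, 2, 1, 1, 2, 1, 2, 0, 2, 1], [0, 1, 0, 2, 2, 2, 0, 1, 1, 2, 1, 2, 2, 2], [0, 0, 2, 2, 0, 0, 0, 0, 2, 0, 0, 0, 1, 2], [0, 0, 2, 1, 0, 0, 0, 0, 2, 0, 0, 0, 2, 2], [0, 2, 0, 1, 2, 1, 0, 1, 1, 2, 2, 2, 1, 2], [1, 0, 0, 1, 2, 1, 1, 1, 2, 1, 1, 0, 1, 1], [1, 2, 0, 2, 2, 2, 2, 1, 2, 0, 2, 2, 1, 1], [0, 1, 2, 1, 0, 0, 0, 1, 1, 0, 0, 0, 1,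 0], [0, 1, 2, 2, 0, 0, 0, 2, 0, 0, 0, 0, 2, 2]]
  | ⟨14, _⟩ => [[2, 0, 0, 0, 1, 0, 0, 0, 1, 2, 2, 0, 2, 1], [0, 2, 1, 0, 0, 0, 0, 0, 2, 0, 0, 0, 2, 0], [0, 2, 2, 0, 0, 0, 0, 1, 1, 0, 0, 0, 1, 2], [0, 0, 2, 1, 0, 0, 0, 1, 2, 0, 0, 0, 0, 2], [2, 1, 0, 1, 2, 0, 1, 0, 2, 1, 1, 2, 1, 1], [0, 0, 2, 2, 2, 1, 1, 1, 1, 2, 0, 2, 2, 2], [0, 1, 2, 0, 2, 1, 0, 1, 0, 2, 1, 1, 1, 1], [0, 0, 2, 1, 0, 0, 0, 0, 2, 0, 0, 0, 1, 1], [0, 1, 1, 1, 0, 0, 0, 0, 2, 0, 0, 0, 2, 0], [1, 2, 1, 0, 1, 1, 0, 2, 0, 2, 2, 0, 0, 0], [2, 2, 2, 1, 2, 2, 1, 1, 2, 1, 1, 1, 2, 2], [0, 1, 0, 1, 1, 0, 2, 0, 2, 2, 0, 2, 2, 2], [0, 2, 2, 2, 0, 0, 0, 1, 1, 0, 0, 0, 1, 1],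 [0, 0, 1, 0, 0, 0, 0, 2, 2, 0, 0, 0, 0, 2]]
  | ⟨15, _⟩ => [[0, 1, 1, 1, 1, 2, 0, 0, 0, 0, 0, 1, 0, 2], [0, 0, 1, 2, 0, 0, 0, 0, 0, 0, 0, 0, 0, 1], [0, 2, 2, 1, 0, 0, 0, 2, 0, 0, 0, 0, 1, 2], [0, 1, 1, 0, 0, 0, 0, 0, 1, 0, 0, 0, 0, 2], [2, 1, 0, 2, 2, 1, 2, 0, 0, 0, 1, 2, 0, 2], [1, 0, 2, 0, 1, 0, 0, 2, 0, 1, 0, 2, 1, 0], [0, 1, 1, 1, 2, 0, 2, 0, 0, 0, 2, 0, 0, 2], [0, 0, 2, 0, 0, 0, 0, 2, 0, 0, 0, 0, 2, 0], [0, 0, 0, 1, 0, 0, 0, 0, 1, 0, 0, 0, 0, 0], [0, 0, 1, 0, 0, 1, 0, 1, 0, 1, 0, 0, 2, 0], [0, 1, 1, 2, 1, 0, 2, 0, 0, 0, 1, 0, 0, 2], [2, 0, 2, 0, 2, 2, 0, 0, 0, 0, 0, 1, 0, 0], [0, 0, 1, 0, 0, 0, 0, 2, 0, 0, 0, 0, 1, 0], [0,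 2, 2, 2, 0, 0, 0, 0, 0, 0, 0, 0, 0, 1]]
  | ⟨16, _⟩ => [[0, 0, 2, 2, 2, 2, 2, 2, 0, 2, 2, 1, 2, 0], [0, 0, 2, 2, 0, 0, 0, 2, 2, 0, 0, 0, 2, 1], [0, 2, 1, 2, 0, 0, 0, 0, 0, 0, 0, 0, 0, 2], [0, 1, 0, 1, 0, 0, 0, 2, 0, 0, 0, 0, 2, 1], [2, 1, 2, 1, 1, 2, 0, 1, 0, 0, 0, 2, 1, 1], [1, 0, 1, 2, 0, 1, 2, 1, 0, 0, 2, 1, 1, 0], [1, 2, 1, 0, 1, 2, 1, 0, 0, 2, 1, 1, 0, 2], [0, 1, 1, 2, 0, 0, 0, 1, 2, 0, 0, 0, 1, 1], [0, 0, 1, 0, 0, 0, 0, 2, 1, 0, 0, 0, 0, 1], [0, 1, 1, 2, 1, 0, 2, 1, 1, 1, 0, 1, 1, 2], [1, 2, 1, 0, 0, 2, 0, 1, 1, 0, 1, 0, 0, 2], [0, 0, 2, 0, 1, 0, 1, 2, 1, 1, 0, 2, 0, 2], [0, 1, 0, 2, 0, 0, 0, 0, 0, 0, 0, 0, 1, 0], [0, 0,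 1, 0, 0, 0, 0, 1, 1, 0, 0, 0, 0, 2]]
  | ⟨17, _⟩ => [[1, 1, 1, 1, 1, 1, 1, 1, 1, 2, 1, 0, 1, 1], [0, 1, 1, 1, 0, 0, 0, 1, 2, 0, 0, 0, 1, 0], [0, 1, 1, 0, 0, 0, 0, 1, 1, 0, 0, 0, 0, 1], [0, 2, 0, 1, 0, 0, 0, 0, 1, 0, 0, 0, 2, 1], [1, 2, 2, 0, 1, 0, 1, 2, 1, 1, 0, 1, 2, 1], [2, 0, 2, 0, 0, 1, 0, 2, 2, 1, 2, 1, 1, 2], [1, 2, 1, 2, 1, 0, 2, 1, 0, 1, 2, 0, 0, 0], [0, 1, 1, 0, 0, 0, 0, 2, 1, 0, 0, 0, 2, 0], [0, 2, 1, 2, 0, 0, 0, 1, 1, 0, 0, 0, 1, 2], [2, 0, 1, 0, 1, 2, 1, 0, 0, 1, 1, 2, 1, 2], [2, 2, 2, 1, 0, 2, 1, 2, 1, 2, 0, 2, 1, 2], [0, 0, 2, 1, 1, 2, 0, 1, 1, 2, 1, 1, 1, 2], [0, 2, 0, 2, 0, 0, 0, 1, 2, 0, 0, 0, 0, 2], [0, 0, 1,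 2, 0, 0, 0, 0, 2, 0, 0, 0, 1, 1]]
  | ⟨18, _⟩ => [[0, 1, 2, 1, 2, 2, 0, 0, 0, 0, 0, 2, 0, 1], [0, 0, 2, 2, 0, 0, 0, 0, 0, 0, 0, 0, 0, 2], [0, 1, 2, 2, 0, 0, 0, 2, 0, 0, 0, 0, 2, 2], [0, 1, 2, 0, 0, 0, 0, 0, 2, 0, 0, 0, 0, 1], [1, 2, 0, 1, 2, 2, 2, 0, 0, 0, 2, 2, 0, 2], [1, 0, 1, 0, 2, 0, 0, 1, 0, 2, 0, 1, 1, 0], [0, 2, 1, 2, 2, 0, 2, 0, 0, 0, 1, 0, 0, 2], [0, 0, 2, 0, 0, 0, 0, 2, 0, 0, 0, 0, 1, 0], [0, 0, 0, 2, 0, 0, 0, 0, 1, 0, 0, 0, 0, 0], [0, 0, 1, 0, 0, 2, 0, 1, 0, 1, 0, 0, 1, 0], [0, 1, 2, 2, 2, 0, 1, 0, 0, 0, 1, 0, 0, 1], [1, 0, 2, 0, 2, 1, 0, 0, 0, 0, 0, 1, 0, 0], [0, 0, 2, 0, 0, 0, 0, 1, 0, 0, 0, 0, 1, 0], [0, 1, 2, 1,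 0, 0, 0, 0, 0, 0, 0, 0, 0, 1]]
  | ⟨19, _⟩ => [[2, 2, 1, 2, 0, 1, 0, 0, 0, 0, 0, 2, 0, 1], [0, 2, 0, 1, 0, 0, 0, 0, 0, 0, 0, 0, 0, 2], [0, 0, 2, 1, 0, 0, 0, 1, 0, 0, 0, 0, 2, 2], [0, 2, 2, 2, 0, 0, 0, 0, 2, 0, 0, 0, 0, 1], [0, 1, 1, 0, 2, 1, 1, 0, 0, 0, 2, 2, 0, 2], [2, 0, 2, 0, 2, 2, 0, 2, 0, 2, 0, 1, 1, 0], [0, 1, 1, 0, 1, 0, 0, 0, 0, 0, 1, 0, 0, 2], [0, 0, 1, 0, 0, 0, 0, 0, 0, 0, 0, 0, 1, 0], [0, 0, 0, 1, 0, 0, 0, 0, 1, 0, 0, 0, 0, 0], [0, 0, 0, 0, 0, 1, 0, 2, 0, 1, 0, 0, 1, 0], [0, 2, 2, 0, 1, 0, 2, 0, 0, 0, 1, 0, 0, 1], [2, 0, 2, 0, 2, 2, 0, 0, 0, 0, 0, 1, 0, 0], [0, 0, 1, 0, 0, 0, 0, 2, 0, 0, 0, 0, 1, 0], [0, 2, 2, 2, 0,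 0, 0, 0, 0, 0, 0, 0, 0, 1]]
  | ⟨20, _⟩ => [[1, 1, 1, 1, 0, 0, 1, 2, 1, 0, 1, 1, 0, 1], [0, 1, 0, 0, 0, 0, 0, 1, 0, 0, 0, 0, 1, 1], [0, 0, 1, 0, 0, 0, 0, 2, 2, 0, 0, 0, 0, 2], [0, 1, 2, 1, 0, 0, 0, 1, 1, 0, 0, 0, 2, 1], [0, 2, 0, 2, 1, 0, 2, 0, 2, 2, 0, 2, 1, 2], [1, 1, 0, 2, 2, 1, 1, 0, 1, 1, 2, 1, 1, 1], [2, 2, 0, 1, 1, 2, 0, 0, 1, 2, 1, 0, 2, 1], [0, 2, 1, 2, 0, 0, 0, 0, 2, 0, 0, 0, 1, 0], [0, 1, 1, 0, 0, 0, 0, 1, 0, 0, 0, 0, 1, 2], [1, 0, 0, 2, 1, 0, 1, 0, 0, 0, 1, 2, 0, 1], [1, 2, 0, 1, 2, 0, 0, 0, 1, 2, 2, 1, 1, 2], [2, 2, 0, 1, 1, 2, 1, 0, 1, 2, 2, 2, 2, 0], [0, 1, 2, 0, 0, 0, 0, 0, 2, 0, 0, 0, 2, 1], [0, 2, 1, 2, 0, 0,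 0, 1, 2, 0, 0, 0, 2, 2]]
  | ⟨21, _⟩ => [[2, 2, 1, 2, 2, 1, 2, 0, 1, 2, 0, 1, 0, 1], [0, 2, 2, 1, 0, 0, 0, 2, 2, 0, 0, 0, 0, 1], [0, 1, 2, 0, 0, 0, 0, 0, 0, 0, 0, 0, 1, 1], [0, 2, 1, 1, 0, 0, 0, 0, 2, 0, 0, 0, 2, 0], [1, 2, 1, 2, 2, 0, 0, 0, 1, 0, 1, 1, 2, 2], [2, 1, 2, 2, 1, 1, 0, 0, 1, 2, 2, 0, 2, 2], [2, 0, 0, 1, 1, 2, 2, 0, 2, 1, 1, 1, 2, 1], [0, 2, 1, 2, 0, 0, 0, 2, 1, 0, 0, 0, 1, 1], [0, 2, 2, 1, 0, 0, 0, 1, 1, 0, 0, 0, 2, 1], [2, 1, 0, 1, 2, 1, 1, 1, 2, 1, 2, 1, 1, 1], [1, 1, 2, 0, 1, 0, 1, 1, 1, 2, 1, 0, 1, 2], [0, 0, 2, 1, 1, 1, 2, 1, 1, 0, 2, 1, 1, 2], [0, 1, 1, 0, 0, 0, 0, 1, 2, 0, 0, 0, 1, 0], [0, 0, 1, 1, 0, 0, 0,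 2, 0, 0, 0, 0, 2, 1]]
  | ⟨22, _⟩ => [[0, 0, 0, 1, 2, 1, 1, 0, 1, 1, 1, 1, 1, 1], [0, 0, 2, 1, 0, 0, 0, 1, 1, 0, 0, 0, 1, 1], [0, 1, 1, 0, 0, 0, 0, 0, 0, 0, 0, 0, 1, 2], [0, 2, 2, 1, 0, 0, 0, 0, 1, 0, 0, 0, 2, 0], [1, 2, 2, 2, 1, 0, 0, 0, 2, 0, 1, 2, 2, 1], [2, 0, 0, 2, 2, 1, 0, 0, 2, 1, 2, 0, 1, 2], [2, 1, 1, 0, 2, 2, 1, 0, 0, 2, 1, 2, 0, 2], [0, 2, 2, 2, 0, 0, 0, 1, 2, 0, 0, 0, 1, 2], [0, 0, 2, 0, 0, 0, 0, 2, 1, 0, 0, 0, 0, 2], [0, 2, 1, 2, 2, 0, 2, 2, 2, 1, 0, 2, 1, 2], [2, 1, 1, 0, 0, 2, 0, 2, 2, 0, 1, 0, 0, 2], [0, 0, 1, 0, 1, 0, 2, 2, 1, 2, 0, 2, 0, 1], [0, 2, 0, 2, 0, 0, 0, 0, 0, 0, 0, 0, 1, 0], [0, 0, 1, 0, 0, 0, 0, 2,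 2, 0, 0, 0, 0, 2]]
  | ⟨23, _⟩ => [[2, 1, 1, 0, 2, 0, 1, 2, 0, 0, 1, 0, 2, 2], [0, 2, 2, 0, 0, 0, 0, 1, 0, 0, 0, 0, 1, 0], [0, 0, 2, 2, 0, 0, 0, 1, 0, 0, 0, 0, 1, 2], [0, 2, 1, 2, 0, 0, 0, 0, 1, 0, 0, 0, 0, 2], [0, 2, 1, 0, 2, 2, 1, 0, 0, 0, 1, 2, 0, 2], [2, 0, 2, 1, 1, 2, 0, 0, 0, 1, 0, 2, 0, 1], [0, 0, 0, 1, 1, 0, 0, 0, 2, 0, 2, 0, 0, 0], [0, 0, 1, 0, 0, 0, 0, 0, 0, 0, 0, 0, 2, 0], [0, 1, 2, 0, 0, 0, 0, 0, 0, 0, 0, 0, 0, 1], [1, 0, 0, 1, 2, 0, 0, 0, 0, 0, 0, 1, 0, 1], [0, 1, 2, 2, 1, 1, 0, 0, 1, 0, 2, 1, 0, 1], [2, 0, 2, 0, 1, 2, 2, 0, 0, 1, 2, 2, 0, 1], [0, 0, 1, 1, 0, 0, 0, 0, 0, 0, 0, 0, 2, 1], [0, 2, 1, 2, 0, 0, 0, 2, 1,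 0, 0, 0, 2, 2]]
  | ⟨24, _⟩ => [[1, 1, 1, 1, 0, 0, 1, 2, 1, 0, 1, 1, 0, 1], [0, 1, 0, 0, 0, 0, 0, 1, 0, 0, 0, 0, 1, 1], [0, 0, 2, 0, 0, 0, 0, 1, 1, 0, 0, 0, 0, 1], [0, 1, 2, 1, 0, 0, 0, 1, 1, 0, 0, 0, 2, 1], [0, 1, 0, 1, 2, 0, 1, 0, 1, 1, 0, 1, 2, 1], [1, 1, 0, 2, 2, 1, 1, 0, 1, 1, 2, 1, 1, 1], [1, 1, 0, 2, 2, 1, 0, 0, 2, 1, 2, 0, 1, 2], [0, 1, 2, 1, 0, 0, 0, 0, 1, 0, 0, 0, 2, 0], [0, 2, 2, 0, 0, 0, 0, 2, 0, 0, 0, 0, 2, 1], [2, 0, 0, 1, 2, 0, 2, 0, 0, 0, 2, 1, 0, 2], [1, 2, 0, 1, 2, 0, 0, 0, 1, 2, 2, 1, 1, 2], [1, 1, 0, 2, 2, 1, 2, 0, 2, 1, 1, 1, 1, 0], [0, 1, 2, 0, 0, 0, 0, 0, 2, 0, 0, 0, 2, 1], [0, 1, 2, 1, 0, 0, 0, 2, 1, 0,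 0, 0, 1, 1]]
  | ⟨25, _⟩ => [[0, 1, 2, 0, 1, 0, 0, 0, 0, 0, 2, 1, 1, 1], [0, 0, 1, 0, 0, 0, 0, 0, 0, 0, 0, 0, 2, 1], [0, 2, 1, 0, 0, 0, 0, 0, 0, 0, 0, 0, 2, 2], [0, 0, 0, 1, 0, 0, 0, 0, 2, 0, 0, 0, 0, 1], [2, 0, 0, 0, 1, 0, 0, 0, 0, 0, 2, 2, 0, 2], [0, 1, 2, 0, 0, 1, 0, 0, 0, 2, 0, 1, 2, 1], [0, 0, 0, 2, 0, 0, 1, 0, 1, 0, 1, 0, 0, 1], [0, 0, 0, 0, 0, 0, 0, 1, 0, 0, 0, 0, 1, 0], [0, 0, 0, 2, 0, 0, 0, 0, 2, 0, 0, 0, 0, 2], [0, 1, 2, 0, 0, 2, 0, 0, 0, 2, 0, 2, 1, 1], [1, 0, 0, 1, 2, 0, 1, 0, 2, 0, 0, 1, 0, 2], [2, 1, 2, 0, 2, 1, 0, 0, 0, 2, 1, 2, 2, 0], [0, 1, 2, 0, 0, 0, 0, 1, 0, 0, 0, 0, 0, 1], [0, 2, 2, 1, 0, 0, 0, 0, 2, 0, 0,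 0, 1, 2]]
  | ⟨26, _⟩ => [[1, 2, 2, 1, 1, 2, 2, 2, 1, 2, 1, 0, 1, 1], [0, 1, 1, 2, 0, 0, 0, 2, 2, 0, 0, 0, 1, 0], [0, 1, 2, 0, 0, 0, 0, 2, 2, 0, 0, 0, 0, 2], [0, 0, 2, 1, 0, 0, 0, 2, 1, 0, 0, 0, 2, 1], [1, 0, 2, 1, 2, 0, 2, 2, 2, 2, 0, 2, 1, 2], [0, 2, 0, 2, 2, 1, 2, 0, 2, 1, 2, 1, 1, 2], [2, 1, 2, 1, 0, 1, 2, 2, 0, 2, 1, 0, 0, 0], [0, 2, 0, 1, 0, 0, 0, 2, 2, 0, 0, 0, 1, 0], [0, 2, 0, 0, 0, 0, 0, 1, 2, 0, 0, 0, 2, 1], [2, 1, 0, 1, 0, 0, 1, 2, 0, 2, 2, 1, 2, 1], [1, 1, 2, 1, 0, 2, 1, 0, 1, 2, 0, 2, 1, 2], [2, 1, 0, 0, 1, 2, 2, 1, 2, 1, 2, 2, 2, 1], [0, 1, 0, 2, 0, 0, 0, 1, 2, 0, 0, 0, 0, 2], [0, 2, 1, 2, 0, 0, 0, 2, 1, 0, 0, 0,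 2, 2]]
  | ⟨27, _⟩ => [[1, 1, 2, 1, 0, 1, 1, 2, 2, 2, 1, 2, 1, 2], [0, 1, 0, 1, 0, 0, 0, 1, 2, 0, 0, 0, 1, 2], [0, 0, 1, 2, 0, 0, 0, 2, 0, 0, 0, 0, 1, 1], [0, 2, 1, 0, 0, 0, 0, 1, 2, 0, 0, 0, 2, 0], [0, 0, 2, 2, 1, 2, 2, 1, 1, 0, 1, 1, 2, 2], [2, 2, 1, 1, 1, 0, 1, 2, 1, 2, 2, 0, 1, 1], [1, 0, 2, 2, 2, 2, 1, 0, 0, 1, 1, 1, 0, 1], [0, 1, 2, 2, 0, 0, 0, 1, 1, 0, 0, 0, 1, 1], [0, 2, 0, 1, 0, 0, 0, 1, 2, 0, 0, 0, 0, 1], [2, 1, 0, 0, 0, 1, 1, 0, 1, 2, 0, 1, 1, 1], [2, 0, 1, 1, 2, 2, 2, 1, 1, 0, 1, 0, 0, 1], [2, 1, 1, 1, 1, 0, 1, 1, 2, 1, 0, 1, 0, 2], [0, 2, 2, 2, 0, 0, 0, 2, 0, 0, 0, 0, 1, 0], [0, 2, 1, 0, 0, 0, 0, 1, 1, 0, 0, 0, 0,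 1]]
  | ⟨28, _⟩ => [[1, 1, 0, 0, 1, 2, 2, 1, 0, 1, 2, 0, 2, 0], [0, 1, 1, 2, 0, 0, 0, 2, 1, 0, 0, 0, 2, 0], [0, 2, 2, 1, 0, 0, 0, 2, 0, 0, 0, 0, 1, 2], [0, 2, 2, 2, 0, 0, 0, 1, 1, 0, 0, 0, 2, 0], [2, 1, 0, 1, 2, 1, 2, 1, 2, 0, 1, 2, 2, 1], [2, 2, 2, 0, 2, 2, 1, 0, 2, 1, 2, 0, 0, 0], [0, 0, 2, 1, 2, 2, 0, 2, 2, 2, 1, 2, 1, 2], [0, 0, 2, 2, 0, 0, 0, 0, 2, 0, 0, 0, 1, 2], [0, 2, 1, 0, 0, 0, 0, 1, 0, 0, 0, 0, 1, 2], [2, 0, 1, 2, 1, 0, 1, 0, 0, 0, 1, 2, 2, 1], [0, 2, 2, 2, 2, 0, 0, 2, 1, 2, 1, 0, 0, 0], [0, 2, 0, 1, 1, 2, 1, 0, 2, 1, 2, 1, 2, 1], [0, 0, 2, 0, 0, 0, 0, 0, 2, 0, 0, 0, 1, 0], [0, 0, 1, 2, 0, 0, 0, 1, 1, 0, 0, 0, 2, 1]]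
  | ⟨29, _⟩ => [[0, 1, 1, 0, 2, 0, 0, 0, 0, 0, 2, 2, 1, 2], [0, 0, 2, 0, 0, 0, 0, 0, 0, 0, 0, 0, 2, 2], [0, 1, 1, 0, 0, 0, 0, 0, 0, 0, 0, 0, 1, 2], [0, 0, 0, 1, 0, 0, 0, 0, 1, 0, 0, 0, 0, 2], [1, 0, 0, 0, 1, 0, 0, 0, 0, 0, 1, 2, 0, 2], [0, 1, 1, 0, 0, 1, 0, 0, 0, 1, 0, 2, 2, 2], [0, 0, 0, 1, 0, 0, 1, 0, 1, 0, 2, 0, 0, 1], [0, 0, 0, 0, 0, 0, 0, 1, 0, 0, 0, 0, 2, 0], [0, 0, 0, 1, 0, 0, 0, 0, 2, 0, 0, 0, 0, 2], [0, 2, 2, 0, 0, 1, 0, 0, 0, 2, 0, 2, 2, 1], [1, 0, 0, 1, 1, 0, 2, 0, 1, 0, 0, 2, 0, 1], [1, 2, 2, 0, 2, 2, 0, 0, 0, 2, 2, 2, 1, 0], [0, 1, 1, 0, 0, 0, 0, 2, 0, 0, 0, 0, 0, 2], [0, 1, 2, 2, 0, 0, 0, 0, 2, 0, 0, 0, 2, 2]]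
  | ⟨30, _⟩ => [[2, 1, 2, 2, 0, 2, 1, 2, 1, 1, 1, 2, 2, 1], [0, 2, 0, 2, 0, 0, 0, 1, 1, 0, 0, 0, 1, 2], [0, 2, 1, 0, 0, 0, 0, 1, 1, 0, 0, 0, 0, 1], [0, 0, 2, 1, 0, 0, 0, 2, 1, 0, 0, 0, 2, 1], [2, 0, 1, 2, 1, 0, 1, 1, 1, 1, 0, 1, 2, 1], [0, 1, 1, 2, 2, 1, 2, 1, 0, 1, 2, 1, 1, 0], [1, 2, 0, 0, 0, 2, 1, 0, 1, 1, 2, 0, 2, 1], [0, 1, 0, 2, 0, 0, 0, 1, 1, 0, 0, 0, 2, 0], [0, 1, 2, 1, 0, 0, 0, 1, 2, 0, 0, 0, 0, 0], [1, 2, 2, 1, 2, 1, 1, 0, 1, 2, 0, 0, 2, 0], [2, 2, 1, 2, 1, 0, 1, 2, 0, 2, 1, 0, 2, 1], [1, 2, 2, 1, 1, 1, 2, 1, 2, 1, 1, 2, 0, 0], [0, 2, 1, 0, 0, 0, 0, 1, 2, 0, 0, 0, 1, 0], [0, 1, 1, 1, 0, 0, 0, 2, 1, 0, 0, 0, 1, 2]]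
  | ⟨31, _⟩ => [[2, 2, 1, 0, 2, 0, 0, 0, 0, 0, 1, 0, 2, 1], [0, 2, 2, 0, 0, 0, 0, 0, 0, 0, 0, 0, 1, 0], [0, 1, 2, 0, 0, 0, 0, 0, 0, 0, 0, 0, 1, 1], [0, 0, 0, 1, 0, 0, 0, 0, 2, 0, 0, 0, 0, 1], [1, 0, 0, 0, 2, 0, 0, 0, 0, 0, 1, 1, 0, 1], [0, 2, 1, 0, 0, 1, 0, 0, 0, 2, 0, 1, 0, 2], [0, 0, 0, 2, 0, 0, 2, 0, 1, 0, 2, 0, 0, 0], [0, 0, 0, 0, 0, 0, 0, 2, 0, 0, 0, 0, 2, 0], [0, 0, 0, 2, 0, 0, 0, 0, 0, 0, 0, 0, 0, 2], [0, 2, 1, 0, 0, 2, 0, 0, 0, 0, 0, 2, 0, 2], [2, 0, 0, 1, 1, 0, 2, 0, 2, 0, 2, 2, 0, 2], [0, 2, 1, 0, 1, 1, 0, 0, 0, 2, 2, 1, 0, 2], [0, 2, 1, 0, 0, 0, 0, 2, 0, 0, 0, 0, 2, 2], [0, 0, 1, 1, 0, 0, 0, 0, 2, 0, 0, 0, 2, 1]]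
  | ⟨32, _⟩ => [[0, 0, 0, 1, 0, 1, 0, 0, 1, 1, 1, 2, 2, 1], [0, 0, 0, 1, 0, 0, 0, 0, 1, 0, 0, 0, 1, 2], [0, 2, 2, 0, 0, 0, 0, 2, 2, 0, 0, 0, 0, 2], [0, 2, 0, 1, 0, 0, 0, 0, 1, 0, 0, 0, 2, 1], [2, 1, 1, 0, 2, 0, 2, 1, 2, 2, 0, 2, 1, 2], [2, 1, 0, 0, 0, 1, 0, 0, 0, 1, 2, 1, 1, 0], [2, 2, 2, 0, 2, 0, 1, 2, 2, 2, 1, 0, 1, 2], [0, 2, 2, 0, 0, 0, 0, 1, 2, 0, 0, 0, 1, 0], [0, 2, 2, 0, 0, 0, 0, 2, 1, 0, 0, 0, 0, 0], [2, 1, 1, 0, 2, 0, 2, 2, 2, 1, 0, 0, 1, 0], [2, 1, 0, 0, 0, 2, 0, 0, 0, 2, 1, 0, 2, 1], [1, 1, 1, 0, 1, 0, 2, 2, 1, 2, 2, 1, 0, 0], [0, 2, 0, 2, 0, 0, 0, 0, 2, 0, 0, 0, 1, 0], [0, 1, 1, 0, 0, 0, 0, 2, 2, 0, 0, 0, 2, 1]]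
  | ⟨33, _⟩ => [[1, 1, 1, 0, 1, 2, 0, 1, 2, 2, 2, 2, 2, 2], [0, 1, 1, 2, 0, 0, 0, 0, 2, 0, 0, 0, 2, 2], [0, 2, 1, 0, 0, 0, 0, 1, 1, 0, 0, 0, 0, 1], [0, 1, 1, 1, 0, 0, 0, 1, 0, 0, 0, 0, 2, 0], [2, 1, 1, 1, 1, 0, 1, 1, 2, 1, 0, 1, 0, 2], [1, 1, 1, 2, 1, 1, 1, 1, 1, 0, 2, 0, 0, 1], [2, 0, 2, 2, 0, 1, 1, 2, 1, 2, 0, 1, 2, 1], [0, 2, 0, 1, 0, 0, 0, 1, 2, 0, 0, 0, 0, 1], [0, 0, 1, 1, 0, 0, 0, 0, 1, 0, 0, 0, 2, 1], [0, 1, 2, 0, 1, 1, 0, 0, 0, 1, 2, 1, 0, 1], [1, 2, 2, 2, 1, 1, 2, 1, 1, 2, 1, 0, 2, 1], [1, 2, 0, 2, 1, 2, 1, 2, 1, 0, 2, 1, 1, 2], [0, 1, 1, 1, 0, 0, 0, 2, 2, 0, 0, 0, 1, 0], [0, 1, 1, 2, 0, 0, 0, 1, 0, 0, 0, 0, 2, 1]]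
  | ⟨34, _⟩ => [[2, 2, 2, 2, 1, 1, 1, 0, 2, 1, 0, 2, 0, 2], [0, 2, 1, 1, 0, 0, 0, 1, 1, 0, 0, 0, 0, 2], [0, 1, 1, 0, 0, 0, 0, 0, 0, 0, 0, 0, 1, 2], [0, 2, 2, 1, 0, 0, 0, 0, 1, 0, 0, 0, 2, 0], [1, 2, 2, 2, 1, 0, 0, 0, 2, 0, 1, 2, 2, 1], [2, 1, 1, 2, 2, 1, 0, 0, 2, 1, 2, 0, 2, 1], [2, 0, 0, 1, 2, 2, 1, 0, 1, 2, 1, 2, 2, 2], [0, 2, 2, 2, 0, 0, 0, 1, 2, 0, 0, 0, 1, 2], [0, 2, 1, 1, 0, 0, 0, 2, 2, 0, 0, 0, 2, 2], [2, 1, 0, 1, 1, 1, 2, 2, 1, 2, 2, 2, 1, 2], [1, 1, 1, 0, 2, 0, 2, 2, 2, 1, 1, 0, 1, 1], [0, 0, 1, 1, 2, 1, 1, 2, 2, 0, 2, 2, 1, 1], [0, 1, 2, 0, 0, 0, 0, 2, 1, 0, 0, 0, 1, 0], [0, 0, 2, 1, 0, 0, 0, 1, 0, 0, 0, 0, 2, 2]]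
  | ⟨35, _⟩ => [[2, 1, 2, 2, 1, 1, 2, 2, 1, 2, 2, 0, 2, 1], [0, 2, 1, 1, 0, 0, 0, 2, 2, 0, 0, 0, 2, 0], [0, 1, 1, 1, 0, 0, 0, 2, 1, 0, 0, 0, 1, 2], [0, 2, 0, 1, 0, 0, 0, 1, 2, 0, 0, 0, 0, 2], [1, 2, 0, 0, 1, 1, 2, 1, 2, 1, 1, 2, 1, 1], [2, 2, 2, 2, 0, 1, 1, 0, 1, 2, 0, 2, 2, 2], [1, 2, 0, 2, 0, 0, 1, 2, 0, 2, 1, 1, 1, 1], [0, 1, 0, 0, 0, 0, 0, 1, 2, 0, 0, 0, 1, 1], [0, 1, 0, 2, 0, 0, 0, 2, 2, 0, 0, 0, 2, 0], [1, 2, 2, 2, 0, 2, 2, 2, 0, 2, 2, 0, 0, 0], [0, 1, 0, 1, 2, 2, 2, 0, 2, 1, 1, 1, 2, 2], [2, 0, 2, 2, 2, 0, 2, 2, 2, 2, 0, 2, 2, 2], [0, 0, 2, 2, 0, 0, 0, 2, 1, 0, 0, 0, 1, 1], [0, 2, 2, 0, 0, 0, 0, 2, 2, 0, 0, 0, 0, 2]]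
  | ⟨36, _⟩ => [[0, 1, 1, 0, 0, 0, 1, 0, 2, 1, 2, 2, 0, 0], [0, 0, 0, 0, 0, 0, 0, 1, 1, 0, 0, 0, 2, 2], [0, 1, 2, 1, 0, 0, 0, 2, 1, 0, 0, 0, 1, 1], [0, 1, 2, 2, 0, 0, 0, 1, 0, 0, 0, 0, 0, 1], [1, 1, 0, 1, 2, 1, 2, 1, 0, 1, 1, 1, 2, 0], [1, 0, 0, 2, 2, 2, 1, 1, 1, 0, 0, 1, 2, 1], [2, 1, 0, 2, 2, 2, 0, 1, 0, 1, 0, 1, 1, 1], [0, 2, 2, 2, 0, 0, 0, 0, 1, 0, 0, 0, 0, 1], [0, 2, 2, 1, 0, 0, 0, 0, 0, 0, 0, 0, 1, 2], [2, 2, 0, 1, 2, 1, 0, 1, 2, 0, 1, 2, 2, 2], [0, 0, 0, 1, 2, 1, 1, 1, 0, 2, 2, 1, 0, 1], [0, 2, 0, 2, 2, 2, 2, 1, 1, 2, 2, 2, 2, 0], [0, 0, 2, 1, 0, 0, 0, 1, 2, 0, 0, 0, 2, 1], [0, 0, 2, 2, 0, 0, 0, 2, 2, 0, 0, 0, 2, 2]]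
  | ⟨37, _⟩ => [[1, 0, 1, 2, 2, 1, 1, 1, 0, 2, 2, 1, 2, 0], [0, 1, 2, 1, 0, 0, 0, 1, 2, 0, 0, 0, 2, 1], [0, 1, 1, 1, 0, 0, 0, 0, 0, 0, 0, 0, 0, 2], [0, 2, 1, 2, 0, 0, 0, 1, 0, 0, 0, 0, 2, 1], [1, 2, 1, 2, 1, 1, 0, 2, 0, 0, 0, 2, 1, 1], [2, 0, 0, 2, 1, 2, 1, 2, 0, 0, 2, 1, 1, 0], [2, 1, 1, 2, 0, 1, 2, 0, 0, 2, 1, 1, 0, 2], [0, 2, 0, 1, 0, 0, 0, 2, 2, 0, 0, 0, 1, 1], [0, 1, 0, 0, 0, 0, 0, 2, 1, 0, 0, 0, 0, 1], [1, 0, 0, 1, 0, 0, 2, 2, 1, 1, 0, 1, 1, 2], [1, 1, 1, 2, 0, 2, 1, 1, 1, 0, 1, 0, 0, 2], [2, 2, 0, 0, 2, 1, 1, 2, 1, 1, 0, 2, 0, 2], [0, 1, 0, 2, 0, 0, 0, 1, 0, 0, 0, 0, 1, 0], [0, 2, 2, 1, 0, 0, 0, 1, 1, 0, 0, 0, 0, 2]]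
  | ⟨38, _⟩ => [[1, 1, 2, 0, 2, 2, 0, 2, 1, 1, 2, 1, 2, 1], [0, 1, 2, 2, 0, 0, 0, 0, 1, 0, 0, 0, 2, 1], [0, 2, 2, 0, 0, 0, 0, 2, 2, 0, 0, 0, 0, 2], [0, 1, 2, 1, 0, 0, 0, 2, 0, 0, 0, 0, 2, 0], [2, 1, 2, 1, 2, 0, 2, 2, 1, 2, 0, 2, 0, 1], [1, 1, 2, 2, 2, 1, 2, 2, 2, 0, 2, 0, 0, 2], [2, 0, 1, 2, 0, 1, 2, 1, 2, 1, 0, 2, 2, 2], [0, 2, 0, 1, 0, 0, 0, 2, 1, 0, 0, 0, 0, 2], [0, 0, 2, 1, 0, 0, 0, 0, 2, 0, 0, 0, 2, 2], [0, 1, 1, 0, 2, 1, 0, 0, 0, 2, 2, 2, 0, 2], [1, 2, 1, 2, 2, 1, 1, 2, 2, 1, 1, 0, 2, 2], [1, 2, 0, 2, 2, 2, 2, 1, 2, 0, 2, 2, 1, 1], [0, 1, 2, 1, 0, 0, 0, 1, 1, 0, 0, 0, 1, 0], [0, 1, 2, 2, 0, 0, 0, 2, 0, 0, 0, 0, 2, 2]]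
  | ⟨39, _⟩ => [[2, 1, 2, 1, 2, 0, 2, 1, 1, 1, 2, 2, 1, 1], [0, 2, 2, 0, 0, 0, 0, 2, 1, 0, 0, 0, 2, 2], [0, 0, 1, 2, 0, 0, 0, 0, 2, 0, 0, 0, 1, 1], [0, 1, 2, 2, 0, 0, 0, 2, 2, 0, 0, 0, 2, 0], [0, 2, 1, 1, 1, 2, 0, 2, 1, 2, 1, 1, 0, 0], [1, 0, 2, 0, 2, 2, 2, 1, 0, 2, 2, 0, 1, 1], [1, 2, 2, 2, 0, 2, 2, 1, 2, 1, 0, 0, 2, 0], [0, 1, 0, 2, 0, 0, 0, 2, 1, 0, 0, 0, 0, 0], [0, 1, 1, 1, 0, 0, 0, 0, 2, 0, 0, 0, 2, 0], [1, 0, 2, 1, 1, 1, 0, 1, 2, 2, 2, 0, 2, 2], [2, 2, 1, 1, 2, 2, 1, 2, 0, 1, 1, 1, 2, 0], [0, 1, 0, 1, 1, 0, 2, 0, 2, 2, 0, 2, 2, 2], [0, 2, 2, 2, 0, 0, 0, 1, 1, 0, 0, 0, 1, 1], [0, 0, 1, 0, 0, 0, 0, 2, 2, 0, 0, 0, 0, 2]]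
  | ⟨40, _⟩ => [[2, 2, 0, 1, 0, 1, 2, 0, 0, 2, 2, 0, 0, 2], [0, 2, 0, 1, 0, 0, 0, 2, 2, 0, 0, 0, 2, 0], [0, 1, 2, 1, 0, 0, 0, 0, 0, 0, 0, 0, 0, 1], [0, 1, 0, 1, 0, 0, 0, 2, 0, 0, 0, 0, 2, 1], [1, 2, 1, 2, 2, 1, 0, 2, 0, 0, 0, 1, 2, 2], [1, 1, 0, 0, 0, 1, 2, 1, 0, 0, 2, 1, 1, 1], [2, 2, 2, 1, 2, 1, 2, 2, 0, 1, 2, 2, 2, 2], [0, 2, 2, 1, 0, 0, 0, 2, 1, 0, 0, 0, 2, 2], [0, 1, 2, 1, 0, 0, 0, 0, 2, 0, 0, 0, 2, 0], [1, 1, 1, 2, 2, 1, 0, 0, 2, 2, 2, 0, 0, 0], [0, 1, 0, 0, 0, 2, 1, 2, 1, 2, 2, 2, 1, 1], [1, 0, 1, 2, 1, 2, 1, 2, 2, 0, 2, 1, 1, 1], [0, 0, 0, 2, 0, 0, 0, 1, 2, 0, 0, 0, 2, 2], [0, 1, 1, 2, 0, 0, 0, 1, 0, 0, 0, 0, 2, 1]]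
  | ⟨41, _⟩ => [[2, 0, 0, 1, 2, 1, 1, 0, 2, 2, 2, 1, 1, 2], [0, 2, 2, 1, 0, 0, 0, 1, 2, 0, 0, 0, 2, 1], [0, 2, 1, 0, 0, 0, 0, 0, 0, 0, 0, 0, 2, 2], [0, 1, 2, 1, 0, 0, 0, 0, 2, 0, 0, 0, 1, 2], [2, 1, 2, 2, 1, 0, 0, 0, 1, 0, 2, 2, 1, 2], [1, 0, 0, 2, 2, 1, 0, 0, 1, 2, 1, 2, 1, 0], [1, 2, 1, 0, 2, 2, 1, 0, 0, 1, 2, 0, 1, 2], [0, 1, 2, 2, 0, 0, 0, 1, 1, 0, 0, 0, 2, 0], [0, 2, 2, 0, 0, 0, 0, 2, 1, 0, 0, 0, 0, 0], [2, 0, 1, 2, 2, 0, 2, 2, 1, 1, 0, 0, 2, 0], [2, 2, 1, 0, 0, 2, 0, 2, 2, 2, 1, 0, 1, 2], [1, 1, 1, 0, 1, 0, 2, 2, 1, 2, 2, 1, 0, 0], [0, 2, 0, 2, 0, 0, 0, 0, 2, 0, 0, 0, 1, 0], [0, 1, 1, 0, 0, 0, 0, 2, 2, 0, 0, 0, 2, 1]]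
  | ⟨42, _⟩ => [[0, 0, 2, 0, 0, 0, 2, 0, 1, 2, 0, 1, 0, 1], [0, 0, 0, 0, 0, 0, 0, 2, 2, 0, 0, 0, 0, 1], [0, 2, 1, 1, 0, 0, 0, 1, 0, 0, 0, 0, 1, 1], [0, 2, 1, 2, 0, 0, 0, 2, 2, 0, 0, 0, 2, 0], [2, 1, 0, 1, 1, 1, 1, 2, 1, 0, 1, 1, 2, 2], [2, 0, 0, 2, 1, 2, 2, 2, 1, 2, 2, 0, 2, 2], [0, 1, 0, 2, 1, 2, 0, 2, 2, 1, 1, 1, 2, 1], [0, 0, 1, 2, 0, 0, 0, 0, 1, 0, 0, 0, 1, 1], [0, 0, 1, 1, 0, 0, 0, 0, 1, 0, 0, 0, 2, 1], [0, 2, 0, 1, 1, 1, 0, 2, 2, 1, 2, 1, 1, 1], [1, 0, 0, 1, 1, 1, 2, 2, 1, 2, 1, 0, 1, 2], [1, 2, 0, 2, 1, 2, 1, 2, 1, 0, 2, 1, 1, 2], [0, 1, 1, 1, 0, 0, 0, 2, 2, 0, 0, 0, 1, 0], [0, 1, 1, 2, 0, 0, 0, 1, 0, 0, 0, 0, 2, 1]]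
  | ⟨43, _⟩ => [[2, 0, 1, 1, 2, 2, 1, 1, 0, 2, 1, 1, 1, 0], [0, 2, 2, 2, 0, 0, 0, 1, 2, 0, 0, 0, 1, 1], [0, 2, 1, 1, 0, 0, 0, 2, 2, 0, 0, 0, 0, 1], [0, 2, 0, 1, 0, 0, 0, 1, 0, 0, 0, 0, 2, 0], [2, 2, 0, 0, 1, 1, 2, 1, 2, 2, 0, 1, 0, 1], [2, 2, 1, 1, 0, 1, 1, 1, 1, 0, 2, 0, 0, 2], [1, 0, 0, 1, 0, 0, 1, 1, 2, 2, 0, 2, 1, 1], [0, 1, 0, 0, 0, 0, 0, 1, 2, 0, 0, 0, 0, 2], [0, 2, 0, 1, 0, 0, 0, 1, 1, 0, 0, 0, 1, 2], [2, 1, 2, 2, 0, 1, 1, 0, 0, 1, 1, 2, 0, 1], [1, 0, 0, 1, 1, 1, 1, 2, 0, 0, 1, 1, 2, 0], [1, 2, 2, 2, 2, 1, 0, 1, 0, 0, 0, 1, 1, 2], [0, 1, 1, 1, 0, 0, 0, 1, 0, 0, 0, 0, 1, 1], [0, 1, 2, 1, 0, 0, 0, 0, 0, 0, 0, 0, 0, 1]]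
  | ⟨44, _⟩ => [[1, 1, 1, 1, 0, 1, 2, 1, 1, 1, 1, 1, 1, 1], [0, 1, 0, 1, 0, 0, 0, 2, 1, 0, 0, 0, 1, 1], [0, 0, 2, 2, 0, 0, 0, 1, 0, 0, 0, 0, 1, 2], [0, 2, 2, 0, 0, 0, 0, 2, 1, 0, 0, 0, 2, 0], [0, 0, 1, 2, 2, 2, 1, 2, 2, 0, 1, 2, 2, 1], [2, 2, 2, 1, 2, 0, 2, 1, 2, 1, 2, 0, 1, 2], [1, 0, 1, 2, 1, 2, 2, 0, 0, 2, 1, 2, 0, 2], [0, 1, 1, 2, 0, 0, 0, 2, 2, 0, 0, 0, 1, 2], [0, 2, 0, 1, 0, 0, 0, 2, 1, 0, 0, 0, 0, 2], [2, 1, 0, 0, 0, 1, 2, 0, 2, 1, 0, 2, 1, 2], [2, 0, 2, 1, 1, 2, 1, 2, 2, 0, 1, 0, 0, 2], [2, 1, 2, 1, 2, 0, 2, 2, 1, 2, 0, 2, 0, 1], [0, 2, 1, 2, 0, 0, 0, 1, 0, 0, 0, 0, 1, 0], [0, 2, 2, 0, 0, 0, 0, 2, 2, 0, 0, 0, 0, 2]]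
  | ⟨45, _⟩ => [[1, 2, 1, 1, 0, 0, 1, 2, 2, 0, 0, 2, 2, 0], [0, 1, 0, 0, 0, 0, 0, 1, 0, 0, 0, 0, 0, 2], [0, 2, 2, 0, 0, 0, 0, 1, 1, 0, 0, 0, 1, 2], [0, 0, 2, 1, 0, 0, 0, 1, 2, 0, 0, 0, 0, 2], [2, 1, 0, 1, 2, 0, 1, 0, 2, 1, 1, 2, 1, 1], [0, 1, 0, 2, 2, 1, 1, 0, 0, 2, 0, 2, 1, 0], [0, 1, 0, 2, 2, 1, 0, 0, 1, 2, 1, 1, 1, 2], [0, 0, 2, 1, 0, 0, 0, 0, 2, 0, 0, 0, 1, 1], [0, 1, 2, 0, 0, 0, 0, 2, 0, 0, 0, 0, 2, 1], [1, 0, 0, 1, 2, 0, 2, 0, 1, 0, 2, 1, 0, 2], [0, 2, 0, 1, 2, 0, 0, 0, 2, 2, 1, 0, 2, 1], [0, 1, 0, 2, 2, 1, 2, 0, 1, 2, 1, 2, 1, 2], [0, 0, 2, 0, 0, 0, 0, 0, 2, 0, 0, 0, 1, 0], [0, 0, 2, 1, 0, 0, 0, 2, 2, 0, 0, 0, 1, 2]]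
  | ⟨46, _⟩ => [[2, 0, 2, 2, 0, 0, 2, 1, 0, 0, 1, 0, 2, 2], [0, 2, 0, 0, 0, 0, 0, 2, 0, 0, 0, 0, 1, 0], [0, 2, 2, 1, 0, 0, 0, 2, 0, 0, 0, 0, 1, 2], [0, 1, 1, 0, 0, 0, 0, 0, 1, 0, 0, 0, 0, 2], [2, 1, 0, 2, 2, 1, 2, 0, 0, 0, 1, 2, 0, 2], [1, 1, 0, 2, 1, 0, 0, 0, 0, 1, 0, 2, 0, 1], [0, 0, 0, 1, 2, 0, 2, 0, 2, 0, 2, 0, 0, 0], [0, 0, 2, 0, 0, 0, 0, 2, 0, 0, 0, 0, 2, 0], [0, 2, 2, 1, 0, 0, 0, 0, 0, 0, 0, 0, 0, 1], [2, 1, 0, 2, 2, 1, 0, 0, 0, 0, 0, 1, 0, 1], [1, 2, 0, 1, 1, 2, 2, 0, 1, 0, 2, 1, 0, 1], [1, 1, 0, 1, 2, 0, 1, 0, 0, 1, 2, 2, 0, 1], [0, 1, 1, 2, 0, 0, 0, 2, 0, 0, 0, 0, 2, 1], [0, 1, 2, 0, 0, 0, 0, 1, 1, 0, 0, 0, 2, 2]]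
  | ⟨47, _⟩ => [[2, 2, 0, 1, 0, 1, 2, 0, 0, 2, 2, 0, 0, 2], [0, 2, 0, 1, 0, 0, 0, 2, 2, 0, 0, 0, 2, 0], [0, 2, 1, 2, 0, 0, 0, 0, 0, 0, 0, 0, 0, 2], [0, 1, 0, 1, 0, 0, 0, 2, 0, 0, 0, 0, 2, 1], [2, 1, 2, 1, 1, 2, 0, 1, 0, 0, 0, 2, 1, 1], [1, 1, 0, 0, 0, 1, 2, 1, 0, 0, 2, 1, 1, 1], [1, 1, 1, 2, 1, 2, 1, 1, 0, 2, 1, 1, 1, 1], [0, 1, 1, 2, 0, 0, 0, 1, 2, 0, 0, 0, 1, 1], [0, 2, 1, 2, 0, 0, 0, 0, 1, 0, 0, 0, 1, 0], [2, 2, 2, 1, 1, 2, 0, 0, 1, 1, 1, 0, 0, 0], [0, 1, 0, 0, 0, 2, 1, 2, 1, 2, 2, 2, 1, 1], [2, 0, 2, 1, 2, 1, 2, 1, 1, 0, 1, 2, 2, 2], [0, 0, 0, 2, 0, 0, 0, 1, 2, 0, 0, 0, 2, 2], [0, 2, 2, 1, 0, 0, 0, 2, 0, 0, 0, 0, 1, 2]]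
  | ⟨48, _⟩ => [[2, 2, 2, 1, 2, 1, 2, 2, 1, 0, 1, 1, 0, 1], [0, 2, 2, 1, 0, 0, 0, 2, 0, 0, 0, 0, 1, 1], [0, 1, 1, 0, 0, 0, 0, 1, 1, 0, 0, 0, 0, 1], [0, 2, 0, 1, 0, 0, 0, 0, 1, 0, 0, 0, 2, 1], [1, 2, 2, 0, 1, 0, 1, 2, 1, 1, 0, 1, 2, 1], [2, 2, 1, 0, 0, 1, 0, 1, 1, 1, 2, 1, 1, 1], [1, 0, 1, 1, 1, 0, 2, 1, 2, 1, 2, 0, 1, 2], [0, 1, 1, 0, 0, 0, 0, 2, 1, 0, 0, 0, 2, 0], [0, 0, 1, 1, 0, 0, 0, 1, 0, 0, 0, 0, 2, 1], [0, 2, 1, 0, 1, 1, 1, 0, 0, 0, 2, 1, 0, 2], [2, 1, 1, 1, 0, 2, 2, 1, 1, 2, 2, 1, 1, 2], [2, 1, 2, 2, 1, 1, 0, 1, 2, 1, 1, 1, 1, 0], [0, 2, 0, 2, 0, 0, 0, 2, 2, 0, 0, 0, 2, 1], [0, 2, 1, 1, 0, 0, 0, 0, 1, 0, 0, 0, 1, 1]]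
  | ⟨49, _⟩ => [[1, 2, 0, 0, 1, 1, 2, 1, 0, 0, 2, 1, 1, 1], [0, 1, 1, 1, 0, 0, 0, 2, 0, 0, 0, 0, 2, 1], [0, 1, 2, 2, 0, 0, 0, 2, 0, 0, 0, 0, 2, 2], [0, 1, 2, 0, 0, 0, 0, 0, 2, 0, 0, 0, 0, 1], [1, 2, 0, 1, 2, 2, 2, 0, 0, 0, 2, 2, 0, 2], [1, 2, 2, 1, 2, 0, 0, 2, 0, 2, 0, 1, 2, 1], [0, 1, 2, 2, 2, 0, 2, 0, 1, 0, 1, 0, 0, 1], [0, 0, 2, 0, 0, 0, 0, 2, 0, 0, 0, 0, 1, 0], [0, 2, 1, 2, 0, 0, 0, 0, 2, 0, 0, 0, 0, 2], [2, 2, 1, 1, 1, 2, 0, 1, 0, 2, 0, 2, 1, 1], [2, 2, 2, 0, 2, 1, 1, 0, 2, 0, 0, 1, 0, 2], [1, 1, 0, 1, 1, 1, 1, 2, 0, 2, 1, 2, 2, 0], [0, 2, 2, 1, 0, 0, 0, 1, 0, 0, 0, 0, 0, 1], [0, 1, 1, 1, 0, 0, 0, 1, 2, 0, 0, 0, 1, 2]]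
  | ⟨50, _⟩ => [[2, 0, 0, 1, 2, 2, 1, 2, 0, 0, 2, 1, 1, 1], [0, 2, 2, 2, 0, 0, 0, 1, 0, 0, 0, 0, 2, 1], [0, 0, 2, 1, 0, 0, 0, 1, 0, 0, 0, 0, 2, 2], [0, 2, 2, 2, 0, 0, 0, 0, 2, 0, 0, 0, 0, 1], [0, 1, 1, 0, 2, 1, 1, 0, 0, 0, 2, 2, 0, 2], [2, 0, 0, 2, 2, 2, 0, 1, 0, 2, 0, 1, 2, 1], [0, 2, 2, 1, 1, 0, 0, 0, 1, 0, 1, 0, 0, 1], [0, 0, 1, 0, 0, 0, 0, 0, 0, 0, 0, 0, 1, 0], [0, 1, 1, 2, 0, 0, 0, 0, 2, 0, 0, 0, 0, 2], [1, 0, 2, 2, 1, 2, 0, 2, 0, 2, 0, 2, 1, 1], [0, 1, 1, 2, 0, 2, 1, 0, 2, 0, 0, 1, 0, 2], [0, 1, 2, 1, 2, 1, 2, 1, 0, 2, 1, 2, 2, 0], [0, 0, 0, 2, 0, 0, 0, 1, 0, 0, 0, 0, 0, 1], [0, 0, 2, 1, 0, 0, 0, 2, 2, 0, 0, 0, 1, 2]]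
  | ⟨51, _⟩ => [[1, 0, 0, 0, 1, 0, 0, 0, 1, 2, 1, 0, 1, 1], [0, 1, 1, 0, 0, 0, 0, 0, 2, 0, 0, 0, 1, 0], [0, 0, 1, 0, 0, 0, 0, 2, 2, 0, 0, 0, 0, 2], [0, 1, 2, 1, 0, 0, 0, 1, 1, 0, 0, 0, 2, 1], [0, 2, 0, 2, 1, 0, 2, 0, 2, 2, 0, 2, 1, 2], [1, 1, 2, 2, 2, 1, 1, 1, 2, 1, 2, 1, 1, 2], [2, 1, 1, 0, 1, 2, 0, 2, 0, 2, 1, 0, 0, 0], [0, 2, 1, 2, 0, 0, 0, 0, 2, 0, 0, 0, 1, 0], [0, 0, 2, 2, 0, 0, 0, 0, 2, 0, 0, 0, 2, 1], [0, 2, 2, 0, 2, 2, 0, 1, 0, 2, 2, 1, 2, 1], [0, 0, 2, 1, 2, 2, 1, 1, 1, 2, 0, 2, 1, 2], [1, 2, 0, 2, 2, 0, 1, 0, 2, 1, 2, 2, 2, 1], [0, 0, 2, 2, 0, 0, 0, 1, 2, 0, 0, 0, 0, 2], [0, 1, 2, 0, 0, 0, 0, 1, 1, 0, 0, 0, 2, 2]]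
  | ⟨52, _⟩ => [[0, 0, 0, 1, 1, 1, 2, 0, 2, 2, 1, 2, 1, 2], [0, 0, 1, 1, 0, 0, 0, 2, 2, 0, 0, 0, 1, 2], [0, 1, 2, 0, 0, 0, 0, 0, 0, 0, 0, 0, 1, 1], [0, 2, 1, 1, 0, 0, 0, 0, 2, 0, 0, 0, 2, 0], [1, 2, 1, 2, 2, 0, 0, 0, 1, 0, 1, 1, 2, 2], [2, 0, 0, 2, 1, 1, 0, 0, 1, 2, 2, 0, 1, 1], [2, 1, 2, 0, 1, 2, 2, 0, 0, 1, 1, 1, 0, 1], [0, 2, 1, 2, 0, 0, 0, 2, 1, 0, 0, 0, 1, 1], [0, 0, 1, 0, 0, 0, 0, 1, 2, 0, 0, 0, 0, 1], [0, 2, 2, 2, 1, 0, 1, 1, 1, 2, 0, 1, 1, 1], [2, 1, 2, 0, 0, 2, 0, 1, 1, 0, 1, 0, 0, 1], [0, 0, 2, 0, 2, 0, 1, 1, 2, 1, 0, 1, 0, 2], [0, 2, 0, 2, 0, 0, 0, 0, 0, 0, 0, 0, 1, 0], [0, 0, 2, 0, 0, 0, 0, 1, 1, 0, 0, 0, 0, 1]]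
  | ⟨53, _⟩ => [[1, 1, 1, 0, 0, 1, 1, 0, 0, 1, 2, 0, 2, 0], [0, 1, 0, 1, 0, 0, 0, 1, 1, 0, 0, 0, 2, 0], [0, 1, 1, 0, 0, 0, 0, 0, 0, 0, 0, 0, 1, 2], [0, 2, 2, 1, 0, 0, 0, 0, 1, 0, 0, 0, 2, 0], [1, 2, 2, 2, 1, 0, 0, 0, 2, 0, 1, 2, 2, 1], [2, 2, 2, 2, 2, 1, 0, 0, 2, 1, 2, 0, 0, 0], [2, 2, 2, 2, 2, 2, 1, 0, 2, 2, 1, 2, 1, 2], [0, 2, 2, 2, 0, 0, 0, 1, 2, 0, 0, 0, 1, 2], [0, 1, 0, 2, 0, 0, 0, 2, 0, 0, 0, 0, 1, 2], [1, 1, 0, 0, 0, 2, 2, 2, 0, 0, 1, 2, 2, 1], [0, 2, 2, 2, 1, 1, 1, 2, 1, 2, 1, 0, 0, 0], [1, 0, 1, 1, 1, 2, 0, 2, 2, 1, 2, 1, 2, 1], [0, 0, 1, 1, 0, 0, 0, 1, 2, 0, 0, 0, 1, 0], [0, 1, 1, 2, 0, 0, 0, 0, 1, 0, 0, 0, 2, 1]]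
  | ⟨54, _⟩ => [[2, 0, 0, 1, 1, 2, 2, 1, 0, 0, 2, 2, 1, 2], [0, 2, 1, 2, 0, 0, 0, 2, 0, 0, 0, 0, 2, 2], [0, 0, 2, 2, 0, 0, 0, 1, 0, 0, 0, 0, 1, 2], [0, 2, 1, 2, 0, 0, 0, 0, 1, 0, 0, 0, 0, 2], [0, 2, 1, 0, 2, 2, 1, 0, 0, 0, 1, 2, 0, 2], [2, 0, 0, 2, 1, 2, 0, 2, 0, 1, 0, 2, 2, 2], [0, 1, 2, 2, 1, 0, 0, 0, 1, 0, 2, 0, 0, 1], [0, 0, 1, 0, 0, 0, 0, 0, 0, 0, 0, 0, 2, 0], [0, 2, 1, 1, 0, 0, 0, 0, 2, 0, 0, 0, 0, 2], [2, 0, 2, 1, 1, 1, 0, 2, 0, 2, 0, 2, 2, 1], [0, 1, 2, 2, 0, 2, 2, 0, 1, 0, 0, 2, 0, 1], [0, 2, 2, 2, 2, 2, 2, 1, 0, 2, 2, 2, 1, 0], [0, 0, 0, 2, 0, 0, 0, 2, 0, 0, 0, 0, 0, 2], [0, 0, 2, 2, 0, 0, 0, 2, 2, 0, 0, 0, 2, 2]]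
  | ⟨55, _⟩ => [[1, 2, 2, 2, 2, 0, 2, 1, 1, 1, 1, 2, 2, 1], [0, 1, 2, 0, 0, 0, 0, 2, 1, 0, 0, 0, 1, 2], [0, 0, 2, 0, 0, 0, 0, 1, 1, 0, 0, 0, 0, 1], [0, 1, 2, 1, 0, 0, 0, 1, 1, 0, 0, 0, 2, 1], [0, 1, 0, 1, 2, 0, 1, 0, 1, 1, 0, 1, 2, 1], [1, 1, 1, 2, 2, 1, 1, 2, 0, 1, 2, 1, 1, 0], [1, 0, 1, 1, 2, 1, 0, 2, 1, 1, 2, 0, 2, 1], [0, 1, 2, 1, 0, 0, 0, 0, 1, 0, 0, 0, 2, 0], [0, 1, 0, 2, 0, 0, 0, 1, 2, 0, 0, 0, 0, 0], [1, 2, 1, 2, 0, 2, 1, 2, 1, 2, 0, 0, 2, 0], [2, 0, 2, 0, 2, 1, 2, 1, 0, 2, 1, 0, 2, 1], [0, 2, 2, 1, 2, 2, 0, 1, 2, 1, 1, 2, 0, 0], [0, 2, 2, 1, 0, 0, 0, 2, 2, 0, 0, 0, 1, 0], [0, 0, 2, 2, 0, 0, 0, 0, 1, 0, 0, 0, 1, 2]]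
  | ⟨56, _⟩ => [[2, 2, 1, 0, 2, 0, 0, 0, 0, 0, 1, 0, 2, 1], [0, 2, 2, 0, 0, 0, 0, 0, 0, 0, 0, 0, 1, 0], [0, 2, 1, 0, 0, 0, 0, 0, 0, 0, 0, 0, 2, 2], [0, 0, 0, 1, 0, 0, 0, 0, 2, 0, 0, 0, 0, 1], [2, 0, 0, 0, 1, 0, 0, 0, 0, 0, 2, 2, 0, 2], [0, 2, 1, 0, 0, 1, 0, 0, 0, 2, 0, 1, 0, 2], [0, 0, 0, 1, 0, 0, 1, 0, 2, 0, 1, 0, 0, 0], [0, 0, 0, 0, 0, 0, 0, 1, 0, 0, 0, 0, 1, 0], [0, 0, 0, 1, 0, 0, 0, 0, 0, 0, 0, 0, 0, 1], [0, 1, 2, 0, 0, 1, 0, 0, 0, 0, 0, 1, 0, 1], [2, 0, 0, 1, 1, 0, 2, 0, 2, 0, 2, 2, 0, 2], [0, 1, 2, 0, 2, 2, 0, 0, 0, 1, 1, 2, 0, 1], [0, 2, 1, 0, 0, 0, 0, 2, 0, 0, 0, 0, 2, 2], [0, 0, 2, 2, 0, 0, 0, 0, 1, 0, 0, 0, 1, 2]]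
  | ⟨57, _⟩ => [[2, 1, 2, 2, 0, 2, 1, 2, 1, 1, 1, 2, 2, 1], [0, 2, 0, 2, 0, 0, 0, 1, 1, 0, 0, 0, 1, 2], [0, 1, 2, 0, 0, 0, 0, 2, 2, 0, 0, 0, 0, 2], [0, 0, 2, 1, 0, 0, 0, 2, 1, 0, 0, 0, 2, 1], [1, 0, 2, 1, 2, 0, 2, 2, 2, 2, 0, 2, 1, 2], [0, 1, 1, 2, 2, 1, 2, 1, 0, 1, 2, 1, 1, 0], [2, 1, 0, 0, 0, 1, 2, 0, 2, 2, 1, 0, 1, 2], [0, 2, 0, 1, 0, 0, 0, 2, 2, 0, 0, 0, 1, 0], [0, 2, 1, 2, 0, 0, 0, 2, 1, 0, 0, 0, 0, 0], [2, 1, 1, 2, 1, 2, 2, 0, 2, 1, 0, 0, 1, 0], [2, 2, 1, 2, 1, 0, 1, 2, 0, 2, 1, 0, 2, 1], [2, 1, 1, 2, 2, 2, 1, 2, 1, 2, 2, 1, 0, 0], [0, 2, 1, 0, 0, 0, 0, 1, 2, 0, 0, 0, 1, 0], [0, 2, 2, 2, 0, 0, 0, 1, 2, 0, 0, 0, 2, 1]]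
  | ⟨58, _⟩ => [[1, 1, 0, 1, 1, 0, 0, 1, 0, 2, 2, 0, 2, 0], [0, 1, 1, 0, 0, 0, 0, 0, 2, 0, 0, 0, 2, 0], [0, 0, 1, 2, 0, 0, 0, 2, 0, 0, 0, 0, 1, 1], [0, 2, 1, 0, 0, 0, 0, 1, 2, 0, 0, 0, 2, 0], [0, 0, 2, 2, 1, 2, 2, 1, 1, 0, 1, 1, 2, 2], [2, 2, 0, 2, 1, 0, 1, 0, 1, 2, 2, 0, 0, 0], [1, 1, 1, 2, 2, 2, 1, 2, 1, 1, 1, 1, 1, 1], [0, 1, 2, 2, 0, 0, 0, 1, 1, 0, 0, 0, 1, 1], [0, 0, 2, 1, 0, 0, 0, 0, 0, 0, 0, 0, 1, 1], [0, 2, 1, 0, 2, 1, 0, 2, 0, 0, 1, 1, 2, 2], [0, 2, 2, 1, 0, 2, 1, 1, 2, 1, 1, 0, 0, 0], [2, 1, 1, 2, 1, 2, 1, 2, 1, 2, 2, 2, 2, 2], [0, 0, 0, 2, 0, 0, 0, 1, 1, 0, 0, 0, 1, 0], [0, 2, 1, 2, 0, 0, 0, 1, 2, 0, 0, 0, 2, 2]]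
  | ⟨59, _⟩ => [[0, 0, 2, 2, 1, 1, 2, 2, 0, 0, 1, 0, 1, 0], [0, 0, 1, 1, 0, 0, 0, 2, 0, 0, 0, 0, 1, 0], [0, 2, 1, 1, 0, 0, 0, 2, 2, 0, 0, 0, 0, 1], [0, 2, 0, 1, 0, 0, 0, 1, 0, 0, 0, 0, 2, 0], [2, 2, 0, 0, 1, 1, 2, 1, 2, 2, 0, 1, 0, 1], [2, 1, 2, 2, 0, 1, 1, 0, 0, 0, 2, 0, 0, 0], [1, 2, 0, 2, 0, 0, 1, 2, 2, 2, 0, 2, 0, 1], [0, 1, 0, 0, 0, 0, 0, 1, 2, 0, 0, 0, 0, 2], [0, 1, 0, 2, 0, 0, 0, 2, 1, 0, 0, 0, 0, 2], [1, 1, 2, 2, 0, 2, 2, 2, 2, 1, 0, 2, 0, 2], [2, 1, 0, 1, 2, 2, 2, 0, 0, 0, 1, 0, 0, 0], [1, 2, 2, 2, 2, 0, 2, 2, 1, 2, 0, 2, 0, 1], [0, 2, 2, 2, 0, 0, 0, 2, 0, 0, 0, 0, 1, 0], [0, 1, 2, 0, 0, 0, 0, 2, 2, 0, 0, 0, 0, 2]]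
  | ⟨60, _⟩ => [[1, 1, 2, 1, 1, 2, 1, 0, 2, 1, 0, 2, 0, 2], [0, 1, 1, 2, 0, 0, 0, 1, 1, 0, 0, 0, 0, 2], [0, 0, 2, 2, 0, 0, 0, 1, 0, 0, 0, 0, 1, 2], [0, 2, 2, 0, 0, 0, 0, 2, 1, 0, 0, 0, 2, 0], [0, 0, 1, 2, 2, 2, 1, 2, 2, 0, 1, 2, 2, 1], [2, 2, 1, 0, 2, 0, 2, 2, 2, 1, 2, 0, 2, 1], [1, 2, 0, 2, 1, 2, 2, 2, 1, 2, 1, 2, 2, 2], [0, 1, 1, 2, 0, 0, 0, 2, 2, 0, 0, 0, 1, 2], [0, 1, 2, 1, 0, 0, 0, 1, 2, 0, 0, 0, 2, 2], [1, 0, 0, 2, 2, 1, 1, 0, 1, 2, 2, 2, 1, 2], [1, 2, 1, 1, 2, 2, 0, 0, 2, 1, 1, 0, 1, 1], [2, 1, 2, 1, 1, 0, 0, 0, 2, 0, 2, 2, 1, 1], [0, 1, 2, 2, 0, 0, 0, 0, 1, 0, 0, 0, 1, 0], [0, 2, 1, 0, 0, 0, 0, 0, 0, 0, 0, 0, 2, 2]]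
  | ⟨61, _⟩ => [[2, 1, 2, 2, 1, 1, 2, 2, 1, 2, 2, 0, 2, 1], [0, 2, 1, 1, 0, 0, 0, 2, 2, 0, 0, 0, 2, 0], [0, 2, 2, 2, 0, 0, 0, 1, 2, 0, 0, 0, 2, 1], [0, 2, 0, 1, 0, 0, 0, 1, 2, 0, 0, 0, 0, 2], [2, 1, 0, 0, 2, 2, 1, 2, 1, 2, 2, 1, 2, 2], [2, 2, 2, 2, 0, 1, 1, 0, 1, 2, 0, 2, 2, 2], [2, 1, 0, 1, 0, 0, 2, 1, 0, 1, 2, 2, 2, 2], [0, 2, 0, 0, 0, 0, 0, 2, 1, 0, 0, 0, 2, 2], [0, 2, 0, 1, 0, 0, 0, 1, 1, 0, 0, 0, 1, 0], [2, 1, 1, 1, 0, 1, 1, 1, 0, 1, 1, 0, 0, 0], [0, 1, 0, 1, 2, 2, 2, 0, 2, 1, 1, 1, 2, 2], [1, 0, 1, 1, 1, 0, 1, 1, 1, 1, 0, 1, 1, 1], [0, 0, 2, 2, 0, 0, 0, 2, 1, 0, 0, 0, 1, 1], [0, 1, 1, 0, 0, 0, 0, 1, 1, 0, 0, 0, 0, 1]]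
  | ⟨62, _⟩ => [[2, 2, 1, 2, 1, 2, 1, 1, 1, 2, 2, 0, 2, 1], [0, 2, 1, 2, 0, 0, 0, 1, 2, 0, 0, 0, 2, 0], [0, 0, 2, 2, 0, 0, 0, 0, 1, 0, 0, 0, 1, 2], [0, 1, 0, 1, 0, 0, 0, 1, 2, 0, 0, 0, 0, 2], [0, 0, 1, 1, 2, 2, 0, 2, 2, 1, 1, 2, 1, 1], [1, 1, 2, 2, 0, 1, 1, 2, 1, 2, 0, 2, 2, 2], [2, 0, 2, 0, 2, 2, 2, 0, 0, 2, 1, 1, 1, 1], [0, 2, 2, 2, 0, 0, 0, 2, 2, 0, 0, 0, 1, 1], [0, 1, 2, 0, 0, 0, 0, 1, 2, 0, 0, 0, 2, 0], [1, 2, 2, 2, 2, 0, 1, 2, 0, 2, 2, 0, 0, 0], [1, 0, 2, 0, 0, 2, 0, 2, 2, 1, 1, 1, 2, 2], [1, 2, 1, 0, 2, 0, 2, 1, 2, 2, 0, 2, 2, 2], [0, 1, 0, 2, 0, 0, 0, 0, 1, 0, 0, 0, 1, 1], [0, 1, 2, 0, 0, 0, 0, 2, 2, 0, 0, 0, 0, 2]]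
  | ⟨n+63, h⟩ => absurd h (by omega)
def T14_c2 : Fin 63 → List (List ℕ)
  | ⟨0, _⟩ => [[2, 1, 2, 2, 2, 1, 0, 0, 2, 1, 2, 2, 0, 0], [0, 2, 2, 1, 0, 0, 0, 0, 1, 0, 0, 0, 2, 2], [0, 2, 1, 1, 0, 0, 0, 0, 1, 0, 0, 0, 1, 1], [0, 2, 2, 0, 0, 0, 0, 1, 0, 0, 0, 0, 0, 1], [2, 1, 1, 0, 1, 1, 0, 0, 0, 1, 1, 1, 2, 0], [2, 1, 2, 1, 2, 0, 1, 0, 1, 0, 0, 1, 2, 1], [0, 2, 2, 0, 0, 2, 0, 2, 0, 1, 0, 1, 1, 1], [0, 0, 0, 2, 0, 0, 0, 0, 1, 0, 0, 0, 0, 1], [0, 1, 1, 0, 0, 0, 0, 1, 0, 0, 0, 0, 1, 2], [1, 1, 2, 2, 1, 0, 1, 0, 2, 0, 1, 2, 2, 2], [1, 1, 1, 0, 2, 0, 0, 1, 0, 2, 2, 1, 0, 1], [2, 2, 0, 1, 1, 2, 1, 0, 1, 2, 2, 2, 2, 0], [0, 1, 2, 0, 0, 0,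 0, 0, 2, 0, 0, 0, 2, 1], [0, 2, 1, 2, 0, 0, 0, 1, 2, 0, 0, 0, 2, 2]]
  | ⟨1, _⟩ => [[1, 1, 0, 2, 0, 2, 2, 0, 2, 1, 2, 2, 0, 0], [0, 1, 0, 2, 0, 0, 0, 2, 1, 0, 0, 0, 2, 2], [0, 0, 1, 1, 0, 0, 0, 1, 1, 0, 0, 0, 1, 1], [0, 0, 0, 1, 0, 0, 0, 1, 0, 0, 0, 0, 0, 1], [0, 1, 1, 1, 1, 1, 1, 2, 0, 1, 1, 1, 2, 0], [0, 2, 0, 0, 0, 1, 1, 2, 1, 0, 0, 1, 2, 1], [1, 0, 1, 1, 2, 2, 0, 0, 0, 1, 0, 1, 1, 1], [0, 1, 2, 2, 0, 0, 0, 0, 1, 0, 0, 0, 0, 1], [0, 0, 2, 2, 0, 0, 0, 2, 0, 0, 0, 0, 1, 2], [0, 0, 2, 2, 2, 2, 2, 2, 2, 0, 1, 2, 2, 2], [2, 2, 0, 0, 0, 2, 2, 1, 0, 2, 2, 1, 0, 1], [1, 2, 1, 1, 2, 2, 0, 2, 1, 2, 2, 2, 2, 0], [0, 2, 0, 2, 0, 0, 0,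 2, 2, 0, 0, 0, 2, 1], [0, 1, 2, 2, 0, 0, 0, 0, 2, 0, 0, 0, 2, 2]]
  | ⟨2, _⟩ => [[2, 0, 0, 0, 0, 0, 0, 0, 0, 2, 2, 1, 2, 0], [0, 2, 0, 0, 0, 0, 0, 0, 2, 0, 0, 0, 2, 1], [0, 0, 0, 0, 0, 0, 0, 0, 0, 0, 0, 0, 0, 2], [0, 0, 0, 0, 0, 0, 0, 0, 0, 0, 0, 0, 2, 1], [0, 0, 0, 0, 0, 0, 0, 0, 0, 0, 0, 2, 1, 1], [0, 0, 0, 0, 0, 0, 0, 0, 0, 0, 2, 1, 1, 0], [0, 0, 0, 0, 0, 0, 0, 0, 0, 2, 1, 1, 0, 2], [0, 0, 0, 0, 0, 0, 0, 0, 2, 0, 0, 0, 1, 1], [0, 2, 0, 0, 0, 0, 0, 2, 1, 0, 0, 0, 0, 1], [2, 2, 0, 0, 0, 0, 2, 0, 1, 1, 0, 1, 1, 2], [1, 0, 0, 0, 0, 2, 2, 1, 1, 0, 1, 0, 0, 2], [1, 1, 0, 0, 2, 2, 1, 2, 1, 1, 0, 2, 0, 2], [0, 1, 0, 2, 0, 0, 0, 2,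 0, 0, 0, 0, 1, 0], [0, 1, 2, 2, 0, 0, 0, 1, 1, 0, 0, 0, 0, 2]]
  | ⟨3, _⟩ => [[2, 2, 1, 2, 0, 2, 2, 1, 1, 1, 2, 1, 2, 1], [0, 2, 0, 2, 0, 0, 0, 2, 1, 0, 0, 0, 2, 1], [0, 1, 2, 0, 0, 0, 0, 2, 2, 0, 0, 0, 0, 2], [0, 1, 1, 1, 0, 0, 0, 1, 0, 0, 0, 0, 2, 0], [1, 2, 2, 2, 2, 0, 2, 2, 1, 2, 0, 2, 0, 1], [1, 0, 2, 2, 1, 1, 1, 2, 2, 0, 2, 0, 0, 2], [1, 2, 0, 0, 0, 2, 2, 0, 2, 1, 0, 2, 2, 2], [0, 1, 0, 2, 0, 0, 0, 2, 1, 0, 0, 0, 0, 2], [0, 2, 1, 1, 0, 0, 0, 2, 2, 0, 0, 0, 2, 2], [2, 0, 1, 1, 1, 1, 2, 0, 0, 2, 2, 2, 0, 2], [1, 1, 2, 2, 2, 0, 2, 1, 2, 1, 1, 0, 2, 2], [0, 0, 1, 1, 2, 1, 1, 2, 2, 0, 2, 2, 1, 1], [0, 1, 2, 0, 0, 0, 0, 2, 1,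 0, 0, 0, 1, 0], [0, 0, 2, 1, 0, 0, 0, 1, 0, 0, 0, 0, 2, 2]]
  | ⟨4, _⟩ => [[1, 2, 2, 1, 0, 1, 1, 2, 1, 1, 2, 2, 1, 1], [0, 1, 0, 1, 0, 0, 0, 1, 1, 0, 0, 0, 2, 2], [0, 1, 2, 1, 0, 0, 0, 1, 2, 0, 0, 0, 1, 1], [0, 1, 1, 0, 0, 0, 0, 1, 2, 0, 0, 0, 2, 0], [1, 2, 1, 1, 2, 1, 1, 2, 1, 2, 1, 1, 0, 0], [1, 1, 1, 1, 1, 0, 1, 2, 0, 2, 2, 0, 1, 1], [1, 2, 1, 1, 1, 1, 2, 0, 2, 1, 0, 0, 2, 0], [0, 1, 1, 1, 0, 0, 0, 2, 1, 0, 0, 0, 0, 0], [0, 1, 0, 2, 0, 0, 0, 2, 2, 0, 0, 0, 2, 0], [1, 2, 0, 0, 0, 2, 2, 0, 2, 2, 2, 0, 2, 2], [0, 2, 1, 1, 2, 2, 2, 1, 0, 1, 1, 1, 2, 0], [2, 0, 2, 2, 2, 0, 2, 2, 2, 2, 0, 2, 2, 2], [0, 0, 2, 2, 0, 0, 0, 2, 1, 0,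 0, 0, 1, 1], [0, 2, 2, 0, 0, 0, 0, 2, 2, 0, 0, 0, 0, 2]]
  | ⟨5, _⟩ => [[2, 1, 1, 0, 0, 2, 1, 0, 0, 2, 2, 0, 0, 2], [0, 2, 0, 2, 0, 0, 0, 1, 2, 0, 0, 0, 2, 0], [0, 2, 2, 2, 0, 0, 0, 0, 0, 0, 0, 0, 0, 1], [0, 2, 1, 2, 0, 0, 0, 1, 0, 0, 0, 0, 2, 1], [2, 1, 2, 1, 2, 2, 0, 1, 0, 0, 0, 1, 2, 2], [2, 2, 2, 1, 1, 2, 1, 2, 0, 0, 2, 1, 1, 1], [1, 1, 0, 0, 0, 2, 1, 1, 0, 1, 2, 2, 2, 2], [0, 1, 0, 2, 0, 0, 0, 1, 1, 0, 0, 0, 2, 2], [0, 1, 1, 2, 0, 0, 0, 2, 2, 0, 0, 0, 2, 0], [1, 1, 1, 2, 1, 2, 2, 0, 2, 2, 2, 0, 0, 0], [2, 2, 2, 1, 2, 2, 0, 0, 1, 2, 2, 2, 1, 1], [2, 1, 1, 2, 2, 0, 0, 0, 2, 0, 2, 1, 1, 1], [0, 2, 2, 2, 0, 0, 0, 0, 2, 0, 0,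 0, 2, 2], [0, 2, 2, 0, 0, 0, 0, 0, 0, 0, 0, 0, 2, 1]]
  | ⟨6, _⟩ => [[0, 2, 0, 2, 1, 0, 0, 1, 2, 2, 2, 1, 1, 2], [0, 0, 1, 0, 0, 0, 0, 0, 2, 0, 0, 0, 2, 1], [0, 1, 2, 2, 0, 0, 0, 2, 0, 0, 0, 0, 2, 2], [0, 0, 0, 1, 0, 0, 0, 1, 2, 0, 0, 0, 1, 2], [1, 0, 2, 2, 2, 2, 2, 1, 1, 0, 2, 2, 1, 2], [0, 0, 2, 2, 0, 1, 1, 1, 1, 2, 1, 2, 1, 0], [1, 1, 2, 0, 1, 1, 0, 1, 0, 1, 2, 0, 1, 2], [0, 1, 1, 1, 0, 0, 0, 0, 1, 0, 0, 0, 2, 0], [0, 2, 1, 2, 0, 0, 0, 2, 1, 0, 0, 0, 0, 0], [2, 0, 2, 2, 1, 2, 2, 1, 1, 1, 0, 0, 2, 0], [2, 1, 0, 1, 1, 0, 1, 0, 2, 2, 1, 0, 1, 2], [2, 1, 1, 2, 2, 2, 1, 2, 1, 2, 2, 1, 0, 0], [0, 2, 1, 0, 0, 0, 0, 1, 2, 0, 0, 0,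 1, 0], [0, 2, 2, 2, 0, 0, 0, 1, 2, 0, 0, 0, 2, 1]]
  | ⟨7, _⟩ => [[2, 2, 0, 1, 0, 1, 2, 0, 1, 0, 0, 1, 2, 0], [0, 2, 0, 1, 0, 0, 0, 2, 0, 0, 0, 0, 0, 1], [0, 0, 2, 1, 0, 0, 0, 0, 1, 0, 0, 0, 2, 2], [0, 1, 0, 1, 0, 0, 0, 2, 1, 0, 0, 0, 0, 1], [0, 0, 1, 2, 2, 1, 0, 2, 2, 1, 2, 2, 2, 1], [1, 1, 0, 0, 0, 1, 2, 1, 0, 1, 0, 1, 1, 0], [1, 1, 2, 1, 2, 1, 2, 2, 1, 2, 2, 1, 2, 2], [0, 1, 2, 1, 0, 0, 0, 2, 2, 0, 0, 0, 2, 1], [0, 0, 2, 1, 0, 0, 0, 0, 0, 0, 0, 0, 1, 1], [0, 2, 1, 2, 2, 1, 0, 0, 1, 0, 1, 1, 0, 2], [0, 1, 0, 0, 0, 2, 1, 2, 1, 1, 1, 0, 2, 2], [2, 1, 1, 2, 1, 2, 1, 2, 1, 2, 2, 2, 2, 2], [0, 0, 0, 2, 0, 0, 0, 1, 1, 0, 0, 0, 1,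 0], [0, 2, 1, 2, 0, 0, 0, 1, 2, 0, 0, 0, 2, 2]]
  | ⟨8, _⟩ => [[0, 0, 2, 1, 2, 1, 2, 2, 0, 2, 1, 1, 1, 0], [0, 0, 2, 1, 0, 0, 0, 2, 2, 0, 0, 0, 1, 1], [0, 0, 2, 0, 0, 0, 0, 2, 2, 0, 0, 0, 0, 1], [0, 2, 0, 1, 0, 0, 0, 0, 0, 0, 0, 0, 2, 0], [0, 0, 1, 0, 2, 0, 2, 1, 2, 2, 0, 1, 0, 1], [2, 1, 1, 0, 0, 1, 0, 1, 1, 0, 2, 0, 0, 2], [0, 1, 2, 2, 2, 0, 1, 2, 2, 2, 0, 2, 1, 1], [0, 0, 2, 0, 0, 0, 0, 1, 2, 0, 0, 0, 0, 2], [0, 1, 2, 2, 0, 0, 0, 2, 1, 0, 0, 0, 1, 2], [1, 2, 2, 0, 2, 2, 2, 0, 0, 1, 1, 2, 0, 1], [2, 0, 1, 1, 0, 2, 2, 1, 0, 0, 1, 1, 2, 0], [2, 1, 1, 1, 2, 2, 0, 2, 0, 0, 0, 1, 1, 2], [0, 2, 0, 2, 0, 0, 0, 2, 0, 0, 0, 0, 1, 1],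 [0, 2, 2, 2, 0, 0, 0, 0, 0, 0, 0, 0, 0, 1]]
  | ⟨9, _⟩ => [[0, 0, 0, 2, 0, 2, 0, 0, 2, 2, 2, 1, 1, 2], [0, 0, 0, 2, 0, 0, 0, 0, 2, 0, 0, 0, 2, 1], [0, 2, 2, 0, 0, 0, 0, 1, 1, 0, 0, 0, 1, 2], [0, 1, 0, 1, 0, 0, 0, 0, 1, 0, 0, 0, 2, 0], [2, 2, 2, 0, 2, 0, 1, 1, 2, 1, 1, 2, 0, 0], [1, 2, 0, 0, 0, 1, 0, 0, 0, 1, 2, 0, 1, 2], [1, 2, 2, 0, 1, 0, 1, 1, 1, 2, 0, 0, 2, 0], [0, 1, 1, 0, 0, 0, 0, 1, 2, 0, 0, 0, 0, 0], [0, 1, 1, 0, 0, 0, 0, 2, 1, 0, 0, 0, 2, 0], [1, 1, 1, 0, 1, 0, 2, 1, 1, 1, 2, 0, 2, 1], [1, 2, 0, 0, 0, 2, 0, 0, 0, 2, 1, 2, 2, 0], [1, 2, 2, 0, 1, 0, 1, 2, 1, 1, 0, 1, 2, 1], [0, 1, 0, 2, 0, 0, 0, 0, 2, 0, 0, 0, 1, 2], [0,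 1, 1, 0, 0, 0, 0, 1, 1, 0, 0, 0, 0, 1]]
  | ⟨10, _⟩ => [[0, 2, 1, 1, 2, 2, 1, 1, 2, 0, 0, 2, 2, 0], [0, 0, 2, 2, 0, 0, 0, 1, 0, 0, 0, 0, 0, 2], [0, 1, 1, 1, 0, 0, 0, 2, 1, 0, 0, 0, 1, 2], [0, 2, 0, 1, 0, 0, 0, 1, 2, 0, 0, 0, 0, 2], [1, 2, 0, 0, 1, 1, 2, 1, 2, 1, 1, 2, 1, 1], [2, 1, 1, 1, 0, 1, 1, 1, 0, 2, 0, 2, 1, 0], [1, 0, 0, 1, 0, 0, 1, 1, 1, 2, 1, 1, 1, 2], [0, 1, 0, 0, 0, 0, 0, 1, 2, 0, 0, 0, 1, 1], [0, 2, 0, 1, 0, 0, 0, 1, 0, 0, 0, 0, 2, 1], [2, 2, 2, 2, 0, 1, 1, 0, 1, 0, 2, 1, 0, 2], [0, 0, 0, 1, 1, 1, 1, 2, 2, 2, 1, 0, 2, 1], [2, 0, 2, 2, 2, 1, 0, 1, 1, 2, 1, 2, 1, 2], [0, 0, 1, 1, 0, 0, 0, 1, 2, 0, 0, 0, 1, 0], [0, 2,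 2, 1, 0, 0, 0, 0, 2, 0, 0, 0, 1, 2]]
  | ⟨11, _⟩ => [[1, 1, 2, 0, 2, 1, 0, 2, 1, 2, 0, 0, 1, 2], [0, 1, 2, 1, 0, 0, 0, 0, 2, 0, 0, 0, 0, 0], [0, 1, 2, 1, 0, 0, 0, 2, 1, 0, 0, 0, 1, 1], [0, 1, 2, 2, 0, 0, 0, 1, 0, 0, 0, 0, 0, 1], [1, 1, 0, 1, 2, 1, 2, 1, 0, 1, 1, 1, 2, 0], [1, 2, 1, 1, 2, 2, 1, 2, 0, 0, 0, 1, 1, 0], [2, 0, 1, 0, 2, 2, 0, 0, 0, 1, 0, 1, 1, 0], [0, 2, 2, 2, 0, 0, 0, 0, 1, 0, 0, 0, 0, 1], [0, 1, 0, 2, 0, 0, 0, 2, 0, 0, 0, 0, 1, 1], [1, 1, 1, 1, 0, 2, 2, 1, 0, 0, 1, 1, 2, 0], [1, 1, 2, 1, 2, 2, 2, 2, 0, 2, 1, 1, 2, 0], [0, 1, 2, 2, 2, 0, 2, 2, 0, 2, 0, 1, 1, 0], [0, 1, 2, 2, 0, 0, 0, 2, 2, 0, 0, 0, 1, 1], [0, 0, 2,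 0, 0, 0, 0, 2, 2, 0, 0, 0, 0, 1]]
  | ⟨12, _⟩ => [[2, 1, 1, 0, 0, 2, 1, 0, 0, 2, 2, 0, 0, 2], [0, 2, 0, 2, 0, 0, 0, 1, 2, 0, 0, 0, 2, 0], [0, 1, 1, 1, 0, 0, 0, 0, 0, 0, 0, 0, 0, 2], [0, 2, 1, 2, 0, 0, 0, 1, 0, 0, 0, 0, 2, 1], [1, 2, 1, 2, 1, 1, 0, 2, 0, 0, 0, 2, 1, 1], [2, 2, 2, 1, 1, 2, 1, 2, 0, 0, 2, 1, 1, 1], [2, 2, 0, 0, 0, 1, 2, 2, 0, 2, 1, 1, 1, 1], [0, 2, 0, 1, 0, 0, 0, 2, 2, 0, 0, 0, 1, 1], [0, 2, 2, 1, 0, 0, 0, 1, 1, 0, 0, 0, 1, 0], [2, 2, 2, 1, 2, 1, 1, 0, 1, 1, 1, 0, 0, 0], [2, 2, 2, 1, 2, 2, 0, 0, 1, 2, 2, 2, 1, 1], [1, 2, 2, 1, 1, 0, 0, 0, 1, 0, 1, 2, 2, 2], [0, 2, 2, 2, 0, 0, 0, 0, 2, 0, 0, 0, 2, 2], [0, 1, 1, 0,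 0, 0, 0, 0, 0, 0, 0, 0, 1, 2]]
  | ⟨13, _⟩ => [[0, 0, 2, 1, 1, 2, 2, 2, 0, 0, 2, 0, 2, 0], [0, 0, 1, 2, 0, 0, 0, 2, 0, 0, 0, 0, 2, 0], [0, 2, 2, 0, 0, 0, 0, 2, 2, 0, 0, 0, 0, 2], [0, 1, 2, 1, 0, 0, 0, 2, 0, 0, 0, 0, 2, 0], [2, 1, 2, 1, 2, 0, 2, 2, 1, 2, 0, 2, 0, 1], [1, 2, 0, 2, 2, 1, 2, 0, 0, 0, 2, 0, 0, 0], [2, 2, 2, 1, 0, 1, 2, 2, 2, 1, 0, 2, 0, 2], [0, 2, 0, 1, 0, 0, 0, 2, 1, 0, 0, 0, 0, 2], [0, 2, 0, 0, 0, 0, 0, 1, 2, 0, 0, 0, 0, 2], [2, 1, 0, 1, 0, 0, 1, 2, 2, 2, 0, 2, 0, 1], [1, 2, 2, 1, 0, 2, 1, 0, 0, 0, 1, 0, 0, 0], [1, 1, 0, 0, 1, 2, 2, 1, 2, 2, 0, 1, 0, 1], [0, 1, 0, 2, 0, 0, 0, 1, 0, 0, 0, 0, 1, 0], [0, 1, 1, 2, 0,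 0, 0, 2, 2, 0, 0, 0, 0, 1]]
  | ⟨14, _⟩ => [[2, 0, 2, 0, 0, 2, 2, 0, 0, 0, 0, 0, 0, 0], [0, 2, 0, 2, 0, 0, 0, 2, 0, 0, 0, 0, 0, 0], [0, 0, 1, 2, 0, 0, 0, 0, 2, 0, 0, 0, 1, 1], [0, 1, 2, 2, 0, 0, 0, 2, 2, 0, 0, 0, 2, 0], [0, 2, 1, 1, 1, 2, 0, 2, 1, 2, 1, 1, 0, 0], [1, 0, 1, 1, 2, 2, 2, 1, 1, 2, 2, 0, 0, 0], [1, 1, 0, 0, 0, 2, 2, 2, 0, 1, 0, 0, 0, 0], [0, 1, 0, 2, 0, 0, 0, 2, 1, 0, 0, 0, 0, 0], [0, 0, 2, 2, 0, 0, 0, 1, 0, 0, 0, 0, 0, 0], [0, 0, 2, 2, 2, 2, 1, 0, 0, 0, 0, 0, 0, 0], [0, 0, 1, 1, 1, 2, 0, 0, 0, 0, 0, 0, 0, 0], [0, 0, 2, 2, 1, 0, 0, 0, 0, 0, 0, 0, 0, 0], [0, 0, 1, 2, 0, 0, 0, 0, 0, 0, 0, 0, 0, 0], [0, 0, 1, 0, 0, 0,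 0, 0, 0, 0, 0, 0, 0, 0]]
  | ⟨15, _⟩ => [[0, 0, 2, 2, 2, 2, 2, 2, 0, 2, 2, 1, 2, 0], [0, 0, 2, 2, 0, 0, 0, 2, 2, 0, 0, 0, 2, 1], [0, 1, 2, 1, 0, 0, 0, 0, 0, 0, 0, 0, 0, 1], [0, 1, 0, 1, 0, 0, 0, 2, 0, 0, 0, 0, 2, 1], [1, 2, 1, 2, 2, 1, 0, 2, 0, 0, 0, 1, 2, 2], [1, 0, 1, 2, 0, 1, 2, 1, 0, 0, 2, 1, 1, 0], [2, 1, 2, 0, 2, 1, 2, 0, 0, 1, 2, 2, 0, 1], [0, 2, 2, 1, 0, 0, 0, 2, 1, 0, 0, 0, 2, 2], [0, 0, 2, 0, 0, 0, 0, 1, 2, 0, 0, 0, 0, 2], [0, 2, 2, 1, 2, 0, 1, 2, 2, 2, 0, 2, 2, 1], [1, 2, 1, 0, 0, 2, 0, 1, 1, 0, 1, 0, 0, 2], [0, 0, 1, 0, 2, 0, 2, 1, 2, 2, 0, 1, 0, 1], [0, 1, 0, 2, 0, 0, 0, 0, 0, 0, 0, 0, 1, 0], [0, 0, 2, 0, 0, 0, 0,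 2, 2, 0, 0, 0, 0, 1]]
  | ⟨16, _⟩ => [[1, 2, 1, 0, 0, 1, 1, 0, 0, 2, 1, 0, 0, 2], [0, 1, 0, 1, 0, 0, 0, 1, 2, 0, 0, 0, 1, 0], [0, 2, 1, 0, 0, 0, 0, 0, 0, 0, 0, 0, 2, 2], [0, 1, 2, 1, 0, 0, 0, 0, 2, 0, 0, 0, 1, 2], [2, 1, 2, 2, 1, 0, 0, 0, 1, 0, 2, 2, 1, 2], [1, 1, 2, 2, 2, 1, 0, 0, 1, 2, 1, 2, 2, 1], [1, 1, 2, 2, 2, 2, 1, 0, 1, 1, 2, 0, 0, 0], [0, 1, 2, 2, 0, 0, 0, 1, 1, 0, 0, 0, 2, 0], [0, 1, 0, 2, 0, 0, 0, 2, 2, 0, 0, 0, 2, 1], [1, 1, 0, 0, 0, 2, 2, 2, 0, 2, 2, 1, 2, 1], [1, 1, 2, 2, 1, 1, 1, 2, 0, 0, 1, 1, 2, 1], [2, 1, 1, 1, 1, 2, 0, 2, 0, 0, 0, 2, 2, 1], [0, 1, 1, 1, 0, 0, 0, 1, 0, 0, 0, 0, 1, 1], [0, 2, 1, 2, 0, 0, 0, 0,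 0, 0, 0, 0, 0, 2]]
  | ⟨17, _⟩ => [[2, 2, 1, 0, 1, 1, 0, 1, 2, 2, 1, 2, 1, 2], [0, 2, 1, 1, 0, 0, 0, 0, 2, 0, 0, 0, 1, 2], [0, 2, 1, 1, 0, 0, 0, 1, 0, 0, 0, 0, 1, 1], [0, 2, 1, 2, 0, 0, 0, 2, 2, 0, 0, 0, 2, 0], [2, 1, 0, 1, 1, 1, 1, 2, 1, 0, 1, 1, 2, 2], [2, 1, 2, 1, 1, 2, 2, 1, 1, 2, 2, 0, 1, 1], [0, 2, 2, 0, 1, 2, 0, 0, 0, 1, 1, 1, 0, 1], [0, 0, 1, 2, 0, 0, 0, 0, 1, 0, 0, 0, 1, 1], [0, 1, 0, 2, 0, 0, 0, 1, 2, 0, 0, 0, 0, 1], [1, 0, 2, 1, 0, 2, 1, 2, 1, 2, 0, 1, 1, 1], [2, 2, 1, 1, 1, 2, 1, 1, 1, 0, 1, 0, 0, 1], [1, 2, 1, 2, 1, 0, 1, 1, 2, 1, 0, 1, 0, 2], [0, 2, 1, 2, 0, 0, 0, 1, 0, 0, 0, 0, 1, 0], [0, 1, 1, 0, 0, 0, 0, 1, 1,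 0, 0, 0, 0, 1]]
  | ⟨18, _⟩ => [[1, 0, 0, 0, 0, 0, 0, 0, 0, 1, 1, 2, 1, 0], [0, 1, 0, 0, 0, 0, 0, 0, 1, 0, 0, 0, 1, 2], [0, 2, 1, 1, 0, 0, 0, 2, 2, 0, 0, 0, 0, 1], [0, 2, 0, 1, 0, 0, 0, 1, 0, 0, 0, 0, 2, 0], [2, 2, 0, 0, 1, 1, 2, 1, 2, 2, 0, 1, 0, 1], [2, 0, 0, 0, 0, 1, 1, 2, 2, 0, 2, 0, 0, 1], [1, 1, 0, 0, 0, 0, 1, 0, 2, 2, 0, 2, 2, 1], [0, 1, 0, 0, 0, 0, 0, 1, 2, 0, 0, 0, 0, 2], [0, 0, 0, 0, 0, 0, 0, 0, 1, 0, 0, 0, 2, 2], [0, 0, 0, 0, 0, 0, 0, 0, 0, 1, 2, 2, 0, 1], [0, 0, 0, 0, 0, 0, 0, 0, 0, 0, 1, 2, 2, 0], [0, 0, 0, 0, 0, 0, 0, 0, 0, 0, 0, 1, 2, 2], [0, 0, 0, 0, 0, 0, 0, 0, 0, 0, 0, 0, 1, 2], [0, 0, 0, 0, 0, 0, 0, 0, 0, 0,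 0, 0, 0, 1]]
  | ⟨19, _⟩ => [[1, 1, 0, 1, 2, 0, 0, 2, 0, 1, 2, 0, 2, 0], [0, 1, 2, 0, 0, 0, 0, 0, 1, 0, 0, 0, 2, 0], [0, 0, 2, 2, 0, 0, 0, 1, 0, 0, 0, 0, 1, 2], [0, 2, 2, 0, 0, 0, 0, 2, 1, 0, 0, 0, 2, 0], [0, 0, 1, 2, 2, 2, 1, 2, 2, 0, 1, 2, 2, 1], [2, 2, 0, 2, 2, 0, 2, 0, 2, 1, 2, 0, 0, 0], [1, 1, 2, 2, 1, 2, 2, 1, 2, 2, 1, 2, 1, 2], [0, 1, 1, 2, 0, 0, 0, 2, 2, 0, 0, 0, 1, 2], [0, 0, 1, 1, 0, 0, 0, 0, 0, 0, 0, 0, 1, 2], [0, 2, 2, 0, 1, 1, 0, 1, 0, 0, 1, 2, 2, 1], [0, 2, 1, 1, 0, 2, 2, 2, 1, 2, 1, 0, 0, 0], [2, 1, 2, 2, 2, 2, 2, 1, 2, 1, 2, 1, 2, 1], [0, 0, 0, 2, 0, 0, 0, 2, 2, 0, 0, 0, 1, 0], [0, 2, 2, 2, 0, 0, 0, 2, 1, 0, 0,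 0, 2, 1]]
  | ⟨20, _⟩ => [[0, 1, 2, 2, 2, 0, 2, 1, 0, 1, 1, 1, 2, 2], [0, 0, 2, 0, 0, 0, 0, 2, 1, 0, 0, 0, 1, 1], [0, 2, 2, 0, 0, 0, 0, 1, 1, 0, 0, 0, 1, 2], [0, 0, 2, 1, 0, 0, 0, 1, 2, 0, 0, 0, 0, 2], [2, 1, 0, 1, 2, 0, 1, 0, 2, 1, 1, 2, 1, 1], [0, 2, 1, 2, 2, 1, 1, 2, 2, 2, 0, 2, 0, 1], [0, 1, 1, 1, 2, 1, 0, 2, 2, 2, 1, 1, 1, 0], [0, 0, 2, 1, 0, 0, 0, 0, 2, 0, 0, 0, 1, 1], [0, 1, 0, 2, 0, 0, 0, 1, 1, 0, 0, 0, 2, 2], [1, 0, 1, 2, 0, 2, 1, 2, 0, 1, 2, 2, 1, 0], [1, 2, 2, 0, 2, 1, 2, 1, 0, 0, 1, 2, 2, 1], [2, 1, 2, 1, 2, 2, 0, 1, 0, 0, 0, 1, 2, 2], [0, 1, 2, 1, 0, 0, 0, 2, 0, 0, 0, 0, 1, 2], [0, 2, 2, 2, 0, 0, 0, 0, 0, 0, 0, 0,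 0, 1]]
  | ⟨21, _⟩ => [[1, 2, 0, 0, 2, 1, 1, 2, 0, 0, 2, 2, 1, 2], [0, 1, 2, 1, 0, 0, 0, 1, 0, 0, 0, 0, 2, 2], [0, 2, 2, 1, 0, 0, 0, 2, 0, 0, 0, 0, 1, 2], [0, 1, 1, 0, 0, 0, 0, 0, 1, 0, 0, 0, 0, 2], [2, 1, 0, 2, 2, 1, 2, 0, 0, 0, 1, 2, 0, 2], [1, 2, 1, 1, 1, 0, 0, 1, 0, 1, 0, 2, 2, 2], [0, 2, 2, 1, 2, 0, 2, 0, 1, 0, 2, 0, 0, 1], [0, 0, 2, 0, 0, 0, 0, 2, 0, 0, 0, 0, 2, 0], [0, 1, 1, 1, 0, 0, 0, 0, 2, 0, 0, 0, 0, 2], [1, 1, 1, 2, 1, 1, 0, 1, 0, 2, 0, 2, 2, 1], [2, 2, 1, 0, 1, 1, 2, 0, 1, 0, 0, 2, 0, 1], [2, 2, 0, 2, 1, 2, 1, 2, 0, 2, 2, 2, 1, 0], [0, 2, 1, 1, 0, 0, 0, 2, 0, 0, 0, 0, 0, 2], [0, 2, 1, 2, 0, 0, 0, 1, 2, 0, 0, 0, 2,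 2]]
  | ⟨22, _⟩ => [[1, 1, 1, 0, 1, 0, 2, 1, 0, 2, 2, 2, 1, 1], [0, 1, 1, 0, 0, 0, 0, 2, 2, 0, 0, 0, 2, 2], [0, 2, 1, 2, 0, 0, 0, 0, 0, 0, 0, 0, 0, 2], [0, 1, 0, 1, 0, 0, 0, 2, 0, 0, 0, 0, 2, 1], [2, 1, 2, 1, 1, 2, 0, 1, 0, 0, 0, 2, 1, 1], [1, 2, 2, 1, 0, 1, 2, 1, 0, 0, 2, 1, 1, 2], [1, 0, 1, 1, 1, 2, 1, 2, 0, 2, 1, 1, 2, 0], [0, 1, 1, 2, 0, 0, 0, 1, 2, 0, 0, 0, 1, 1], [0, 1, 1, 1, 0, 0, 0, 1, 1, 0, 0, 0, 2, 2], [1, 2, 1, 2, 1, 1, 1, 2, 1, 1, 2, 2, 2, 0], [2, 2, 2, 2, 0, 2, 2, 1, 1, 1, 0, 1, 0, 2], [0, 0, 2, 2, 1, 1, 0, 1, 1, 2, 2, 1, 2, 2], [0, 2, 0, 2, 0, 0, 0, 2, 1, 0, 0, 0, 0, 1], [0, 0, 1, 1, 0, 0, 0, 0, 2, 0, 0, 0, 2, 1]]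
  | ⟨23, _⟩ => [[0, 0, 0, 1, 0, 1, 0, 0, 1, 1, 1, 2, 2, 1], [0, 0, 0, 1, 0, 0, 0, 0, 1, 0, 0, 0, 1, 2], [0, 1, 1, 0, 0, 0, 0, 1, 1, 0, 0, 0, 0, 1], [0, 2, 0, 1, 0, 0, 0, 0, 1, 0, 0, 0, 2, 1], [1, 2, 2, 0, 1, 0, 1, 2, 1, 1, 0, 1, 2, 1], [2, 1, 0, 0, 0, 1, 0, 0, 0, 1, 2, 1, 1, 0], [1, 1, 1, 0, 1, 0, 2, 1, 1, 1, 2, 0, 2, 1], [0, 1, 1, 0, 0, 0, 0, 2, 1, 0, 0, 0, 2, 0], [0, 1, 1, 0, 0, 0, 0, 1, 2, 0, 0, 0, 0, 0], [1, 2, 2, 0, 1, 0, 1, 1, 1, 2, 0, 0, 2, 0], [2, 1, 0, 0, 0, 2, 0, 0, 0, 2, 1, 0, 2, 1], [2, 2, 2, 0, 2, 0, 1, 1, 2, 1, 1, 2, 0, 0], [0, 2, 0, 2, 0, 0, 0, 0, 2, 0, 0, 0, 1, 0], [0, 2, 2, 0, 0, 0, 0, 1, 1, 0, 0, 0, 1, 2]]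
  | ⟨24, _⟩ => [[2, 0, 1, 2, 0, 0, 1, 2, 0, 0, 1, 0, 2, 1], [0, 2, 0, 0, 0, 0, 0, 1, 0, 0, 0, 0, 1, 0], [0, 1, 2, 2, 0, 0, 0, 2, 0, 0, 0, 0, 2, 2], [0, 1, 2, 0, 0, 0, 0, 0, 2, 0, 0, 0, 0, 1], [1, 2, 0, 1, 2, 2, 2, 0, 0, 0, 2, 2, 0, 2], [1, 1, 0, 2, 2, 0, 0, 0, 0, 2, 0, 1, 0, 2], [0, 0, 0, 2, 2, 0, 2, 0, 2, 0, 1, 0, 0, 0], [0, 0, 2, 0, 0, 0, 0, 2, 0, 0, 0, 0, 1, 0], [0, 1, 2, 2, 0, 0, 0, 0, 0, 0, 0, 0, 0, 1], [1, 2, 0, 1, 2, 2, 0, 0, 0, 0, 0, 1, 0, 1], [1, 2, 0, 1, 2, 2, 1, 0, 2, 0, 2, 2, 0, 2], [2, 2, 0, 2, 2, 0, 1, 0, 0, 1, 1, 2, 0, 1], [0, 1, 2, 2, 0, 0, 0, 1, 0, 0, 0, 0, 2, 2], [0, 2, 2, 0, 0, 0, 0, 1, 1, 0, 0, 0, 1, 2]]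
  | ⟨25, _⟩ => [[2, 1, 2, 0, 1, 0, 2, 1, 0, 0, 1, 0, 2, 1], [0, 2, 1, 0, 0, 0, 0, 2, 0, 0, 0, 0, 1, 0], [0, 0, 2, 1, 0, 0, 0, 1, 0, 0, 0, 0, 2, 2], [0, 2, 2, 2, 0, 0, 0, 0, 2, 0, 0, 0, 0, 1], [0, 1, 1, 0, 2, 1, 1, 0, 0, 0, 2, 2, 0, 2], [2, 0, 1, 1, 2, 2, 0, 0, 0, 2, 0, 1, 0, 2], [0, 0, 0, 2, 1, 0, 0, 0, 2, 0, 1, 0, 0, 0], [0, 0, 1, 0, 0, 0, 0, 0, 0, 0, 0, 0, 1, 0], [0, 2, 2, 0, 0, 0, 0, 0, 0, 0, 0, 0, 0, 1], [2, 0, 0, 2, 2, 0, 0, 0, 0, 0, 0, 1, 0, 1], [0, 1, 1, 2, 2, 1, 0, 0, 2, 0, 2, 2, 0, 2], [1, 0, 2, 0, 1, 1, 2, 0, 0, 1, 1, 2, 0, 1], [0, 0, 2, 1, 0, 0, 0, 0, 0, 0, 0, 0, 2, 2], [0, 1, 1, 1, 0, 0, 0, 2, 1, 0, 0, 0, 1, 2]]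
  | ⟨26, _⟩ => [[1, 2, 2, 2, 2, 0, 2, 1, 1, 1, 1, 2, 2, 1], [0, 1, 2, 0, 0, 0, 0, 2, 1, 0, 0, 0, 1, 2], [0, 0, 1, 0, 0, 0, 0, 2, 2, 0, 0, 0, 0, 2], [0, 1, 2, 1, 0, 0, 0, 1, 1, 0, 0, 0, 2, 1], [0, 2, 0, 2, 1, 0, 2, 0, 2, 2, 0, 2, 1, 2], [1, 1, 1, 2, 2, 1, 1, 2, 0, 1, 2, 1, 1, 0], [2, 0, 2, 2, 1, 2, 0, 1, 2, 2, 1, 0, 1, 2], [0, 2, 1, 2, 0, 0, 0, 0, 2, 0, 0, 0, 1, 0], [0, 2, 0, 1, 0, 0, 0, 2, 1, 0, 0, 0, 0, 0], [2, 1, 2, 1, 0, 1, 2, 1, 2, 1, 0, 0, 1, 0], [2, 0, 2, 0, 2, 1, 2, 1, 0, 2, 1, 0, 2, 1], [0, 1, 1, 2, 1, 1, 0, 2, 1, 2, 2, 1, 0, 0], [0, 2, 2, 1, 0, 0, 0, 2, 2, 0, 0, 0, 1, 0], [0, 0, 1, 1, 0, 0, 0, 0, 2, 0, 0, 0, 2, 1]]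
  | ⟨27, _⟩ => [[1, 1, 2, 0, 0, 1, 2, 0, 0, 2, 2, 0, 2, 0], [0, 1, 0, 1, 0, 0, 0, 2, 2, 0, 0, 0, 2, 0], [0, 1, 2, 0, 0, 0, 0, 0, 0, 0, 0, 0, 1, 1], [0, 2, 1, 1, 0, 0, 0, 0, 2, 0, 0, 0, 2, 0], [1, 2, 1, 2, 2, 0, 0, 0, 1, 0, 1, 1, 2, 2], [2, 2, 1, 2, 1, 1, 0, 0, 1, 2, 2, 0, 0, 0], [2, 2, 1, 2, 1, 2, 2, 0, 1, 1, 1, 1, 1, 1], [0, 2, 1, 2, 0, 0, 0, 2, 1, 0, 0, 0, 1, 1], [0, 1, 0, 2, 0, 0, 0, 1, 0, 0, 0, 0, 1, 1], [1, 1, 0, 0, 0, 2, 1, 1, 0, 0, 1, 1, 2, 2], [0, 2, 1, 2, 2, 1, 2, 1, 2, 1, 1, 0, 0, 0], [1, 0, 2, 1, 2, 2, 0, 1, 1, 2, 2, 2, 2, 2], [0, 0, 2, 1, 0, 0, 0, 2, 1, 0, 0, 0, 1, 0], [0, 1, 2, 2, 0, 0, 0, 0, 2, 0, 0, 0, 2, 2]]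
  | ⟨28, _⟩ => [[0, 0, 0, 1, 0, 1, 0, 0, 0, 0, 1, 0, 1, 0], [0, 0, 0, 1, 0, 0, 0, 0, 0, 0, 0, 0, 1, 0], [0, 0, 2, 0, 0, 0, 0, 2, 2, 0, 0, 0, 0, 1], [0, 2, 0, 1, 0, 0, 0, 0, 0, 0, 0, 0, 2, 0], [0, 0, 1, 0, 2, 0, 2, 1, 2, 2, 0, 1, 0, 1], [2, 1, 0, 0, 0, 1, 0, 0, 0, 0, 2, 0, 0, 0], [0, 0, 2, 0, 2, 0, 1, 2, 2, 2, 0, 2, 0, 1], [0, 0, 2, 0, 0, 0, 0, 1, 2, 0, 0, 0, 0, 2], [0, 0, 2, 0, 0, 0, 0, 2, 1, 0, 0, 0, 0, 2], [0, 0, 1, 0, 2, 0, 2, 2, 2, 1, 0, 2, 0, 2], [2, 1, 0, 0, 0, 2, 0, 0, 0, 0, 1, 0, 0, 0], [0, 0, 1, 0, 1, 0, 2, 2, 1, 2, 0, 2, 0, 1], [0, 2, 0, 2, 0, 0, 0, 0, 0, 0, 0, 0, 1, 0], [0, 0, 1, 0, 0, 0, 0, 2, 2, 0, 0, 0, 0, 2]]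
  | ⟨29, _⟩ => [[1, 0, 0, 2, 1, 2, 2, 0, 1, 1, 1, 2, 2, 1], [0, 1, 1, 2, 0, 0, 0, 2, 1, 0, 0, 0, 1, 2], [0, 2, 2, 0, 0, 0, 0, 1, 1, 0, 0, 0, 1, 2], [0, 1, 0, 1, 0, 0, 0, 0, 1, 0, 0, 0, 2, 0], [2, 2, 2, 0, 2, 0, 1, 1, 2, 1, 1, 2, 0, 0], [1, 1, 2, 0, 0, 1, 0, 1, 1, 1, 2, 0, 2, 1], [1, 0, 2, 1, 1, 0, 1, 1, 2, 2, 0, 0, 1, 0], [0, 1, 1, 0, 0, 0, 0, 1, 2, 0, 0, 0, 0, 0], [0, 2, 1, 1, 0, 0, 0, 2, 2, 0, 0, 0, 1, 0], [2, 1, 2, 0, 1, 1, 2, 0, 0, 2, 1, 0, 2, 1], [2, 0, 0, 1, 1, 2, 0, 0, 2, 1, 2, 1, 2, 0], [1, 2, 1, 1, 2, 0, 0, 0, 2, 0, 1, 1, 2, 1], [0, 2, 1, 2, 0, 0, 0, 0, 1, 0, 0, 0, 2, 1], [0, 1, 2, 0, 0, 0, 0, 0, 0, 0, 0, 0, 1, 1]]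
  | ⟨30, _⟩ => [[2, 2, 1, 2, 1, 2, 1, 1, 1, 2, 2, 0, 2, 1], [0, 2, 1, 2, 0, 0, 0, 1, 2, 0, 0, 0, 2, 0], [0, 0, 1, 1, 0, 0, 0, 0, 2, 0, 0, 0, 2, 1], [0, 1, 0, 1, 0, 0, 0, 1, 2, 0, 0, 0, 0, 2], [0, 0, 2, 2, 1, 1, 0, 1, 1, 2, 2, 1, 2, 2], [1, 1, 2, 2, 0, 1, 1, 2, 1, 2, 0, 2, 2, 2], [1, 0, 1, 0, 1, 1, 1, 0, 0, 1, 2, 2, 2, 2], [0, 1, 1, 1, 0, 0, 0, 1, 1, 0, 0, 0, 2, 2], [0, 2, 1, 0, 0, 0, 0, 2, 1, 0, 0, 0, 1, 0], [2, 1, 1, 1, 1, 0, 2, 1, 0, 1, 1, 0, 0, 0], [1, 0, 2, 0, 0, 2, 0, 2, 2, 1, 1, 1, 2, 2], [2, 1, 2, 0, 1, 0, 1, 2, 1, 1, 0, 1, 1, 1], [0, 1, 0, 2, 0, 0, 0, 0, 1, 0, 0, 0, 1, 1], [0, 2, 1, 0, 0, 0, 0, 1, 1, 0, 0, 0, 0, 1]]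
  | ⟨31, _⟩ => [[2, 2, 1, 2, 2, 1, 1, 1, 1, 1, 1, 2, 2, 1], [0, 2, 2, 1, 0, 0, 0, 1, 1, 0, 0, 0, 1, 2], [0, 0, 1, 1, 0, 0, 0, 0, 2, 0, 0, 0, 2, 1], [0, 1, 1, 2, 0, 0, 0, 1, 1, 0, 0, 0, 2, 0], [0, 1, 1, 2, 1, 1, 0, 2, 1, 2, 2, 1, 0, 0], [1, 0, 0, 2, 1, 2, 1, 2, 1, 1, 2, 0, 2, 1], [2, 0, 1, 2, 0, 1, 2, 0, 1, 1, 0, 0, 2, 0], [0, 2, 0, 1, 0, 0, 0, 2, 1, 0, 0, 0, 0, 0], [0, 1, 0, 0, 0, 0, 0, 2, 1, 0, 0, 0, 2, 0], [1, 0, 0, 1, 0, 0, 2, 2, 0, 1, 2, 0, 1, 2], [1, 0, 1, 2, 0, 2, 1, 1, 2, 1, 2, 1, 2, 0], [0, 2, 0, 0, 2, 1, 1, 2, 1, 0, 2, 2, 1, 2], [0, 1, 0, 2, 0, 0, 0, 1, 1, 0, 0, 0, 2, 1], [0, 0, 2, 1, 0, 0, 0, 1, 0, 0, 0, 0, 2, 2]]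
  | ⟨32, _⟩ => [[1, 0, 0, 1, 2, 2, 1, 2, 1, 2, 0, 2, 1, 2], [0, 1, 2, 2, 0, 0, 0, 1, 2, 0, 0, 0, 0, 2], [0, 1, 1, 2, 0, 0, 0, 2, 2, 0, 0, 0, 0, 1], [0, 1, 2, 2, 0, 0, 0, 0, 1, 0, 0, 0, 2, 2], [1, 1, 2, 0, 1, 2, 2, 0, 0, 2, 0, 1, 1, 0], [1, 0, 0, 2, 2, 2, 0, 1, 2, 1, 2, 2, 1, 1], [2, 2, 1, 2, 2, 0, 0, 0, 1, 0, 1, 1, 1, 2], [0, 2, 2, 0, 0, 0, 0, 0, 0, 0, 0, 0, 1, 1], [0, 1, 2, 1, 0, 0, 0, 0, 2, 0, 0, 0, 2, 0], [1, 1, 1, 1, 2, 1, 0, 1, 1, 2, 2, 0, 2, 2], [0, 2, 1, 2, 0, 2, 1, 0, 1, 2, 2, 2, 0, 2], [1, 0, 1, 2, 1, 2, 1, 2, 2, 0, 2, 1, 1, 1], [0, 0, 0, 2, 0, 0, 0, 1, 2, 0, 0, 0, 2, 2], [0, 1, 1, 2, 0, 0, 0, 1, 0, 0, 0, 0, 2, 1]]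
  | ⟨33, _⟩ => [[2, 2, 2, 0, 0, 2, 2, 0, 0, 2, 1, 0, 1, 0], [0, 2, 0, 2, 0, 0, 0, 2, 2, 0, 0, 0, 1, 0], [0, 2, 2, 1, 0, 0, 0, 0, 2, 0, 0, 0, 1, 2], [0, 0, 2, 2, 0, 0, 0, 2, 1, 0, 0, 0, 2, 0], [2, 0, 2, 2, 2, 1, 0, 1, 1, 2, 1, 2, 1, 2], [0, 1, 1, 1, 2, 2, 2, 1, 2, 1, 2, 0, 0, 0], [2, 2, 0, 0, 0, 1, 1, 1, 0, 0, 2, 1, 1, 2], [0, 2, 0, 1, 0, 0, 0, 1, 0, 0, 0, 0, 2, 1], [0, 1, 1, 1, 0, 0, 0, 2, 1, 0, 0, 0, 2, 1], [1, 1, 1, 1, 1, 1, 2, 0, 1, 1, 2, 1, 2, 1], [1, 1, 1, 1, 1, 2, 0, 0, 1, 2, 1, 0, 0, 0], [2, 1, 1, 1, 2, 0, 0, 0, 1, 0, 2, 1, 1, 2], [0, 1, 1, 2, 0, 0, 0, 0, 2, 0, 0, 0, 1, 0], [0, 2, 2, 0, 0, 0, 0, 0, 0, 0, 0, 0, 2, 1]]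
  | ⟨34, _⟩ => [[1, 1, 2, 1, 0, 1, 1, 2, 2, 2, 1, 2, 1, 2], [0, 1, 0, 1, 0, 0, 0, 1, 2, 0, 0, 0, 1, 2], [0, 0, 2, 1, 0, 0, 0, 1, 0, 0, 0, 0, 2, 2], [0, 2, 1, 0, 0, 0, 0, 1, 2, 0, 0, 0, 2, 0], [0, 0, 1, 1, 2, 1, 1, 2, 2, 0, 2, 2, 1, 1], [2, 2, 1, 1, 1, 0, 1, 2, 1, 2, 2, 0, 1, 1], [2, 0, 1, 1, 1, 1, 2, 0, 0, 2, 2, 2, 0, 2], [0, 2, 1, 1, 0, 0, 0, 2, 2, 0, 0, 0, 2, 2], [0, 1, 0, 2, 0, 0, 0, 2, 1, 0, 0, 0, 0, 2], [1, 2, 0, 0, 0, 2, 2, 0, 2, 1, 0, 2, 2, 2], [2, 0, 1, 1, 2, 2, 2, 1, 1, 0, 1, 0, 0, 1], [1, 2, 2, 2, 2, 0, 2, 2, 1, 2, 0, 2, 0, 1], [0, 2, 2, 2, 0, 0, 0, 2, 0, 0, 0, 0, 1, 0], [0, 1, 2, 0, 0, 0, 0, 2, 2, 0, 0, 0, 0, 2]]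
  | ⟨35, _⟩ => [[0, 0, 0, 2, 2, 2, 1, 0, 1, 1, 2, 1, 2, 1], [0, 0, 2, 2, 0, 0, 0, 1, 1, 0, 0, 0, 2, 1], [0, 0, 1, 0, 0, 0, 0, 2, 2, 0, 0, 0, 0, 2], [0, 1, 0, 1, 0, 0, 0, 0, 0, 0, 0, 0, 2, 0], [0, 0, 1, 0, 1, 0, 2, 2, 1, 2, 0, 2, 0, 1], [1, 2, 1, 0, 0, 1, 0, 2, 2, 0, 2, 0, 0, 2], [0, 1, 1, 1, 2, 0, 2, 2, 2, 1, 0, 2, 2, 2], [0, 0, 2, 0, 0, 0, 0, 2, 1, 0, 0, 0, 0, 2], [0, 1, 2, 1, 0, 0, 0, 1, 2, 0, 0, 0, 2, 2], [1, 2, 1, 0, 2, 1, 1, 0, 0, 2, 2, 2, 0, 2], [1, 0, 0, 1, 2, 2, 0, 0, 2, 1, 1, 0, 2, 2], [2, 1, 2, 1, 1, 0, 0, 0, 2, 0, 2, 2, 1, 1], [0, 1, 2, 2, 0, 0, 0, 0, 1, 0, 0, 0, 1, 0], [0, 2, 1, 0, 0, 0, 0, 0, 0, 0, 0, 0, 2, 2]]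
  | ⟨36, _⟩ => [[0, 0, 2, 0, 2, 1, 0, 2, 1, 0, 2, 1, 0, 1], [0, 0, 2, 1, 0, 0, 0, 0, 0, 0, 0, 0, 2, 1], [0, 0, 1, 2, 0, 0, 0, 1, 1, 0, 0, 0, 2, 1], [0, 0, 2, 2, 0, 0, 0, 1, 2, 0, 0, 0, 1, 1], [0, 2, 0, 2, 1, 2, 1, 2, 2, 1, 2, 1, 2, 0], [0, 0, 1, 1, 2, 2, 1, 2, 1, 2, 1, 1, 2, 2], [2, 2, 2, 0, 1, 1, 0, 0, 0, 0, 1, 1, 0, 2], [0, 2, 1, 1, 0, 0, 0, 0, 0, 0, 0, 0, 1, 1], [0, 2, 0, 1, 0, 0, 0, 1, 1, 0, 0, 0, 1, 0], [2, 1, 2, 2, 0, 1, 1, 2, 2, 1, 1, 0, 2, 2], [0, 0, 2, 1, 2, 2, 2, 2, 1, 1, 1, 1, 2, 1], [1, 0, 1, 1, 1, 0, 1, 1, 1, 1, 0, 1, 1, 1], [0, 0, 2, 2, 0, 0, 0, 2, 1, 0, 0, 0, 1, 1], [0, 1, 1, 0, 0, 0, 0, 1, 1, 0, 0, 0, 0, 1]]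
  | ⟨37, _⟩ => [[0, 0, 0, 2, 0, 2, 0, 0, 1, 1, 2, 2, 1, 1], [0, 0, 0, 2, 0, 0, 0, 0, 1, 0, 0, 0, 2, 2], [0, 2, 1, 0, 0, 0, 0, 2, 2, 0, 0, 0, 1, 1], [0, 1, 0, 1, 0, 0, 0, 0, 2, 0, 0, 0, 2, 0], [2, 2, 1, 0, 1, 0, 2, 2, 1, 2, 1, 1, 0, 0], [1, 2, 0, 0, 0, 1, 0, 0, 0, 2, 2, 0, 1, 1], [1, 2, 1, 0, 2, 0, 2, 2, 2, 1, 0, 0, 2, 0], [0, 1, 2, 0, 0, 0, 0, 2, 1, 0, 0, 0, 0, 0], [0, 1, 2, 0, 0, 0, 0, 1, 2, 0, 0, 0, 2, 0], [1, 1, 2, 0, 2, 0, 1, 2, 2, 2, 2, 0, 2, 2], [1, 2, 0, 0, 0, 2, 0, 0, 0, 1, 1, 1, 2, 0], [1, 2, 1, 0, 2, 0, 2, 1, 2, 2, 0, 2, 2, 2], [0, 1, 0, 2, 0, 0, 0, 0, 1, 0, 0, 0, 1, 1], [0, 1, 2, 0, 0, 0, 0, 2, 2, 0, 0, 0, 0, 2]]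
  | ⟨38, _⟩ => [[1, 2, 0, 2, 1, 0, 0, 1, 1, 2, 0, 0, 1, 2], [0, 1, 1, 0, 0, 0, 0, 0, 2, 0, 0, 0, 0, 0], [0, 0, 2, 2, 0, 0, 0, 2, 2, 0, 0, 0, 2, 2], [0, 0, 0, 1, 0, 0, 0, 1, 0, 0, 0, 0, 0, 1], [0, 2, 2, 2, 2, 2, 2, 1, 0, 2, 2, 2, 1, 0], [0, 2, 2, 2, 0, 1, 1, 1, 0, 0, 0, 1, 1, 0], [2, 0, 2, 0, 1, 1, 0, 1, 0, 2, 0, 2, 2, 0], [0, 2, 1, 1, 0, 0, 0, 0, 2, 0, 0, 0, 0, 2], [0, 0, 1, 2, 0, 0, 0, 2, 0, 0, 0, 0, 2, 2], [0, 2, 2, 2, 1, 2, 2, 1, 0, 0, 2, 2, 1, 0], [0, 1, 0, 1, 1, 0, 1, 0, 0, 2, 1, 1, 2, 0], [1, 2, 1, 2, 2, 2, 1, 2, 0, 1, 0, 2, 2, 0], [0, 0, 1, 0, 0, 0, 0, 1, 2, 0, 0, 0, 1, 1], [0, 1, 2, 2, 0, 0, 0, 1, 1, 0, 0, 0, 0, 2]]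
  | ⟨39, _⟩ => [[2, 0, 0, 0, 0, 0, 0, 0, 0, 2, 2, 0, 0, 2], [0, 2, 0, 0, 0, 0, 0, 0, 2, 0, 0, 0, 2, 0], [0, 0, 0, 0, 0, 0, 0, 0, 0, 0, 0, 0, 0, 1], [0, 0, 0, 0, 0, 0, 0, 0, 0, 0, 0, 0, 2, 1], [0, 0, 0, 0, 0, 0, 0, 0, 0, 0, 0, 1, 2, 2], [0, 0, 0, 0, 0, 0, 0, 0, 0, 0, 2, 1, 1, 1], [0, 0, 0, 0, 0, 0, 0, 0, 0, 1, 2, 2, 2, 2], [0, 0, 0, 0, 0, 0, 0, 0, 1, 0, 0, 0, 2, 2], [0, 1, 0, 0, 0, 0, 0, 1, 2, 0, 0, 0, 2, 0], [1, 1, 0, 0, 0, 0, 1, 0, 2, 2, 2, 0, 0, 0], [1, 0, 0, 0, 0, 2, 2, 1, 1, 2, 2, 2, 1, 1], [0, 2, 0, 0, 1, 1, 2, 1, 2, 0, 2, 1, 1, 1], [0, 1, 0, 2, 0, 0, 0, 2, 2, 0, 0, 0, 2, 2], [0, 0, 1, 1, 0, 0, 0, 2, 0, 0, 0, 0, 2, 1]]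
  | ⟨40, _⟩ => [[1, 2, 1, 1, 0, 2, 0, 0, 1, 2, 0, 1, 0, 2], [0, 1, 0, 2, 0, 0, 0, 0, 2, 0, 0, 0, 0, 1], [0, 0, 1, 2, 0, 0, 0, 0, 2, 0, 0, 0, 1, 1], [0, 1, 1, 0, 0, 0, 0, 2, 0, 0, 0, 0, 1, 2], [0, 1, 1, 0, 1, 2, 0, 0, 0, 2, 1, 1, 0, 2], [1, 0, 2, 0, 1, 0, 2, 0, 0, 0, 1, 2, 2, 1], [0, 0, 0, 0, 0, 1, 0, 1, 0, 0, 0, 2, 2, 0], [0, 0, 0, 1, 0, 0, 0, 0, 0, 0, 0, 0, 0, 2], [0, 2, 2, 0, 0, 0, 0, 0, 0, 0, 0, 0, 0, 1], [2, 0, 2, 0, 2, 0, 0, 0, 0, 0, 0, 1, 2, 0], [0, 2, 2, 0, 2, 1, 0, 2, 0, 0, 2, 2, 1, 1], [1, 0, 2, 0, 1, 1, 2, 0, 0, 1, 1, 2, 0, 1], [0, 0, 2, 1, 0, 0, 0, 0, 0, 0, 0, 0, 2, 2], [0, 1, 1, 1, 0, 0, 0, 2, 1, 0, 0, 0, 1, 2]]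
  | ⟨41, _⟩ => [[1, 1, 2, 1, 1, 2, 2, 2, 2, 2, 2, 1, 1, 2], [0, 1, 1, 2, 0, 0, 0, 2, 2, 0, 0, 0, 2, 1], [0, 0, 2, 1, 0, 0, 0, 1, 0, 0, 0, 0, 2, 2], [0, 2, 0, 1, 0, 0, 0, 2, 2, 0, 0, 0, 1, 2], [0, 2, 0, 0, 2, 1, 1, 2, 1, 0, 2, 2, 1, 2], [2, 0, 2, 1, 0, 1, 2, 2, 1, 2, 1, 2, 1, 0], [1, 0, 0, 1, 0, 0, 2, 2, 0, 1, 2, 0, 1, 2], [0, 1, 0, 0, 0, 0, 0, 2, 1, 0, 0, 0, 2, 0], [0, 2, 0, 1, 0, 0, 0, 2, 1, 0, 0, 0, 0, 0], [2, 0, 1, 2, 0, 1, 2, 0, 1, 1, 0, 0, 2, 0], [2, 0, 0, 1, 2, 1, 2, 1, 2, 2, 1, 0, 1, 2], [0, 1, 1, 2, 1, 1, 0, 2, 1, 2, 2, 1, 0, 0], [0, 2, 2, 1, 0, 0, 0, 2, 2, 0, 0, 0, 1, 0], [0, 0, 1, 1, 0, 0, 0, 0, 2, 0, 0, 0, 2, 1]]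
  | ⟨42, _⟩ => [[0, 2, 2, 1, 1, 2, 2, 2, 1, 0, 0, 1, 2, 0], [0, 0, 1, 2, 0, 0, 0, 2, 0, 0, 0, 0, 0, 1], [0, 2, 1, 2, 0, 0, 0, 2, 1, 0, 0, 0, 2, 2], [0, 2, 0, 1, 0, 0, 0, 2, 1, 0, 0, 0, 0, 1], [2, 1, 0, 0, 1, 2, 2, 1, 2, 1, 2, 2, 2, 1], [2, 1, 2, 1, 0, 1, 2, 2, 0, 1, 0, 1, 1, 0], [2, 0, 0, 2, 0, 0, 1, 1, 1, 2, 2, 1, 2, 2], [0, 2, 0, 0, 0, 0, 0, 1, 2, 0, 0, 0, 2, 1], [0, 1, 0, 2, 0, 0, 0, 1, 0, 0, 0, 0, 1, 1], [1, 1, 2, 1, 0, 2, 1, 0, 1, 0, 1, 1, 0, 2], [0, 0, 0, 1, 2, 1, 2, 1, 1, 1, 1, 0, 2, 2], [1, 0, 2, 1, 2, 2, 0, 1, 1, 2, 2, 2, 2, 2], [0, 0, 2, 1, 0, 0, 0, 2, 1, 0, 0, 0, 1, 0], [0, 1, 2, 2, 0, 0, 0, 0, 2, 0, 0, 0, 2, 2]]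
  | ⟨43, _⟩ => [[1, 2, 2, 1, 0, 0, 2, 1, 1, 0, 0, 1, 2, 0], [0, 1, 0, 0, 0, 0, 0, 2, 0, 0, 0, 0, 0, 1], [0, 1, 2, 0, 0, 0, 0, 1, 1, 0, 0, 0, 2, 2], [0, 0, 1, 1, 0, 0, 0, 2, 1, 0, 0, 0, 0, 1], [1, 2, 0, 2, 2, 0, 1, 0, 2, 1, 2, 2, 2, 1], [0, 1, 0, 2, 1, 1, 2, 0, 0, 1, 0, 1, 1, 0], [0, 2, 0, 1, 2, 2, 0, 0, 1, 2, 2, 1, 2, 2], [0, 0, 2, 2, 0, 0, 0, 0, 2, 0, 0, 0, 2, 1], [0, 2, 2, 0, 0, 0, 0, 2, 0, 0, 0, 0, 1, 1], [2, 0, 0, 2, 2, 0, 2, 0, 1, 0, 1, 1, 0, 2], [0, 2, 0, 1, 1, 0, 0, 0, 1, 1, 1, 0, 2, 2], [0, 2, 0, 1, 2, 2, 2, 0, 1, 2, 2, 2, 2, 2], [0, 0, 1, 0, 0, 0, 0, 0, 1, 0, 0, 0, 1, 0], [0, 0, 2, 2, 0, 0, 0, 2, 2, 0, 0, 0, 2, 2]]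
  | ⟨44, _⟩ => [[1, 0, 0, 0, 0, 0, 0, 0, 0, 2, 1, 1, 1, 0], [0, 1, 0, 0, 0, 0, 0, 0, 2, 0, 0, 0, 1, 1], [0, 1, 1, 2, 0, 0, 0, 2, 2, 0, 0, 0, 0, 1], [0, 2, 0, 1, 0, 0, 0, 2, 0, 0, 0, 0, 2, 0], [1, 1, 0, 0, 1, 2, 2, 1, 2, 2, 0, 1, 0, 1], [2, 0, 0, 0, 0, 1, 2, 1, 1, 0, 2, 0, 0, 2], [2, 2, 0, 0, 0, 0, 1, 0, 2, 2, 0, 2, 1, 1], [0, 2, 0, 0, 0, 0, 0, 1, 2, 0, 0, 0, 0, 2], [0, 0, 0, 0, 0, 0, 0, 0, 1, 0, 0, 0, 1, 2], [0, 0, 0, 0, 0, 0, 0, 0, 0, 1, 1, 2, 0, 1], [0, 0, 0, 0, 0, 0, 0, 0, 0, 0, 1, 1, 2, 0], [0, 0, 0, 0, 0, 0, 0, 0, 0, 0, 0, 1, 1, 2], [0, 0, 0, 0, 0, 0, 0, 0, 0, 0, 0, 0, 1, 1], [0, 0, 0, 0, 0, 0, 0, 0, 0, 0, 0, 0, 0, 1]]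
  | ⟨45, _⟩ => [[1, 2, 1, 1, 0, 1, 2, 1, 2, 2, 2, 1, 1, 2], [0, 1, 0, 1, 0, 0, 0, 2, 2, 0, 0, 0, 2, 1], [0, 1, 1, 1, 0, 0, 0, 2, 1, 0, 0, 0, 1, 2], [0, 1, 2, 0, 0, 0, 0, 2, 1, 0, 0, 0, 2, 0], [1, 2, 2, 1, 1, 1, 2, 1, 2, 1, 1, 2, 0, 0], [1, 1, 2, 1, 2, 0, 2, 1, 0, 1, 2, 0, 1, 2], [1, 2, 2, 1, 2, 1, 1, 0, 1, 2, 0, 0, 2, 0], [0, 1, 2, 1, 0, 0, 0, 1, 2, 0, 0, 0, 0, 0], [0, 1, 0, 2, 0, 0, 0, 1, 1, 0, 0, 0, 2, 0], [1, 2, 0, 0, 0, 2, 1, 0, 1, 1, 2, 0, 2, 1], [0, 2, 2, 1, 1, 2, 1, 2, 0, 2, 1, 2, 2, 0], [2, 0, 1, 2, 1, 0, 1, 1, 1, 1, 0, 1, 2, 1], [0, 0, 1, 2, 0, 0, 0, 1, 2, 0, 0, 0, 1, 2], [0, 2, 1, 0, 0, 0, 0, 1, 1, 0, 0, 0, 0, 1]]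
  | ⟨46, _⟩ => [[1, 0, 0, 0, 0, 0, 0, 0, 0, 1, 1, 1, 2, 2], [0, 1, 0, 0, 0, 0, 0, 0, 1, 0, 0, 0, 1, 1], [0, 2, 2, 2, 0, 0, 0, 1, 2, 0, 0, 0, 2, 1], [0, 2, 0, 1, 0, 0, 0, 1, 2, 0, 0, 0, 0, 2], [2, 1, 0, 0, 2, 2, 1, 2, 1, 2, 2, 1, 2, 2], [2, 0, 0, 0, 0, 1, 1, 2, 2, 2, 0, 2, 0, 1], [2, 2, 0, 0, 0, 0, 2, 0, 1, 1, 2, 2, 2, 0], [0, 2, 0, 0, 0, 0, 0, 2, 1, 0, 0, 0, 2, 2], [0, 0, 0, 0, 0, 0, 0, 0, 2, 0, 0, 0, 1, 1], [0, 0, 0, 0, 0, 0, 0, 0, 0, 2, 1, 1, 2, 0], [0, 0, 0, 0, 0, 0, 0, 0, 0, 0, 1, 2, 2, 1], [0, 0, 0, 0, 0, 0, 0, 0, 0, 0, 0, 2, 1, 1], [0, 0, 0, 0, 0, 0, 0, 0, 0, 0, 0, 0, 1, 2], [0, 0, 0, 0, 0, 0, 0, 0, 0, 0, 0, 0, 0, 2]]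
  | ⟨47, _⟩ => [[2, 2, 0, 1, 0, 1, 1, 0, 2, 0, 0, 2, 2, 0], [0, 2, 0, 1, 0, 0, 0, 1, 0, 0, 0, 0, 0, 2], [0, 0, 2, 2, 0, 0, 0, 0, 1, 0, 0, 0, 1, 2], [0, 1, 0, 1, 0, 0, 0, 1, 2, 0, 0, 0, 0, 2], [0, 0, 1, 1, 2, 2, 0, 2, 2, 1, 1, 2, 1, 1], [1, 1, 0, 0, 0, 1, 1, 2, 0, 2, 0, 2, 1, 0], [2, 2, 2, 2, 2, 2, 2, 2, 1, 2, 1, 1, 1, 2], [0, 2, 2, 2, 0, 0, 0, 2, 2, 0, 0, 0, 1, 1], [0, 0, 2, 2, 0, 0, 0, 0, 0, 0, 0, 0, 2, 1], [0, 1, 1, 1, 2, 2, 0, 0, 1, 0, 2, 1, 0, 2], [0, 1, 0, 0, 0, 2, 2, 1, 2, 2, 1, 0, 2, 1], [1, 2, 1, 1, 1, 1, 1, 2, 1, 2, 1, 2, 1, 2], [0, 0, 0, 2, 0, 0, 0, 2, 2, 0, 0, 0, 1, 0], [0, 1, 1, 1, 0, 0, 0, 1, 2, 0, 0, 0, 1, 2]]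
  | ⟨48, _⟩ => [[1, 0, 2, 1, 0, 2, 0, 0, 1, 2, 0, 0, 1, 2], [0, 1, 0, 2, 0, 0, 0, 0, 2, 0, 0, 0, 0, 0], [0, 2, 1, 1, 0, 0, 0, 0, 1, 0, 0, 0, 1, 1], [0, 2, 2, 0, 0, 0, 0, 1, 0, 0, 0, 0, 0, 1], [2, 1, 1, 0, 1, 1, 0, 0, 0, 1, 1, 1, 2, 0], [2, 2, 1, 0, 2, 0, 1, 0, 0, 0, 0, 1, 1, 0], [0, 0, 0, 0, 0, 2, 0, 1, 0, 1, 0, 1, 1, 0], [0, 0, 0, 2, 0, 0, 0, 0, 1, 0, 0, 0, 0, 1], [0, 2, 2, 0, 0, 0, 0, 0, 0, 0, 0, 0, 1, 1], [2, 1, 2, 0, 2, 0, 0, 0, 0, 0, 1, 1, 2, 0], [2, 1, 1, 0, 1, 1, 0, 1, 0, 2, 1, 1, 2, 0], [1, 1, 2, 0, 1, 2, 2, 0, 0, 2, 0, 1, 1, 0], [0, 2, 1, 1, 0, 0, 0, 0, 2, 0, 0, 0, 1, 1], [0, 1, 1, 2, 0, 0, 0, 2, 2, 0, 0, 0, 0, 1]]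
  | ⟨49, _⟩ => [[1, 2, 0, 2, 1, 0, 0, 1, 1, 2, 0, 0, 1, 2], [0, 1, 1, 0, 0, 0, 0, 0, 2, 0, 0, 0, 0, 0], [0, 0, 1, 1, 0, 0, 0, 1, 1, 0, 0, 0, 1, 1], [0, 0, 0, 1, 0, 0, 0, 1, 0, 0, 0, 0, 0, 1], [0, 1, 1, 1, 1, 1, 1, 2, 0, 1, 1, 1, 2, 0], [0, 2, 2, 2, 0, 1, 1, 1, 0, 0, 0, 1, 1, 0], [1, 0, 1, 0, 2, 2, 0, 2, 0, 1, 0, 1, 1, 0], [0, 1, 2, 2, 0, 0, 0, 0, 1, 0, 0, 0, 0, 1], [0, 0, 2, 1, 0, 0, 0, 1, 0, 0, 0, 0, 1, 1], [0, 1, 1, 1, 2, 1, 1, 2, 0, 0, 1, 1, 2, 0], [0, 1, 0, 1, 1, 0, 1, 0, 0, 2, 1, 1, 2, 0], [2, 1, 2, 1, 1, 1, 2, 1, 0, 2, 0, 1, 1, 0], [0, 0, 1, 0, 0, 0, 0, 1, 2, 0, 0, 0, 1, 1], [0, 2, 1, 1, 0, 0, 0, 2, 2, 0, 0, 0, 0, 1]]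
  | ⟨50, _⟩ => [[2, 0, 0, 0, 0, 0, 0, 0, 0, 2, 2, 0, 0, 2], [0, 2, 0, 0, 0, 0, 0, 0, 2, 0, 0, 0, 2, 0], [0, 0, 0, 0, 0, 0, 0, 0, 0, 0, 0, 0, 0, 2], [0, 0, 0, 0, 0, 0, 0, 0, 0, 0, 0, 0, 2, 1], [0, 0, 0, 0, 0, 0, 0, 0, 0, 0, 0, 2, 1, 1], [0, 0, 0, 0, 0, 0, 0, 0, 0, 0, 2, 1, 1, 1], [0, 0, 0, 0, 0, 0, 0, 0, 0, 2, 1, 1, 1, 1], [0, 0, 0, 0, 0, 0, 0, 0, 2, 0, 0, 0, 1, 1], [0, 2, 0, 0, 0, 0, 0, 2, 1, 0, 0, 0, 1, 0], [2, 2, 0, 0, 0, 0, 2, 0, 1, 1, 1, 0, 0, 0], [1, 0, 0, 0, 0, 2, 2, 1, 1, 2, 2, 2, 1, 1], [0, 1, 0, 0, 2, 2, 1, 2, 1, 0, 1, 2, 2, 2], [0, 1, 0, 2, 0, 0, 0, 2, 2, 0, 0, 0, 2, 2], [0, 0, 2, 2, 0, 0, 0, 1, 0, 0, 0, 0, 1, 2]]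
  | ⟨51, _⟩ => [[0, 0, 1, 1, 2, 2, 1, 1, 0, 0, 2, 0, 2, 0], [0, 0, 2, 2, 0, 0, 0, 1, 0, 0, 0, 0, 2, 0], [0, 1, 2, 0, 0, 0, 0, 2, 2, 0, 0, 0, 0, 2], [0, 1, 1, 1, 0, 0, 0, 1, 0, 0, 0, 0, 2, 0], [1, 2, 2, 2, 2, 0, 2, 2, 1, 2, 0, 2, 0, 1], [1, 2, 0, 2, 1, 1, 1, 0, 0, 0, 2, 0, 0, 0], [1, 1, 2, 2, 0, 2, 2, 2, 2, 1, 0, 2, 0, 2], [0, 1, 0, 2, 0, 0, 0, 2, 1, 0, 0, 0, 0, 2], [0, 1, 0, 0, 0, 0, 0, 1, 2, 0, 0, 0, 0, 2], [1, 2, 0, 2, 0, 0, 1, 2, 2, 2, 0, 2, 0, 1], [1, 2, 1, 1, 0, 2, 2, 0, 0, 0, 1, 0, 0, 0], [2, 2, 0, 0, 1, 1, 2, 1, 2, 2, 0, 1, 0, 1], [0, 1, 0, 2, 0, 0, 0, 2, 0, 0, 0, 0, 1, 0], [0, 2, 1, 1, 0, 0, 0, 2, 2, 0, 0, 0, 0, 1]]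
  | ⟨52, _⟩ => [[2, 0, 1, 1, 2, 2, 2, 0, 0, 0, 0, 0, 0, 0], [0, 2, 2, 2, 0, 0, 0, 2, 0, 0, 0, 0, 0, 0], [0, 1, 2, 1, 0, 0, 0, 1, 2, 0, 0, 0, 1, 1], [0, 1, 1, 0, 0, 0, 0, 1, 2, 0, 0, 0, 2, 0], [1, 2, 1, 1, 2, 1, 1, 2, 1, 2, 1, 1, 0, 0], [1, 0, 2, 0, 1, 0, 1, 1, 1, 2, 2, 0, 0, 0], [1, 1, 0, 1, 1, 1, 2, 2, 0, 1, 0, 0, 0, 0], [0, 1, 1, 1, 0, 0, 0, 2, 1, 0, 0, 0, 0, 0], [0, 0, 2, 2, 0, 0, 0, 1, 0, 0, 0, 0, 0, 0], [0, 0, 0, 1, 2, 2, 1, 0, 0, 0, 0, 0, 0, 0], [0, 0, 2, 1, 1, 2, 0, 0, 0, 0, 0, 0, 0, 0], [0, 0, 2, 2, 1, 0, 0, 0, 0, 0, 0, 0, 0, 0], [0, 0, 1, 2, 0, 0, 0, 0, 0, 0, 0, 0, 0, 0], [0, 0, 1, 0, 0, 0, 0, 0, 0, 0, 0, 0, 0, 0]]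
  | ⟨53, _⟩ => [[1, 0, 1, 2, 2, 1, 1, 1, 0, 2, 2, 1, 2, 0], [0, 1, 2, 1, 0, 0, 0, 1, 2, 0, 0, 0, 2, 1], [0, 2, 2, 2, 0, 0, 0, 0, 0, 0, 0, 0, 0, 1], [0, 2, 1, 2, 0, 0, 0, 1, 0, 0, 0, 0, 2, 1], [2, 1, 2, 1, 2, 2, 0, 1, 0, 0, 0, 1, 2, 2], [2, 0, 0, 2, 1, 2, 1, 2, 0, 0, 2, 1, 1, 0], [1, 2, 2, 1, 0, 2, 1, 0, 0, 1, 2, 2, 0, 1], [0, 1, 0, 2, 0, 0, 0, 1, 1, 0, 0, 0, 2, 2], [0, 2, 0, 0, 0, 0, 0, 1, 2, 0, 0, 0, 0, 2], [2, 0, 0, 2, 0, 0, 1, 1, 2, 2, 0, 2, 2, 1], [1, 1, 1, 2, 0, 2, 1, 1, 1, 0, 1, 0, 0, 2], [1, 1, 0, 0, 1, 2, 2, 1, 2, 2, 0, 1, 0, 1], [0, 1, 0, 2, 0, 0, 0, 1, 0, 0, 0, 0, 1, 0], [0, 1, 1, 2, 0, 0, 0, 2, 2, 0, 0, 0, 0, 1]]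
  | ⟨54, _⟩ => [[1, 1, 0, 2, 0, 2, 2, 0, 0, 2, 1, 0, 0, 2], [0, 1, 0, 2, 0, 0, 0, 2, 2, 0, 0, 0, 1, 0], [0, 1, 2, 2, 0, 0, 0, 2, 0, 0, 0, 0, 2, 2], [0, 0, 0, 1, 0, 0, 0, 1, 2, 0, 0, 0, 1, 2], [1, 0, 2, 2, 2, 2, 2, 1, 1, 0, 2, 2, 1, 2], [0, 2, 0, 0, 0, 1, 1, 2, 1, 2, 1, 2, 2, 1], [1, 1, 2, 2, 1, 1, 0, 0, 1, 1, 2, 0, 0, 0], [0, 1, 1, 1, 0, 0, 0, 0, 1, 0, 0, 0, 2, 0], [0, 2, 1, 1, 0, 0, 0, 1, 2, 0, 0, 0, 2, 1], [2, 2, 1, 1, 1, 1, 1, 1, 0, 2, 2, 1, 2, 1], [2, 2, 0, 0, 0, 2, 2, 1, 0, 0, 1, 1, 2, 1], [1, 2, 2, 2, 1, 1, 0, 1, 0, 0, 0, 2, 2, 1], [0, 2, 0, 2, 0, 0, 0, 2, 0, 0, 0, 0, 1, 1], [0, 1, 1, 1, 0, 0, 0, 0, 0, 0, 0, 0, 0, 2]]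
  | ⟨55, _⟩ => [[2, 2, 2, 2, 2, 2, 2, 2, 2, 1, 2, 0, 2, 2], [0, 2, 2, 2, 0, 0, 0, 2, 1, 0, 0, 0, 2, 0], [0, 0, 2, 1, 0, 0, 0, 0, 1, 0, 0, 0, 2, 2], [0, 1, 0, 1, 0, 0, 0, 2, 1, 0, 0, 0, 0, 1], [0, 0, 1, 2, 2, 1, 0, 2, 2, 1, 2, 2, 2, 1], [1, 1, 1, 2, 0, 1, 2, 1, 2, 1, 0, 1, 2, 1], [1, 0, 2, 0, 2, 1, 2, 0, 0, 2, 2, 1, 2, 1], [0, 1, 2, 1, 0, 0, 0, 2, 2, 0, 0, 0, 2, 1], [0, 2, 2, 0, 0, 0, 0, 1, 2, 0, 0, 0, 1, 0], [2, 1, 2, 1, 2, 0, 1, 2, 0, 2, 1, 0, 0, 0], [1, 0, 1, 0, 0, 2, 0, 1, 1, 2, 1, 2, 2, 1], [2, 1, 1, 0, 2, 0, 2, 1, 2, 2, 0, 2, 1, 2], [0, 1, 0, 2, 0, 0, 0, 0, 2, 0, 0, 0, 1, 2], [0, 2, 2, 0, 0, 0, 0, 2, 2, 0, 0, 0, 0, 2]]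
  | ⟨56, _⟩ => [[0, 0, 1, 1, 1, 1, 1, 1, 0, 1, 1, 2, 1, 0], [0, 0, 1, 1, 0, 0, 0, 1, 1, 0, 0, 0, 1, 2], [0, 0, 2, 0, 0, 0, 0, 2, 2, 0, 0, 0, 0, 1], [0, 2, 0, 1, 0, 0, 0, 0, 0, 0, 0, 0, 2, 0], [0, 0, 1, 0, 2, 0, 2, 1, 2, 2, 0, 1, 0, 1], [2, 1, 2, 0, 0, 1, 0, 2, 2, 0, 2, 0, 0, 1], [0, 2, 2, 1, 2, 0, 1, 2, 2, 2, 0, 2, 2, 1], [0, 0, 2, 0, 0, 0, 0, 1, 2, 0, 0, 0, 0, 2], [0, 2, 2, 1, 0, 0, 0, 2, 1, 0, 0, 0, 2, 2], [2, 1, 2, 0, 2, 1, 2, 0, 0, 1, 2, 2, 0, 1], [2, 0, 2, 1, 0, 2, 1, 2, 0, 0, 1, 2, 2, 0], [1, 2, 1, 2, 2, 1, 0, 2, 0, 0, 0, 1, 2, 2], [0, 2, 0, 2, 0, 0, 0, 1, 0, 0, 0, 0, 1, 2], [0, 1, 2, 1, 0, 0, 0, 0, 0, 0, 0, 0, 0, 1]]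
  | ⟨57, _⟩ => [[2, 0, 0, 2, 2, 2, 1, 0, 0, 0, 0, 0, 0, 0], [0, 2, 2, 2, 0, 0, 0, 1, 0, 0, 0, 0, 0, 0], [0, 2, 2, 0, 0, 0, 0, 1, 1, 0, 0, 0, 1, 2], [0, 1, 0, 1, 0, 0, 0, 0, 1, 0, 0, 0, 2, 0], [2, 2, 2, 0, 2, 0, 1, 1, 2, 1, 1, 2, 0, 0], [1, 0, 1, 0, 0, 1, 0, 2, 2, 1, 2, 0, 0, 0], [1, 1, 2, 2, 1, 0, 1, 1, 0, 2, 0, 0, 0, 0], [0, 1, 1, 0, 0, 0, 0, 1, 2, 0, 0, 0, 0, 0], [0, 0, 1, 2, 0, 0, 0, 2, 0, 0, 0, 0, 0, 0], [0, 0, 2, 0, 1, 2, 2, 0, 0, 0, 0, 0, 0, 0], [0, 0, 0, 1, 2, 2, 0, 0, 0, 0, 0, 0, 0, 0], [0, 0, 1, 2, 2, 0, 0, 0, 0, 0, 0, 0, 0, 0], [0, 0, 2, 2, 0, 0, 0, 0, 0, 0, 0, 0, 0, 0], [0, 0, 2, 0, 0, 0, 0, 0, 0, 0, 0, 0, 0, 0]]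
  | ⟨58, _⟩ => [[1, 0, 0, 0, 0, 0, 0, 0, 0, 1, 1, 1, 2, 2], [0, 1, 0, 0, 0, 0, 0, 0, 1, 0, 0, 0, 1, 1], [0, 1, 1, 1, 0, 0, 0, 2, 1, 0, 0, 0, 1, 2], [0, 2, 0, 1, 0, 0, 0, 1, 2, 0, 0, 0, 0, 2], [1, 2, 0, 0, 1, 1, 2, 1, 2, 1, 1, 2, 1, 1], [2, 0, 0, 0, 0, 1, 1, 2, 2, 2, 0, 2, 0, 1], [1, 1, 0, 0, 0, 0, 1, 0, 2, 2, 1, 1, 1, 0], [0, 1, 0, 0, 0, 0, 0, 1, 2, 0, 0, 0, 1, 1], [0, 0, 0, 0, 0, 0, 0, 0, 1, 0, 0, 0, 2, 2], [0, 0, 0, 0, 0, 0, 0, 0, 0, 1, 2, 2, 1, 0], [0, 0, 0, 0, 0, 0, 0, 0, 0, 0, 1, 2, 2, 1], [0, 0, 0, 0, 0, 0, 0, 0, 0, 0, 0, 1, 2, 2], [0, 0, 0, 0, 0, 0, 0, 0, 0, 0, 0, 0, 1, 2], [0, 0, 0, 0, 0, 0, 0, 0, 0, 0, 0, 0, 0, 1]]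
  | ⟨59, _⟩ => [[2, 1, 0, 0, 1, 2, 2, 1, 0, 0, 1, 1, 2, 1], [0, 2, 1, 2, 0, 0, 0, 2, 0, 0, 0, 0, 1, 1], [0, 1, 2, 1, 0, 0, 0, 2, 1, 0, 0, 0, 1, 1], [0, 1, 2, 2, 0, 0, 0, 1, 0, 0, 0, 0, 0, 1], [1, 1, 0, 1, 2, 1, 2, 1, 0, 1, 1, 1, 2, 0], [1, 1, 2, 0, 2, 2, 1, 0, 2, 0, 0, 1, 0, 2], [2, 2, 2, 1, 2, 2, 0, 2, 0, 1, 0, 1, 1, 2], [0, 2, 2, 2, 0, 0, 0, 0, 1, 0, 0, 0, 0, 1], [0, 0, 1, 0, 0, 0, 0, 1, 0, 0, 0, 0, 1, 0], [0, 1, 1, 2, 1, 0, 1, 0, 2, 0, 1, 0, 0, 2], [2, 1, 2, 2, 2, 0, 0, 2, 0, 2, 0, 1, 1, 1], [1, 2, 0, 1, 1, 2, 1, 0, 0, 0, 2, 1, 0, 1], [0, 2, 2, 0, 0, 0, 0, 0, 2, 0, 0, 0, 0, 1], [0, 1, 1, 2, 0, 0, 0, 1, 0, 0, 0, 0, 2, 1]]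
  | ⟨60, _⟩ => [[0, 2, 1, 1, 1, 0, 1, 2, 0, 2, 2, 2, 1, 1], [0, 0, 1, 0, 0, 0, 0, 1, 2, 0, 0, 0, 2, 2], [0, 1, 1, 1, 0, 0, 0, 0, 0, 0, 0, 0, 0, 2], [0, 2, 1, 2, 0, 0, 0, 1, 0, 0, 0, 0, 2, 1], [1, 2, 1, 2, 1, 1, 0, 2, 0, 0, 0, 2, 1, 1], [2, 1, 1, 0, 1, 2, 1, 2, 0, 0, 2, 1, 1, 2], [2, 0, 2, 1, 0, 1, 2, 1, 0, 2, 1, 1, 2, 0], [0, 2, 0, 1, 0, 0, 0, 2, 2, 0, 0, 0, 1, 1], [0, 0, 1, 2, 0, 0, 0, 0, 1, 0, 0, 0, 2, 2], [0, 2, 2, 2, 1, 2, 0, 1, 1, 1, 2, 2, 2, 0], [0, 1, 2, 1, 1, 2, 2, 1, 1, 1, 0, 1, 0, 2], [1, 2, 0, 2, 1, 0, 2, 0, 1, 2, 2, 1, 2, 2], [0, 0, 1, 2, 0, 0, 0, 2, 1, 0, 0, 0, 0, 1], [0, 1, 1, 0, 0, 0, 0, 2, 2, 0, 0, 0, 2, 1]]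
  | ⟨61, _⟩ => [[2, 2, 2, 2, 0, 2, 1, 2, 2, 2, 2, 2, 2, 2], [0, 2, 0, 2, 0, 0, 0, 1, 2, 0, 0, 0, 2, 2], [0, 2, 2, 0, 0, 0, 0, 2, 2, 0, 0, 0, 0, 2], [0, 1, 2, 1, 0, 0, 0, 2, 0, 0, 0, 0, 2, 0], [2, 1, 2, 1, 2, 0, 2, 2, 1, 2, 0, 2, 0, 1], [1, 0, 1, 2, 2, 1, 2, 1, 1, 0, 2, 0, 0, 1], [2, 1, 0, 0, 0, 1, 2, 0, 2, 1, 0, 2, 1, 2], [0, 2, 0, 1, 0, 0, 0, 2, 1, 0, 0, 0, 0, 2], [0, 1, 1, 2, 0, 0, 0, 2, 2, 0, 0, 0, 1, 2], [1, 0, 1, 2, 1, 2, 2, 0, 0, 2, 1, 2, 0, 2], [1, 1, 1, 2, 1, 0, 1, 2, 1, 2, 1, 0, 2, 1], [0, 0, 1, 2, 2, 2, 1, 2, 2, 0, 1, 2, 2, 1], [0, 1, 1, 0, 0, 0, 0, 1, 2, 0, 0, 0, 1, 0], [0, 0, 2, 2, 0, 0, 0, 1, 0, 0, 0, 0, 1, 2]]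
  | ⟨62, _⟩ => [[2, 2, 2, 2, 1, 1, 2, 2, 2, 2, 1, 1, 2, 2], [0, 2, 1, 1, 0, 0, 0, 2, 2, 0, 0, 0, 1, 1], [0, 0, 1, 2, 0, 0, 0, 0, 2, 0, 0, 0, 1, 1], [0, 1, 2, 2, 0, 0, 0, 2, 2, 0, 0, 0, 2, 0], [0, 2, 1, 1, 1, 2, 0, 2, 1, 2, 1, 1, 0, 0], [1, 0, 0, 2, 2, 2, 2, 1, 2, 2, 2, 0, 2, 2], [1, 0, 1, 1, 0, 2, 2, 0, 1, 1, 0, 0, 1, 0], [0, 1, 0, 2, 0, 0, 0, 2, 1, 0, 0, 0, 0, 0], [0, 2, 0, 0, 0, 0, 0, 2, 1, 0, 0, 0, 1, 0], [2, 0, 0, 2, 0, 0, 2, 2, 0, 1, 1, 0, 2, 2], [1, 0, 2, 2, 0, 2, 2, 2, 1, 2, 2, 2, 2, 0], [0, 1, 0, 0, 2, 2, 1, 2, 1, 0, 1, 2, 2, 2], [0, 1, 0, 2, 0, 0, 0, 2, 2, 0, 0, 0, 2, 2], [0, 0, 2, 2, 0, 0, 0, 1, 0, 0, 0, 0, 1, 2]]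
  | ⟨n+63, h⟩ => absurd h (by omega)
def T14_c3 : Fin 63 → List (List ℕ)
  | ⟨0, _⟩ => [[1, 1, 1, 0, 1, 0, 2, 1, 0, 2, 2, 2, 1, 1], [0, 1, 1, 0, 0, 0, 0, 2, 2, 0, 0, 0, 2, 2], [0, 1, 2, 1, 0, 0, 0, 0, 0, 0, 0, 0, 0, 1], [0, 1, 0, 1, 0, 0, 0, 2, 0, 0, 0, 0, 2, 1], [1, 2, 1, 2, 2, 1, 0, 2, 0, 0, 0, 1, 2, 2], [1, 2, 2, 1, 0, 1, 2, 1, 0, 0, 2, 1, 1, 2], [2, 0, 2, 2, 2, 1, 2, 1, 0, 1, 2, 2, 1, 0], [0, 2, 2, 1, 0, 0, 0, 2, 1, 0, 0, 0, 2, 2], [0, 2, 2, 2, 0, 0, 0, 2, 2, 0, 0, 0, 1, 1], [2, 1, 2, 1, 2, 2, 2, 1, 2, 2, 1, 1, 1, 0], [2, 2, 2, 2, 0, 2, 2, 1, 1, 1, 0, 1, 0, 2], [0, 0, 1, 1, 2, 2, 0, 2, 2, 1, 1, 2, 1, 1], [0, 2, 0, 2, 0, 0,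 0, 2, 1, 0, 0, 0, 0, 1], [0, 0, 2, 2, 0, 0, 0, 0, 1, 0, 0, 0, 1, 2]]
  | ⟨1, _⟩ => [[0, 1, 2, 2, 1, 1, 1, 0, 1, 2, 0, 2, 2, 2], [0, 0, 1, 1, 0, 0, 0, 1, 2, 0, 0, 0, 0, 2], [0, 2, 1, 0, 0, 0, 0, 0, 0, 0, 0, 0, 2, 2], [0, 1, 2, 1, 0, 0, 0, 0, 2, 0, 0, 0, 1, 2], [2, 1, 2, 2, 1, 0, 0, 0, 1, 0, 2, 2, 1, 2], [1, 2, 1, 2, 2, 1, 0, 0, 1, 2, 1, 2, 0, 2], [1, 0, 0, 1, 2, 2, 1, 0, 2, 1, 2, 0, 2, 1], [0, 1, 2, 2, 0, 0, 0, 1, 1, 0, 0, 0, 2, 0], [0, 0, 1, 1, 0, 0, 0, 2, 0, 0, 0, 0, 1, 2], [0, 1, 0, 1, 1, 1, 2, 2, 2, 0, 1, 2, 1, 1], [0, 2, 1, 0, 2, 0, 2, 2, 2, 1, 1, 2, 2, 1], [2, 1, 1, 1, 2, 1, 1, 2, 0, 1, 0, 2, 1, 0], [0, 0, 2, 0, 0, 0, 0,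 2, 1, 0, 0, 0, 1, 2], [0, 2, 2, 1, 0, 0, 0, 1, 1, 0, 0, 0, 0, 2]]
  | ⟨2, _⟩ => [[1, 1, 0, 0, 2, 2, 1, 2, 0, 2, 2, 0, 2, 0], [0, 1, 2, 2, 0, 0, 0, 1, 2, 0, 0, 0, 2, 0], [0, 2, 1, 1, 0, 0, 0, 1, 0, 0, 0, 0, 1, 1], [0, 2, 1, 2, 0, 0, 0, 2, 2, 0, 0, 0, 2, 0], [2, 1, 0, 1, 1, 1, 1, 2, 1, 0, 1, 1, 2, 2], [2, 2, 1, 0, 1, 2, 2, 0, 1, 2, 2, 0, 0, 0], [0, 0, 1, 1, 1, 2, 0, 1, 1, 1, 1, 1, 1, 1], [0, 0, 1, 2, 0, 0, 0, 0, 1, 0, 0, 0, 1, 1], [0, 2, 2, 0, 0, 0, 0, 2, 0, 0, 0, 0, 1, 1], [2, 0, 2, 2, 2, 0, 2, 0, 0, 0, 1, 1, 2, 2], [0, 2, 1, 2, 1, 0, 0, 1, 2, 1, 1, 0, 0, 0], [0, 2, 0, 1, 2, 2, 2, 0, 1, 2, 2, 2, 2, 2], [0, 0, 1, 0, 0, 0, 0, 0,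 1, 0, 0, 0, 1, 0], [0, 0, 2, 2, 0, 0, 0, 2, 2, 0, 0, 0, 2, 2]]
  | ⟨3, _⟩ => [[0, 1, 1, 2, 1, 0, 1, 2, 0, 2, 1, 2, 2, 1], [0, 0, 1, 0, 0, 0, 0, 1, 2, 0, 0, 0, 1, 2], [0, 1, 2, 0, 0, 0, 0, 1, 1, 0, 0, 0, 2, 2], [0, 0, 1, 1, 0, 0, 0, 2, 1, 0, 0, 0, 0, 1], [1, 2, 0, 2, 2, 0, 1, 0, 2, 1, 2, 2, 2, 1], [0, 2, 2, 2, 1, 1, 2, 1, 1, 1, 0, 1, 0, 2], [0, 2, 1, 2, 2, 2, 0, 2, 2, 2, 2, 1, 2, 0], [0, 0, 2, 2, 0, 0, 0, 0, 2, 0, 0, 0, 2, 1], [0, 2, 0, 1, 0, 0, 0, 1, 1, 0, 0, 0, 1, 2], [2, 0, 1, 1, 0, 1, 1, 2, 0, 1, 1, 2, 2, 0], [1, 2, 1, 0, 1, 1, 1, 2, 0, 0, 1, 1, 2, 2], [1, 2, 2, 2, 2, 1, 0, 1, 0, 0, 0, 1, 1, 2], [0, 1, 1, 1, 0, 0, 0, 1, 0,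 0, 0, 0, 1, 1], [0, 1, 2, 1, 0, 0, 0, 0, 0, 0, 0, 0, 0, 1]]
  | ⟨4, _⟩ => [[0, 0, 1, 2, 2, 1, 1, 1, 0, 0, 1, 0, 1, 0], [0, 0, 2, 1, 0, 0, 0, 1, 0, 0, 0, 0, 1, 0], [0, 1, 1, 2, 0, 0, 0, 2, 2, 0, 0, 0, 0, 1], [0, 2, 0, 1, 0, 0, 0, 2, 0, 0, 0, 0, 2, 0], [1, 1, 0, 0, 1, 2, 2, 1, 2, 2, 0, 1, 0, 1], [2, 1, 1, 2, 0, 1, 2, 0, 0, 0, 2, 0, 0, 0], [2, 1, 0, 1, 0, 0, 1, 2, 2, 2, 0, 2, 0, 1], [0, 2, 0, 0, 0, 0, 0, 1, 2, 0, 0, 0, 0, 2], [0, 2, 0, 1, 0, 0, 0, 2, 1, 0, 0, 0, 0, 2], [2, 2, 2, 1, 0, 1, 2, 2, 2, 1, 0, 2, 0, 2], [2, 1, 0, 1, 1, 2, 1, 0, 0, 0, 1, 0, 0, 0], [2, 1, 2, 1, 2, 0, 2, 2, 1, 2, 0, 2, 0, 1], [0, 2, 1, 2, 0, 0, 0, 1, 0, 0,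 0, 0, 1, 0], [0, 2, 2, 0, 0, 0, 0, 2, 2, 0, 0, 0, 0, 2]]
  | ⟨5, _⟩ => [[0, 1, 0, 1, 2, 0, 0, 2, 1, 1, 1, 2, 2, 1], [0, 0, 2, 0, 0, 0, 0, 0, 1, 0, 0, 0, 1, 2], [0, 1, 1, 1, 0, 0, 0, 2, 1, 0, 0, 0, 1, 2], [0, 1, 2, 0, 0, 0, 0, 2, 1, 0, 0, 0, 2, 0], [1, 2, 2, 1, 1, 1, 2, 1, 2, 1, 1, 2, 0, 0], [1, 2, 0, 2, 2, 0, 2, 0, 1, 1, 2, 0, 2, 1], [1, 0, 1, 1, 2, 1, 1, 2, 2, 2, 0, 0, 1, 0], [0, 1, 2, 1, 0, 0, 0, 1, 2, 0, 0, 0, 0, 0], [0, 2, 2, 2, 0, 0, 0, 0, 2, 0, 0, 0, 1, 0], [2, 2, 1, 0, 2, 2, 0, 2, 0, 2, 1, 0, 2, 1], [0, 0, 1, 1, 0, 2, 2, 2, 2, 1, 2, 1, 2, 0], [2, 0, 1, 1, 1, 1, 1, 2, 2, 0, 1, 1, 2, 1], [0, 0, 0, 2, 0, 0, 0, 2, 1, 0, 0,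 0, 2, 1], [0, 2, 1, 1, 0, 0, 0, 1, 0, 0, 0, 0, 1, 1]]
  | ⟨6, _⟩ => [[2, 2, 1, 2, 2, 1, 1, 1, 1, 1, 1, 2, 2, 1], [0, 2, 2, 1, 0, 0, 0, 1, 1, 0, 0, 0, 1, 2], [0, 0, 2, 2, 0, 0, 0, 0, 1, 0, 0, 0, 1, 2], [0, 1, 1, 2, 0, 0, 0, 1, 1, 0, 0, 0, 2, 0], [0, 2, 2, 1, 2, 2, 0, 1, 2, 1, 1, 2, 0, 0], [1, 0, 0, 2, 1, 2, 1, 2, 1, 1, 2, 0, 2, 1], [1, 0, 2, 1, 0, 2, 1, 0, 2, 2, 0, 0, 1, 0], [0, 1, 0, 2, 0, 0, 0, 1, 2, 0, 0, 0, 0, 0], [0, 2, 0, 0, 0, 0, 0, 1, 2, 0, 0, 0, 1, 0], [2, 0, 0, 2, 0, 0, 1, 1, 0, 2, 1, 0, 2, 1], [1, 0, 1, 2, 0, 2, 1, 1, 2, 1, 2, 1, 2, 0], [0, 1, 0, 0, 1, 2, 2, 1, 2, 0, 1, 1, 2, 1], [0, 1, 0, 2, 0, 0, 0, 1, 1, 0, 0, 0,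 2, 1], [0, 0, 1, 2, 0, 0, 0, 2, 0, 0, 0, 0, 1, 1]]
  | ⟨7, _⟩ => [[2, 0, 0, 0, 1, 0, 0, 0, 1, 2, 2, 0, 2, 1], [0, 2, 1, 0, 0, 0, 0, 0, 2, 0, 0, 0, 2, 0], [0, 1, 1, 0, 0, 0, 0, 2, 2, 0, 0, 0, 2, 1], [0, 0, 2, 1, 0, 0, 0, 1, 2, 0, 0, 0, 0, 2], [1, 2, 0, 2, 1, 0, 2, 0, 1, 2, 2, 1, 2, 2], [0, 0, 2, 2, 2, 1, 1, 1, 1, 2, 0, 2, 2, 2], [0, 2, 1, 0, 1, 2, 0, 2, 0, 1, 2, 2, 2, 2], [0, 0, 1, 2, 0, 0, 0, 0, 1, 0, 0, 0, 2, 2], [0, 2, 2, 2, 0, 0, 0, 0, 1, 0, 0, 0, 1, 0], [2, 1, 2, 0, 2, 2, 0, 1, 0, 1, 1, 0, 0, 0], [2, 2, 2, 1, 2, 2, 1, 1, 2, 1, 1, 1, 2, 2], [0, 2, 0, 2, 2, 0, 1, 0, 1, 1, 0, 1, 1, 1], [0, 2, 2, 2, 0, 0, 0, 1, 1, 0, 0, 0, 1,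 1], [0, 0, 2, 0, 0, 0, 0, 1, 1, 0, 0, 0, 0, 1]]
  | ⟨8, _⟩ => [[1, 0, 0, 2, 1, 2, 2, 0, 1, 1, 1, 2, 2, 1], [0, 1, 1, 2, 0, 0, 0, 2, 1, 0, 0, 0, 1, 2], [0, 1, 1, 0, 0, 0, 0, 2, 2, 0, 0, 0, 2, 1], [0, 1, 0, 1, 0, 0, 0, 0, 1, 0, 0, 0, 2, 0], [1, 1, 1, 0, 1, 0, 2, 2, 1, 2, 2, 1, 0, 0], [1, 1, 2, 0, 0, 1, 0, 1, 1, 1, 2, 0, 2, 1], [2, 0, 1, 2, 2, 0, 2, 2, 1, 1, 0, 0, 2, 0], [0, 2, 2, 0, 0, 0, 0, 2, 1, 0, 0, 0, 0, 0], [0, 1, 2, 2, 0, 0, 0, 1, 1, 0, 0, 0, 2, 0], [1, 2, 1, 0, 2, 2, 1, 0, 0, 1, 2, 0, 1, 2], [2, 0, 0, 1, 1, 2, 0, 0, 2, 1, 2, 1, 2, 0], [2, 1, 2, 2, 1, 0, 0, 0, 1, 0, 2, 2, 1, 2], [0, 2, 1, 2, 0, 0, 0, 0, 1, 0, 0, 0, 2, 1],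 [0, 2, 1, 0, 0, 0, 0, 0, 0, 0, 0, 0, 2, 2]]
  | ⟨9, _⟩ => [[0, 2, 2, 1, 1, 2, 1, 0, 1, 2, 0, 2, 1, 2], [0, 0, 1, 2, 0, 0, 0, 1, 2, 0, 0, 0, 0, 2], [0, 2, 1, 1, 0, 0, 0, 2, 2, 0, 0, 0, 0, 1], [0, 0, 2, 0, 0, 0, 0, 2, 1, 0, 0, 0, 2, 2], [2, 1, 2, 1, 1, 1, 2, 1, 0, 2, 0, 1, 1, 0], [0, 1, 1, 0, 2, 0, 2, 2, 2, 1, 2, 2, 1, 1], [0, 1, 0, 1, 2, 1, 1, 1, 1, 0, 1, 1, 1, 2], [0, 0, 2, 1, 0, 0, 0, 1, 0, 0, 0, 0, 1, 1], [0, 1, 1, 2, 0, 0, 0, 2, 2, 0, 0, 0, 2, 0], [1, 0, 0, 1, 1, 2, 2, 0, 1, 2, 2, 0, 2, 2], [2, 1, 1, 1, 2, 2, 0, 0, 1, 2, 2, 2, 0, 2], [2, 1, 1, 2, 2, 0, 0, 0, 2, 0, 2, 1, 1, 1], [0, 2, 2, 2, 0, 0, 0, 0, 2, 0, 0, 0, 2, 2], [0,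 2, 2, 0, 0, 0, 0, 0, 0, 0, 0, 0, 2, 1]]
  | ⟨10, _⟩ => [[2, 2, 0, 2, 1, 0, 0, 1, 0, 2, 1, 0, 1, 0], [0, 2, 1, 0, 0, 0, 0, 0, 2, 0, 0, 0, 1, 0], [0, 1, 1, 1, 0, 0, 0, 1, 2, 0, 0, 0, 1, 2], [0, 0, 0, 1, 0, 0, 0, 1, 1, 0, 0, 0, 2, 0], [1, 2, 1, 1, 1, 1, 1, 2, 1, 2, 1, 2, 1, 2], [0, 1, 2, 2, 0, 1, 1, 1, 2, 1, 2, 0, 0, 0], [0, 1, 1, 0, 2, 2, 0, 2, 0, 0, 2, 1, 1, 2], [0, 0, 2, 2, 0, 0, 0, 0, 0, 0, 0, 0, 2, 1], [0, 2, 2, 1, 0, 0, 0, 1, 1, 0, 0, 0, 2, 1], [2, 2, 1, 1, 2, 1, 1, 2, 1, 1, 2, 1, 2, 1], [1, 1, 0, 1, 1, 0, 1, 0, 1, 2, 1, 0, 0, 0], [0, 0, 2, 1, 1, 1, 2, 1, 1, 0, 2, 1, 1, 2], [0, 1, 1, 0, 0, 0, 0, 1, 2, 0, 0, 0, 1, 0], [0, 0,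 1, 1, 0, 0, 0, 2, 0, 0, 0, 0, 2, 1]]
  | ⟨11, _⟩ => [[0, 0, 0, 1, 1, 1, 2, 0, 2, 2, 1, 2, 1, 2], [0, 0, 1, 1, 0, 0, 0, 2, 2, 0, 0, 0, 1, 2], [0, 2, 1, 0, 0, 0, 0, 0, 0, 0, 0, 0, 2, 2], [0, 2, 1, 1, 0, 0, 0, 0, 2, 0, 0, 0, 2, 0], [2, 1, 2, 1, 1, 0, 0, 0, 2, 0, 2, 2, 1, 1], [2, 0, 0, 2, 1, 1, 0, 0, 1, 2, 2, 0, 1, 1], [1, 2, 1, 0, 2, 1, 1, 0, 0, 2, 2, 2, 0, 2], [0, 1, 2, 1, 0, 0, 0, 1, 2, 0, 0, 0, 2, 2], [0, 0, 2, 0, 0, 0, 0, 2, 1, 0, 0, 0, 0, 2], [0, 1, 1, 1, 2, 0, 2, 2, 2, 1, 0, 2, 2, 2], [2, 1, 2, 0, 0, 2, 0, 1, 1, 0, 1, 0, 0, 1], [0, 0, 1, 0, 1, 0, 2, 2, 1, 2, 0, 2, 0, 1], [0, 2, 0, 2, 0, 0, 0, 0, 0, 0, 0, 0, 1, 0], [0, 0, 1,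 0, 0, 0, 0, 2, 2, 0, 0, 0, 0, 2]]
  | ⟨12, _⟩ => [[2, 1, 2, 0, 0, 2, 2, 0, 0, 1, 2, 0, 0, 1], [0, 2, 0, 2, 0, 0, 0, 2, 1, 0, 0, 0, 2, 0], [0, 1, 2, 1, 0, 0, 0, 0, 0, 0, 0, 0, 0, 1], [0, 2, 2, 2, 0, 0, 0, 2, 0, 0, 0, 0, 2, 2], [1, 2, 2, 2, 2, 1, 0, 1, 0, 0, 0, 1, 1, 2], [2, 2, 1, 1, 2, 2, 2, 1, 0, 0, 2, 2, 1, 2], [2, 2, 0, 0, 0, 1, 1, 1, 0, 1, 1, 2, 1, 2], [0, 2, 0, 1, 0, 0, 0, 1, 1, 0, 0, 0, 1, 2], [0, 2, 1, 1, 0, 0, 0, 2, 2, 0, 0, 0, 1, 0], [2, 2, 1, 1, 1, 1, 2, 0, 2, 2, 1, 0, 0, 0], [2, 2, 1, 1, 1, 2, 0, 0, 2, 1, 2, 1, 1, 2], [1, 2, 1, 1, 2, 0, 0, 0, 2, 0, 1, 1, 2, 1], [0, 2, 1, 2, 0, 0, 0, 0, 1, 0, 0, 0, 2, 1], [0, 1, 2, 0,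 0, 0, 0, 0, 0, 0, 0, 0, 1, 1]]
  | ⟨13, _⟩ => [[1, 1, 2, 2, 2, 2, 2, 2, 1, 0, 2, 1, 0, 1], [0, 1, 2, 2, 0, 0, 0, 2, 0, 0, 0, 0, 2, 1], [0, 1, 1, 2, 0, 0, 0, 0, 1, 0, 0, 0, 2, 1], [0, 1, 0, 1, 0, 0, 0, 2, 2, 0, 0, 0, 1, 1], [1, 2, 2, 1, 1, 2, 0, 1, 2, 1, 2, 1, 2, 0], [1, 2, 1, 2, 0, 1, 2, 1, 1, 2, 1, 1, 2, 2], [0, 1, 1, 0, 1, 2, 1, 0, 0, 0, 1, 1, 0, 2], [0, 0, 1, 2, 0, 0, 0, 1, 0, 0, 0, 0, 1, 1], [0, 2, 1, 0, 0, 0, 0, 2, 1, 0, 0, 0, 1, 0], [2, 0, 1, 2, 1, 0, 2, 1, 2, 1, 1, 0, 2, 2], [1, 1, 1, 0, 0, 2, 0, 1, 1, 1, 1, 1, 2, 1], [2, 1, 2, 0, 1, 0, 1, 2, 1, 1, 0, 1, 1, 1], [0, 1, 0, 2, 0, 0, 0, 0, 1, 0, 0, 0, 1, 1], [0, 2, 1, 0, 0,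 0, 0, 1, 1, 0, 0, 0, 0, 1]]
  | ⟨14, _⟩ => [[2, 1, 2, 1, 1, 2, 2, 2, 2, 1, 0, 1, 1, 1], [0, 2, 1, 2, 0, 0, 0, 2, 1, 0, 0, 0, 0, 1], [0, 0, 1, 0, 0, 0, 0, 1, 1, 0, 0, 0, 0, 2], [0, 2, 2, 1, 0, 0, 0, 2, 2, 0, 0, 0, 2, 1], [0, 1, 1, 2, 1, 0, 1, 1, 0, 1, 0, 2, 1, 0], [2, 2, 0, 2, 2, 1, 2, 0, 1, 2, 2, 1, 1, 2], [1, 0, 1, 2, 0, 2, 1, 1, 2, 0, 1, 2, 1, 1], [0, 1, 0, 2, 0, 0, 0, 1, 0, 0, 0, 0, 1, 2], [0, 1, 0, 0, 0, 0, 0, 2, 1, 0, 0, 0, 2, 0], [1, 2, 0, 2, 0, 0, 2, 1, 2, 1, 2, 0, 2, 1], [1, 0, 2, 1, 0, 2, 1, 0, 2, 1, 2, 1, 0, 1], [0, 2, 0, 0, 2, 1, 1, 2, 1, 0, 2, 2, 1, 2], [0, 1, 0, 2, 0, 0, 0, 1, 1, 0, 0, 0, 2, 1], [0, 0, 2, 1, 0, 0,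 0, 1, 0, 0, 0, 0, 2, 2]]
  | ⟨15, _⟩ => [[1, 1, 2, 0, 2, 1, 0, 2, 1, 2, 0, 0, 1, 2], [0, 1, 2, 1, 0, 0, 0, 0, 2, 0, 0, 0, 0, 0], [0, 2, 1, 2, 0, 0, 0, 1, 2, 0, 0, 0, 2, 2], [0, 1, 2, 2, 0, 0, 0, 1, 0, 0, 0, 0, 0, 1], [2, 2, 0, 2, 1, 2, 1, 2, 0, 2, 2, 2, 1, 0], [1, 2, 1, 1, 2, 2, 1, 2, 0, 0, 0, 1, 1, 0], [1, 0, 2, 0, 1, 1, 0, 0, 0, 2, 0, 2, 2, 0], [0, 1, 1, 1, 0, 0, 0, 0, 2, 0, 0, 0, 0, 2], [0, 2, 0, 1, 0, 0, 0, 1, 0, 0, 0, 0, 2, 2], [2, 2, 2, 2, 0, 1, 1, 2, 0, 0, 2, 2, 1, 0], [1, 1, 2, 1, 2, 2, 2, 2, 0, 2, 1, 1, 2, 0], [0, 2, 1, 1, 1, 0, 1, 1, 0, 1, 0, 2, 2, 0], [0, 1, 2, 2, 0, 0, 0, 2, 2, 0, 0, 0, 1, 1], [0, 0, 1, 0, 0, 0, 0,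 1, 1, 0, 0, 0, 0, 2]]
  | ⟨16, _⟩ => [[1, 0, 2, 1, 2, 0, 2, 1, 2, 1, 2, 2, 1, 0], [0, 1, 2, 0, 0, 0, 0, 2, 1, 0, 0, 0, 2, 2], [0, 1, 1, 2, 0, 0, 0, 0, 1, 0, 0, 0, 2, 1], [0, 0, 2, 2, 0, 0, 0, 2, 1, 0, 0, 0, 2, 0], [1, 0, 1, 1, 1, 2, 0, 2, 2, 1, 2, 1, 2, 1], [0, 2, 2, 0, 2, 2, 2, 1, 0, 1, 2, 0, 2, 1], [1, 1, 2, 2, 0, 2, 2, 1, 1, 0, 1, 2, 1, 1], [0, 1, 0, 2, 0, 0, 0, 2, 0, 0, 0, 0, 1, 2], [0, 2, 1, 1, 0, 0, 0, 0, 0, 0, 0, 0, 0, 2], [2, 2, 2, 1, 1, 1, 0, 1, 0, 0, 0, 2, 2, 1], [1, 0, 1, 1, 2, 2, 1, 2, 1, 0, 2, 2, 2, 0], [1, 1, 0, 1, 1, 0, 2, 0, 0, 2, 2, 1, 0, 2], [0, 1, 2, 2, 0, 0, 0, 1, 0, 0, 0, 0, 2, 2], [0, 1, 1, 0, 0, 0, 0, 2,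 2, 0, 0, 0, 2, 1]]
  | ⟨17, _⟩ => [[2, 1, 1, 2, 0, 1, 0, 0, 1, 2, 0, 1, 0, 2], [0, 2, 0, 1, 0, 0, 0, 0, 2, 0, 0, 0, 0, 1], [0, 1, 2, 1, 0, 0, 0, 1, 2, 0, 0, 0, 1, 1], [0, 0, 2, 2, 0, 0, 0, 0, 0, 0, 0, 0, 1, 2], [1, 0, 1, 0, 2, 1, 1, 0, 0, 2, 1, 1, 0, 2], [0, 1, 2, 0, 2, 2, 0, 2, 0, 0, 1, 2, 2, 1], [2, 0, 1, 0, 1, 0, 0, 0, 0, 0, 0, 2, 2, 0], [0, 2, 1, 0, 0, 0, 0, 0, 0, 0, 0, 0, 0, 2], [0, 0, 0, 1, 0, 0, 0, 0, 0, 0, 0, 0, 0, 1], [0, 0, 0, 0, 0, 1, 0, 2, 0, 0, 0, 1, 2, 0], [2, 0, 2, 0, 1, 0, 2, 0, 0, 0, 2, 2, 1, 1], [0, 1, 2, 0, 2, 2, 0, 0, 0, 1, 1, 2, 0, 1], [0, 2, 1, 0, 0, 0, 0, 2, 0, 0, 0, 0, 2, 2], [0, 0, 2, 2, 0, 0, 0, 0, 1,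 0, 0, 0, 1, 2]]
  | ⟨18, _⟩ => [[1, 1, 2, 1, 2, 1, 2, 2, 2, 1, 1, 0, 1, 2], [0, 1, 2, 1, 0, 0, 0, 2, 1, 0, 0, 0, 1, 0], [0, 1, 2, 0, 0, 0, 0, 2, 2, 0, 0, 0, 0, 2], [0, 2, 0, 1, 0, 0, 0, 0, 2, 0, 0, 0, 2, 2], [1, 2, 1, 0, 2, 0, 2, 1, 2, 2, 0, 2, 2, 2], [2, 0, 1, 0, 0, 1, 0, 1, 1, 2, 2, 2, 1, 1], [1, 2, 2, 2, 2, 0, 1, 2, 0, 2, 2, 0, 0, 0], [0, 1, 2, 0, 0, 0, 0, 1, 2, 0, 0, 0, 2, 0], [0, 2, 2, 2, 0, 0, 0, 2, 2, 0, 0, 0, 1, 1], [2, 0, 2, 0, 2, 2, 2, 0, 0, 2, 1, 1, 1, 1], [2, 2, 1, 1, 0, 2, 2, 1, 2, 1, 0, 1, 1, 1], [0, 0, 1, 1, 2, 2, 0, 2, 2, 1, 1, 2, 1, 1], [0, 2, 0, 2, 0, 0, 0, 2, 1, 0, 0, 0, 0, 1], [0, 0, 2, 2, 0, 0, 0, 0, 1, 0,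 0, 0, 1, 2]]
  | ⟨19, _⟩ => [[1, 2, 0, 2, 2, 0, 0, 2, 2, 1, 0, 0, 1, 1], [0, 1, 2, 0, 0, 0, 0, 0, 1, 0, 0, 0, 0, 0], [0, 0, 2, 1, 0, 0, 0, 2, 2, 0, 0, 0, 1, 2], [0, 0, 0, 1, 0, 0, 0, 2, 0, 0, 0, 0, 0, 2], [0, 1, 2, 1, 2, 1, 2, 1, 0, 2, 1, 2, 2, 0], [0, 2, 1, 2, 0, 1, 2, 2, 0, 0, 0, 2, 1, 0], [1, 0, 2, 0, 1, 2, 0, 1, 0, 2, 0, 2, 1, 0], [0, 1, 1, 2, 0, 0, 0, 0, 2, 0, 0, 0, 0, 2], [0, 0, 1, 1, 0, 0, 0, 2, 0, 0, 0, 0, 1, 2], [0, 1, 2, 1, 1, 1, 2, 1, 0, 0, 1, 2, 2, 0], [0, 1, 0, 1, 2, 0, 2, 0, 0, 1, 1, 2, 2, 0], [2, 1, 1, 1, 2, 1, 1, 2, 0, 1, 0, 2, 1, 0], [0, 0, 2, 0, 0, 0, 0, 2, 1, 0, 0, 0, 1, 2], [0, 2, 2, 1, 0, 0, 0, 1, 1, 0, 0,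 0, 0, 2]]
  | ⟨20, _⟩ => [[0, 0, 2, 0, 2, 0, 1, 2, 0, 1, 0, 0, 0, 1], [0, 0, 2, 0, 0, 0, 0, 1, 1, 0, 0, 0, 0, 0], [0, 2, 1, 1, 0, 0, 0, 0, 1, 0, 0, 0, 1, 1], [0, 1, 0, 1, 0, 0, 0, 1, 1, 0, 0, 0, 1, 2], [2, 1, 2, 2, 1, 1, 0, 1, 2, 1, 1, 1, 1, 0], [1, 0, 1, 1, 0, 1, 1, 2, 1, 1, 1, 2, 1, 0], [0, 1, 1, 2, 1, 1, 1, 2, 2, 0, 2, 1, 2, 0], [0, 0, 1, 1, 0, 0, 0, 1, 0, 0, 0, 0, 2, 1], [0, 0, 1, 2, 0, 0, 0, 1, 0, 0, 0, 0, 1, 1], [0, 2, 1, 1, 1, 2, 1, 2, 2, 0, 1, 1, 1, 0], [2, 0, 1, 2, 0, 2, 1, 2, 1, 1, 2, 2, 2, 0], [1, 2, 2, 1, 1, 2, 0, 1, 2, 1, 2, 1, 2, 0], [0, 2, 0, 2, 0, 0, 0, 1, 1, 0, 0, 0, 2, 2], [0, 1, 1, 2, 0, 0, 0, 0, 1, 0, 0, 0,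 2, 1]]
  | ⟨21, _⟩ => [[1, 2, 1, 0, 2, 0, 1, 2, 0, 0, 2, 0, 1, 2], [0, 1, 2, 0, 0, 0, 0, 1, 0, 0, 0, 0, 2, 0], [0, 2, 2, 2, 0, 0, 0, 1, 2, 0, 0, 0, 2, 1], [0, 0, 1, 2, 0, 0, 0, 0, 0, 0, 0, 0, 1, 1], [2, 0, 1, 0, 2, 2, 1, 0, 0, 2, 2, 1, 0, 2], [0, 2, 2, 1, 1, 2, 0, 0, 1, 0, 1, 1, 0, 1], [1, 0, 0, 1, 1, 0, 0, 0, 0, 0, 0, 2, 0, 2], [0, 1, 1, 0, 0, 0, 0, 0, 0, 0, 0, 0, 0, 2], [0, 0, 2, 0, 0, 0, 0, 0, 0, 0, 0, 0, 2, 0], [0, 0, 0, 1, 2, 0, 0, 0, 1, 0, 2, 0, 0, 0], [1, 0, 2, 2, 1, 1, 0, 0, 0, 1, 0, 2, 0, 1], [0, 2, 2, 0, 1, 2, 2, 0, 0, 0, 1, 1, 0, 1], [0, 1, 1, 1, 0, 0, 0, 0, 1, 0, 0, 0, 0, 2], [0, 0, 1, 2, 0, 0, 0, 2, 0, 0, 0, 0, 1,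 1]]
  | ⟨22, _⟩ => [[2, 1, 1, 1, 1, 0, 1, 2, 2, 2, 2, 1, 1, 2], [0, 2, 1, 0, 0, 0, 0, 1, 2, 0, 0, 0, 2, 1], [0, 0, 2, 2, 0, 0, 0, 0, 1, 0, 0, 0, 1, 2], [0, 1, 1, 2, 0, 0, 0, 1, 1, 0, 0, 0, 2, 0], [0, 2, 2, 1, 2, 2, 0, 1, 2, 1, 1, 2, 0, 0], [1, 0, 1, 0, 1, 2, 1, 2, 0, 1, 2, 0, 1, 2], [1, 2, 1, 2, 0, 2, 1, 2, 1, 2, 0, 0, 2, 0], [0, 1, 0, 2, 0, 0, 0, 1, 2, 0, 0, 0, 0, 0], [0, 1, 2, 1, 0, 0, 0, 0, 1, 0, 0, 0, 2, 0], [1, 0, 1, 1, 2, 1, 0, 2, 1, 1, 2, 0, 2, 1], [2, 2, 2, 1, 1, 2, 2, 1, 0, 2, 1, 2, 2, 0], [0, 1, 0, 1, 2, 0, 1, 0, 1, 1, 0, 1, 2, 1], [0, 2, 1, 2, 0, 0, 0, 2, 2, 0, 0, 0, 1, 2], [0, 0, 2, 0, 0, 0, 0, 1, 1, 0, 0, 0, 0, 1]]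
  | ⟨23, _⟩ => [[2, 2, 2, 0, 2, 0, 1, 2, 0, 1, 1, 1, 2, 2], [0, 2, 2, 0, 0, 0, 0, 1, 1, 0, 0, 0, 1, 1], [0, 0, 1, 1, 0, 0, 0, 0, 2, 0, 0, 0, 2, 1], [0, 1, 0, 1, 0, 0, 0, 1, 2, 0, 0, 0, 0, 2], [0, 0, 2, 2, 1, 1, 0, 1, 1, 2, 2, 1, 2, 2], [1, 1, 1, 1, 0, 1, 1, 2, 2, 2, 0, 2, 0, 1], [1, 2, 1, 2, 1, 1, 1, 2, 1, 1, 2, 2, 2, 0], [0, 1, 1, 1, 0, 0, 0, 1, 1, 0, 0, 0, 2, 2], [0, 1, 1, 2, 0, 0, 0, 1, 2, 0, 0, 0, 1, 1], [1, 0, 1, 1, 1, 2, 1, 2, 0, 2, 1, 1, 2, 0], [2, 1, 1, 2, 0, 2, 1, 2, 0, 0, 1, 2, 2, 1], [2, 1, 2, 1, 1, 2, 0, 1, 0, 0, 0, 2, 1, 1], [0, 2, 0, 2, 0, 0, 0, 1, 0, 0, 0, 0, 1, 2], [0, 2, 1, 2, 0, 0, 0, 0, 0, 0, 0, 0, 0, 2]]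
  | ⟨24, _⟩ => [[2, 0, 1, 0, 0, 2, 1, 0, 0, 0, 0, 0, 0, 0], [0, 2, 0, 2, 0, 0, 0, 1, 0, 0, 0, 0, 0, 0], [0, 0, 1, 1, 0, 0, 0, 0, 2, 0, 0, 0, 2, 1], [0, 1, 1, 2, 0, 0, 0, 1, 1, 0, 0, 0, 2, 0], [0, 1, 1, 2, 1, 1, 0, 2, 1, 2, 2, 1, 0, 0], [1, 0, 2, 1, 1, 2, 1, 2, 2, 1, 2, 0, 0, 0], [2, 2, 0, 0, 0, 1, 2, 2, 0, 1, 0, 0, 0, 0], [0, 2, 0, 1, 0, 0, 0, 2, 1, 0, 0, 0, 0, 0], [0, 0, 2, 1, 0, 0, 0, 1, 0, 0, 0, 0, 0, 0], [0, 0, 2, 1, 2, 1, 1, 0, 0, 0, 0, 0, 0, 0], [0, 0, 2, 1, 2, 2, 0, 0, 0, 0, 0, 0, 0, 0], [0, 0, 2, 1, 1, 0, 0, 0, 0, 0, 0, 0, 0, 0], [0, 0, 2, 2, 0, 0, 0, 0, 0, 0, 0, 0, 0, 0], [0, 0, 1, 0, 0, 0, 0, 0, 0, 0, 0, 0, 0, 0]]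
  | ⟨25, _⟩ => [[2, 0, 1, 2, 0, 1, 0, 0, 2, 1, 0, 0, 2, 1], [0, 2, 0, 1, 0, 0, 0, 0, 1, 0, 0, 0, 0, 0], [0, 1, 1, 2, 0, 0, 0, 2, 2, 0, 0, 0, 0, 1], [0, 1, 2, 2, 0, 0, 0, 0, 1, 0, 0, 0, 2, 2], [1, 1, 2, 0, 1, 2, 2, 0, 0, 2, 0, 1, 1, 0], [1, 2, 2, 0, 2, 2, 0, 2, 0, 1, 2, 2, 1, 0], [2, 1, 2, 0, 2, 0, 0, 0, 0, 0, 1, 1, 2, 0], [0, 2, 2, 0, 0, 0, 0, 0, 0, 0, 0, 0, 1, 1], [0, 0, 0, 2, 0, 0, 0, 0, 1, 0, 0, 0, 0, 1], [0, 0, 0, 0, 0, 2, 0, 1, 0, 1, 0, 1, 1, 0], [1, 1, 2, 0, 1, 0, 2, 0, 0, 0, 0, 2, 2, 0], [2, 1, 1, 0, 1, 1, 0, 0, 0, 1, 1, 1, 2, 0], [0, 1, 1, 0, 0, 0, 0, 2, 0, 0, 0, 0, 0, 2], [0, 2, 1, 1, 0, 0, 0, 0, 1, 0, 0, 0, 1, 1]]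
  | ⟨26, _⟩ => [[1, 0, 2, 1, 2, 0, 2, 1, 2, 1, 2, 2, 1, 0], [0, 1, 2, 0, 0, 0, 0, 2, 1, 0, 0, 0, 2, 2], [0, 2, 2, 1, 0, 0, 0, 0, 2, 0, 0, 0, 1, 2], [0, 0, 2, 2, 0, 0, 0, 2, 1, 0, 0, 0, 2, 0], [2, 0, 2, 2, 2, 1, 0, 1, 1, 2, 1, 2, 1, 2], [0, 2, 2, 0, 2, 2, 2, 1, 0, 1, 2, 0, 2, 1], [2, 2, 1, 1, 0, 1, 1, 2, 2, 0, 2, 1, 2, 2], [0, 2, 0, 1, 0, 0, 0, 1, 0, 0, 0, 0, 2, 1], [0, 1, 2, 2, 0, 0, 0, 0, 0, 0, 0, 0, 0, 1], [1, 1, 1, 2, 2, 2, 0, 2, 0, 0, 0, 1, 1, 2], [1, 0, 1, 1, 2, 2, 1, 2, 1, 0, 2, 2, 2, 0], [2, 2, 0, 2, 2, 0, 1, 0, 0, 1, 1, 2, 0, 1], [0, 1, 2, 2, 0, 0, 0, 1, 0, 0, 0, 0, 2, 2], [0, 2, 2, 0, 0, 0, 0, 1, 1, 0, 0, 0, 1, 2]]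
  | ⟨27, _⟩ => [[1, 1, 1, 1, 2, 2, 2, 0, 1, 2, 0, 1, 0, 1], [0, 1, 2, 2, 0, 0, 0, 2, 2, 0, 0, 0, 0, 1], [0, 0, 2, 1, 0, 0, 0, 1, 0, 0, 0, 0, 2, 2], [0, 2, 1, 0, 0, 0, 0, 1, 2, 0, 0, 0, 2, 0], [0, 0, 1, 1, 2, 1, 1, 2, 2, 0, 2, 2, 1, 1], [2, 2, 2, 0, 1, 0, 1, 1, 1, 2, 2, 0, 2, 2], [2, 1, 0, 1, 1, 1, 2, 2, 1, 2, 2, 2, 1, 2], [0, 2, 1, 1, 0, 0, 0, 2, 2, 0, 0, 0, 2, 2], [0, 2, 2, 2, 0, 0, 0, 1, 2, 0, 0, 0, 1, 2], [2, 0, 0, 1, 2, 2, 1, 0, 1, 2, 1, 2, 2, 2], [1, 2, 2, 1, 1, 2, 0, 0, 1, 2, 1, 0, 1, 2], [1, 2, 2, 2, 1, 0, 0, 0, 2, 0, 1, 2, 2, 1], [0, 1, 1, 2, 0, 0, 0, 0, 2, 0, 0, 0, 1, 0], [0, 1, 1, 0, 0, 0, 0, 0, 0, 0, 0, 0, 1, 2]]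
  | ⟨28, _⟩ => [[0, 0, 0, 2, 0, 2, 0, 0, 0, 0, 2, 0, 2, 0], [0, 0, 0, 2, 0, 0, 0, 0, 0, 0, 0, 0, 2, 0], [0, 0, 1, 0, 0, 0, 0, 2, 2, 0, 0, 0, 0, 2], [0, 1, 0, 1, 0, 0, 0, 0, 0, 0, 0, 0, 2, 0], [0, 0, 1, 0, 1, 0, 2, 2, 1, 2, 0, 2, 0, 1], [1, 2, 0, 0, 0, 1, 0, 0, 0, 0, 2, 0, 0, 0], [0, 0, 1, 0, 2, 0, 2, 2, 2, 1, 0, 2, 0, 2], [0, 0, 2, 0, 0, 0, 0, 2, 1, 0, 0, 0, 0, 2], [0, 0, 2, 0, 0, 0, 0, 1, 2, 0, 0, 0, 0, 2], [0, 0, 2, 0, 2, 0, 1, 2, 2, 2, 0, 2, 0, 1], [1, 2, 0, 0, 0, 2, 0, 0, 0, 0, 1, 0, 0, 0], [0, 0, 1, 0, 2, 0, 2, 1, 2, 2, 0, 1, 0, 1], [0, 1, 0, 2, 0, 0, 0, 0, 0, 0, 0, 0, 1, 0], [0, 0, 2, 0, 0, 0, 0, 2, 2, 0, 0, 0, 0, 1]]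
  | ⟨29, _⟩ => [[0, 2, 1, 0, 0, 0, 1, 0, 2, 1, 1, 2, 0, 0], [0, 0, 0, 0, 0, 0, 0, 1, 1, 0, 0, 0, 1, 2], [0, 0, 1, 2, 0, 0, 0, 1, 1, 0, 0, 0, 2, 1], [0, 0, 2, 2, 0, 0, 0, 1, 2, 0, 0, 0, 1, 1], [0, 2, 0, 2, 1, 2, 1, 2, 2, 1, 2, 1, 2, 0], [0, 0, 0, 2, 2, 2, 1, 1, 0, 2, 1, 1, 0, 1], [2, 2, 0, 1, 1, 1, 0, 2, 1, 0, 1, 1, 2, 1], [0, 2, 1, 1, 0, 0, 0, 0, 0, 0, 0, 0, 1, 1], [0, 2, 1, 2, 0, 0, 0, 0, 2, 0, 0, 0, 0, 2], [2, 1, 0, 2, 1, 2, 0, 2, 0, 2, 0, 2, 1, 2], [2, 0, 0, 1, 2, 1, 1, 1, 1, 0, 0, 1, 1, 1], [1, 1, 0, 1, 1, 1, 1, 2, 0, 2, 1, 2, 2, 0], [0, 2, 2, 1, 0, 0, 0, 1, 0, 0, 0, 0, 0, 1], [0, 1, 1, 1, 0, 0, 0, 1, 2, 0, 0, 0, 1, 2]]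
  | ⟨30, _⟩ => [[2, 0, 0, 2, 1, 2, 2, 0, 0, 0, 0, 0, 0, 0], [0, 2, 1, 2, 0, 0, 0, 2, 0, 0, 0, 0, 0, 0], [0, 2, 1, 0, 0, 0, 0, 2, 2, 0, 0, 0, 1, 1], [0, 1, 0, 1, 0, 0, 0, 0, 2, 0, 0, 0, 2, 0], [2, 2, 1, 0, 1, 0, 2, 2, 1, 2, 1, 1, 0, 0], [1, 0, 2, 0, 0, 1, 0, 1, 1, 2, 2, 0, 0, 0], [1, 1, 1, 2, 2, 0, 2, 2, 0, 1, 0, 0, 0, 0], [0, 1, 2, 0, 0, 0, 0, 2, 1, 0, 0, 0, 0, 0], [0, 0, 2, 2, 0, 0, 0, 1, 0, 0, 0, 0, 0, 0], [0, 0, 1, 0, 2, 2, 1, 0, 0, 0, 0, 0, 0, 0], [0, 0, 0, 1, 1, 2, 0, 0, 0, 0, 0, 0, 0, 0], [0, 0, 2, 2, 1, 0, 0, 0, 0, 0, 0, 0, 0, 0], [0, 0, 1, 2, 0, 0, 0, 0, 0, 0, 0, 0, 0, 0], [0, 0, 1, 0, 0, 0, 0, 0, 0, 0, 0, 0, 0, 0]]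
  | ⟨31, _⟩ => [[1, 1, 0, 2, 0, 2, 2, 0, 2, 1, 2, 2, 0, 0], [0, 1, 0, 2, 0, 0, 0, 2, 1, 0, 0, 0, 2, 2], [0, 0, 2, 2, 0, 0, 0, 2, 2, 0, 0, 0, 2, 2], [0, 0, 0, 1, 0, 0, 0, 1, 0, 0, 0, 0, 0, 1], [0, 2, 2, 2, 2, 2, 2, 1, 0, 2, 2, 2, 1, 0], [0, 2, 0, 0, 0, 1, 1, 2, 1, 0, 0, 1, 2, 1], [2, 0, 2, 2, 1, 1, 0, 0, 0, 2, 0, 2, 2, 2], [0, 2, 1, 1, 0, 0, 0, 0, 2, 0, 0, 0, 0, 2], [0, 0, 1, 1, 0, 0, 0, 1, 0, 0, 0, 0, 2, 1], [0, 0, 1, 1, 1, 1, 1, 1, 1, 0, 2, 1, 1, 1], [2, 2, 0, 0, 0, 2, 2, 1, 0, 2, 2, 1, 0, 1], [2, 1, 2, 2, 1, 1, 0, 1, 2, 1, 1, 1, 1, 0], [0, 2, 0, 2, 0, 0, 0, 2, 2, 0, 0, 0, 2, 1], [0, 2, 1, 1, 0, 0, 0, 0, 1, 0, 0, 0, 1, 1]]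
  | ⟨32, _⟩ => [[2, 0, 0, 0, 0, 0, 0, 0, 0, 2, 2, 1, 2, 0], [0, 2, 0, 0, 0, 0, 0, 0, 2, 0, 0, 0, 2, 1], [0, 0, 0, 0, 0, 0, 0, 0, 0, 0, 0, 0, 0, 1], [0, 0, 0, 0, 0, 0, 0, 0, 0, 0, 0, 0, 2, 1], [0, 0, 0, 0, 0, 0, 0, 0, 0, 0, 0, 1, 2, 2], [0, 0, 0, 0, 0, 0, 0, 0, 0, 0, 2, 1, 1, 0], [0, 0, 0, 0, 0, 0, 0, 0, 0, 1, 2, 2, 0, 1], [0, 0, 0, 0, 0, 0, 0, 0, 1, 0, 0, 0, 2, 2], [0, 1, 0, 0, 0, 0, 0, 1, 2, 0, 0, 0, 0, 2], [1, 1, 0, 0, 0, 0, 1, 0, 2, 2, 0, 2, 2, 1], [1, 0, 0, 0, 0, 2, 2, 1, 1, 0, 1, 0, 0, 2], [2, 2, 0, 0, 1, 1, 2, 1, 2, 2, 0, 1, 0, 1], [0, 1, 0, 2, 0, 0, 0, 2, 0, 0, 0, 0, 1, 0], [0, 2, 1, 1, 0, 0, 0, 2, 2, 0, 0, 0, 0, 1]]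
  | ⟨33, _⟩ => [[1, 0, 1, 2, 1, 1, 0, 0, 2, 1, 1, 2, 2, 0], [0, 1, 1, 1, 0, 0, 0, 0, 1, 0, 0, 0, 1, 2], [0, 0, 1, 2, 0, 0, 0, 0, 2, 0, 0, 0, 1, 1], [0, 1, 1, 0, 0, 0, 0, 2, 0, 0, 0, 0, 1, 2], [0, 1, 1, 0, 1, 2, 0, 0, 0, 2, 1, 1, 0, 2], [1, 0, 1, 1, 1, 0, 2, 0, 1, 0, 1, 2, 1, 0], [0, 2, 2, 0, 0, 1, 0, 2, 0, 0, 0, 2, 1, 1], [0, 0, 0, 1, 0, 0, 0, 0, 0, 0, 0, 0, 0, 2], [0, 1, 1, 0, 0, 0, 0, 1, 0, 0, 0, 0, 2, 2], [1, 0, 2, 1, 1, 0, 1, 0, 1, 0, 2, 2, 2, 1], [0, 2, 2, 0, 1, 0, 0, 2, 0, 1, 1, 0, 1, 1], [0, 1, 0, 2, 1, 1, 1, 0, 2, 1, 1, 1, 1, 1], [0, 0, 1, 0, 0, 0, 0, 0, 1, 0, 0, 0, 1, 0], [0, 0, 1, 1, 0, 0, 0, 1, 1, 0, 0, 0, 1, 1]]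
  | ⟨34, _⟩ => [[1, 0, 0, 0, 0, 0, 0, 0, 0, 2, 1, 0, 0, 2], [0, 1, 0, 0, 0, 0, 0, 0, 2, 0, 0, 0, 1, 0], [0, 0, 2, 1, 0, 0, 0, 1, 0, 0, 0, 0, 2, 2], [0, 2, 0, 1, 0, 0, 0, 2, 2, 0, 0, 0, 1, 2], [0, 2, 0, 0, 2, 1, 1, 2, 1, 0, 2, 2, 1, 2], [2, 0, 0, 0, 0, 1, 2, 1, 1, 2, 1, 2, 2, 1], [1, 1, 0, 0, 0, 0, 2, 0, 1, 1, 2, 0, 0, 0], [0, 1, 0, 0, 0, 0, 0, 2, 1, 0, 0, 0, 2, 0], [0, 0, 0, 0, 0, 0, 0, 0, 2, 0, 0, 0, 2, 1], [0, 0, 0, 0, 0, 0, 0, 0, 0, 2, 2, 1, 2, 1], [0, 0, 0, 0, 0, 0, 0, 0, 0, 0, 1, 1, 2, 1], [0, 0, 0, 0, 0, 0, 0, 0, 0, 0, 0, 2, 2, 1], [0, 0, 0, 0, 0, 0, 0, 0, 0, 0, 0, 0, 1, 1], [0, 0, 0, 0, 0, 0, 0, 0, 0, 0, 0, 0, 0, 2]]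
  | ⟨35, _⟩ => [[2, 1, 1, 2, 2, 1, 1, 1, 2, 1, 2, 0, 2, 2], [0, 2, 2, 1, 0, 0, 0, 1, 1, 0, 0, 0, 2, 0], [0, 2, 1, 2, 0, 0, 0, 2, 1, 0, 0, 0, 2, 2], [0, 2, 0, 1, 0, 0, 0, 2, 1, 0, 0, 0, 0, 1], [2, 1, 0, 0, 1, 2, 2, 1, 2, 1, 2, 2, 2, 1], [2, 2, 1, 2, 0, 1, 2, 0, 2, 1, 0, 1, 2, 1], [2, 1, 0, 1, 0, 0, 1, 2, 0, 2, 2, 1, 2, 1], [0, 2, 0, 0, 0, 0, 0, 1, 2, 0, 0, 0, 2, 1], [0, 2, 0, 1, 0, 0, 0, 2, 2, 0, 0, 0, 1, 0], [2, 1, 2, 1, 0, 1, 2, 2, 0, 2, 1, 0, 0, 0], [0, 1, 0, 1, 1, 2, 1, 0, 1, 2, 1, 2, 2, 1], [1, 0, 2, 1, 2, 0, 2, 2, 2, 2, 0, 2, 1, 2], [0, 0, 1, 2, 0, 0, 0, 1, 2, 0, 0, 0, 1, 2], [0, 1, 2, 0, 0, 0, 0, 2, 2, 0, 0, 0, 0, 2]]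
  | ⟨36, _⟩ => [[2, 0, 0, 0, 2, 0, 0, 0, 2, 1, 2, 0, 2, 2], [0, 2, 2, 0, 0, 0, 0, 0, 1, 0, 0, 0, 2, 0], [0, 1, 2, 0, 0, 0, 0, 1, 1, 0, 0, 0, 2, 2], [0, 0, 1, 1, 0, 0, 0, 2, 1, 0, 0, 0, 0, 1], [1, 2, 0, 2, 2, 0, 1, 0, 2, 1, 2, 2, 2, 1], [0, 0, 1, 2, 1, 1, 2, 2, 2, 1, 0, 1, 2, 1], [0, 2, 2, 0, 2, 2, 0, 1, 0, 2, 2, 1, 2, 1], [0, 0, 2, 2, 0, 0, 0, 0, 2, 0, 0, 0, 2, 1], [0, 2, 1, 2, 0, 0, 0, 0, 2, 0, 0, 0, 1, 0], [2, 1, 1, 0, 1, 2, 0, 2, 0, 2, 1, 0, 0, 0], [2, 2, 1, 1, 1, 2, 2, 2, 1, 2, 1, 2, 2, 1], [0, 2, 0, 2, 1, 0, 2, 0, 2, 2, 0, 2, 1, 2], [0, 2, 1, 2, 0, 0, 0, 2, 2, 0, 0, 0, 1, 2], [0, 0, 1, 0, 0, 0, 0, 2, 2, 0, 0, 0, 0, 2]]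
  | ⟨37, _⟩ => [[2, 0, 2, 1, 1, 2, 2, 2, 0, 1, 1, 2, 1, 0], [0, 2, 1, 2, 0, 0, 0, 2, 1, 0, 0, 0, 1, 2], [0, 1, 1, 2, 0, 0, 0, 2, 2, 0, 0, 0, 0, 1], [0, 2, 0, 1, 0, 0, 0, 2, 0, 0, 0, 0, 2, 0], [1, 1, 0, 0, 1, 2, 2, 1, 2, 2, 0, 1, 0, 1], [2, 2, 2, 1, 0, 1, 2, 2, 2, 0, 2, 0, 0, 1], [2, 0, 0, 2, 0, 0, 1, 1, 2, 2, 0, 2, 2, 1], [0, 2, 0, 0, 0, 0, 0, 1, 2, 0, 0, 0, 0, 2], [0, 1, 0, 2, 0, 0, 0, 1, 1, 0, 0, 0, 2, 2], [1, 2, 2, 1, 0, 2, 1, 0, 0, 1, 2, 2, 0, 1], [1, 0, 0, 1, 2, 1, 2, 1, 0, 0, 1, 2, 2, 0], [2, 1, 2, 1, 2, 2, 0, 1, 0, 0, 0, 1, 2, 2], [0, 1, 2, 1, 0, 0, 0, 2, 0, 0, 0, 0, 1, 2], [0, 2, 2, 2, 0, 0, 0, 0, 0, 0, 0, 0, 0, 1]]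
  | ⟨38, _⟩ => [[2, 0, 2, 1, 1, 2, 1, 0, 0, 0, 0, 0, 0, 0], [0, 2, 1, 2, 0, 0, 0, 1, 0, 0, 0, 0, 0, 0], [0, 1, 1, 1, 0, 0, 0, 2, 1, 0, 0, 0, 1, 2], [0, 1, 2, 0, 0, 0, 0, 2, 1, 0, 0, 0, 2, 0], [1, 2, 2, 1, 1, 1, 2, 1, 2, 1, 1, 2, 0, 0], [1, 0, 1, 0, 2, 0, 2, 2, 2, 1, 2, 0, 0, 0], [1, 1, 0, 1, 2, 1, 1, 1, 0, 2, 0, 0, 0, 0], [0, 1, 2, 1, 0, 0, 0, 1, 2, 0, 0, 0, 0, 0], [0, 0, 1, 2, 0, 0, 0, 2, 0, 0, 0, 0, 0, 0], [0, 0, 0, 1, 1, 2, 2, 0, 0, 0, 0, 0, 0, 0], [0, 0, 1, 1, 2, 2, 0, 0, 0, 0, 0, 0, 0, 0], [0, 0, 1, 2, 2, 0, 0, 0, 0, 0, 0, 0, 0, 0], [0, 0, 2, 2, 0, 0, 0, 0, 0, 0, 0, 0, 0, 0], [0, 0, 2, 0, 0, 0, 0, 0, 0, 0, 0, 0, 0, 0]]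
  | ⟨39, _⟩ => [[0, 2, 1, 1, 2, 2, 1, 1, 2, 0, 0, 2, 2, 0], [0, 0, 2, 2, 0, 0, 0, 1, 0, 0, 0, 0, 0, 2], [0, 2, 2, 2, 0, 0, 0, 1, 2, 0, 0, 0, 2, 1], [0, 2, 0, 1, 0, 0, 0, 1, 2, 0, 0, 0, 0, 2], [2, 1, 0, 0, 2, 2, 1, 2, 1, 2, 2, 1, 2, 2], [2, 1, 1, 1, 0, 1, 1, 1, 0, 2, 0, 2, 1, 0], [2, 0, 0, 2, 0, 0, 2, 2, 2, 1, 2, 2, 2, 1], [0, 2, 0, 0, 0, 0, 0, 2, 1, 0, 0, 0, 2, 2], [0, 1, 0, 2, 0, 0, 0, 2, 0, 0, 0, 0, 1, 2], [1, 1, 1, 1, 0, 2, 2, 0, 2, 0, 1, 2, 0, 1], [0, 0, 0, 1, 1, 1, 1, 2, 2, 2, 1, 0, 2, 1], [1, 0, 1, 1, 1, 2, 0, 2, 2, 1, 2, 1, 2, 1], [0, 0, 1, 1, 0, 0, 0, 1, 2, 0, 0, 0, 1, 0], [0, 1, 1, 2, 0, 0, 0, 0, 1, 0, 0, 0, 2, 1]]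
  | ⟨40, _⟩ => [[2, 2, 2, 0, 2, 0, 1, 2, 0, 1, 1, 1, 2, 2], [0, 2, 2, 0, 0, 0, 0, 1, 1, 0, 0, 0, 1, 1], [0, 0, 2, 2, 0, 0, 0, 0, 1, 0, 0, 0, 1, 2], [0, 1, 0, 1, 0, 0, 0, 1, 2, 0, 0, 0, 0, 2], [0, 0, 1, 1, 2, 2, 0, 2, 2, 1, 1, 2, 1, 1], [1, 1, 1, 1, 0, 1, 1, 2, 2, 2, 0, 2, 0, 1], [2, 1, 2, 1, 2, 2, 2, 1, 2, 2, 1, 1, 1, 0], [0, 2, 2, 2, 0, 0, 0, 2, 2, 0, 0, 0, 1, 1], [0, 2, 2, 1, 0, 0, 0, 2, 1, 0, 0, 0, 2, 2], [2, 0, 2, 2, 2, 1, 2, 1, 0, 1, 2, 2, 1, 0], [2, 1, 1, 2, 0, 2, 1, 2, 0, 0, 1, 2, 2, 1], [1, 2, 1, 2, 2, 1, 0, 2, 0, 0, 0, 1, 2, 2], [0, 2, 0, 2, 0, 0, 0, 1, 0, 0, 0, 0, 1, 2], [0, 1, 2, 1, 0, 0, 0, 0, 0, 0, 0, 0, 0, 1]]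
  | ⟨41, _⟩ => [[0, 2, 2, 0, 1, 0, 0, 0, 0, 0, 1, 1, 2, 1], [0, 0, 1, 0, 0, 0, 0, 0, 0, 0, 0, 0, 1, 1], [0, 2, 1, 1, 0, 0, 0, 0, 1, 0, 0, 0, 1, 1], [0, 2, 2, 0, 0, 0, 0, 1, 0, 0, 0, 0, 0, 1], [2, 1, 1, 0, 1, 1, 0, 0, 0, 1, 1, 1, 2, 0], [2, 0, 0, 2, 2, 0, 1, 0, 2, 0, 0, 1, 0, 2], [0, 1, 1, 0, 0, 2, 0, 0, 0, 1, 0, 1, 1, 2], [0, 0, 0, 2, 0, 0, 0, 0, 1, 0, 0, 0, 0, 1], [0, 0, 0, 0, 0, 0, 0, 2, 0, 0, 0, 0, 1, 0], [0, 0, 0, 2, 0, 0, 2, 0, 2, 0, 1, 0, 0, 2], [0, 2, 2, 0, 0, 2, 0, 0, 0, 2, 0, 1, 1, 1], [2, 0, 0, 0, 2, 0, 0, 0, 0, 0, 2, 1, 0, 1], [0, 0, 0, 2, 0, 0, 0, 0, 2, 0, 0, 0, 0, 1], [0, 2, 2, 0, 0, 0, 0, 0, 0, 0, 0, 0, 2, 1]]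
  | ⟨42, _⟩ => [[1, 0, 0, 2, 2, 1, 1, 2, 0, 0, 1, 1, 2, 1], [0, 1, 2, 1, 0, 0, 0, 1, 0, 0, 0, 0, 1, 1], [0, 0, 1, 1, 0, 0, 0, 1, 1, 0, 0, 0, 1, 1], [0, 0, 0, 1, 0, 0, 0, 1, 0, 0, 0, 0, 0, 1], [0, 1, 1, 1, 1, 1, 1, 2, 0, 1, 1, 1, 2, 0], [0, 2, 1, 1, 0, 1, 1, 0, 2, 0, 0, 1, 0, 2], [1, 0, 1, 2, 2, 2, 0, 1, 0, 1, 0, 1, 1, 2], [0, 1, 2, 2, 0, 0, 0, 0, 1, 0, 0, 0, 0, 1], [0, 0, 2, 0, 0, 0, 0, 0, 0, 0, 0, 0, 1, 0], [0, 2, 1, 1, 2, 0, 0, 0, 2, 0, 1, 0, 0, 2], [1, 0, 0, 1, 2, 1, 0, 1, 0, 2, 0, 1, 1, 1], [0, 1, 2, 0, 1, 1, 2, 0, 0, 0, 2, 1, 0, 1], [0, 1, 2, 1, 0, 0, 0, 0, 2, 0, 0, 0, 0, 1], [0, 0, 1, 1, 0, 0, 0, 2, 0, 0, 0, 0, 2, 1]]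
  | ⟨43, _⟩ => [[2, 0, 0, 0, 0, 0, 0, 0, 0, 2, 2, 2, 1, 1], [0, 2, 0, 0, 0, 0, 0, 0, 2, 0, 0, 0, 2, 2], [0, 0, 0, 0, 0, 0, 0, 0, 0, 0, 0, 0, 0, 2], [0, 0, 0, 0, 0, 0, 0, 0, 0, 0, 0, 0, 2, 1], [0, 0, 0, 0, 0, 0, 0, 0, 0, 0, 0, 2, 1, 1], [0, 0, 0, 0, 0, 0, 0, 0, 0, 0, 2, 1, 1, 2], [0, 0, 0, 0, 0, 0, 0, 0, 0, 2, 1, 1, 2, 0], [0, 0, 0, 0, 0, 0, 0, 0, 2, 0, 0, 0, 1, 1], [0, 2, 0, 0, 0, 0, 0, 2, 1, 0, 0, 0, 2, 2], [2, 2, 0, 0, 0, 0, 2, 0, 1, 1, 2, 2, 2, 0], [1, 0, 0, 0, 0, 2, 2, 1, 1, 1, 0, 1, 0, 2], [2, 1, 0, 0, 2, 2, 1, 2, 1, 2, 2, 1, 2, 2], [0, 1, 0, 2, 0, 0, 0, 2, 1, 0, 0, 0, 0, 1], [0, 2, 2, 2, 0, 0, 0, 1, 2, 0, 0, 0, 2, 1]]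
  | ⟨44, _⟩ => [[1, 1, 1, 0, 1, 2, 0, 1, 2, 2, 2, 2, 2, 2], [0, 1, 1, 2, 0, 0, 0, 0, 2, 0, 0, 0, 2, 2], [0, 1, 2, 0, 0, 0, 0, 2, 2, 0, 0, 0, 0, 2], [0, 1, 1, 1, 0, 0, 0, 1, 0, 0, 0, 0, 2, 0], [1, 2, 2, 2, 2, 0, 2, 2, 1, 2, 0, 2, 0, 1], [1, 1, 1, 2, 1, 1, 1, 1, 1, 0, 2, 0, 0, 1], [1, 0, 1, 1, 0, 2, 2, 1, 2, 1, 0, 2, 1, 2], [0, 1, 0, 2, 0, 0, 0, 2, 1, 0, 0, 0, 0, 2], [0, 0, 2, 2, 0, 0, 0, 0, 2, 0, 0, 0, 1, 2], [0, 2, 1, 0, 2, 2, 0, 0, 0, 2, 1, 2, 0, 2], [1, 2, 2, 2, 1, 1, 2, 1, 1, 2, 1, 0, 2, 1], [2, 1, 0, 1, 2, 1, 2, 1, 2, 0, 1, 2, 2, 1], [0, 1, 1, 1, 0, 0, 0, 2, 2, 0, 0, 0, 1, 0], [0, 2, 2, 1, 0, 0, 0, 2, 0, 0, 0, 0, 1, 2]]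
  | ⟨45, _⟩ => [[0, 1, 0, 1, 1, 0, 0, 1, 2, 2, 1, 1, 2, 2], [0, 0, 1, 0, 0, 0, 0, 0, 2, 0, 0, 0, 1, 1], [0, 1, 2, 1, 0, 0, 0, 1, 2, 0, 0, 0, 1, 1], [0, 1, 1, 0, 0, 0, 0, 1, 2, 0, 0, 0, 2, 0], [1, 2, 1, 1, 2, 1, 1, 2, 1, 2, 1, 1, 0, 0], [1, 2, 0, 2, 1, 0, 1, 0, 2, 2, 2, 0, 2, 2], [1, 0, 2, 1, 1, 1, 2, 1, 1, 1, 0, 0, 1, 0], [0, 1, 1, 1, 0, 0, 0, 2, 1, 0, 0, 0, 0, 0], [0, 2, 1, 2, 0, 0, 0, 0, 1, 0, 0, 0, 1, 0], [2, 2, 2, 0, 1, 2, 0, 1, 0, 1, 1, 0, 2, 2], [0, 0, 2, 1, 0, 2, 1, 1, 1, 2, 2, 2, 2, 0], [2, 0, 2, 1, 2, 1, 2, 1, 1, 0, 1, 2, 2, 2], [0, 0, 0, 2, 0, 0, 0, 1, 2, 0, 0, 0, 2, 2], [0, 2, 2, 1, 0, 0, 0, 2, 0, 0, 0, 0, 1, 2]]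
  | ⟨46, _⟩ => [[0, 2, 1, 1, 1, 0, 1, 2, 0, 2, 2, 2, 1, 1], [0, 0, 1, 0, 0, 0, 0, 1, 2, 0, 0, 0, 2, 2], [0, 2, 2, 2, 0, 0, 0, 0, 0, 0, 0, 0, 0, 1], [0, 2, 1, 2, 0, 0, 0, 1, 0, 0, 0, 0, 2, 1], [2, 1, 2, 1, 2, 2, 0, 1, 0, 0, 0, 1, 2, 2], [2, 1, 1, 0, 1, 2, 1, 2, 0, 0, 2, 1, 1, 2], [1, 0, 1, 2, 0, 2, 1, 2, 0, 1, 2, 2, 1, 0], [0, 1, 0, 2, 0, 0, 0, 1, 1, 0, 0, 0, 2, 2], [0, 0, 2, 1, 0, 0, 0, 0, 2, 0, 0, 0, 1, 1], [0, 1, 1, 1, 2, 1, 0, 2, 2, 2, 1, 1, 1, 0], [0, 1, 2, 1, 1, 2, 2, 1, 1, 1, 0, 1, 0, 2], [2, 1, 0, 1, 2, 0, 1, 0, 2, 1, 1, 2, 1, 1], [0, 0, 1, 2, 0, 0, 0, 2, 1, 0, 0, 0, 0, 1], [0, 2, 2, 0, 0, 0, 0, 1, 1, 0, 0, 0, 1, 2]]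
  | ⟨47, _⟩ => [[2, 0, 0, 2, 2, 1, 1, 2, 1, 2, 0, 2, 2, 2], [0, 2, 2, 1, 0, 0, 0, 1, 2, 0, 0, 0, 0, 2], [0, 1, 2, 2, 0, 0, 0, 2, 0, 0, 0, 0, 2, 2], [0, 0, 0, 1, 0, 0, 0, 1, 2, 0, 0, 0, 1, 2], [1, 0, 2, 2, 2, 2, 2, 1, 1, 0, 2, 2, 1, 2], [0, 1, 1, 1, 0, 1, 1, 0, 1, 2, 1, 2, 0, 2], [1, 1, 2, 1, 1, 1, 0, 2, 2, 1, 2, 0, 2, 1], [0, 1, 1, 1, 0, 0, 0, 0, 1, 0, 0, 0, 2, 0], [0, 2, 1, 0, 0, 0, 0, 0, 0, 0, 0, 0, 1, 2], [2, 2, 2, 2, 1, 0, 0, 0, 2, 0, 1, 2, 1, 1], [2, 0, 0, 1, 2, 1, 0, 1, 2, 1, 1, 2, 2, 1], [1, 1, 1, 0, 2, 2, 1, 0, 0, 1, 0, 2, 1, 0], [0, 2, 2, 1, 0, 0, 0, 0, 1, 0, 0, 0, 1, 2], [0, 1, 2, 2, 0, 0, 0, 1, 1, 0, 0, 0, 0, 2]]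
  | ⟨48, _⟩ => [[2, 2, 1, 0, 1, 0, 2, 1, 0, 2, 1, 2, 2, 1], [0, 2, 1, 0, 0, 0, 0, 2, 2, 0, 0, 0, 1, 2], [0, 0, 2, 1, 0, 0, 0, 0, 1, 0, 0, 0, 2, 2], [0, 1, 0, 1, 0, 0, 0, 2, 1, 0, 0, 0, 0, 1], [0, 0, 1, 2, 2, 1, 0, 2, 2, 1, 2, 2, 2, 1], [1, 1, 2, 1, 0, 1, 2, 1, 1, 1, 0, 1, 0, 2], [1, 2, 2, 2, 2, 1, 2, 1, 2, 2, 2, 1, 2, 0], [0, 1, 2, 1, 0, 0, 0, 2, 2, 0, 0, 0, 2, 1], [0, 1, 2, 2, 0, 0, 0, 2, 1, 0, 0, 0, 1, 2], [1, 0, 2, 1, 2, 2, 2, 1, 0, 1, 1, 2, 2, 0], [2, 1, 2, 2, 0, 2, 2, 1, 0, 0, 1, 1, 2, 2], [2, 1, 1, 1, 2, 2, 0, 2, 0, 0, 0, 1, 1, 2], [0, 2, 0, 2, 0, 0, 0, 2, 0, 0, 0, 0, 1, 1], [0, 2, 2, 2, 0, 0, 0, 0, 0, 0, 0, 0, 0, 1]]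
  | ⟨49, _⟩ => [[1, 1, 1, 2, 1, 2, 1, 1, 2, 0, 2, 2, 0, 2], [0, 1, 1, 2, 0, 0, 0, 1, 0, 0, 0, 0, 2, 2], [0, 2, 1, 1, 0, 0, 0, 0, 1, 0, 0, 0, 1, 1], [0, 1, 0, 1, 0, 0, 0, 1, 1, 0, 0, 0, 1, 2], [2, 1, 2, 2, 1, 1, 0, 1, 2, 1, 1, 1, 1, 0], [1, 2, 2, 2, 0, 1, 1, 2, 2, 1, 1, 2, 2, 1], [0, 2, 1, 0, 1, 1, 1, 0, 0, 0, 2, 1, 0, 2], [0, 0, 1, 1, 0, 0, 0, 1, 0, 0, 0, 0, 2, 1], [0, 1, 1, 0, 0, 0, 0, 2, 1, 0, 0, 0, 2, 0], [1, 0, 1, 1, 1, 0, 2, 1, 2, 1, 2, 0, 1, 2], [1, 1, 2, 0, 0, 2, 0, 2, 2, 2, 1, 2, 2, 2], [1, 2, 2, 0, 1, 0, 1, 2, 1, 1, 0, 1, 2, 1], [0, 1, 0, 2, 0, 0, 0, 0, 2, 0, 0, 0, 1, 2], [0, 1, 1, 0, 0, 0, 0, 1, 1, 0, 0, 0, 0, 1]]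
  | ⟨50, _⟩ => [[2, 1, 2, 2, 0, 1, 0, 0, 2, 1, 0, 2, 0, 1], [0, 2, 0, 1, 0, 0, 0, 0, 1, 0, 0, 0, 0, 2], [0, 2, 2, 2, 0, 0, 0, 1, 2, 0, 0, 0, 2, 1], [0, 0, 1, 2, 0, 0, 0, 0, 0, 0, 0, 0, 1, 1], [2, 0, 1, 0, 2, 2, 1, 0, 0, 2, 2, 1, 0, 2], [0, 1, 1, 0, 1, 2, 0, 1, 0, 0, 1, 1, 2, 2], [1, 0, 1, 0, 1, 0, 0, 0, 0, 0, 0, 2, 1, 0], [0, 1, 1, 0, 0, 0, 0, 0, 0, 0, 0, 0, 0, 2], [0, 0, 0, 2, 0, 0, 0, 0, 0, 0, 0, 0, 0, 1], [0, 0, 0, 0, 0, 2, 0, 2, 0, 0, 0, 1, 1, 0], [2, 0, 1, 0, 2, 0, 1, 0, 0, 0, 2, 1, 1, 2], [0, 2, 2, 0, 2, 1, 0, 0, 0, 1, 2, 2, 0, 1], [0, 2, 2, 0, 0, 0, 0, 1, 0, 0, 0, 0, 2, 1], [0, 0, 2, 1, 0, 0, 0, 0, 1, 0, 0, 0, 2, 2]]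
  | ⟨51, _⟩ => [[2, 2, 2, 2, 0, 1, 0, 0, 0, 0, 0, 1, 0, 2], [0, 2, 0, 1, 0, 0, 0, 0, 0, 0, 0, 0, 0, 1], [0, 0, 1, 1, 0, 0, 0, 2, 0, 0, 0, 0, 2, 1], [0, 2, 1, 2, 0, 0, 0, 0, 1, 0, 0, 0, 0, 2], [0, 1, 2, 0, 1, 1, 2, 0, 0, 0, 2, 1, 0, 1], [2, 0, 1, 0, 1, 2, 0, 1, 0, 1, 0, 2, 1, 0], [0, 1, 2, 0, 2, 0, 0, 0, 0, 0, 1, 0, 0, 1], [0, 0, 2, 0, 0, 0, 0, 0, 0, 0, 0, 0, 1, 0], [0, 0, 0, 1, 0, 0, 0, 0, 2, 0, 0, 0, 0, 0], [0, 0, 0, 0, 0, 1, 0, 1, 0, 2, 0, 0, 1, 0], [0, 2, 1, 0, 2, 0, 1, 0, 0, 0, 1, 0, 0, 2], [2, 0, 1, 0, 1, 2, 0, 0, 0, 0, 0, 2, 0, 0], [0, 0, 2, 0, 0, 0, 0, 1, 0, 0, 0, 0, 1, 0], [0, 2, 1, 2, 0, 0, 0, 0, 0, 0, 0, 0, 0, 2]]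
  | ⟨52, _⟩ => [[1, 1, 2, 1, 1, 2, 1, 0, 2, 1, 0, 2, 0, 2], [0, 1, 1, 2, 0, 0, 0, 1, 1, 0, 0, 0, 0, 2], [0, 0, 1, 1, 0, 0, 0, 2, 0, 0, 0, 0, 2, 1], [0, 2, 2, 0, 0, 0, 0, 2, 1, 0, 0, 0, 2, 0], [0, 0, 2, 1, 1, 1, 2, 1, 1, 0, 2, 1, 1, 2], [2, 2, 1, 0, 2, 0, 2, 2, 2, 1, 2, 0, 2, 1], [2, 1, 0, 1, 2, 1, 1, 1, 2, 1, 2, 1, 1, 1], [0, 2, 2, 1, 0, 0, 0, 1, 1, 0, 0, 0, 2, 1], [0, 2, 1, 2, 0, 0, 0, 2, 1, 0, 0, 0, 1, 1], [2, 0, 0, 1, 1, 2, 2, 0, 2, 1, 1, 1, 2, 1], [1, 2, 1, 1, 2, 2, 0, 0, 2, 1, 1, 0, 1, 1], [1, 2, 1, 2, 2, 0, 0, 0, 1, 0, 1, 1, 2, 2], [0, 1, 2, 2, 0, 0, 0, 0, 1, 0, 0, 0, 1, 0], [0, 1, 2, 0, 0, 0, 0, 0, 0, 0, 0, 0, 1, 1]]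
  | ⟨53, _⟩ => [[0, 1, 0, 1, 2, 0, 0, 2, 1, 1, 1, 2, 2, 1], [0, 0, 2, 0, 0, 0, 0, 0, 1, 0, 0, 0, 1, 2], [0, 2, 2, 2, 0, 0, 0, 1, 2, 0, 0, 0, 2, 1], [0, 1, 2, 0, 0, 0, 0, 2, 1, 0, 0, 0, 2, 0], [2, 1, 1, 2, 2, 2, 1, 2, 1, 2, 2, 1, 0, 0], [1, 2, 0, 2, 2, 0, 2, 0, 1, 1, 2, 0, 2, 1], [2, 0, 2, 2, 1, 2, 2, 1, 1, 1, 0, 0, 2, 0], [0, 2, 1, 2, 0, 0, 0, 2, 1, 0, 0, 0, 0, 0], [0, 1, 1, 1, 0, 0, 0, 0, 1, 0, 0, 0, 2, 0], [1, 1, 2, 0, 1, 1, 0, 1, 0, 1, 2, 0, 1, 2], [0, 0, 1, 1, 0, 2, 2, 2, 2, 1, 2, 1, 2, 0], [1, 0, 2, 2, 2, 2, 2, 1, 1, 0, 2, 2, 1, 2], [0, 0, 0, 2, 0, 0, 0, 2, 1, 0, 0, 0, 2, 1], [0, 1, 2, 2, 0, 0, 0, 2, 0, 0, 0, 0, 2, 2]]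
  | ⟨54, _⟩ => [[0, 1, 1, 2, 2, 1, 2, 0, 2, 1, 0, 1, 2, 1], [0, 0, 2, 1, 0, 0, 0, 2, 1, 0, 0, 0, 0, 1], [0, 1, 1, 0, 0, 0, 0, 0, 0, 0, 0, 0, 1, 2], [0, 1, 1, 1, 0, 0, 0, 0, 1, 0, 0, 0, 1, 1], [1, 2, 2, 1, 1, 0, 0, 0, 1, 0, 1, 2, 2, 2], [1, 2, 2, 2, 1, 1, 0, 0, 2, 1, 1, 1, 0, 1], [2, 0, 0, 2, 2, 1, 1, 0, 2, 1, 1, 0, 1, 1], [0, 2, 2, 1, 0, 0, 0, 1, 1, 0, 0, 0, 1, 0], [0, 0, 1, 2, 0, 0, 0, 2, 0, 0, 0, 0, 2, 2], [0, 2, 0, 2, 1, 2, 2, 2, 2, 0, 2, 2, 2, 1], [0, 2, 2, 0, 1, 0, 1, 1, 1, 2, 1, 1, 2, 2], [1, 2, 1, 2, 2, 2, 1, 2, 0, 1, 0, 2, 2, 0], [0, 0, 1, 0, 0, 0, 0, 1, 2, 0, 0, 0, 1, 1], [0, 1, 2, 2, 0, 0, 0, 1, 1, 0, 0, 0, 0, 2]]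
  | ⟨55, _⟩ => [[2, 1, 1, 1, 2, 2, 1, 1, 1, 2, 0, 2, 1, 2], [0, 2, 2, 2, 0, 0, 0, 1, 2, 0, 0, 0, 0, 2], [0, 0, 2, 0, 0, 0, 0, 2, 2, 0, 0, 0, 0, 1], [0, 2, 1, 1, 0, 0, 0, 1, 1, 0, 0, 0, 2, 2], [0, 1, 2, 2, 2, 0, 2, 2, 0, 2, 0, 1, 1, 0], [2, 2, 0, 2, 1, 1, 1, 0, 2, 1, 2, 2, 1, 1], [1, 0, 2, 2, 0, 2, 2, 2, 1, 0, 1, 1, 1, 2], [0, 1, 0, 2, 0, 0, 0, 2, 0, 0, 0, 0, 1, 1], [0, 1, 0, 0, 0, 0, 0, 1, 2, 0, 0, 0, 2, 0], [1, 2, 0, 2, 0, 0, 1, 2, 1, 2, 2, 0, 2, 2], [1, 0, 1, 1, 0, 2, 2, 0, 1, 2, 2, 2, 0, 2], [0, 2, 0, 0, 1, 1, 2, 1, 2, 0, 2, 1, 1, 1], [0, 1, 0, 2, 0, 0, 0, 2, 2, 0, 0, 0, 2, 2], [0, 0, 1, 1, 0, 0, 0, 2, 0, 0, 0, 0, 2, 1]]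
  | ⟨56, _⟩ => [[1, 0, 0, 1, 1, 1, 2, 0, 0, 0, 0, 0, 0, 0], [0, 1, 1, 1, 0, 0, 0, 2, 0, 0, 0, 0, 0, 0], [0, 0, 1, 0, 0, 0, 0, 0, 0, 0, 0, 0, 0, 0], [0, 0, 1, 1, 0, 0, 0, 0, 0, 0, 0, 0, 0, 0], [0, 0, 2, 1, 1, 0, 0, 0, 0, 0, 0, 0, 0, 0], [0, 0, 0, 2, 1, 1, 0, 0, 0, 0, 0, 0, 0, 0], [0, 0, 1, 0, 2, 1, 1, 0, 0, 0, 0, 0, 0, 0], [0, 0, 2, 1, 0, 0, 0, 1, 0, 0, 0, 0, 0, 0], [0, 2, 2, 0, 0, 0, 0, 2, 1, 0, 0, 0, 0, 0], [2, 2, 1, 1, 2, 0, 2, 2, 0, 1, 0, 0, 0, 0], [2, 0, 2, 0, 0, 2, 0, 1, 1, 2, 1, 0, 0, 0], [1, 1, 1, 0, 1, 0, 2, 2, 1, 2, 2, 1, 0, 0], [0, 2, 0, 2, 0, 0, 0, 0, 2, 0, 0, 0, 1, 0], [0, 1, 1, 0, 0, 0, 0, 2, 2, 0, 0, 0, 2, 1]]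
  | ⟨57, _⟩ => [[2, 2, 0, 0, 2, 1, 1, 2, 0, 2, 1, 0, 1, 0], [0, 2, 2, 1, 0, 0, 0, 1, 2, 0, 0, 0, 1, 0], [0, 0, 2, 1, 0, 0, 0, 2, 2, 0, 0, 0, 1, 2], [0, 0, 1, 0, 0, 0, 0, 0, 1, 0, 0, 0, 2, 0], [0, 1, 0, 2, 2, 1, 2, 0, 1, 2, 1, 2, 1, 2], [0, 1, 1, 1, 1, 0, 0, 1, 2, 1, 2, 0, 0, 0], [1, 0, 2, 1, 2, 0, 2, 0, 0, 0, 2, 1, 1, 2], [0, 1, 2, 0, 0, 0, 0, 2, 0, 0, 0, 0, 2, 1], [0, 0, 1, 1, 0, 0, 0, 0, 1, 0, 0, 0, 2, 1], [0, 0, 1, 2, 1, 1, 0, 1, 1, 1, 2, 1, 2, 1], [1, 1, 1, 0, 1, 1, 2, 0, 1, 2, 1, 0, 0, 0], [1, 2, 0, 2, 1, 2, 1, 2, 1, 0, 2, 1, 1, 2], [0, 1, 1, 1, 0, 0, 0, 2, 2, 0, 0, 0, 1, 0], [0, 1, 1, 2, 0, 0, 0, 1, 0, 0, 0, 0, 2, 1]]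
  | ⟨58, _⟩ => [[1, 2, 1, 0, 0, 1, 1, 0, 0, 2, 1, 0, 0, 2], [0, 1, 0, 1, 0, 0, 0, 1, 2, 0, 0, 0, 1, 0], [0, 1, 2, 0, 0, 0, 0, 0, 0, 0, 0, 0, 1, 1], [0, 1, 2, 1, 0, 0, 0, 0, 2, 0, 0, 0, 1, 2], [1, 2, 1, 1, 2, 0, 0, 0, 2, 0, 1, 1, 2, 1], [1, 1, 2, 2, 2, 1, 0, 0, 1, 2, 1, 2, 2, 1], [2, 2, 1, 1, 1, 1, 2, 0, 2, 2, 1, 0, 0, 0], [0, 2, 1, 1, 0, 0, 0, 2, 2, 0, 0, 0, 1, 0], [0, 2, 0, 1, 0, 0, 0, 1, 1, 0, 0, 0, 1, 2], [2, 2, 0, 0, 0, 1, 1, 1, 0, 1, 1, 2, 1, 2], [1, 1, 2, 2, 1, 1, 1, 2, 0, 0, 1, 1, 2, 1], [1, 2, 2, 2, 2, 1, 0, 1, 0, 0, 0, 1, 1, 2], [0, 1, 1, 1, 0, 0, 0, 1, 0, 0, 0, 0, 1, 1], [0, 1, 2, 1, 0, 0, 0, 0, 0, 0, 0, 0, 0, 1]]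
  | ⟨59, _⟩ => [[2, 2, 1, 0, 1, 1, 0, 1, 2, 2, 1, 2, 1, 2], [0, 2, 1, 1, 0, 0, 0, 0, 2, 0, 0, 0, 1, 2], [0, 1, 2, 2, 0, 0, 0, 2, 0, 0, 0, 0, 2, 2], [0, 2, 1, 2, 0, 0, 0, 2, 2, 0, 0, 0, 2, 0], [1, 2, 0, 2, 2, 2, 2, 1, 2, 0, 2, 2, 1, 1], [2, 1, 2, 1, 1, 2, 2, 1, 1, 2, 2, 0, 1, 1], [0, 1, 1, 0, 2, 1, 0, 0, 0, 2, 2, 2, 0, 2], [0, 0, 2, 1, 0, 0, 0, 0, 2, 0, 0, 0, 2, 2], [0, 2, 0, 1, 0, 0, 0, 2, 1, 0, 0, 0, 0, 2], [2, 0, 1, 2, 0, 1, 2, 1, 2, 1, 0, 2, 2, 2], [2, 2, 1, 1, 1, 2, 1, 1, 1, 0, 1, 0, 0, 1], [2, 1, 2, 1, 2, 0, 2, 2, 1, 2, 0, 2, 0, 1], [0, 2, 1, 2, 0, 0, 0, 1, 0, 0, 0, 0, 1, 0], [0, 2, 2, 0, 0, 0, 0, 2, 2, 0, 0, 0, 0, 2]]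
  | ⟨60, _⟩ => [[2, 2, 0, 1, 0, 1, 1, 0, 0, 1, 2, 0, 0, 1], [0, 2, 0, 1, 0, 0, 0, 1, 1, 0, 0, 0, 2, 0], [0, 2, 2, 2, 0, 0, 0, 0, 0, 0, 0, 0, 0, 1], [0, 1, 0, 1, 0, 0, 0, 1, 0, 0, 0, 0, 2, 2], [2, 1, 1, 1, 2, 2, 0, 2, 0, 0, 0, 1, 1, 2], [1, 1, 0, 0, 0, 1, 1, 2, 0, 0, 2, 2, 1, 2], [1, 1, 2, 2, 2, 2, 2, 2, 0, 1, 1, 2, 1, 2], [0, 1, 2, 2, 0, 0, 0, 2, 1, 0, 0, 0, 1, 2], [0, 2, 2, 2, 0, 0, 0, 0, 2, 0, 0, 0, 1, 0], [2, 2, 1, 1, 2, 2, 0, 0, 2, 2, 1, 0, 0, 0], [0, 1, 0, 0, 0, 2, 2, 1, 2, 1, 2, 1, 1, 2], [2, 0, 1, 1, 1, 1, 1, 2, 2, 0, 1, 1, 2, 1], [0, 0, 0, 2, 0, 0, 0, 2, 1, 0, 0, 0, 2, 1], [0, 2, 1, 1, 0, 0, 0, 1, 0, 0, 0, 0, 1, 1]]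
  | ⟨61, _⟩ => [[2, 0, 0, 0, 0, 0, 0, 0, 0, 1, 2, 0, 0, 1], [0, 2, 0, 0, 0, 0, 0, 0, 1, 0, 0, 0, 2, 0], [0, 0, 0, 0, 0, 0, 0, 0, 0, 0, 0, 0, 0, 1], [0, 0, 0, 0, 0, 0, 0, 0, 0, 0, 0, 0, 2, 2], [0, 0, 0, 0, 0, 0, 0, 0, 0, 0, 0, 1, 1, 2], [0, 0, 0, 0, 0, 0, 0, 0, 0, 0, 2, 2, 1, 2], [0, 0, 0, 0, 0, 0, 0, 0, 0, 1, 1, 2, 1, 2], [0, 0, 0, 0, 0, 0, 0, 0, 1, 0, 0, 0, 1, 2], [0, 2, 0, 0, 0, 0, 0, 1, 2, 0, 0, 0, 1, 0], [2, 2, 0, 0, 0, 0, 1, 0, 2, 2, 1, 0, 0, 0], [1, 0, 0, 0, 0, 2, 1, 2, 2, 1, 2, 1, 1, 2], [0, 1, 0, 0, 1, 2, 2, 1, 2, 0, 1, 1, 2, 1], [0, 1, 0, 2, 0, 0, 0, 1, 1, 0, 0, 0, 2, 1], [0, 0, 1, 2, 0, 0, 0, 2, 0, 0, 0, 0, 1, 1]]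
  | ⟨62, _⟩ => [[2, 2, 1, 2, 0, 0, 1, 2, 1, 0, 2, 1, 0, 1], [0, 2, 0, 0, 0, 0, 0, 1, 0, 0, 0, 0, 2, 1], [0, 2, 2, 2, 0, 0, 0, 2, 1, 0, 0, 0, 2, 1], [0, 2, 2, 0, 0, 0, 0, 0, 2, 0, 0, 0, 1, 1], [2, 2, 0, 1, 2, 2, 2, 0, 2, 1, 2, 1, 2, 0], [2, 1, 0, 2, 2, 0, 0, 0, 1, 2, 1, 1, 2, 2], [1, 0, 0, 2, 2, 0, 2, 0, 0, 0, 1, 1, 0, 2], [0, 1, 2, 0, 0, 0, 0, 2, 0, 0, 0, 0, 1, 1], [0, 2, 2, 2, 0, 0, 0, 0, 1, 0, 0, 0, 1, 0], [2, 2, 0, 1, 2, 2, 0, 0, 2, 1, 1, 0, 2, 2], [2, 2, 0, 1, 2, 2, 1, 0, 1, 1, 1, 1, 2, 1], [0, 2, 0, 2, 2, 0, 1, 0, 1, 1, 0, 1, 1, 1], [0, 2, 2, 2, 0, 0, 0, 1, 1, 0, 0, 0, 1, 1], [0, 0, 2, 0, 0, 0, 0, 1, 1, 0, 0, 0, 0, 1]]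
  | ⟨n+63, h⟩ => absurd h (by omega)
def T14_c4 : Fin 63 → List (List ℕ)
  | ⟨0, _⟩ => [[0, 2, 1, 1, 2, 2, 2, 0, 2, 1, 0, 1, 1, 1], [0, 0, 2, 2, 0, 0, 0, 2, 1, 0, 0, 0, 0, 1], [0, 2, 2, 1, 0, 0, 0, 1, 1, 0, 0, 0, 0, 2], [0, 0, 1, 0, 0, 0, 0, 1, 2, 0, 0, 0, 2, 1], [2, 1, 1, 1, 2, 1, 1, 2, 0, 1, 0, 2, 1, 0], [0, 1, 2, 0, 1, 0, 1, 1, 1, 2, 2, 1, 1, 2], [0, 1, 0, 1, 1, 1, 2, 2, 2, 0, 1, 2, 1, 1], [0, 0, 1, 1, 0, 0, 0, 2, 0, 0, 0, 0, 1, 2], [0, 1, 2, 2, 0, 0, 0, 1, 1, 0, 0, 0, 2, 0], [1, 0, 0, 1, 2, 2, 1, 0, 2, 1, 2, 0, 2, 1], [2, 1, 2, 1, 1, 2, 0, 0, 2, 1, 2, 1, 0, 1], [2, 1, 2, 2, 1, 0, 0, 0, 1, 0, 2, 2, 1, 2], [0, 2, 1, 2, 0, 0,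 0, 0, 1, 0, 0, 0, 2, 1], [0, 2, 1, 0, 0, 0, 0, 0, 0, 0, 0, 0, 2, 2]]
  | ⟨1, _⟩ => [[2, 0, 2, 2, 0, 0, 2, 1, 0, 0, 1, 0, 2, 2], [0, 2, 0, 0, 0, 0, 0, 2, 0, 0, 0, 0, 1, 0], [0, 1, 1, 2, 0, 0, 0, 1, 0, 0, 0, 0, 2, 1], [0, 1, 1, 0, 0, 0, 0, 0, 1, 0, 0, 0, 0, 2], [1, 2, 0, 1, 1, 2, 1, 0, 0, 0, 2, 1, 0, 1], [1, 1, 0, 2, 1, 0, 0, 0, 0, 1, 0, 2, 0, 1], [0, 0, 0, 2, 1, 0, 1, 0, 1, 0, 1, 0, 0, 0], [0, 0, 1, 0, 0, 0, 0, 1, 0, 0, 0, 0, 1, 0], [0, 1, 1, 2, 0, 0, 0, 0, 0, 0, 0, 0, 0, 2], [1, 2, 0, 1, 1, 2, 0, 0, 0, 0, 0, 2, 0, 2], [1, 2, 0, 1, 1, 2, 2, 0, 1, 0, 2, 1, 0, 1], [2, 2, 0, 2, 1, 0, 2, 0, 0, 2, 1, 1, 0, 2], [0, 1, 1, 2, 0, 0, 0,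 2, 0, 0, 0, 0, 2, 1], [0, 2, 1, 0, 0, 0, 0, 2, 2, 0, 0, 0, 1, 1]]
  | ⟨2, _⟩ => [[1, 0, 2, 1, 0, 2, 0, 0, 1, 2, 0, 0, 1, 2], [0, 1, 0, 2, 0, 0, 0, 0, 2, 0, 0, 0, 0, 0], [0, 1, 2, 2, 0, 0, 0, 0, 2, 0, 0, 0, 2, 2], [0, 2, 2, 0, 0, 0, 0, 1, 0, 0, 0, 0, 0, 1], [1, 2, 2, 0, 2, 2, 0, 0, 0, 2, 2, 2, 1, 0], [2, 2, 1, 0, 2, 0, 1, 0, 0, 0, 0, 1, 1, 0], [0, 0, 0, 0, 0, 1, 0, 2, 0, 2, 0, 2, 2, 0], [0, 0, 0, 1, 0, 0, 0, 0, 2, 0, 0, 0, 0, 2], [0, 1, 1, 0, 0, 0, 0, 0, 0, 0, 0, 0, 2, 2], [1, 2, 1, 0, 1, 0, 0, 0, 0, 0, 2, 2, 1, 0], [2, 1, 1, 0, 1, 1, 0, 1, 0, 2, 1, 1, 2, 0], [2, 2, 1, 0, 2, 1, 1, 0, 0, 1, 0, 2, 2, 0], [0, 2, 1, 1, 0, 0, 0, 0,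 2, 0, 0, 0, 1, 1], [0, 2, 2, 1, 0, 0, 0, 1, 1, 0, 0, 0, 0, 2]]
  | ⟨3, _⟩ => [[0, 0, 0, 2, 2, 1, 1, 2, 2, 1, 2, 2, 1, 0], [0, 0, 2, 1, 0, 0, 0, 1, 1, 0, 0, 0, 2, 2], [0, 2, 2, 2, 0, 0, 0, 2, 1, 0, 0, 0, 2, 1], [0, 0, 0, 1, 0, 0, 0, 1, 1, 0, 0, 0, 2, 0], [2, 1, 2, 2, 2, 2, 2, 1, 2, 1, 2, 1, 2, 1], [0, 0, 1, 1, 0, 1, 1, 0, 0, 1, 2, 0, 2, 1], [0, 2, 2, 1, 1, 1, 0, 2, 1, 0, 1, 2, 1, 1], [0, 0, 1, 1, 0, 0, 0, 0, 0, 0, 0, 0, 1, 2], [0, 1, 1, 0, 0, 0, 0, 0, 0, 0, 0, 0, 0, 2], [1, 0, 2, 2, 1, 0, 0, 0, 0, 0, 0, 2, 2, 1], [0, 0, 0, 1, 2, 1, 0, 1, 1, 0, 2, 2, 2, 0], [2, 0, 1, 0, 2, 2, 1, 0, 0, 2, 2, 1, 0, 2], [0, 0, 2, 1, 0, 0, 0, 0, 0,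 0, 0, 0, 2, 2], [0, 2, 2, 2, 0, 0, 0, 1, 2, 0, 0, 0, 2, 1]]
  | ⟨4, _⟩ => [[2, 0, 1, 1, 1, 2, 0, 0, 2, 1, 2, 2, 1, 0], [0, 2, 1, 2, 0, 0, 0, 0, 1, 0, 0, 0, 2, 2], [0, 0, 1, 2, 0, 0, 0, 1, 1, 0, 0, 0, 2, 1], [0, 0, 1, 0, 0, 0, 0, 0, 1, 0, 0, 0, 2, 0], [0, 2, 0, 1, 1, 2, 1, 0, 2, 1, 2, 1, 2, 1], [0, 1, 2, 0, 1, 0, 0, 2, 0, 1, 2, 0, 2, 1], [2, 0, 2, 2, 1, 0, 1, 0, 1, 0, 1, 2, 1, 1], [0, 2, 1, 0, 0, 0, 0, 1, 0, 0, 0, 0, 1, 2], [0, 0, 0, 2, 0, 0, 0, 0, 0, 0, 0, 0, 0, 2], [0, 1, 2, 0, 0, 2, 0, 2, 0, 0, 0, 2, 2, 1], [2, 0, 1, 2, 1, 0, 2, 0, 1, 0, 2, 2, 2, 0], [0, 2, 1, 0, 1, 1, 0, 0, 0, 2, 2, 1, 0, 2], [0, 2, 1, 0, 0, 0, 0, 2, 0, 0,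 0, 0, 2, 2], [0, 0, 1, 1, 0, 0, 0, 0, 2, 0, 0, 0, 2, 1]]
  | ⟨5, _⟩ => [[0, 0, 0, 0, 1, 0, 0, 0, 1, 2, 0, 1, 0, 2], [0, 0, 1, 0, 0, 0, 0, 0, 2, 0, 0, 0, 0, 1], [0, 2, 1, 0, 0, 0, 0, 2, 2, 0, 0, 0, 1, 1], [0, 2, 2, 1, 0, 0, 0, 1, 0, 0, 0, 0, 1, 2], [2, 2, 0, 2, 1, 0, 2, 0, 0, 2, 1, 1, 0, 2], [2, 2, 2, 2, 2, 1, 1, 1, 0, 0, 1, 2, 2, 1], [1, 0, 1, 0, 1, 2, 0, 2, 0, 0, 0, 2, 2, 0], [0, 1, 1, 2, 0, 0, 0, 0, 0, 0, 0, 0, 0, 2], [0, 1, 2, 2, 0, 0, 0, 0, 0, 0, 0, 0, 0, 1], [1, 0, 2, 0, 2, 2, 0, 1, 0, 0, 0, 1, 2, 0], [1, 1, 2, 1, 2, 2, 1, 1, 0, 0, 2, 2, 1, 1], [2, 2, 0, 2, 2, 0, 1, 0, 0, 1, 1, 2, 0, 1], [0, 1, 2, 2, 0, 0, 0, 1, 0, 0, 0,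 0, 2, 2], [0, 2, 2, 0, 0, 0, 0, 1, 1, 0, 0, 0, 1, 2]]
  | ⟨6, _⟩ => [[1, 0, 0, 0, 2, 0, 0, 0, 2, 1, 1, 0, 1, 2], [0, 1, 2, 0, 0, 0, 0, 0, 1, 0, 0, 0, 1, 0], [0, 0, 1, 0, 0, 0, 0, 2, 2, 0, 0, 0, 0, 2], [0, 1, 1, 1, 0, 0, 0, 2, 2, 0, 0, 0, 2, 2], [0, 1, 0, 1, 1, 0, 2, 0, 2, 2, 0, 2, 2, 2], [1, 1, 1, 2, 1, 1, 2, 2, 1, 2, 2, 2, 1, 1], [1, 2, 1, 0, 1, 1, 0, 2, 0, 2, 2, 0, 0, 0], [0, 1, 1, 1, 0, 0, 0, 0, 2, 0, 0, 0, 2, 0], [0, 0, 2, 1, 0, 0, 0, 0, 2, 0, 0, 0, 1, 1], [0, 1, 2, 0, 2, 1, 0, 1, 0, 2, 1, 1, 1, 1], [0, 0, 1, 1, 1, 2, 2, 2, 2, 1, 0, 1, 1, 1], [2, 1, 0, 1, 2, 0, 1, 0, 2, 1, 1, 2, 1, 1], [0, 0, 1, 2, 0, 0, 0, 2, 1, 0, 0, 0,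 0, 1], [0, 2, 2, 0, 0, 0, 0, 1, 1, 0, 0, 0, 1, 2]]
  | ⟨7, _⟩ => [[1, 0, 1, 1, 0, 2, 0, 0, 2, 1, 0, 0, 1, 1], [0, 1, 0, 2, 0, 0, 0, 0, 1, 0, 0, 0, 0, 0], [0, 2, 2, 1, 0, 0, 0, 0, 2, 0, 0, 0, 1, 2], [0, 2, 1, 0, 0, 0, 0, 2, 0, 0, 0, 0, 0, 2], [2, 1, 2, 0, 2, 1, 0, 0, 0, 2, 1, 2, 2, 0], [2, 2, 2, 0, 1, 0, 2, 0, 0, 0, 0, 2, 1, 0], [0, 0, 0, 0, 0, 2, 0, 2, 0, 2, 0, 2, 1, 0], [0, 0, 0, 2, 0, 0, 0, 0, 2, 0, 0, 0, 0, 2], [0, 2, 1, 0, 0, 0, 0, 0, 0, 0, 0, 0, 1, 2], [2, 1, 1, 0, 1, 0, 0, 0, 0, 0, 1, 2, 2, 0], [2, 1, 2, 0, 2, 1, 0, 2, 0, 1, 1, 2, 2, 0], [1, 1, 1, 0, 2, 2, 1, 0, 0, 1, 0, 2, 1, 0], [0, 2, 2, 1, 0, 0, 0, 0, 1, 0, 0, 0, 1,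 2], [0, 1, 2, 2, 0, 0, 0, 1, 1, 0, 0, 0, 0, 2]]
  | ⟨8, _⟩ => [[0, 1, 0, 0, 2, 2, 1, 2, 0, 1, 0, 0, 0, 1], [0, 0, 2, 2, 0, 0, 0, 1, 1, 0, 0, 0, 0, 0], [0, 0, 1, 1, 0, 0, 0, 1, 1, 0, 0, 0, 1, 1], [0, 0, 1, 2, 0, 0, 0, 2, 1, 0, 0, 0, 1, 2], [0, 1, 0, 1, 1, 1, 1, 2, 2, 1, 1, 1, 1, 0], [0, 0, 1, 0, 1, 2, 2, 0, 1, 1, 1, 2, 1, 0], [1, 1, 1, 1, 1, 2, 0, 1, 2, 0, 2, 1, 2, 0], [0, 1, 1, 2, 0, 0, 0, 0, 0, 0, 0, 0, 2, 1], [0, 1, 2, 0, 0, 0, 0, 2, 0, 0, 0, 0, 1, 1], [1, 2, 2, 2, 2, 0, 2, 0, 2, 0, 1, 1, 1, 0], [1, 0, 1, 2, 1, 0, 0, 1, 1, 1, 2, 2, 2, 0], [2, 2, 0, 1, 2, 2, 2, 0, 2, 1, 2, 1, 2, 0], [0, 1, 1, 0, 0, 0, 0, 0, 1, 0, 0, 0, 2, 2],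 [0, 2, 2, 2, 0, 0, 0, 2, 1, 0, 0, 0, 2, 1]]
  | ⟨9, _⟩ => [[1, 1, 2, 0, 1, 0, 0, 0, 0, 0, 2, 0, 1, 2], [0, 1, 1, 0, 0, 0, 0, 0, 0, 0, 0, 0, 2, 0], [0, 0, 1, 1, 0, 0, 0, 0, 2, 0, 0, 0, 2, 1], [0, 1, 2, 0, 0, 0, 0, 1, 0, 0, 0, 0, 1, 1], [0, 2, 1, 0, 1, 1, 0, 0, 0, 2, 2, 1, 0, 2], [1, 0, 0, 2, 2, 0, 1, 0, 1, 0, 1, 1, 0, 1], [0, 2, 1, 0, 0, 2, 0, 0, 0, 0, 0, 2, 0, 2], [0, 0, 0, 2, 0, 0, 0, 0, 0, 0, 0, 0, 0, 2], [0, 0, 0, 0, 0, 0, 0, 2, 0, 0, 0, 0, 2, 0], [0, 0, 0, 2, 0, 0, 2, 0, 1, 0, 2, 0, 0, 0], [0, 1, 2, 0, 0, 2, 0, 0, 0, 1, 0, 2, 0, 1], [1, 0, 0, 0, 2, 0, 0, 0, 0, 0, 1, 1, 0, 1], [0, 0, 0, 2, 0, 0, 0, 0, 1, 0, 0, 0, 0, 2], [0,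 1, 2, 0, 0, 0, 0, 0, 0, 0, 0, 0, 1, 1]]
  | ⟨10, _⟩ => [[0, 1, 2, 2, 2, 0, 2, 1, 0, 1, 1, 1, 2, 2], [0, 0, 2, 0, 0, 0, 0, 2, 1, 0, 0, 0, 1, 1], [0, 1, 1, 0, 0, 0, 0, 2, 2, 0, 0, 0, 2, 1], [0, 0, 2, 1, 0, 0, 0, 1, 2, 0, 0, 0, 0, 2], [1, 2, 0, 2, 1, 0, 2, 0, 1, 2, 2, 1, 2, 2], [0, 2, 1, 2, 2, 1, 1, 2, 2, 2, 0, 2, 0, 1], [0, 2, 2, 2, 1, 2, 0, 1, 1, 1, 2, 2, 2, 0], [0, 0, 1, 2, 0, 0, 0, 0, 1, 0, 0, 0, 2, 2], [0, 2, 0, 1, 0, 0, 0, 2, 2, 0, 0, 0, 1, 1], [2, 0, 2, 1, 0, 1, 2, 1, 0, 2, 1, 1, 2, 0], [1, 2, 2, 0, 2, 1, 2, 1, 0, 0, 1, 2, 2, 1], [1, 2, 1, 2, 1, 1, 0, 2, 0, 0, 0, 2, 1, 1], [0, 1, 2, 1, 0, 0, 0, 2, 0, 0, 0, 0, 1, 2], [0, 1,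 1, 1, 0, 0, 0, 0, 0, 0, 0, 0, 0, 2]]
  | ⟨11, _⟩ => [[2, 0, 0, 2, 2, 2, 1, 0, 0, 0, 0, 0, 0, 0], [0, 2, 2, 2, 0, 0, 0, 1, 0, 0, 0, 0, 0, 0], [0, 1, 1, 0, 0, 0, 0, 2, 2, 0, 0, 0, 2, 1], [0, 1, 0, 1, 0, 0, 0, 0, 1, 0, 0, 0, 2, 0], [1, 1, 1, 0, 1, 0, 2, 2, 1, 2, 2, 1, 0, 0], [1, 0, 1, 0, 0, 1, 0, 2, 2, 1, 2, 0, 0, 0], [2, 2, 1, 1, 2, 0, 2, 2, 0, 1, 0, 0, 0, 0], [0, 2, 2, 0, 0, 0, 0, 2, 1, 0, 0, 0, 0, 0], [0, 0, 2, 1, 0, 0, 0, 1, 0, 0, 0, 0, 0, 0], [0, 0, 1, 0, 2, 1, 1, 0, 0, 0, 0, 0, 0, 0], [0, 0, 0, 1, 2, 2, 0, 0, 0, 0, 0, 0, 0, 0], [0, 0, 2, 1, 1, 0, 0, 0, 0, 0, 0, 0, 0, 0], [0, 0, 2, 2, 0, 0, 0, 0, 0, 0, 0, 0, 0, 0], [0, 0, 1,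 0, 0, 0, 0, 0, 0, 0, 0, 0, 0, 0]]
  | ⟨12, _⟩ => [[2, 1, 0, 1, 2, 0, 0, 2, 2, 1, 0, 0, 2, 1], [0, 2, 2, 0, 0, 0, 0, 0, 1, 0, 0, 0, 0, 0], [0, 2, 1, 1, 0, 0, 0, 2, 2, 0, 0, 0, 0, 1], [0, 0, 2, 0, 0, 0, 0, 2, 1, 0, 0, 0, 2, 2], [2, 1, 2, 1, 1, 1, 2, 1, 0, 2, 0, 1, 1, 0], [0, 2, 0, 2, 2, 0, 2, 0, 0, 1, 2, 2, 1, 0], [0, 1, 1, 1, 2, 1, 1, 2, 0, 0, 1, 1, 2, 0], [0, 0, 2, 1, 0, 0, 0, 1, 0, 0, 0, 0, 1, 1], [0, 1, 2, 2, 0, 0, 0, 0, 1, 0, 0, 0, 0, 1], [1, 0, 1, 0, 2, 2, 0, 2, 0, 1, 0, 1, 1, 0], [0, 1, 1, 1, 0, 2, 2, 2, 0, 0, 0, 2, 2, 0], [0, 1, 1, 1, 1, 1, 1, 2, 0, 1, 1, 1, 2, 0], [0, 0, 0, 2, 0, 0, 0, 2, 0, 0, 0, 0, 0, 2], [0, 0, 1, 1,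 0, 0, 0, 1, 1, 0, 0, 0, 1, 1]]
  | ⟨13, _⟩ => [[0, 0, 0, 2, 2, 1, 1, 2, 2, 1, 2, 2, 1, 0], [0, 0, 2, 1, 0, 0, 0, 1, 1, 0, 0, 0, 2, 2], [0, 1, 1, 1, 0, 0, 0, 1, 2, 0, 0, 0, 1, 2], [0, 0, 0, 1, 0, 0, 0, 1, 1, 0, 0, 0, 2, 0], [1, 2, 1, 1, 1, 1, 1, 2, 1, 2, 1, 2, 1, 2], [0, 0, 1, 1, 0, 1, 1, 0, 0, 1, 2, 0, 2, 1], [0, 1, 1, 2, 2, 2, 0, 1, 2, 0, 2, 1, 2, 2], [0, 0, 2, 2, 0, 0, 0, 0, 0, 0, 0, 0, 2, 1], [0, 2, 2, 0, 0, 0, 0, 0, 0, 0, 0, 0, 0, 1], [2, 0, 1, 1, 2, 0, 0, 0, 0, 0, 0, 1, 1, 2], [0, 0, 0, 1, 2, 1, 0, 1, 1, 0, 2, 2, 2, 0], [1, 0, 2, 0, 1, 1, 2, 0, 0, 1, 1, 2, 0, 1], [0, 0, 2, 1, 0, 0, 0, 0, 0, 0, 0, 0, 2, 2], [0, 1, 1, 1, 0,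 0, 0, 2, 1, 0, 0, 0, 1, 2]]
  | ⟨14, _⟩ => [[2, 2, 1, 2, 2, 1, 2, 0, 1, 2, 0, 1, 0, 1], [0, 2, 2, 1, 0, 0, 0, 2, 2, 0, 0, 0, 0, 1], [0, 2, 1, 0, 0, 0, 0, 0, 0, 0, 0, 0, 2, 2], [0, 2, 1, 1, 0, 0, 0, 0, 2, 0, 0, 0, 2, 0], [2, 1, 2, 1, 1, 0, 0, 0, 2, 0, 2, 2, 1, 1], [2, 1, 2, 2, 1, 1, 0, 0, 1, 2, 2, 0, 2, 2], [1, 0, 0, 2, 2, 1, 1, 0, 1, 2, 2, 2, 1, 2], [0, 1, 2, 1, 0, 0, 0, 1, 2, 0, 0, 0, 2, 2], [0, 1, 1, 2, 0, 0, 0, 2, 2, 0, 0, 0, 1, 2], [1, 2, 0, 2, 1, 2, 2, 2, 1, 2, 1, 2, 2, 2], [1, 1, 2, 0, 1, 0, 1, 1, 1, 2, 1, 0, 1, 2], [0, 0, 1, 2, 2, 2, 1, 2, 2, 0, 1, 2, 2, 1], [0, 1, 1, 0, 0, 0, 0, 1, 2, 0, 0, 0, 1, 0], [0, 0, 2, 2, 0, 0,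 0, 1, 0, 0, 0, 0, 1, 2]]
  | ⟨15, _⟩ => [[0, 2, 2, 1, 2, 0, 2, 1, 0, 1, 2, 1, 1, 2], [0, 0, 2, 0, 0, 0, 0, 2, 1, 0, 0, 0, 2, 1], [0, 1, 2, 1, 0, 0, 0, 0, 0, 0, 0, 0, 0, 1], [0, 2, 2, 2, 0, 0, 0, 2, 0, 0, 0, 0, 2, 2], [1, 2, 2, 2, 2, 1, 0, 1, 0, 0, 0, 1, 1, 2], [2, 1, 2, 0, 2, 2, 2, 1, 0, 0, 2, 2, 1, 1], [2, 0, 1, 1, 0, 1, 1, 2, 0, 1, 1, 2, 2, 0], [0, 2, 0, 1, 0, 0, 0, 1, 1, 0, 0, 0, 1, 2], [0, 0, 2, 2, 0, 0, 0, 0, 2, 0, 0, 0, 2, 1], [0, 2, 1, 2, 2, 2, 0, 2, 2, 2, 2, 1, 2, 0], [0, 1, 1, 1, 2, 2, 1, 2, 2, 2, 0, 2, 0, 1], [1, 2, 0, 2, 2, 0, 1, 0, 2, 1, 2, 2, 2, 1], [0, 0, 2, 2, 0, 0, 0, 1, 2, 0, 0, 0, 0, 2], [0, 1, 2, 0, 0, 0, 0,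 1, 1, 0, 0, 0, 2, 2]]
  | ⟨16, _⟩ => [[2, 2, 0, 1, 0, 1, 2, 0, 2, 1, 1, 2, 0, 0], [0, 2, 0, 1, 0, 0, 0, 2, 1, 0, 0, 0, 1, 2], [0, 1, 1, 2, 0, 0, 0, 0, 1, 0, 0, 0, 2, 1], [0, 1, 0, 1, 0, 0, 0, 2, 2, 0, 0, 0, 1, 1], [1, 2, 2, 1, 1, 2, 0, 1, 2, 1, 2, 1, 2, 0], [1, 1, 0, 0, 0, 1, 2, 1, 0, 2, 1, 1, 0, 1], [0, 0, 1, 2, 1, 2, 1, 1, 1, 0, 1, 1, 2, 1], [0, 0, 1, 2, 0, 0, 0, 1, 0, 0, 0, 0, 1, 1], [0, 1, 1, 2, 0, 0, 0, 0, 2, 0, 0, 0, 0, 2], [1, 0, 2, 1, 1, 2, 0, 0, 0, 2, 0, 2, 1, 2], [0, 1, 0, 0, 0, 2, 1, 2, 1, 0, 0, 1, 1, 1], [0, 1, 2, 1, 2, 1, 2, 1, 0, 2, 1, 2, 2, 0], [0, 0, 0, 2, 0, 0, 0, 1, 0, 0, 0, 0, 0, 1], [0, 0, 2, 1, 0, 0, 0, 2,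 2, 0, 0, 0, 1, 2]]
  | ⟨17, _⟩ => [[2, 2, 2, 0, 2, 2, 0, 2, 1, 2, 0, 0, 2, 2], [0, 2, 2, 2, 0, 0, 0, 0, 2, 0, 0, 0, 0, 0], [0, 0, 1, 0, 0, 0, 0, 1, 1, 0, 0, 0, 0, 2], [0, 2, 2, 1, 0, 0, 0, 2, 2, 0, 0, 0, 2, 1], [0, 1, 1, 2, 1, 0, 1, 1, 0, 1, 0, 2, 1, 0], [2, 2, 2, 2, 2, 1, 2, 2, 0, 2, 2, 1, 1, 0], [1, 1, 2, 1, 0, 2, 1, 2, 0, 0, 1, 2, 2, 0], [0, 1, 0, 2, 0, 0, 0, 1, 0, 0, 0, 0, 1, 2], [0, 2, 1, 2, 0, 0, 0, 0, 2, 0, 0, 0, 0, 2], [2, 0, 2, 0, 1, 2, 0, 0, 0, 2, 0, 2, 1, 0], [2, 1, 1, 2, 2, 1, 1, 2, 0, 0, 0, 1, 2, 0], [1, 1, 0, 1, 1, 1, 1, 2, 0, 2, 1, 2, 2, 0], [0, 2, 2, 1, 0, 0, 0, 1, 0, 0, 0, 0, 0, 1], [0, 1, 1, 1, 0, 0, 0, 1, 2,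 0, 0, 0, 1, 2]]
  | ⟨18, _⟩ => [[0, 1, 1, 0, 0, 0, 1, 0, 2, 1, 2, 2, 0, 0], [0, 0, 0, 0, 0, 0, 0, 1, 1, 0, 0, 0, 2, 2], [0, 2, 1, 2, 0, 0, 0, 1, 2, 0, 0, 0, 2, 2], [0, 1, 2, 2, 0, 0, 0, 1, 0, 0, 0, 0, 0, 1], [2, 2, 0, 2, 1, 2, 1, 2, 0, 2, 2, 2, 1, 0], [1, 0, 0, 2, 2, 2, 1, 1, 1, 0, 0, 1, 2, 1], [1, 2, 0, 1, 1, 1, 0, 2, 0, 2, 0, 2, 2, 2], [0, 1, 1, 1, 0, 0, 0, 0, 2, 0, 0, 0, 0, 2], [0, 1, 1, 2, 0, 0, 0, 0, 0, 0, 0, 0, 2, 1], [1, 1, 0, 2, 1, 2, 0, 2, 1, 0, 2, 1, 1, 1], [0, 0, 0, 1, 2, 1, 1, 1, 0, 2, 2, 1, 0, 1], [0, 1, 0, 1, 1, 1, 1, 2, 2, 1, 1, 1, 1, 0], [0, 0, 2, 1, 0, 0, 0, 1, 2, 0, 0, 0, 2, 1], [0, 0, 1, 1, 0, 0, 0, 1, 1, 0,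 0, 0, 1, 1]]
  | ⟨19, _⟩ => [[2, 2, 2, 0, 0, 2, 2, 0, 0, 2, 1, 0, 1, 0], [0, 2, 0, 2, 0, 0, 0, 2, 2, 0, 0, 0, 1, 0], [0, 1, 1, 2, 0, 0, 0, 0, 1, 0, 0, 0, 2, 1], [0, 0, 2, 2, 0, 0, 0, 2, 1, 0, 0, 0, 2, 0], [1, 0, 1, 1, 1, 2, 0, 2, 2, 1, 2, 1, 2, 1], [0, 1, 1, 1, 2, 2, 2, 1, 2, 1, 2, 0, 0, 0], [1, 1, 0, 0, 0, 2, 2, 2, 0, 0, 1, 2, 2, 1], [0, 1, 0, 2, 0, 0, 0, 2, 0, 0, 0, 0, 1, 2], [0, 2, 2, 2, 0, 0, 0, 1, 2, 0, 0, 0, 1, 2], [2, 2, 2, 2, 2, 2, 1, 0, 2, 2, 1, 2, 1, 2], [1, 1, 1, 1, 1, 2, 0, 0, 1, 2, 1, 0, 0, 0], [1, 2, 2, 2, 1, 0, 0, 0, 2, 0, 1, 2, 2, 1], [0, 1, 1, 2, 0, 0, 0, 0, 2, 0, 0, 0, 1, 0], [0, 1, 1, 0, 0, 0, 0, 0, 0, 0, 0,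 0, 1, 2]]
  | ⟨20, _⟩ => [[0, 0, 0, 1, 2, 2, 1, 2, 2, 1, 1, 2, 2, 0], [0, 0, 2, 2, 0, 0, 0, 1, 1, 0, 0, 0, 1, 2], [0, 1, 2, 1, 0, 0, 0, 1, 2, 0, 0, 0, 1, 1], [0, 0, 2, 2, 0, 0, 0, 0, 0, 0, 0, 0, 1, 2], [1, 0, 1, 0, 2, 1, 1, 0, 0, 2, 1, 1, 0, 2], [0, 0, 0, 2, 2, 2, 0, 1, 1, 0, 1, 2, 1, 0], [2, 0, 2, 1, 1, 0, 0, 0, 0, 0, 0, 2, 1, 1], [0, 2, 1, 0, 0, 0, 0, 0, 0, 0, 0, 0, 0, 2], [0, 0, 1, 2, 0, 0, 0, 0, 0, 0, 0, 0, 2, 2], [0, 1, 2, 2, 1, 2, 0, 2, 1, 0, 2, 2, 2, 1], [0, 0, 1, 2, 0, 2, 1, 0, 0, 1, 1, 0, 1, 1], [1, 2, 2, 1, 2, 1, 2, 1, 2, 1, 1, 1, 1, 1], [0, 0, 0, 2, 0, 0, 0, 1, 1, 0, 0, 0, 1, 0], [0, 1, 2, 1, 0, 0, 0, 2, 1, 0, 0, 0,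 1, 1]]
  | ⟨21, _⟩ => [[2, 2, 1, 1, 1, 1, 1, 1, 2, 0, 1, 2, 0, 2], [0, 2, 1, 1, 0, 0, 0, 1, 0, 0, 0, 0, 1, 2], [0, 1, 2, 0, 0, 0, 0, 2, 2, 0, 0, 0, 0, 2], [0, 2, 0, 1, 0, 0, 0, 0, 2, 0, 0, 0, 2, 2], [1, 2, 1, 0, 2, 0, 2, 1, 2, 2, 0, 2, 2, 2], [2, 2, 2, 0, 0, 1, 0, 2, 2, 2, 2, 2, 1, 2], [1, 0, 2, 1, 2, 0, 1, 2, 1, 2, 2, 0, 1, 1], [0, 1, 2, 0, 0, 0, 0, 1, 2, 0, 0, 0, 2, 0], [0, 0, 2, 1, 0, 0, 0, 2, 0, 0, 0, 0, 2, 2], [0, 2, 2, 0, 2, 1, 2, 0, 0, 0, 2, 2, 0, 1], [2, 1, 2, 1, 0, 2, 1, 2, 2, 1, 2, 2, 1, 1], [2, 1, 1, 2, 2, 1, 0, 2, 1, 2, 1, 2, 1, 0], [0, 2, 0, 2, 0, 0, 0, 1, 1, 0, 0, 0, 2, 2], [0, 2, 2, 1, 0, 0, 0, 0, 2, 0, 0, 0, 1,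 2]]
  | ⟨22, _⟩ => [[1, 0, 0, 2, 1, 1, 2, 1, 0, 0, 1, 2, 2, 2], [0, 1, 1, 1, 0, 0, 0, 2, 0, 0, 0, 0, 1, 2], [0, 0, 2, 1, 0, 0, 0, 2, 2, 0, 0, 0, 1, 2], [0, 0, 0, 1, 0, 0, 0, 2, 0, 0, 0, 0, 0, 2], [0, 1, 2, 1, 2, 1, 2, 1, 0, 2, 1, 2, 2, 0], [0, 2, 2, 1, 0, 1, 2, 0, 1, 0, 0, 2, 0, 1], [1, 0, 2, 2, 1, 2, 0, 2, 0, 2, 0, 2, 1, 1], [0, 1, 1, 2, 0, 0, 0, 0, 2, 0, 0, 0, 0, 2], [0, 0, 1, 0, 0, 0, 0, 0, 0, 0, 0, 0, 1, 0], [0, 2, 2, 1, 1, 0, 0, 0, 1, 0, 1, 0, 0, 1], [1, 0, 0, 1, 1, 1, 0, 2, 0, 1, 0, 2, 1, 2], [0, 1, 1, 0, 2, 1, 1, 0, 0, 0, 2, 2, 0, 2], [0, 1, 1, 1, 0, 0, 0, 0, 1, 0, 0, 0, 0, 2], [0, 0, 2, 1, 0, 0, 0, 1, 0, 0, 0, 0, 2, 2]]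
  | ⟨23, _⟩ => [[2, 2, 0, 1, 0, 1, 1, 0, 1, 2, 1, 1, 0, 0], [0, 2, 0, 1, 0, 0, 0, 1, 2, 0, 0, 0, 1, 1], [0, 2, 1, 1, 0, 0, 0, 0, 1, 0, 0, 0, 1, 1], [0, 1, 0, 1, 0, 0, 0, 1, 1, 0, 0, 0, 1, 2], [2, 1, 2, 2, 1, 1, 0, 1, 2, 1, 1, 1, 1, 0], [1, 1, 0, 0, 0, 1, 1, 2, 0, 1, 1, 2, 0, 2], [0, 0, 1, 1, 1, 1, 1, 1, 1, 0, 2, 1, 1, 1], [0, 0, 1, 1, 0, 0, 0, 1, 0, 0, 0, 0, 2, 1], [0, 2, 1, 1, 0, 0, 0, 0, 2, 0, 0, 0, 0, 2], [2, 0, 2, 2, 1, 1, 0, 0, 0, 2, 0, 2, 2, 2], [0, 1, 0, 0, 0, 2, 2, 1, 2, 0, 0, 2, 1, 2], [0, 2, 2, 2, 2, 2, 2, 1, 0, 2, 2, 2, 1, 0], [0, 0, 0, 2, 0, 0, 0, 2, 0, 0, 0, 0, 0, 2], [0, 0, 2, 2, 0, 0, 0, 2, 2, 0, 0, 0, 2, 2]]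
  | ⟨24, _⟩ => [[0, 0, 0, 1, 1, 2, 2, 1, 1, 2, 1, 1, 2, 0], [0, 0, 1, 2, 0, 0, 0, 2, 2, 0, 0, 0, 1, 1], [0, 2, 2, 2, 0, 0, 0, 1, 2, 0, 0, 0, 2, 1], [0, 0, 1, 2, 0, 0, 0, 0, 0, 0, 0, 0, 1, 1], [2, 0, 1, 0, 2, 2, 1, 0, 0, 2, 2, 1, 0, 2], [0, 0, 0, 2, 1, 2, 0, 2, 2, 0, 1, 1, 1, 0], [1, 0, 2, 2, 1, 0, 0, 0, 0, 0, 0, 2, 2, 1], [0, 1, 1, 0, 0, 0, 0, 0, 0, 0, 0, 0, 0, 2], [0, 0, 1, 1, 0, 0, 0, 0, 0, 0, 0, 0, 1, 2], [0, 2, 2, 1, 1, 1, 0, 2, 1, 0, 1, 2, 1, 1], [0, 0, 2, 2, 0, 2, 2, 0, 0, 2, 1, 0, 1, 2], [2, 1, 2, 2, 2, 2, 2, 1, 2, 1, 2, 1, 2, 1], [0, 0, 0, 2, 0, 0, 0, 2, 2, 0, 0, 0, 1, 0], [0, 2, 2, 2, 0, 0, 0, 2, 1, 0, 0, 0, 2, 1]]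
  | ⟨25, _⟩ => [[2, 0, 1, 0, 0, 2, 1, 0, 0, 0, 0, 0, 0, 0], [0, 2, 0, 2, 0, 0, 0, 1, 0, 0, 0, 0, 0, 0], [0, 0, 2, 2, 0, 0, 0, 0, 1, 0, 0, 0, 1, 2], [0, 1, 1, 2, 0, 0, 0, 1, 1, 0, 0, 0, 2, 0], [0, 2, 2, 1, 2, 2, 0, 1, 2, 1, 1, 2, 0, 0], [1, 0, 2, 1, 1, 2, 1, 2, 2, 1, 2, 0, 0, 0], [1, 1, 0, 0, 0, 2, 1, 1, 0, 2, 0, 0, 0, 0], [0, 1, 0, 2, 0, 0, 0, 1, 2, 0, 0, 0, 0, 0], [0, 0, 1, 2, 0, 0, 0, 2, 0, 0, 0, 0, 0, 0], [0, 0, 1, 2, 1, 2, 2, 0, 0, 0, 0, 0, 0, 0], [0, 0, 2, 1, 2, 2, 0, 0, 0, 0, 0, 0, 0, 0], [0, 0, 1, 2, 2, 0, 0, 0, 0, 0, 0, 0, 0, 0], [0, 0, 2, 2, 0, 0, 0, 0, 0, 0, 0, 0, 0, 0], [0, 0, 2, 0, 0, 0, 0, 0, 0, 0, 0, 0, 0, 0]]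
  | ⟨26, _⟩ => [[2, 2, 0, 1, 0, 1, 1, 0, 2, 0, 0, 2, 2, 0], [0, 2, 0, 1, 0, 0, 0, 1, 0, 0, 0, 0, 0, 2], [0, 0, 1, 1, 0, 0, 0, 0, 2, 0, 0, 0, 2, 1], [0, 1, 0, 1, 0, 0, 0, 1, 2, 0, 0, 0, 0, 2], [0, 0, 2, 2, 1, 1, 0, 1, 1, 2, 2, 1, 2, 2], [1, 1, 0, 0, 0, 1, 1, 2, 0, 2, 0, 2, 1, 0], [1, 1, 1, 1, 1, 1, 1, 1, 2, 1, 2, 2, 2, 1], [0, 1, 1, 1, 0, 0, 0, 1, 1, 0, 0, 0, 2, 2], [0, 0, 1, 1, 0, 0, 0, 0, 0, 0, 0, 0, 1, 2], [0, 2, 2, 2, 1, 1, 0, 0, 2, 0, 1, 2, 0, 1], [0, 1, 0, 0, 0, 2, 2, 1, 2, 2, 1, 0, 2, 1], [2, 1, 2, 2, 2, 2, 2, 1, 2, 1, 2, 1, 2, 1], [0, 0, 0, 2, 0, 0, 0, 2, 2, 0, 0, 0, 1, 0], [0, 2, 2, 2, 0, 0, 0, 2, 1, 0, 0, 0, 2, 1]]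
  | ⟨27, _⟩ => [[2, 1, 1, 1, 1, 0, 1, 2, 2, 2, 2, 1, 1, 2], [0, 2, 1, 0, 0, 0, 0, 1, 2, 0, 0, 0, 2, 1], [0, 0, 1, 1, 0, 0, 0, 0, 2, 0, 0, 0, 2, 1], [0, 1, 1, 2, 0, 0, 0, 1, 1, 0, 0, 0, 2, 0], [0, 1, 1, 2, 1, 1, 0, 2, 1, 2, 2, 1, 0, 0], [1, 0, 1, 0, 1, 2, 1, 2, 0, 1, 2, 0, 1, 2], [2, 1, 2, 1, 0, 1, 2, 1, 2, 1, 0, 0, 1, 0], [0, 2, 0, 1, 0, 0, 0, 2, 1, 0, 0, 0, 0, 0], [0, 2, 1, 2, 0, 0, 0, 0, 2, 0, 0, 0, 1, 0], [2, 0, 2, 2, 1, 2, 0, 1, 2, 2, 1, 0, 1, 2], [2, 2, 2, 1, 1, 2, 2, 1, 0, 2, 1, 2, 2, 0], [0, 2, 0, 2, 1, 0, 2, 0, 2, 2, 0, 2, 1, 2], [0, 2, 1, 2, 0, 0, 0, 2, 2, 0, 0, 0, 1, 2], [0, 0, 1, 0, 0, 0, 0, 2, 2, 0, 0, 0, 0, 2]]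
  | ⟨28, _⟩ => [[0, 0, 2, 0, 1, 0, 2, 1, 0, 0, 0, 1, 0, 0], [0, 0, 1, 0, 0, 0, 0, 2, 0, 0, 0, 0, 0, 1], [0, 1, 1, 2, 0, 0, 0, 2, 2, 0, 0, 0, 0, 1], [0, 1, 2, 2, 0, 0, 0, 0, 1, 0, 0, 0, 2, 2], [1, 1, 2, 0, 1, 2, 2, 0, 0, 2, 0, 1, 1, 0], [1, 1, 1, 1, 2, 2, 0, 0, 1, 1, 2, 2, 1, 2], [2, 0, 0, 1, 2, 0, 0, 0, 2, 0, 1, 1, 0, 1], [0, 2, 2, 0, 0, 0, 0, 0, 0, 0, 0, 0, 1, 1], [0, 2, 1, 0, 0, 0, 0, 0, 0, 0, 0, 0, 1, 2], [2, 0, 0, 1, 1, 0, 0, 0, 1, 0, 1, 2, 0, 2], [2, 2, 1, 2, 2, 1, 0, 0, 1, 1, 1, 2, 2, 2], [1, 1, 1, 0, 2, 2, 1, 0, 0, 1, 0, 2, 1, 0], [0, 2, 2, 1, 0, 0, 0, 0, 1, 0, 0, 0, 1, 2], [0, 1, 2, 2, 0, 0, 0, 1, 1, 0, 0, 0, 0, 2]]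
  | ⟨29, _⟩ => [[0, 1, 2, 2, 1, 1, 2, 2, 1, 0, 0, 1, 1, 0], [0, 0, 1, 1, 0, 0, 0, 2, 0, 0, 0, 0, 0, 1], [0, 2, 2, 1, 0, 0, 0, 0, 2, 0, 0, 0, 1, 2], [0, 0, 2, 2, 0, 0, 0, 2, 1, 0, 0, 0, 2, 0], [2, 0, 2, 2, 2, 1, 0, 1, 1, 2, 1, 2, 1, 2], [0, 0, 0, 2, 2, 2, 2, 1, 1, 1, 2, 0, 1, 2], [2, 2, 2, 2, 0, 1, 1, 0, 1, 0, 2, 1, 0, 2], [0, 2, 0, 1, 0, 0, 0, 1, 0, 0, 0, 0, 2, 1], [0, 1, 0, 0, 0, 0, 0, 1, 2, 0, 0, 0, 1, 1], [1, 0, 0, 1, 0, 0, 1, 1, 1, 2, 1, 1, 1, 2], [1, 2, 2, 2, 0, 2, 2, 2, 0, 1, 0, 1, 2, 0], [1, 2, 0, 0, 1, 1, 2, 1, 2, 1, 1, 2, 1, 1], [0, 1, 0, 2, 0, 0, 0, 2, 1, 0, 0, 0, 0, 1], [0, 1, 1, 1, 0, 0, 0, 2, 1, 0, 0, 0, 1, 2]]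
  | ⟨30, _⟩ => [[1, 1, 0, 1, 1, 0, 0, 1, 0, 2, 2, 0, 2, 0], [0, 1, 1, 0, 0, 0, 0, 0, 2, 0, 0, 0, 2, 0], [0, 0, 2, 1, 0, 0, 0, 1, 0, 0, 0, 0, 2, 2], [0, 2, 1, 0, 0, 0, 0, 1, 2, 0, 0, 0, 2, 0], [0, 0, 1, 1, 2, 1, 1, 2, 2, 0, 2, 2, 1, 1], [2, 2, 0, 2, 1, 0, 1, 0, 1, 2, 2, 0, 0, 0], [2, 2, 2, 1, 1, 1, 2, 1, 2, 2, 2, 2, 2, 2], [0, 2, 1, 1, 0, 0, 0, 2, 2, 0, 0, 0, 2, 2], [0, 0, 1, 2, 0, 0, 0, 0, 0, 0, 0, 0, 2, 2], [0, 1, 2, 0, 1, 2, 0, 1, 0, 0, 2, 2, 1, 1], [0, 2, 2, 1, 0, 2, 1, 1, 2, 1, 1, 0, 0, 0], [1, 2, 2, 1, 2, 1, 2, 1, 2, 1, 1, 1, 1, 1], [0, 0, 0, 2, 0, 0, 0, 1, 1, 0, 0, 0, 1, 0], [0, 1, 2, 1, 0, 0, 0, 2, 1, 0, 0, 0, 1, 1]]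
  | ⟨31, _⟩ => [[0, 0, 0, 2, 1, 2, 2, 0, 2, 2, 2, 2, 2, 2], [0, 0, 1, 2, 0, 0, 0, 2, 2, 0, 0, 0, 2, 2], [0, 0, 1, 0, 0, 0, 0, 2, 2, 0, 0, 0, 0, 2], [0, 1, 0, 1, 0, 0, 0, 0, 0, 0, 0, 0, 2, 0], [0, 0, 1, 0, 1, 0, 2, 2, 1, 2, 0, 2, 0, 1], [1, 2, 2, 0, 0, 1, 0, 1, 1, 0, 2, 0, 0, 1], [0, 2, 1, 2, 2, 0, 2, 2, 2, 1, 0, 2, 1, 2], [0, 0, 2, 0, 0, 0, 0, 2, 1, 0, 0, 0, 0, 2], [0, 2, 2, 2, 0, 0, 0, 1, 2, 0, 0, 0, 1, 2], [2, 1, 1, 0, 2, 2, 1, 0, 0, 2, 1, 2, 0, 2], [1, 0, 0, 1, 1, 2, 0, 0, 1, 2, 1, 0, 2, 1], [1, 2, 2, 2, 1, 0, 0, 0, 2, 0, 1, 2, 2, 1], [0, 1, 1, 2, 0, 0, 0, 0, 2, 0, 0, 0, 1, 0], [0, 1, 1, 0, 0, 0, 0, 0, 0, 0, 0, 0, 1, 2]]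
  | ⟨32, _⟩ => [[0, 1, 0, 0, 1, 2, 2, 1, 0, 2, 0, 0, 0, 2], [0, 0, 1, 2, 0, 0, 0, 2, 2, 0, 0, 0, 0, 0], [0, 0, 1, 2, 0, 0, 0, 1, 1, 0, 0, 0, 2, 1], [0, 0, 2, 2, 0, 0, 0, 1, 2, 0, 0, 0, 1, 1], [0, 2, 0, 2, 1, 2, 1, 2, 2, 1, 2, 1, 2, 0], [0, 0, 2, 0, 2, 2, 1, 0, 2, 2, 1, 1, 1, 0], [2, 2, 1, 2, 1, 1, 0, 1, 2, 0, 1, 1, 1, 0], [0, 2, 1, 1, 0, 0, 0, 0, 0, 0, 0, 0, 1, 1], [0, 2, 2, 0, 0, 0, 0, 2, 0, 0, 0, 0, 2, 1], [2, 1, 2, 1, 2, 0, 2, 0, 2, 0, 2, 1, 2, 0], [1, 0, 2, 2, 2, 0, 0, 2, 2, 2, 2, 1, 2, 0], [1, 1, 0, 2, 2, 1, 2, 0, 2, 1, 1, 1, 1, 0], [0, 1, 2, 0, 0, 0, 0, 0, 2, 0, 0, 0, 2, 1], [0, 1, 2, 1, 0, 0, 0, 2, 1, 0, 0, 0, 1, 1]]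
  | ⟨33, _⟩ => [[1, 0, 0, 2, 2, 2, 1, 0, 2, 2, 1, 1, 2, 2], [0, 1, 2, 2, 0, 0, 0, 1, 2, 0, 0, 0, 1, 1], [0, 2, 1, 0, 0, 0, 0, 2, 2, 0, 0, 0, 1, 1], [0, 1, 0, 1, 0, 0, 0, 0, 2, 0, 0, 0, 2, 0], [2, 2, 1, 0, 1, 0, 2, 2, 1, 2, 1, 1, 0, 0], [1, 1, 1, 0, 0, 1, 0, 2, 2, 2, 2, 0, 2, 2], [1, 0, 1, 1, 2, 0, 2, 2, 1, 1, 0, 0, 1, 0], [0, 1, 2, 0, 0, 0, 0, 2, 1, 0, 0, 0, 0, 0], [0, 2, 2, 1, 0, 0, 0, 1, 1, 0, 0, 0, 1, 0], [2, 1, 1, 0, 2, 1, 1, 0, 0, 1, 1, 0, 2, 2], [2, 0, 0, 1, 2, 2, 0, 0, 1, 2, 2, 2, 2, 0], [1, 2, 2, 1, 1, 0, 0, 0, 1, 0, 1, 2, 2, 2], [0, 2, 2, 2, 0, 0, 0, 0, 2, 0, 0, 0, 2, 2], [0, 1, 1, 0, 0, 0, 0, 0, 0, 0, 0, 0, 1, 2]]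
  | ⟨34, _⟩ => [[1, 0, 0, 2, 2, 1, 1, 2, 0, 0, 1, 1, 2, 1], [0, 1, 2, 1, 0, 0, 0, 1, 0, 0, 0, 0, 1, 1], [0, 0, 2, 2, 0, 0, 0, 2, 2, 0, 0, 0, 2, 2], [0, 0, 0, 1, 0, 0, 0, 1, 0, 0, 0, 0, 0, 1], [0, 2, 2, 2, 2, 2, 2, 1, 0, 2, 2, 2, 1, 0], [0, 2, 1, 1, 0, 1, 1, 0, 2, 0, 0, 1, 0, 2], [2, 0, 2, 1, 1, 1, 0, 2, 0, 2, 0, 2, 2, 1], [0, 2, 1, 1, 0, 0, 0, 0, 2, 0, 0, 0, 0, 2], [0, 0, 1, 0, 0, 0, 0, 0, 0, 0, 0, 0, 2, 0], [0, 1, 2, 2, 1, 0, 0, 0, 1, 0, 2, 0, 0, 1], [1, 0, 0, 1, 2, 1, 0, 1, 0, 2, 0, 1, 1, 1], [0, 2, 1, 0, 2, 2, 1, 0, 0, 0, 1, 2, 0, 2], [0, 1, 2, 1, 0, 0, 0, 0, 2, 0, 0, 0, 0, 1], [0, 0, 2, 2, 0, 0, 0, 1, 0, 0, 0, 0, 1, 2]]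
  | ⟨35, _⟩ => [[2, 0, 0, 0, 0, 0, 0, 0, 0, 2, 2, 2, 1, 1], [0, 2, 0, 0, 0, 0, 0, 0, 2, 0, 0, 0, 2, 2], [0, 0, 0, 0, 0, 0, 0, 0, 0, 0, 0, 0, 0, 1], [0, 0, 0, 0, 0, 0, 0, 0, 0, 0, 0, 0, 2, 1], [0, 0, 0, 0, 0, 0, 0, 0, 0, 0, 0, 1, 2, 2], [0, 0, 0, 0, 0, 0, 0, 0, 0, 0, 2, 1, 1, 2], [0, 0, 0, 0, 0, 0, 0, 0, 0, 1, 2, 2, 1, 0], [0, 0, 0, 0, 0, 0, 0, 0, 1, 0, 0, 0, 2, 2], [0, 1, 0, 0, 0, 0, 0, 1, 2, 0, 0, 0, 1, 1], [1, 1, 0, 0, 0, 0, 1, 0, 2, 2, 1, 1, 1, 0], [1, 0, 0, 0, 0, 2, 2, 1, 1, 1, 0, 1, 0, 2], [1, 2, 0, 0, 1, 1, 2, 1, 2, 1, 1, 2, 1, 1], [0, 1, 0, 2, 0, 0, 0, 2, 1, 0, 0, 0, 0, 1], [0, 1, 1, 1, 0, 0, 0, 2, 1, 0, 0, 0, 1, 2]]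
  | ⟨36, _⟩ => [[1, 1, 1, 0, 2, 0, 0, 0, 0, 0, 2, 0, 1, 1], [0, 1, 2, 0, 0, 0, 0, 0, 0, 0, 0, 0, 2, 0], [0, 0, 1, 2, 0, 0, 0, 0, 2, 0, 0, 0, 1, 1], [0, 1, 1, 0, 0, 0, 0, 2, 0, 0, 0, 0, 1, 2], [0, 1, 1, 0, 1, 2, 0, 0, 0, 2, 1, 1, 0, 2], [1, 0, 0, 2, 1, 0, 2, 0, 2, 0, 1, 2, 0, 2], [0, 1, 1, 0, 0, 1, 0, 0, 0, 0, 0, 2, 0, 2], [0, 0, 0, 1, 0, 0, 0, 0, 0, 0, 0, 0, 0, 2], [0, 0, 0, 0, 0, 0, 0, 2, 0, 0, 0, 0, 1, 0], [0, 0, 0, 1, 0, 0, 2, 0, 1, 0, 1, 0, 0, 0], [0, 1, 1, 0, 0, 2, 0, 0, 0, 2, 0, 1, 0, 2], [2, 0, 0, 0, 2, 0, 0, 0, 0, 0, 2, 1, 0, 1], [0, 0, 0, 2, 0, 0, 0, 0, 2, 0, 0, 0, 0, 1], [0, 2, 2, 0, 0, 0, 0, 0, 0, 0, 0, 0, 2, 1]]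
  | ⟨37, _⟩ => [[1, 2, 1, 2, 2, 1, 1, 1, 1, 2, 0, 2, 2, 2], [0, 1, 2, 1, 0, 0, 0, 1, 2, 0, 0, 0, 0, 2], [0, 0, 2, 1, 0, 0, 0, 1, 0, 0, 0, 0, 2, 2], [0, 2, 0, 1, 0, 0, 0, 2, 2, 0, 0, 0, 1, 2], [0, 2, 0, 0, 2, 1, 1, 2, 1, 0, 2, 2, 1, 2], [2, 0, 1, 2, 0, 1, 2, 0, 1, 2, 1, 2, 0, 2], [1, 2, 0, 2, 0, 0, 2, 1, 2, 1, 2, 0, 2, 1], [0, 1, 0, 0, 0, 0, 0, 2, 1, 0, 0, 0, 2, 0], [0, 1, 0, 2, 0, 0, 0, 1, 0, 0, 0, 0, 1, 2], [1, 0, 1, 2, 0, 2, 1, 1, 2, 0, 1, 2, 1, 1], [1, 1, 0, 1, 1, 2, 1, 0, 2, 1, 1, 2, 2, 1], [0, 1, 1, 2, 1, 0, 1, 1, 0, 1, 0, 2, 1, 0], [0, 1, 1, 2, 0, 0, 0, 1, 1, 0, 0, 0, 1, 2], [0, 0, 1, 0, 0, 0, 0, 1, 1, 0, 0, 0, 0, 2]]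
  | ⟨38, _⟩ => [[1, 0, 0, 0, 0, 0, 0, 0, 0, 2, 1, 2, 2, 1], [0, 1, 0, 0, 0, 0, 0, 0, 2, 0, 0, 0, 1, 2], [0, 2, 1, 2, 0, 0, 0, 2, 1, 0, 0, 0, 2, 2], [0, 2, 0, 1, 0, 0, 0, 2, 1, 0, 0, 0, 0, 1], [2, 1, 0, 0, 1, 2, 2, 1, 2, 1, 2, 2, 2, 1], [2, 0, 0, 0, 0, 1, 2, 1, 1, 1, 0, 1, 0, 2], [2, 2, 0, 0, 0, 0, 1, 0, 2, 2, 2, 1, 2, 0], [0, 2, 0, 0, 0, 0, 0, 1, 2, 0, 0, 0, 2, 1], [0, 0, 0, 0, 0, 0, 0, 0, 1, 0, 0, 0, 1, 2], [0, 0, 0, 0, 0, 0, 0, 0, 0, 1, 1, 2, 2, 0], [0, 0, 0, 0, 0, 0, 0, 0, 0, 0, 1, 1, 2, 2], [0, 0, 0, 0, 0, 0, 0, 0, 0, 0, 0, 1, 1, 2], [0, 0, 0, 0, 0, 0, 0, 0, 0, 0, 0, 0, 1, 1], [0, 0, 0, 0, 0, 0, 0, 0, 0, 0, 0, 0, 0, 1]]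
  | ⟨39, _⟩ => [[0, 0, 1, 0, 1, 1, 0, 1, 2, 0, 2, 2, 0, 2], [0, 0, 1, 1, 0, 0, 0, 0, 0, 0, 0, 0, 2, 2], [0, 0, 1, 1, 0, 0, 0, 1, 1, 0, 0, 0, 1, 1], [0, 0, 1, 2, 0, 0, 0, 2, 1, 0, 0, 0, 1, 2], [0, 1, 0, 1, 1, 1, 1, 2, 2, 1, 1, 1, 1, 0], [0, 0, 2, 1, 1, 2, 2, 1, 2, 1, 1, 2, 2, 1], [1, 1, 2, 0, 1, 2, 0, 0, 0, 0, 2, 1, 0, 2], [0, 1, 1, 2, 0, 0, 0, 0, 0, 0, 0, 0, 2, 1], [0, 1, 0, 2, 0, 0, 0, 1, 1, 0, 0, 0, 2, 0], [1, 2, 2, 1, 0, 2, 1, 2, 2, 1, 2, 0, 1, 2], [0, 0, 1, 1, 1, 2, 1, 1, 2, 2, 1, 2, 2, 2], [2, 0, 1, 2, 1, 0, 1, 1, 1, 1, 0, 1, 2, 1], [0, 0, 1, 2, 0, 0, 0, 1, 2, 0, 0, 0, 1, 2], [0, 2, 1, 0, 0, 0, 0, 1, 1, 0, 0, 0, 0, 1]]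
  | ⟨40, _⟩ => [[1, 2, 2, 1, 0, 2, 0, 0, 2, 1, 0, 2, 0, 1], [0, 1, 0, 2, 0, 0, 0, 0, 1, 0, 0, 0, 0, 2], [0, 0, 1, 1, 0, 0, 0, 0, 2, 0, 0, 0, 2, 1], [0, 1, 2, 0, 0, 0, 0, 1, 0, 0, 0, 0, 1, 1], [0, 2, 1, 0, 1, 1, 0, 0, 0, 2, 2, 1, 0, 2], [1, 0, 1, 0, 2, 0, 1, 0, 0, 0, 1, 1, 2, 2], [0, 0, 0, 0, 0, 2, 0, 1, 0, 0, 0, 2, 1, 0], [0, 0, 0, 2, 0, 0, 0, 0, 0, 0, 0, 0, 0, 2], [0, 1, 2, 0, 0, 0, 0, 0, 0, 0, 0, 0, 0, 1], [1, 0, 2, 0, 2, 0, 0, 0, 0, 0, 0, 1, 1, 0], [0, 2, 1, 0, 1, 1, 0, 1, 0, 0, 2, 1, 1, 2], [2, 0, 2, 0, 1, 2, 2, 0, 0, 1, 2, 2, 0, 1], [0, 0, 1, 1, 0, 0, 0, 0, 0, 0, 0, 0, 2, 1], [0, 2, 1, 2, 0, 0, 0, 2, 1, 0, 0, 0, 2, 2]]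
  | ⟨41, _⟩ => [[0, 1, 1, 1, 1, 2, 0, 0, 0, 0, 0, 1, 0, 2], [0, 0, 1, 2, 0, 0, 0, 0, 0, 0, 0, 0, 0, 1], [0, 1, 1, 2, 0, 0, 0, 1, 0, 0, 0, 0, 2, 1], [0, 1, 1, 0, 0, 0, 0, 0, 1, 0, 0, 0, 0, 2], [1, 2, 0, 1, 1, 2, 1, 0, 0, 0, 2, 1, 0, 1], [1, 0, 2, 0, 1, 0, 0, 2, 0, 1, 0, 2, 1, 0], [0, 2, 2, 2, 1, 0, 1, 0, 0, 0, 1, 0, 0, 1], [0, 0, 1, 0, 0, 0, 0, 1, 0, 0, 0, 0, 1, 0], [0, 0, 0, 2, 0, 0, 0, 0, 2, 0, 0, 0, 0, 0], [0, 0, 2, 0, 0, 2, 0, 2, 0, 2, 0, 0, 1, 0], [0, 1, 1, 2, 1, 0, 2, 0, 0, 0, 1, 0, 0, 2], [1, 0, 1, 0, 1, 1, 0, 0, 0, 0, 0, 2, 0, 0], [0, 0, 1, 0, 0, 0, 0, 2, 0, 0, 0, 0, 1, 0], [0, 1, 1, 1, 0, 0, 0, 0, 0, 0, 0, 0, 0, 2]]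
  | ⟨42, _⟩ => [[0, 0, 1, 0, 0, 0, 1, 0, 2, 1, 0, 2, 0, 2], [0, 0, 0, 0, 0, 0, 0, 1, 1, 0, 0, 0, 0, 2], [0, 1, 1, 2, 0, 0, 0, 1, 0, 0, 0, 0, 2, 1], [0, 2, 2, 2, 0, 0, 0, 1, 1, 0, 0, 0, 2, 0], [1, 2, 0, 2, 1, 2, 1, 2, 1, 0, 2, 1, 1, 2], [2, 0, 0, 2, 2, 2, 1, 1, 2, 1, 2, 0, 2, 1], [0, 2, 0, 1, 1, 1, 0, 2, 2, 1, 2, 1, 1, 1], [0, 0, 1, 1, 0, 0, 0, 0, 1, 0, 0, 0, 2, 1], [0, 0, 1, 2, 0, 0, 0, 0, 1, 0, 0, 0, 1, 1], [0, 1, 0, 2, 1, 2, 0, 2, 2, 1, 1, 1, 2, 1], [1, 0, 0, 1, 2, 1, 1, 1, 2, 1, 1, 0, 1, 1], [2, 1, 0, 1, 1, 1, 1, 2, 1, 0, 1, 1, 2, 2], [0, 1, 2, 1, 0, 0, 0, 1, 1, 0, 0, 0, 1, 0], [0, 2, 1, 1, 0, 0, 0, 1, 0, 0, 0, 0, 1, 1]]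
  | ⟨43, _⟩ => [[2, 1, 2, 2, 0, 1, 0, 0, 2, 1, 0, 2, 0, 1], [0, 2, 0, 1, 0, 0, 0, 0, 1, 0, 0, 0, 0, 2], [0, 1, 1, 1, 0, 0, 0, 2, 1, 0, 0, 0, 1, 2], [0, 0, 1, 2, 0, 0, 0, 0, 0, 0, 0, 0, 1, 1], [1, 0, 2, 0, 1, 1, 2, 0, 0, 1, 1, 2, 0, 1], [0, 1, 1, 0, 1, 2, 0, 1, 0, 0, 1, 1, 2, 2], [2, 0, 2, 0, 2, 0, 0, 0, 0, 0, 0, 1, 2, 0], [0, 2, 2, 0, 0, 0, 0, 0, 0, 0, 0, 0, 0, 1], [0, 0, 0, 1, 0, 0, 0, 0, 0, 0, 0, 0, 0, 2], [0, 0, 0, 0, 0, 1, 0, 1, 0, 0, 0, 2, 2, 0], [2, 0, 1, 0, 2, 0, 1, 0, 0, 0, 2, 1, 1, 2], [0, 1, 1, 0, 1, 2, 0, 0, 0, 2, 1, 1, 0, 2], [0, 2, 2, 0, 0, 0, 0, 1, 0, 0, 0, 0, 2, 1], [0, 0, 1, 2, 0, 0, 0, 0, 2, 0, 0, 0, 1, 1]]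
  | ⟨44, _⟩ => [[1, 2, 2, 2, 1, 1, 2, 2, 2, 1, 0, 1, 2, 1], [0, 1, 1, 1, 0, 0, 0, 2, 1, 0, 0, 0, 0, 1], [0, 0, 2, 2, 0, 0, 0, 1, 0, 0, 0, 0, 1, 2], [0, 2, 0, 1, 0, 0, 0, 1, 1, 0, 0, 0, 1, 1], [0, 1, 0, 0, 2, 2, 1, 2, 1, 0, 1, 2, 2, 2], [2, 0, 2, 2, 0, 1, 1, 0, 2, 1, 1, 1, 0, 1], [2, 1, 0, 1, 0, 0, 2, 1, 2, 1, 1, 0, 1, 1], [0, 2, 0, 0, 0, 0, 0, 2, 1, 0, 0, 0, 1, 0], [0, 2, 0, 1, 0, 0, 0, 1, 0, 0, 0, 0, 2, 2], [2, 0, 1, 1, 0, 1, 1, 1, 2, 0, 2, 2, 2, 1], [1, 1, 0, 1, 2, 2, 2, 0, 1, 2, 1, 1, 2, 2], [0, 2, 1, 1, 1, 0, 1, 1, 0, 1, 0, 2, 2, 0], [0, 1, 2, 2, 0, 0, 0, 2, 2, 0, 0, 0, 1, 1], [0, 0, 1, 0, 0, 0, 0, 1, 1, 0, 0, 0, 0, 2]]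
  | ⟨45, _⟩ => [[0, 0, 0, 0, 1, 0, 0, 0, 1, 2, 0, 1, 0, 2], [0, 0, 1, 0, 0, 0, 0, 0, 2, 0, 0, 0, 0, 1], [0, 1, 2, 0, 0, 0, 0, 1, 1, 0, 0, 0, 2, 2], [0, 2, 2, 1, 0, 0, 0, 1, 0, 0, 0, 0, 1, 2], [1, 1, 0, 1, 2, 0, 1, 0, 0, 1, 2, 2, 0, 1], [2, 2, 2, 2, 2, 1, 1, 1, 0, 0, 1, 2, 2, 1], [2, 0, 2, 0, 2, 1, 0, 1, 0, 0, 0, 1, 1, 0], [0, 2, 2, 1, 0, 0, 0, 0, 0, 0, 0, 0, 0, 1], [0, 2, 1, 1, 0, 0, 0, 0, 0, 0, 0, 0, 0, 2], [2, 0, 1, 0, 1, 1, 0, 2, 0, 0, 0, 2, 1, 0], [1, 1, 2, 1, 2, 2, 1, 1, 0, 0, 2, 2, 1, 1], [1, 1, 0, 1, 1, 0, 2, 0, 0, 2, 2, 1, 0, 2], [0, 1, 2, 2, 0, 0, 0, 1, 0, 0, 0, 0, 2, 2], [0, 1, 1, 0, 0, 0, 0, 2, 2, 0, 0, 0, 2, 1]]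
  | ⟨46, _⟩ => [[1, 0, 1, 2, 2, 1, 2, 0, 0, 0, 0, 0, 0, 0], [0, 1, 2, 1, 0, 0, 0, 2, 0, 0, 0, 0, 0, 0], [0, 0, 1, 0, 0, 0, 0, 0, 0, 0, 0, 0, 0, 0], [0, 0, 1, 1, 0, 0, 0, 0, 0, 0, 0, 0, 0, 0], [0, 0, 2, 1, 1, 0, 0, 0, 0, 0, 0, 0, 0, 0], [0, 0, 2, 2, 1, 1, 0, 0, 0, 0, 0, 0, 0, 0], [0, 0, 0, 2, 2, 1, 1, 0, 0, 0, 0, 0, 0, 0], [0, 0, 2, 1, 0, 0, 0, 1, 0, 0, 0, 0, 0, 0], [0, 2, 1, 2, 0, 0, 0, 2, 1, 0, 0, 0, 0, 0], [2, 2, 0, 2, 1, 2, 2, 2, 0, 1, 0, 0, 0, 0], [2, 0, 2, 0, 1, 0, 1, 1, 1, 2, 1, 0, 0, 0], [2, 1, 1, 2, 2, 2, 1, 2, 1, 2, 2, 1, 0, 0], [0, 2, 1, 0, 0, 0, 0, 1, 2, 0, 0, 0, 1, 0], [0, 2, 2, 2, 0, 0, 0, 1, 2, 0, 0, 0, 2, 1]]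
  | ⟨47, _⟩ => [[0, 0, 0, 1, 2, 2, 1, 2, 2, 1, 1, 2, 2, 0], [0, 0, 2, 2, 0, 0, 0, 1, 1, 0, 0, 0, 1, 2], [0, 2, 1, 2, 0, 0, 0, 2, 1, 0, 0, 0, 2, 2], [0, 0, 2, 2, 0, 0, 0, 0, 0, 0, 0, 0, 1, 2], [2, 0, 2, 0, 1, 2, 2, 0, 0, 1, 2, 2, 0, 1], [0, 0, 0, 2, 2, 2, 0, 1, 1, 0, 1, 2, 1, 0], [1, 0, 1, 2, 2, 0, 0, 0, 0, 0, 0, 1, 2, 2], [0, 1, 2, 0, 0, 0, 0, 0, 0, 0, 0, 0, 0, 1], [0, 0, 2, 1, 0, 0, 0, 0, 0, 0, 0, 0, 1, 1], [0, 2, 1, 1, 2, 1, 0, 1, 2, 0, 1, 1, 1, 2], [0, 0, 1, 2, 0, 2, 1, 0, 0, 1, 1, 0, 1, 1], [2, 1, 1, 2, 1, 2, 1, 2, 1, 2, 2, 2, 2, 2], [0, 0, 0, 2, 0, 0, 0, 1, 1, 0, 0, 0, 1, 0], [0, 2, 1, 2, 0, 0, 0, 1, 2, 0, 0, 0, 2, 2]]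
  | ⟨48, _⟩ => [[1, 1, 0, 2, 0, 2, 2, 0, 0, 2, 1, 0, 0, 2], [0, 1, 0, 2, 0, 0, 0, 2, 2, 0, 0, 0, 1, 0], [0, 2, 1, 1, 0, 0, 0, 1, 0, 0, 0, 0, 1, 1], [0, 0, 0, 1, 0, 0, 0, 1, 2, 0, 0, 0, 1, 2], [2, 0, 1, 1, 1, 1, 1, 2, 2, 0, 1, 1, 2, 1], [0, 2, 0, 0, 0, 1, 1, 2, 1, 2, 1, 2, 2, 1], [2, 2, 1, 1, 2, 2, 0, 0, 2, 2, 1, 0, 0, 0], [0, 2, 2, 2, 0, 0, 0, 0, 2, 0, 0, 0, 1, 0], [0, 1, 2, 2, 0, 0, 0, 2, 1, 0, 0, 0, 1, 2], [1, 1, 2, 2, 2, 2, 2, 2, 0, 1, 1, 2, 1, 2], [2, 2, 0, 0, 0, 2, 2, 1, 0, 0, 1, 1, 2, 1], [2, 1, 1, 1, 2, 2, 0, 2, 0, 0, 0, 1, 1, 2], [0, 2, 0, 2, 0, 0, 0, 2, 0, 0, 0, 0, 1, 1], [0, 2, 2, 2, 0, 0, 0, 0, 0, 0, 0, 0, 0, 1]]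
  | ⟨49, _⟩ => [[2, 2, 2, 2, 2, 2, 2, 2, 2, 1, 2, 0, 2, 2], [0, 2, 2, 2, 0, 0, 0, 2, 1, 0, 0, 0, 2, 0], [0, 0, 1, 2, 0, 0, 0, 0, 2, 0, 0, 0, 1, 1], [0, 1, 0, 1, 0, 0, 0, 2, 1, 0, 0, 0, 0, 1], [0, 0, 2, 1, 1, 2, 0, 1, 1, 2, 1, 1, 1, 2], [1, 1, 1, 2, 0, 1, 2, 1, 2, 1, 0, 1, 2, 1], [2, 0, 1, 0, 1, 2, 1, 0, 0, 1, 1, 2, 1, 2], [0, 2, 1, 2, 0, 0, 0, 1, 1, 0, 0, 0, 1, 2], [0, 1, 1, 0, 0, 0, 0, 2, 1, 0, 0, 0, 2, 0], [1, 2, 1, 2, 1, 0, 2, 1, 0, 1, 2, 0, 0, 0], [1, 0, 1, 0, 0, 2, 0, 1, 1, 2, 1, 2, 2, 1], [1, 2, 2, 0, 1, 0, 1, 2, 1, 1, 0, 1, 2, 1], [0, 1, 0, 2, 0, 0, 0, 0, 2, 0, 0, 0, 1, 2], [0, 1, 1, 0, 0, 0, 0, 1, 1, 0, 0, 0, 0, 1]]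
  | ⟨50, _⟩ => [[2, 0, 2, 1, 2, 2, 0, 0, 1, 2, 2, 1, 1, 0], [0, 2, 2, 2, 0, 0, 0, 0, 2, 0, 0, 0, 2, 1], [0, 0, 2, 2, 0, 0, 0, 2, 2, 0, 0, 0, 2, 2], [0, 0, 2, 0, 0, 0, 0, 0, 2, 0, 0, 0, 2, 0], [0, 2, 0, 1, 2, 2, 2, 0, 1, 2, 2, 2, 2, 2], [0, 1, 1, 0, 2, 0, 0, 1, 0, 2, 2, 0, 2, 2], [2, 0, 1, 2, 2, 0, 2, 0, 2, 0, 1, 1, 1, 2], [0, 2, 2, 0, 0, 0, 0, 2, 0, 0, 0, 0, 1, 1], [0, 0, 0, 2, 0, 0, 0, 0, 0, 0, 0, 0, 0, 1], [0, 1, 1, 0, 0, 2, 0, 1, 0, 0, 0, 1, 2, 2], [2, 0, 2, 2, 2, 0, 1, 0, 2, 0, 2, 1, 2, 0], [0, 2, 2, 0, 2, 1, 0, 0, 0, 1, 2, 2, 0, 1], [0, 2, 2, 0, 0, 0, 0, 1, 0, 0, 0, 0, 2, 1], [0, 0, 2, 1, 0, 0, 0, 0, 1, 0, 0, 0, 2, 2]]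
  | ⟨51, _⟩ => [[1, 0, 2, 0, 1, 0, 0, 0, 0, 0, 0, 0, 0, 0], [0, 1, 1, 0, 0, 0, 0, 0, 0, 0, 0, 0, 0, 0], [0, 0, 2, 0, 0, 0, 0, 0, 0, 0, 0, 0, 0, 0], [0, 0, 0, 1, 0, 0, 0, 0, 0, 0, 0, 0, 0, 0], [0, 0, 0, 0, 2, 0, 0, 0, 0, 0, 0, 0, 0, 0], [0, 0, 2, 0, 0, 1, 0, 0, 0, 0, 0, 0, 0, 0], [0, 0, 0, 1, 0, 0, 2, 0, 0, 0, 0, 0, 0, 0], [0, 0, 0, 0, 0, 0, 0, 2, 0, 0, 0, 0, 0, 0], [0, 0, 0, 1, 0, 0, 0, 0, 2, 0, 0, 0, 0, 0], [0, 0, 1, 0, 0, 1, 0, 0, 0, 2, 0, 0, 0, 0], [0, 0, 0, 1, 2, 0, 1, 0, 0, 0, 1, 0, 0, 0], [2, 0, 1, 0, 1, 2, 0, 0, 0, 0, 0, 2, 0, 0], [0, 0, 2, 0, 0, 0, 0, 1, 0, 0, 0, 0, 1, 0], [0, 2, 1, 2, 0, 0, 0, 0, 0, 0, 0, 0, 0, 2]]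
  | ⟨52, _⟩ => [[2, 2, 1, 0, 0, 2, 1, 0, 0, 1, 1, 0, 1, 0], [0, 2, 0, 2, 0, 0, 0, 1, 1, 0, 0, 0, 1, 0], [0, 1, 2, 2, 0, 0, 0, 0, 2, 0, 0, 0, 2, 2], [0, 0, 1, 2, 0, 0, 0, 1, 2, 0, 0, 0, 2, 0], [1, 0, 2, 1, 2, 2, 0, 1, 1, 2, 2, 2, 2, 2], [0, 1, 2, 1, 1, 2, 1, 2, 1, 2, 2, 0, 0, 0], [1, 1, 0, 0, 0, 2, 1, 1, 0, 0, 1, 1, 2, 2], [0, 1, 0, 2, 0, 0, 0, 1, 0, 0, 0, 0, 1, 1], [0, 2, 1, 2, 0, 0, 0, 2, 1, 0, 0, 0, 1, 1], [2, 2, 1, 2, 1, 2, 2, 0, 1, 1, 1, 1, 1, 1], [1, 1, 2, 1, 2, 2, 0, 0, 2, 1, 1, 0, 0, 0], [1, 2, 1, 2, 2, 0, 0, 0, 1, 0, 1, 1, 2, 2], [0, 1, 2, 2, 0, 0, 0, 0, 1, 0, 0, 0, 1, 0], [0, 1, 2, 0, 0, 0, 0, 0, 0, 0, 0, 0, 1, 1]]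
  | ⟨53, _⟩ => [[1, 0, 0, 1, 1, 2, 2, 1, 2, 1, 0, 1, 1, 1], [0, 1, 1, 2, 0, 0, 0, 2, 1, 0, 0, 0, 0, 1], [0, 1, 2, 2, 0, 0, 0, 1, 1, 0, 0, 0, 0, 2], [0, 1, 1, 2, 0, 0, 0, 0, 2, 0, 0, 0, 2, 1], [1, 1, 1, 0, 2, 2, 1, 0, 0, 1, 0, 2, 1, 0], [1, 0, 0, 2, 1, 2, 0, 2, 1, 2, 2, 1, 1, 2], [2, 2, 2, 2, 1, 0, 0, 0, 2, 0, 1, 2, 1, 1], [0, 2, 1, 0, 0, 0, 0, 0, 0, 0, 0, 0, 1, 2], [0, 1, 1, 1, 0, 0, 0, 0, 1, 0, 0, 0, 2, 0], [1, 1, 2, 1, 1, 1, 0, 2, 2, 1, 2, 0, 2, 1], [0, 2, 2, 2, 0, 2, 2, 0, 2, 1, 2, 1, 0, 1], [1, 0, 2, 2, 2, 2, 2, 1, 1, 0, 2, 2, 1, 2], [0, 0, 0, 2, 0, 0, 0, 2, 1, 0, 0, 0, 2, 1], [0, 1, 2, 2, 0, 0, 0, 2, 0, 0, 0, 0, 2, 2]]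
  | ⟨54, _⟩ => [[2, 2, 2, 0, 1, 0, 0, 0, 0, 0, 1, 0, 2, 2], [0, 2, 1, 0, 0, 0, 0, 0, 0, 0, 0, 0, 1, 0], [0, 2, 2, 0, 0, 0, 0, 0, 0, 0, 0, 0, 2, 1], [0, 0, 0, 1, 0, 0, 0, 0, 1, 0, 0, 0, 0, 2], [2, 0, 0, 0, 2, 0, 0, 0, 0, 0, 2, 1, 0, 1], [0, 2, 2, 0, 0, 1, 0, 0, 0, 1, 0, 2, 0, 1], [0, 0, 0, 1, 0, 0, 2, 0, 1, 0, 1, 0, 0, 0], [0, 0, 0, 0, 0, 0, 0, 2, 0, 0, 0, 0, 1, 0], [0, 0, 0, 1, 0, 0, 0, 0, 0, 0, 0, 0, 0, 2], [0, 1, 1, 0, 0, 1, 0, 0, 0, 0, 0, 2, 0, 2], [2, 0, 0, 1, 2, 0, 1, 0, 1, 0, 2, 1, 0, 1], [0, 1, 1, 0, 1, 2, 0, 0, 0, 2, 1, 1, 0, 2], [0, 2, 2, 0, 0, 0, 0, 1, 0, 0, 0, 0, 2, 1], [0, 0, 1, 2, 0, 0, 0, 0, 2, 0, 0, 0, 1, 1]]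
  | ⟨55, _⟩ => [[2, 0, 1, 2, 0, 1, 0, 0, 2, 1, 0, 0, 2, 1], [0, 2, 0, 1, 0, 0, 0, 0, 1, 0, 0, 0, 0, 0], [0, 2, 2, 1, 0, 0, 0, 1, 1, 0, 0, 0, 0, 2], [0, 1, 2, 2, 0, 0, 0, 0, 1, 0, 0, 0, 2, 2], [2, 2, 1, 0, 2, 1, 1, 0, 0, 1, 0, 2, 2, 0], [1, 2, 2, 0, 2, 2, 0, 2, 0, 1, 2, 2, 1, 0], [1, 2, 1, 0, 1, 0, 0, 0, 0, 0, 2, 2, 1, 0], [0, 1, 1, 0, 0, 0, 0, 0, 0, 0, 0, 0, 2, 2], [0, 0, 0, 1, 0, 0, 0, 0, 2, 0, 0, 0, 0, 2], [0, 0, 0, 0, 0, 1, 0, 2, 0, 2, 0, 2, 2, 0], [1, 1, 2, 0, 1, 0, 2, 0, 0, 0, 0, 2, 2, 0], [1, 2, 2, 0, 2, 2, 0, 0, 0, 2, 2, 2, 1, 0], [0, 1, 1, 0, 0, 0, 0, 2, 0, 0, 0, 0, 0, 2], [0, 1, 2, 2, 0, 0, 0, 0, 2, 0, 0, 0, 2, 2]]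
  | ⟨56, _⟩ => [[1, 0, 1, 2, 2, 1, 2, 0, 0, 0, 0, 0, 0, 0], [0, 1, 2, 1, 0, 0, 0, 2, 0, 0, 0, 0, 0, 0], [0, 0, 2, 0, 0, 0, 0, 0, 0, 0, 0, 0, 0, 0], [0, 0, 1, 1, 0, 0, 0, 0, 0, 0, 0, 0, 0, 0], [0, 0, 1, 2, 2, 0, 0, 0, 0, 0, 0, 0, 0, 0], [0, 0, 2, 2, 1, 1, 0, 0, 0, 0, 0, 0, 0, 0], [0, 0, 0, 1, 1, 2, 2, 0, 0, 0, 0, 0, 0, 0], [0, 0, 1, 2, 0, 0, 0, 2, 0, 0, 0, 0, 0, 0], [0, 1, 2, 1, 0, 0, 0, 1, 2, 0, 0, 0, 0, 0], [1, 1, 0, 1, 2, 1, 1, 1, 0, 2, 0, 0, 0, 0], [2, 0, 2, 0, 1, 0, 1, 1, 1, 2, 1, 0, 0, 0], [1, 2, 2, 1, 1, 1, 2, 1, 2, 1, 1, 2, 0, 0], [0, 2, 1, 0, 0, 0, 0, 1, 2, 0, 0, 0, 1, 0], [0, 1, 1, 1, 0, 0, 0, 2, 1, 0, 0, 0, 1, 2]]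
  | ⟨57, _⟩ => [[2, 1, 1, 1, 2, 2, 1, 1, 1, 2, 0, 2, 1, 2], [0, 2, 2, 2, 0, 0, 0, 1, 2, 0, 0, 0, 0, 2], [0, 0, 1, 0, 0, 0, 0, 1, 1, 0, 0, 0, 0, 2], [0, 2, 1, 1, 0, 0, 0, 1, 1, 0, 0, 0, 2, 2], [0, 2, 1, 1, 1, 0, 1, 1, 0, 1, 0, 2, 2, 0], [2, 2, 0, 2, 1, 1, 1, 0, 2, 1, 2, 2, 1, 1], [2, 0, 1, 1, 0, 1, 1, 1, 2, 0, 2, 2, 2, 1], [0, 2, 0, 1, 0, 0, 0, 1, 0, 0, 0, 0, 2, 2], [0, 2, 0, 0, 0, 0, 0, 2, 1, 0, 0, 0, 1, 0], [2, 1, 0, 1, 0, 0, 2, 1, 2, 1, 1, 0, 1, 1], [1, 0, 1, 1, 0, 2, 2, 0, 1, 2, 2, 2, 0, 2], [0, 1, 0, 0, 2, 2, 1, 2, 1, 0, 1, 2, 2, 2], [0, 1, 0, 2, 0, 0, 0, 2, 2, 0, 0, 0, 2, 2], [0, 0, 2, 2, 0, 0, 0, 1, 0, 0, 0, 0, 1, 2]]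
  | ⟨58, _⟩ => [[1, 1, 1, 1, 0, 2, 0, 0, 0, 0, 0, 2, 0, 1], [0, 1, 0, 2, 0, 0, 0, 0, 0, 0, 0, 0, 0, 2], [0, 1, 2, 1, 0, 0, 0, 0, 0, 0, 0, 0, 0, 1], [0, 0, 1, 0, 0, 0, 0, 2, 0, 0, 0, 0, 2, 0], [1, 0, 2, 0, 2, 1, 0, 0, 0, 0, 0, 1, 0, 0], [0, 1, 2, 0, 1, 0, 2, 0, 0, 0, 2, 0, 0, 1], [0, 0, 0, 0, 0, 2, 0, 2, 0, 1, 0, 0, 2, 0], [0, 0, 0, 2, 0, 0, 0, 0, 1, 0, 0, 0, 0, 0], [0, 0, 1, 0, 0, 0, 0, 0, 0, 0, 0, 0, 2, 0], [0, 2, 1, 0, 1, 0, 0, 0, 0, 0, 2, 0, 0, 2], [1, 0, 2, 0, 2, 1, 0, 2, 0, 2, 0, 1, 2, 0], [0, 2, 1, 0, 2, 2, 1, 0, 0, 0, 1, 2, 0, 2], [0, 1, 2, 1, 0, 0, 0, 0, 2, 0, 0, 0, 0, 1], [0, 0, 2, 2, 0, 0, 0, 1, 0, 0, 0, 0, 1, 2]]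
  | ⟨59, _⟩ => [[1, 2, 1, 1, 2, 2, 1, 1, 2, 1, 1, 0, 1, 2], [0, 1, 2, 2, 0, 0, 0, 1, 1, 0, 0, 0, 1, 0], [0, 2, 2, 0, 0, 0, 0, 2, 2, 0, 0, 0, 0, 2], [0, 0, 1, 1, 0, 0, 0, 1, 2, 0, 0, 0, 2, 2], [2, 0, 2, 2, 2, 0, 2, 2, 2, 2, 0, 2, 2, 2], [0, 2, 0, 2, 1, 1, 1, 0, 1, 2, 2, 2, 1, 1], [1, 2, 2, 2, 0, 2, 2, 2, 0, 2, 2, 0, 0, 0], [0, 1, 0, 2, 0, 0, 0, 2, 2, 0, 0, 0, 2, 0], [0, 1, 0, 0, 0, 0, 0, 1, 2, 0, 0, 0, 1, 1], [1, 2, 0, 2, 0, 0, 1, 2, 0, 2, 1, 1, 1, 1], [1, 1, 1, 1, 0, 2, 2, 0, 2, 1, 0, 1, 1, 1], [1, 2, 0, 0, 1, 1, 2, 1, 2, 1, 1, 2, 1, 1], [0, 1, 0, 2, 0, 0, 0, 2, 1, 0, 0, 0, 0, 1], [0, 1, 1, 1, 0, 0, 0, 2, 1, 0, 0, 0, 1, 2]]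
  | ⟨60, _⟩ => [[2, 0, 0, 0, 0, 0, 0, 0, 0, 0, 0, 2, 0, 1], [0, 2, 0, 0, 0, 0, 0, 0, 0, 0, 0, 0, 0, 2], [0, 0, 0, 0, 0, 0, 0, 0, 0, 0, 0, 0, 0, 2], [0, 0, 0, 0, 0, 0, 0, 0, 0, 0, 0, 0, 2, 0], [0, 0, 0, 0, 0, 0, 0, 0, 0, 0, 0, 2, 0, 0], [0, 0, 0, 0, 0, 0, 0, 0, 0, 0, 2, 0, 0, 1], [0, 0, 0, 0, 0, 0, 0, 0, 0, 2, 0, 0, 1, 0], [0, 0, 0, 0, 0, 0, 0, 0, 2, 0, 0, 0, 0, 0], [0, 0, 0, 0, 0, 0, 0, 2, 0, 0, 0, 0, 1, 0], [0, 0, 0, 0, 0, 0, 2, 0, 0, 0, 1, 0, 0, 1], [0, 0, 0, 0, 0, 2, 0, 0, 0, 2, 0, 1, 2, 0], [2, 0, 0, 0, 2, 0, 0, 0, 0, 0, 2, 1, 0, 1], [0, 0, 0, 2, 0, 0, 0, 0, 2, 0, 0, 0, 0, 1], [0, 2, 2, 0, 0, 0, 0, 0, 0, 0, 0, 0, 2, 1]]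
  | ⟨61, _⟩ => [[1, 1, 1, 0, 1, 1, 0, 1, 2, 1, 0, 0, 1, 1], [0, 1, 1, 1, 0, 0, 0, 0, 1, 0, 0, 0, 0, 0], [0, 1, 1, 1, 0, 0, 0, 1, 2, 0, 0, 0, 1, 2], [0, 1, 1, 2, 0, 0, 0, 2, 0, 0, 0, 0, 0, 2], [1, 1, 0, 1, 1, 1, 1, 2, 0, 2, 1, 2, 2, 0], [1, 2, 2, 1, 1, 2, 2, 1, 0, 0, 0, 2, 1, 0], [2, 0, 2, 0, 1, 2, 0, 0, 0, 2, 0, 2, 1, 0], [0, 2, 1, 2, 0, 0, 0, 0, 2, 0, 0, 0, 0, 2], [0, 1, 0, 2, 0, 0, 0, 1, 0, 0, 0, 0, 1, 2], [1, 1, 2, 1, 0, 2, 1, 2, 0, 0, 1, 2, 2, 0], [1, 1, 1, 1, 1, 2, 1, 1, 0, 1, 1, 2, 2, 0], [0, 1, 1, 2, 1, 0, 1, 1, 0, 1, 0, 2, 1, 0], [0, 1, 1, 2, 0, 0, 0, 1, 1, 0, 0, 0, 1, 2], [0, 0, 1, 0, 0, 0, 0, 1, 1, 0, 0, 0, 0, 2]]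
  | ⟨62, _⟩ => [[2, 0, 2, 0, 1, 0, 0, 0, 0, 0, 0, 0, 0, 0], [0, 2, 1, 0, 0, 0, 0, 0, 0, 0, 0, 0, 0, 0], [0, 1, 1, 1, 0, 0, 0, 0, 0, 0, 0, 0, 0, 2], [0, 0, 2, 0, 0, 0, 0, 1, 0, 0, 0, 0, 2, 0], [1, 0, 1, 0, 1, 1, 0, 0, 0, 0, 0, 2, 0, 0], [0, 0, 0, 2, 2, 0, 1, 0, 0, 0, 2, 0, 0, 0], [0, 0, 1, 0, 0, 2, 0, 0, 0, 2, 0, 0, 0, 0], [0, 0, 0, 2, 0, 0, 0, 0, 2, 0, 0, 0, 0, 0], [0, 0, 0, 0, 0, 0, 0, 2, 0, 0, 0, 0, 0, 0], [0, 0, 0, 2, 0, 0, 2, 0, 0, 0, 0, 0, 0, 0], [0, 0, 2, 0, 0, 2, 0, 0, 0, 0, 0, 0, 0, 0], [0, 0, 0, 0, 2, 0, 0, 0, 0, 0, 0, 0, 0, 0], [0, 0, 0, 2, 0, 0, 0, 0, 0, 0, 0, 0, 0, 0], [0, 0, 2, 0, 0, 0, 0, 0, 0, 0, 0, 0, 0, 0]]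
  | ⟨n+63, h⟩ => absurd h (by omega)
def T14_c5 : Fin 63 → List (List ℕ)
  | ⟨0, _⟩ => [[0, 2, 0, 0, 2, 1, 1, 2, 0, 1, 0, 0, 0, 1], [0, 0, 2, 1, 0, 0, 0, 1, 1, 0, 0, 0, 0, 0], [0, 1, 2, 1, 0, 0, 0, 2, 1, 0, 0, 0, 1, 1], [0, 2, 1, 0, 0, 0, 0, 0, 1, 0, 0, 0, 1, 2], [1, 1, 0, 2, 2, 1, 2, 0, 2, 1, 1, 1, 1, 0], [2, 0, 1, 1, 1, 0, 0, 1, 1, 1, 1, 2, 1, 0], [2, 1, 2, 1, 2, 0, 2, 0, 2, 0, 2, 1, 2, 0], [0, 2, 2, 0, 0, 0, 0, 2, 0, 0, 0, 0, 2, 1], [0, 2, 1, 1, 0, 0, 0, 0, 0, 0, 0, 0, 1, 1], [2, 2, 1, 2, 1, 1, 0, 1, 2, 0, 1, 1, 1, 0], [0, 0, 1, 0, 1, 1, 2, 0, 1, 1, 2, 2, 2, 0], [0, 2, 0, 2, 1, 2, 1, 2, 2, 1, 2, 1, 2, 0], [0, 0, 1, 1, 0, 0,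 0, 2, 1, 0, 0, 0, 2, 2], [0, 0, 1, 2, 0, 0, 0, 1, 1, 0, 0, 0, 2, 1]]
  | ⟨1, _⟩ => [[1, 1, 2, 0, 1, 0, 0, 0, 0, 0, 2, 0, 1, 2], [0, 1, 1, 0, 0, 0, 0, 0, 0, 0, 0, 0, 2, 0], [0, 0, 2, 2, 0, 0, 0, 0, 1, 0, 0, 0, 1, 2], [0, 1, 2, 0, 0, 0, 0, 1, 0, 0, 0, 0, 1, 1], [0, 1, 2, 0, 2, 2, 0, 0, 0, 1, 1, 2, 0, 1], [1, 0, 0, 2, 2, 0, 1, 0, 1, 0, 1, 1, 0, 1], [0, 1, 2, 0, 0, 1, 0, 0, 0, 0, 0, 1, 0, 1], [0, 0, 0, 1, 0, 0, 0, 0, 0, 0, 0, 0, 0, 1], [0, 0, 0, 0, 0, 0, 0, 1, 0, 0, 0, 0, 1, 0], [0, 0, 0, 1, 0, 0, 1, 0, 2, 0, 1, 0, 0, 0], [0, 1, 2, 0, 0, 2, 0, 0, 0, 1, 0, 2, 0, 1], [2, 0, 0, 0, 1, 0, 0, 0, 0, 0, 2, 2, 0, 2], [0, 0, 0, 2, 0, 0, 0,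 0, 1, 0, 0, 0, 0, 2], [0, 2, 1, 0, 0, 0, 0, 0, 0, 0, 0, 0, 2, 2]]
  | ⟨2, _⟩ => [[1, 0, 2, 1, 0, 0, 2, 1, 0, 0, 2, 0, 1, 2], [0, 1, 0, 0, 0, 0, 0, 2, 0, 0, 0, 0, 2, 0], [0, 1, 1, 0, 0, 0, 0, 2, 2, 0, 0, 0, 2, 1], [0, 2, 1, 1, 0, 0, 0, 2, 0, 0, 0, 0, 1, 1], [1, 1, 0, 1, 1, 0, 2, 0, 0, 2, 2, 1, 0, 2], [2, 1, 0, 2, 1, 1, 2, 0, 1, 0, 1, 1, 0, 1], [2, 1, 0, 2, 1, 1, 0, 0, 0, 0, 0, 2, 0, 2], [0, 2, 1, 1, 0, 0, 0, 0, 0, 0, 0, 0, 0, 2], [0, 0, 1, 0, 0, 0, 0, 1, 0, 0, 0, 0, 2, 0], [0, 0, 0, 1, 1, 0, 1, 0, 1, 0, 2, 0, 0, 0], [2, 2, 0, 1, 1, 0, 0, 0, 0, 1, 0, 2, 0, 1], [2, 1, 0, 2, 1, 1, 1, 0, 0, 0, 1, 1, 0, 1], [0, 2, 1, 0, 0, 0, 0, 0,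 1, 0, 0, 0, 0, 2], [0, 2, 1, 1, 0, 0, 0, 1, 0, 0, 0, 0, 1, 1]]
  | ⟨3, _⟩ => [[2, 0, 0, 1, 1, 2, 2, 1, 0, 0, 2, 2, 1, 2], [0, 2, 1, 2, 0, 0, 0, 2, 0, 0, 0, 0, 2, 2], [0, 0, 1, 1, 0, 0, 0, 2, 0, 0, 0, 0, 2, 1], [0, 2, 1, 2, 0, 0, 0, 0, 1, 0, 0, 0, 0, 2], [0, 1, 2, 0, 1, 1, 2, 0, 0, 0, 2, 1, 0, 1], [2, 0, 0, 2, 1, 2, 0, 2, 0, 1, 0, 2, 2, 2], [0, 2, 1, 1, 2, 0, 0, 0, 2, 0, 1, 0, 0, 2], [0, 0, 2, 0, 0, 0, 0, 0, 0, 0, 0, 0, 1, 0], [0, 1, 2, 2, 0, 0, 0, 0, 1, 0, 0, 0, 0, 1], [1, 0, 1, 2, 2, 2, 0, 1, 0, 1, 0, 1, 1, 2], [0, 1, 2, 2, 0, 2, 2, 0, 1, 0, 0, 2, 0, 1], [0, 1, 1, 1, 1, 1, 1, 2, 0, 1, 1, 1, 2, 0], [0, 0, 0, 2, 0, 0, 0, 2, 0,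 0, 0, 0, 0, 2], [0, 0, 1, 1, 0, 0, 0, 1, 1, 0, 0, 0, 1, 1]]
  | ⟨4, _⟩ => [[1, 1, 0, 1, 2, 0, 0, 2, 0, 1, 2, 0, 2, 0], [0, 1, 2, 0, 0, 0, 0, 0, 1, 0, 0, 0, 2, 0], [0, 0, 1, 1, 0, 0, 0, 2, 0, 0, 0, 0, 2, 1], [0, 2, 2, 0, 0, 0, 0, 2, 1, 0, 0, 0, 2, 0], [0, 0, 2, 1, 1, 1, 2, 1, 1, 0, 2, 1, 1, 2], [2, 2, 0, 2, 2, 0, 2, 0, 2, 1, 2, 0, 0, 0], [2, 2, 1, 1, 2, 1, 1, 2, 1, 1, 2, 1, 2, 1], [0, 2, 2, 1, 0, 0, 0, 1, 1, 0, 0, 0, 2, 1], [0, 0, 2, 2, 0, 0, 0, 0, 0, 0, 0, 0, 2, 1], [0, 1, 1, 0, 2, 2, 0, 2, 0, 0, 2, 1, 1, 2], [0, 2, 1, 1, 0, 2, 2, 2, 1, 2, 1, 0, 0, 0], [1, 2, 1, 1, 1, 1, 1, 2, 1, 2, 1, 2, 1, 2], [0, 0, 0, 2, 0, 0, 0, 2, 2, 0,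 0, 0, 1, 0], [0, 1, 1, 1, 0, 0, 0, 1, 2, 0, 0, 0, 1, 2]]
  | ⟨5, _⟩ => [[2, 0, 2, 1, 1, 2, 1, 0, 0, 0, 0, 0, 0, 0], [0, 2, 1, 2, 0, 0, 0, 1, 0, 0, 0, 0, 0, 0], [0, 2, 2, 2, 0, 0, 0, 1, 2, 0, 0, 0, 2, 1], [0, 1, 2, 0, 0, 0, 0, 2, 1, 0, 0, 0, 2, 0], [2, 1, 1, 2, 2, 2, 1, 2, 1, 2, 2, 1, 0, 0], [1, 0, 1, 0, 2, 0, 2, 2, 2, 1, 2, 0, 0, 0], [2, 2, 0, 2, 1, 2, 2, 2, 0, 1, 0, 0, 0, 0], [0, 2, 1, 2, 0, 0, 0, 2, 1, 0, 0, 0, 0, 0], [0, 0, 2, 1, 0, 0, 0, 1, 0, 0, 0, 0, 0, 0], [0, 0, 0, 2, 2, 1, 1, 0, 0, 0, 0, 0, 0, 0], [0, 0, 1, 1, 2, 2, 0, 0, 0, 0, 0, 0, 0, 0], [0, 0, 2, 1, 1, 0, 0, 0, 0, 0, 0, 0, 0, 0], [0, 0, 2, 2, 0, 0, 0, 0, 0, 0, 0,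 0, 0, 0], [0, 0, 1, 0, 0, 0, 0, 0, 0, 0, 0, 0, 0, 0]]
  | ⟨6, _⟩ => [[1, 2, 2, 0, 0, 1, 2, 0, 0, 1, 1, 0, 0, 1], [0, 1, 0, 1, 0, 0, 0, 2, 1, 0, 0, 0, 1, 0], [0, 1, 1, 0, 0, 0, 0, 0, 0, 0, 0, 0, 1, 2], [0, 1, 1, 1, 0, 0, 0, 0, 1, 0, 0, 0, 1, 1], [1, 2, 2, 1, 1, 0, 0, 0, 1, 0, 1, 2, 2, 2], [1, 1, 1, 2, 1, 1, 0, 0, 2, 1, 1, 1, 2, 2], [2, 2, 2, 1, 2, 1, 1, 0, 1, 1, 1, 0, 0, 0], [0, 2, 2, 1, 0, 0, 0, 1, 1, 0, 0, 0, 1, 0], [0, 2, 0, 1, 0, 0, 0, 2, 2, 0, 0, 0, 1, 1], [2, 2, 0, 0, 0, 1, 2, 2, 0, 2, 1, 1, 1, 1], [1, 1, 1, 2, 2, 1, 2, 1, 0, 0, 1, 2, 2, 2], [1, 2, 1, 2, 1, 1, 0, 2, 0, 0, 0, 2, 1, 1], [0, 1, 2, 1, 0, 0, 0, 2, 0, 0, 0, 0,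 1, 2], [0, 1, 1, 1, 0, 0, 0, 0, 0, 0, 0, 0, 0, 2]]
  | ⟨7, _⟩ => [[2, 2, 1, 0, 1, 2, 0, 1, 2, 1, 0, 0, 2, 1], [0, 2, 1, 2, 0, 0, 0, 0, 1, 0, 0, 0, 0, 0], [0, 0, 2, 0, 0, 0, 0, 2, 2, 0, 0, 0, 0, 1], [0, 2, 1, 1, 0, 0, 0, 1, 1, 0, 0, 0, 2, 2], [0, 1, 2, 2, 2, 0, 2, 2, 0, 2, 0, 1, 1, 0], [2, 2, 1, 2, 1, 1, 1, 1, 0, 1, 2, 2, 1, 0], [1, 1, 1, 1, 0, 2, 2, 1, 0, 0, 1, 1, 2, 0], [0, 1, 0, 2, 0, 0, 0, 2, 0, 0, 0, 0, 1, 1], [0, 2, 2, 2, 0, 0, 0, 0, 1, 0, 0, 0, 0, 1], [2, 0, 1, 0, 2, 2, 0, 0, 0, 1, 0, 1, 1, 0], [2, 1, 2, 2, 1, 1, 2, 1, 0, 0, 0, 2, 2, 0], [1, 1, 0, 1, 2, 1, 2, 1, 0, 1, 1, 1, 2, 0], [0, 2, 1, 1, 0, 0, 0, 2, 0, 0, 0, 0, 0,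 2], [0, 1, 2, 1, 0, 0, 0, 2, 1, 0, 0, 0, 1, 1]]
  | ⟨8, _⟩ => [[2, 0, 1, 1, 1, 2, 0, 0, 2, 1, 2, 2, 1, 0], [0, 2, 1, 2, 0, 0, 0, 0, 1, 0, 0, 0, 2, 2], [0, 0, 2, 1, 0, 0, 0, 2, 2, 0, 0, 0, 1, 2], [0, 0, 1, 0, 0, 0, 0, 0, 1, 0, 0, 0, 2, 0], [0, 1, 0, 2, 2, 1, 2, 0, 1, 2, 1, 2, 1, 2], [0, 1, 2, 0, 1, 0, 0, 2, 0, 1, 2, 0, 2, 1], [1, 0, 1, 1, 2, 0, 2, 0, 2, 0, 2, 1, 2, 2], [0, 1, 2, 0, 0, 0, 0, 2, 0, 0, 0, 0, 2, 1], [0, 0, 0, 1, 0, 0, 0, 0, 0, 0, 0, 0, 0, 1], [0, 2, 1, 0, 0, 1, 0, 1, 0, 0, 0, 1, 1, 2], [2, 0, 1, 2, 1, 0, 2, 0, 1, 0, 2, 2, 2, 0], [0, 1, 2, 0, 2, 2, 0, 0, 0, 1, 1, 2, 0, 1], [0, 2, 1, 0, 0, 0, 0, 2, 0, 0, 0, 0, 2, 2],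 [0, 0, 2, 2, 0, 0, 0, 0, 1, 0, 0, 0, 1, 2]]
  | ⟨9, _⟩ => [[2, 0, 0, 1, 2, 1, 1, 0, 2, 2, 2, 1, 1, 2], [0, 2, 2, 1, 0, 0, 0, 1, 2, 0, 0, 0, 2, 1], [0, 1, 2, 0, 0, 0, 0, 0, 0, 0, 0, 0, 1, 1], [0, 1, 2, 1, 0, 0, 0, 0, 2, 0, 0, 0, 1, 2], [1, 2, 1, 1, 2, 0, 0, 0, 2, 0, 1, 1, 2, 1], [1, 0, 0, 2, 2, 1, 0, 0, 1, 2, 1, 2, 1, 0], [2, 1, 2, 0, 1, 1, 2, 0, 0, 2, 1, 0, 2, 1], [0, 2, 1, 1, 0, 0, 0, 2, 2, 0, 0, 0, 1, 0], [0, 1, 1, 0, 0, 0, 0, 1, 2, 0, 0, 0, 0, 0], [1, 0, 2, 1, 1, 0, 1, 1, 2, 2, 0, 0, 1, 0], [2, 2, 1, 0, 0, 2, 0, 2, 2, 2, 1, 0, 1, 2], [2, 2, 2, 0, 2, 0, 1, 1, 2, 1, 1, 2, 0, 0], [0, 2, 0, 2, 0, 0, 0, 0, 2, 0, 0, 0, 1, 0], [0,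 2, 2, 0, 0, 0, 0, 1, 1, 0, 0, 0, 1, 2]]
  | ⟨10, _⟩ => [[0, 0, 2, 0, 0, 0, 2, 0, 1, 2, 0, 1, 0, 1], [0, 0, 0, 0, 0, 0, 0, 2, 2, 0, 0, 0, 0, 1], [0, 1, 2, 2, 0, 0, 0, 2, 0, 0, 0, 0, 2, 2], [0, 2, 1, 2, 0, 0, 0, 2, 2, 0, 0, 0, 2, 0], [1, 2, 0, 2, 2, 2, 2, 1, 2, 0, 2, 2, 1, 1], [2, 0, 0, 2, 1, 2, 2, 2, 1, 2, 2, 0, 2, 2], [0, 2, 0, 1, 2, 1, 0, 1, 1, 2, 2, 2, 1, 2], [0, 0, 2, 1, 0, 0, 0, 0, 2, 0, 0, 0, 2, 2], [0, 0, 2, 2, 0, 0, 0, 0, 2, 0, 0, 0, 1, 2], [0, 1, 0, 2, 2, 2, 0, 1, 1, 2, 1, 2, 2, 2], [1, 0, 0, 1, 1, 1, 2, 2, 1, 2, 1, 0, 1, 2], [2, 1, 0, 1, 2, 1, 2, 1, 2, 0, 1, 2, 2, 1], [0, 1, 1, 1, 0, 0, 0, 2, 2, 0, 0, 0, 1, 0], [0, 2,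 2, 1, 0, 0, 0, 2, 0, 0, 0, 0, 1, 2]]
  | ⟨11, _⟩ => [[1, 1, 2, 0, 2, 0, 1, 2, 0, 1, 2, 1, 1, 2], [0, 1, 2, 0, 0, 0, 0, 1, 1, 0, 0, 0, 2, 1], [0, 2, 2, 2, 0, 0, 0, 0, 0, 0, 0, 0, 0, 1], [0, 1, 0, 1, 0, 0, 0, 1, 0, 0, 0, 0, 2, 2], [2, 1, 1, 1, 2, 2, 0, 2, 0, 0, 0, 1, 1, 2], [1, 2, 1, 1, 0, 1, 1, 2, 0, 0, 2, 2, 1, 1], [1, 0, 2, 1, 2, 2, 2, 1, 0, 1, 1, 2, 2, 0], [0, 1, 2, 2, 0, 0, 0, 2, 1, 0, 0, 0, 1, 2], [0, 1, 2, 1, 0, 0, 0, 2, 2, 0, 0, 0, 2, 1], [1, 2, 2, 2, 2, 1, 2, 1, 2, 2, 2, 1, 2, 0], [2, 2, 1, 2, 0, 2, 1, 2, 2, 2, 0, 2, 0, 1], [0, 0, 1, 2, 2, 1, 0, 2, 2, 1, 2, 2, 2, 1], [0, 2, 0, 2, 0, 0, 0, 1, 2, 0, 0, 0, 0, 2], [0, 0, 2,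 1, 0, 0, 0, 0, 1, 0, 0, 0, 2, 2]]
  | ⟨12, _⟩ => [[2, 0, 0, 0, 0, 0, 0, 0, 0, 1, 2, 1, 1, 2], [0, 2, 0, 0, 0, 0, 0, 0, 1, 0, 0, 0, 2, 1], [0, 0, 0, 0, 0, 0, 0, 0, 0, 0, 0, 0, 0, 1], [0, 0, 0, 0, 0, 0, 0, 0, 0, 0, 0, 0, 2, 2], [0, 0, 0, 0, 0, 0, 0, 0, 0, 0, 0, 1, 1, 2], [0, 0, 0, 0, 0, 0, 0, 0, 0, 0, 2, 2, 1, 1], [0, 0, 0, 0, 0, 0, 0, 0, 0, 1, 1, 2, 2, 0], [0, 0, 0, 0, 0, 0, 0, 0, 1, 0, 0, 0, 1, 2], [0, 2, 0, 0, 0, 0, 0, 1, 2, 0, 0, 0, 2, 1], [2, 2, 0, 0, 0, 0, 1, 0, 2, 2, 2, 1, 2, 0], [1, 0, 0, 0, 0, 2, 1, 2, 2, 2, 0, 2, 0, 1], [2, 1, 0, 0, 1, 2, 2, 1, 2, 1, 2, 2, 2, 1], [0, 1, 0, 2, 0, 0, 0, 1, 2, 0, 0, 0, 0, 2], [0, 2, 1, 2,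 0, 0, 0, 2, 1, 0, 0, 0, 2, 2]]
  | ⟨13, _⟩ => [[1, 2, 2, 1, 2, 2, 0, 0, 2, 1, 1, 2, 0, 0], [0, 1, 2, 2, 0, 0, 0, 0, 1, 0, 0, 0, 1, 2], [0, 2, 2, 2, 0, 0, 0, 2, 1, 0, 0, 0, 2, 1], [0, 2, 2, 0, 0, 0, 0, 0, 2, 0, 0, 0, 1, 1], [2, 2, 0, 1, 2, 2, 2, 0, 2, 1, 2, 1, 2, 0], [2, 2, 1, 0, 2, 0, 0, 1, 0, 2, 1, 1, 0, 1], [1, 1, 1, 2, 2, 0, 2, 0, 1, 0, 1, 1, 2, 1], [0, 1, 2, 0, 0, 0, 0, 2, 0, 0, 0, 0, 1, 1], [0, 0, 0, 2, 0, 0, 0, 0, 2, 0, 0, 0, 0, 2], [0, 2, 1, 0, 0, 2, 0, 1, 0, 2, 0, 2, 1, 2], [1, 2, 2, 2, 2, 0, 1, 0, 1, 0, 0, 1, 1, 1], [2, 1, 2, 0, 2, 1, 0, 0, 0, 2, 1, 2, 2, 0], [0, 1, 2, 0, 0, 0, 0, 1, 0, 0, 0, 0, 0, 1], [0, 2, 2, 1, 0,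 0, 0, 0, 2, 0, 0, 0, 1, 2]]
  | ⟨14, _⟩ => [[2, 1, 0, 1, 1, 0, 0, 1, 1, 2, 0, 0, 2, 2], [0, 2, 1, 0, 0, 0, 0, 0, 2, 0, 0, 0, 0, 0], [0, 2, 2, 1, 0, 0, 0, 1, 1, 0, 0, 0, 0, 2], [0, 0, 1, 0, 0, 0, 0, 1, 2, 0, 0, 0, 2, 1], [2, 1, 1, 1, 2, 1, 1, 2, 0, 1, 0, 2, 1, 0], [0, 2, 0, 2, 1, 0, 1, 0, 0, 2, 2, 1, 1, 0], [0, 1, 2, 1, 1, 1, 2, 1, 0, 0, 1, 2, 2, 0], [0, 0, 1, 1, 0, 0, 0, 2, 0, 0, 0, 0, 1, 2], [0, 1, 1, 2, 0, 0, 0, 0, 2, 0, 0, 0, 0, 2], [1, 0, 2, 0, 1, 2, 0, 1, 0, 2, 0, 2, 1, 0], [0, 1, 2, 1, 0, 2, 1, 1, 0, 0, 0, 1, 2, 0], [0, 1, 2, 1, 2, 1, 2, 1, 0, 2, 1, 2, 2, 0], [0, 0, 0, 2, 0, 0, 0, 1, 0, 0, 0, 0, 0, 1], [0, 0, 2, 1, 0, 0,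 0, 2, 2, 0, 0, 0, 1, 2]]
  | ⟨15, _⟩ => [[2, 1, 2, 2, 2, 1, 0, 0, 2, 1, 2, 2, 0, 0], [0, 2, 2, 1, 0, 0, 0, 0, 1, 0, 0, 0, 2, 2], [0, 1, 2, 2, 0, 0, 0, 0, 2, 0, 0, 0, 2, 2], [0, 2, 2, 0, 0, 0, 0, 1, 0, 0, 0, 0, 0, 1], [1, 2, 2, 0, 2, 2, 0, 0, 0, 2, 2, 2, 1, 0], [2, 1, 2, 1, 2, 0, 1, 0, 1, 0, 0, 1, 2, 1], [0, 1, 1, 0, 0, 1, 0, 1, 0, 2, 0, 2, 2, 2], [0, 0, 0, 1, 0, 0, 0, 0, 2, 0, 0, 0, 0, 2], [0, 2, 2, 0, 0, 0, 0, 2, 0, 0, 0, 0, 2, 1], [2, 2, 1, 1, 2, 0, 2, 0, 1, 0, 2, 1, 1, 1], [1, 1, 1, 0, 2, 0, 0, 1, 0, 2, 2, 1, 0, 1], [1, 1, 0, 2, 2, 1, 2, 0, 2, 1, 1, 1, 1, 0], [0, 1, 2, 0, 0, 0, 0, 0, 2, 0, 0, 0, 2, 1], [0, 1, 2, 1, 0, 0, 0,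 2, 1, 0, 0, 0, 1, 1]]
  | ⟨16, _⟩ => [[2, 2, 0, 2, 1, 0, 0, 1, 0, 2, 1, 0, 1, 0], [0, 2, 1, 0, 0, 0, 0, 0, 2, 0, 0, 0, 1, 0], [0, 2, 2, 2, 0, 0, 0, 2, 1, 0, 0, 0, 2, 1], [0, 0, 0, 1, 0, 0, 0, 1, 1, 0, 0, 0, 2, 0], [2, 1, 2, 2, 2, 2, 2, 1, 2, 1, 2, 1, 2, 1], [0, 1, 2, 2, 0, 1, 1, 1, 2, 1, 2, 0, 0, 0], [0, 2, 2, 0, 1, 1, 0, 1, 0, 0, 1, 2, 2, 1], [0, 0, 1, 1, 0, 0, 0, 0, 0, 0, 0, 0, 1, 2], [0, 1, 1, 2, 0, 0, 0, 2, 2, 0, 0, 0, 1, 2], [1, 1, 2, 2, 1, 2, 2, 1, 2, 2, 1, 2, 1, 2], [1, 1, 0, 1, 1, 0, 1, 0, 1, 2, 1, 0, 0, 0], [0, 0, 1, 2, 2, 2, 1, 2, 2, 0, 1, 2, 2, 1], [0, 1, 1, 0, 0, 0, 0, 1, 2, 0, 0, 0, 1, 0], [0, 0, 2, 2, 0, 0, 0, 1,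 0, 0, 0, 0, 1, 2]]
  | ⟨17, _⟩ => [[2, 2, 0, 0, 2, 1, 1, 2, 0, 2, 1, 0, 1, 0], [0, 2, 2, 1, 0, 0, 0, 1, 2, 0, 0, 0, 1, 0], [0, 0, 1, 2, 0, 0, 0, 1, 1, 0, 0, 0, 2, 1], [0, 0, 1, 0, 0, 0, 0, 0, 1, 0, 0, 0, 2, 0], [0, 2, 0, 1, 1, 2, 1, 0, 2, 1, 2, 1, 2, 1], [0, 1, 1, 1, 1, 0, 0, 1, 2, 1, 2, 0, 0, 0], [2, 0, 1, 2, 1, 0, 1, 0, 0, 0, 1, 2, 2, 1], [0, 2, 1, 0, 0, 0, 0, 1, 0, 0, 0, 0, 1, 2], [0, 0, 2, 2, 0, 0, 0, 0, 2, 0, 0, 0, 1, 2], [0, 0, 2, 1, 2, 2, 0, 2, 2, 2, 1, 2, 1, 2], [1, 1, 1, 0, 1, 1, 2, 0, 1, 2, 1, 0, 0, 0], [2, 1, 0, 1, 2, 1, 2, 1, 2, 0, 1, 2, 2, 1], [0, 1, 1, 1, 0, 0, 0, 2, 2, 0, 0, 0, 1, 0], [0, 2, 2, 1, 0, 0, 0, 2, 0,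 0, 0, 0, 1, 2]]
  | ⟨18, _⟩ => [[2, 0, 2, 2, 2, 0, 2, 1, 2, 1, 1, 2, 2, 0], [0, 2, 2, 0, 0, 0, 0, 2, 1, 0, 0, 0, 1, 2], [0, 2, 1, 0, 0, 0, 0, 2, 2, 0, 0, 0, 1, 1], [0, 2, 2, 1, 0, 0, 0, 1, 0, 0, 0, 0, 1, 2], [2, 2, 0, 2, 1, 0, 2, 0, 0, 2, 1, 1, 0, 2], [2, 0, 1, 2, 2, 1, 1, 2, 1, 0, 1, 2, 1, 0], [1, 1, 2, 2, 1, 2, 0, 1, 0, 0, 0, 2, 1, 1], [0, 1, 1, 2, 0, 0, 0, 0, 0, 0, 0, 0, 0, 2], [0, 2, 0, 1, 0, 0, 0, 2, 0, 0, 0, 0, 2, 2], [2, 2, 2, 1, 0, 1, 2, 1, 1, 0, 2, 2, 2, 1], [0, 1, 2, 0, 2, 1, 2, 1, 0, 1, 1, 0, 1, 1], [2, 0, 1, 2, 1, 1, 0, 2, 2, 1, 1, 1, 1, 1], [0, 0, 2, 1, 0, 0, 0, 2, 1, 0, 0, 0, 1, 0], [0, 2, 1, 1, 0, 0, 0, 0, 1, 0,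 0, 0, 1, 1]]
  | ⟨19, _⟩ => [[1, 1, 2, 1, 0, 0, 2, 1, 2, 0, 1, 2, 0, 2], [0, 1, 0, 0, 0, 0, 0, 2, 0, 0, 0, 0, 1, 2], [0, 0, 1, 0, 0, 0, 0, 2, 2, 0, 0, 0, 0, 2], [0, 1, 1, 1, 0, 0, 0, 2, 2, 0, 0, 0, 2, 2], [0, 1, 0, 1, 1, 0, 2, 0, 2, 2, 0, 2, 2, 2], [1, 1, 0, 2, 1, 1, 2, 0, 2, 2, 2, 2, 1, 2], [1, 1, 0, 2, 1, 1, 0, 0, 1, 2, 2, 0, 1, 1], [0, 1, 1, 1, 0, 0, 0, 0, 2, 0, 0, 0, 2, 0], [0, 2, 1, 0, 0, 0, 0, 1, 0, 0, 0, 0, 2, 2], [2, 0, 0, 1, 1, 0, 1, 0, 0, 0, 2, 2, 0, 1], [1, 2, 0, 1, 1, 0, 0, 0, 2, 1, 2, 2, 1, 1], [1, 1, 0, 2, 1, 1, 1, 0, 1, 2, 1, 2, 1, 0], [0, 1, 1, 0, 0, 0, 0, 0, 1, 0, 0, 0, 2, 2], [0, 1, 1, 1, 0, 0, 0, 1, 2, 0, 0,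 0, 1, 2]]
  | ⟨20, _⟩ => [[0, 2, 1, 0, 2, 0, 0, 0, 0, 0, 1, 2, 2, 2], [0, 0, 2, 0, 0, 0, 0, 0, 0, 0, 0, 0, 1, 2], [0, 2, 2, 1, 0, 0, 0, 0, 2, 0, 0, 0, 1, 2], [0, 2, 1, 0, 0, 0, 0, 2, 0, 0, 0, 0, 0, 2], [2, 1, 2, 0, 2, 1, 0, 0, 0, 2, 1, 2, 2, 0], [2, 0, 0, 2, 1, 0, 2, 0, 1, 0, 0, 2, 0, 1], [0, 1, 2, 0, 0, 2, 0, 0, 0, 2, 0, 2, 1, 1], [0, 0, 0, 2, 0, 0, 0, 0, 2, 0, 0, 0, 0, 2], [0, 0, 0, 0, 0, 0, 0, 1, 0, 0, 0, 0, 1, 0], [0, 0, 0, 2, 0, 0, 1, 0, 1, 0, 1, 0, 0, 1], [0, 2, 1, 0, 0, 2, 0, 0, 0, 1, 0, 2, 1, 2], [2, 0, 0, 0, 1, 0, 0, 0, 0, 0, 2, 2, 0, 2], [0, 0, 0, 2, 0, 0, 0, 0, 1, 0, 0, 0, 0, 2], [0, 2, 1, 0, 0, 0, 0, 0, 0, 0, 0, 0,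 2, 2]]
  | ⟨21, _⟩ => [[0, 2, 2, 0, 0, 0, 2, 0, 1, 2, 1, 1, 0, 0], [0, 0, 0, 0, 0, 0, 0, 2, 2, 0, 0, 0, 1, 1], [0, 0, 1, 1, 0, 0, 0, 1, 1, 0, 0, 0, 1, 1], [0, 0, 1, 2, 0, 0, 0, 2, 1, 0, 0, 0, 1, 2], [0, 1, 0, 1, 1, 1, 1, 2, 2, 1, 1, 1, 1, 0], [0, 0, 0, 2, 1, 2, 2, 2, 0, 1, 1, 2, 0, 2], [1, 1, 0, 2, 1, 2, 0, 2, 1, 0, 2, 1, 1, 1], [0, 1, 1, 2, 0, 0, 0, 0, 0, 0, 0, 0, 2, 1], [0, 1, 1, 1, 0, 0, 0, 0, 2, 0, 0, 0, 0, 2], [1, 2, 0, 1, 1, 1, 0, 2, 0, 2, 0, 2, 2, 2], [2, 0, 0, 1, 1, 1, 2, 2, 2, 0, 0, 2, 1, 2], [2, 2, 0, 2, 1, 2, 1, 2, 0, 2, 2, 2, 1, 0], [0, 2, 1, 1, 0, 0, 0, 2, 0, 0, 0, 0, 0, 2], [0, 2, 1, 2, 0, 0, 0, 1, 2, 0, 0, 0, 2,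 2]]
  | ⟨22, _⟩ => [[1, 0, 2, 2, 2, 1, 0, 0, 1, 2, 1, 1, 2, 0], [0, 1, 2, 1, 0, 0, 0, 0, 2, 0, 0, 0, 1, 1], [0, 0, 1, 1, 0, 0, 0, 0, 2, 0, 0, 0, 2, 1], [0, 1, 2, 0, 0, 0, 0, 1, 0, 0, 0, 0, 1, 1], [0, 2, 1, 0, 1, 1, 0, 0, 0, 2, 2, 1, 0, 2], [1, 0, 2, 1, 2, 0, 1, 0, 2, 0, 1, 1, 1, 0], [0, 1, 2, 0, 0, 2, 0, 2, 0, 0, 0, 2, 2, 1], [0, 0, 0, 2, 0, 0, 0, 0, 0, 0, 0, 0, 0, 2], [0, 2, 1, 0, 0, 0, 0, 1, 0, 0, 0, 0, 1, 2], [2, 0, 2, 2, 1, 0, 1, 0, 1, 0, 1, 2, 1, 1], [0, 2, 1, 0, 2, 0, 0, 1, 0, 2, 1, 0, 1, 2], [0, 2, 0, 1, 1, 2, 1, 0, 2, 1, 2, 1, 2, 1], [0, 0, 2, 0, 0, 0, 0, 0, 2, 0, 0, 0, 1, 0], [0, 0, 1, 2, 0, 0, 0, 1, 1, 0, 0, 0, 2, 1]]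
  | ⟨23, _⟩ => [[1, 2, 1, 1, 0, 0, 1, 2, 2, 0, 0, 2, 2, 0], [0, 1, 0, 0, 0, 0, 0, 1, 0, 0, 0, 0, 0, 2], [0, 1, 1, 0, 0, 0, 0, 2, 2, 0, 0, 0, 2, 1], [0, 0, 2, 1, 0, 0, 0, 1, 2, 0, 0, 0, 0, 2], [1, 2, 0, 2, 1, 0, 2, 0, 1, 2, 2, 1, 2, 2], [0, 1, 0, 2, 2, 1, 1, 0, 0, 2, 0, 2, 1, 0], [0, 2, 0, 1, 1, 2, 0, 0, 2, 1, 2, 2, 2, 1], [0, 0, 1, 2, 0, 0, 0, 0, 1, 0, 0, 0, 2, 2], [0, 2, 1, 0, 0, 0, 0, 1, 0, 0, 0, 0, 1, 2], [2, 0, 0, 2, 1, 0, 1, 0, 2, 0, 1, 2, 0, 1], [0, 2, 0, 1, 2, 0, 0, 0, 2, 2, 1, 0, 2, 1], [0, 2, 0, 1, 1, 2, 1, 0, 2, 1, 2, 1, 2, 1], [0, 0, 2, 0, 0, 0, 0, 0, 2, 0, 0, 0, 1, 0], [0, 0, 1, 2, 0, 0, 0, 1, 1, 0, 0, 0, 2, 1]]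
  | ⟨24, _⟩ => [[0, 0, 0, 2, 0, 2, 0, 0, 2, 2, 2, 1, 1, 2], [0, 0, 0, 2, 0, 0, 0, 0, 2, 0, 0, 0, 2, 1], [0, 1, 1, 0, 0, 0, 0, 2, 2, 0, 0, 0, 2, 1], [0, 1, 0, 1, 0, 0, 0, 0, 1, 0, 0, 0, 2, 0], [1, 1, 1, 0, 1, 0, 2, 2, 1, 2, 2, 1, 0, 0], [1, 2, 0, 0, 0, 1, 0, 0, 0, 1, 2, 0, 1, 2], [2, 1, 1, 0, 2, 0, 2, 2, 2, 1, 0, 0, 1, 0], [0, 2, 2, 0, 0, 0, 0, 2, 1, 0, 0, 0, 0, 0], [0, 2, 2, 0, 0, 0, 0, 1, 2, 0, 0, 0, 1, 0], [2, 2, 2, 0, 2, 0, 1, 2, 2, 2, 1, 0, 1, 2], [1, 2, 0, 0, 0, 2, 0, 0, 0, 2, 1, 2, 2, 0], [2, 1, 1, 0, 2, 0, 2, 1, 2, 2, 0, 2, 1, 2], [0, 1, 0, 2, 0, 0, 0, 0, 2, 0, 0, 0, 1, 2], [0, 2, 2, 0, 0, 0, 0, 2, 2, 0, 0, 0, 0, 2]]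
  | ⟨25, _⟩ => [[1, 0, 1, 1, 0, 1, 2, 1, 0, 0, 0, 1, 0, 0], [0, 1, 0, 1, 0, 0, 0, 2, 0, 0, 0, 0, 0, 1], [0, 2, 1, 1, 0, 0, 0, 2, 2, 0, 0, 0, 0, 1], [0, 0, 2, 0, 0, 0, 0, 2, 1, 0, 0, 0, 2, 2], [2, 1, 2, 1, 1, 1, 2, 1, 0, 2, 0, 1, 1, 0], [0, 0, 2, 1, 2, 0, 2, 1, 1, 1, 2, 2, 1, 2], [0, 1, 2, 1, 2, 1, 1, 0, 2, 0, 1, 1, 0, 1], [0, 0, 2, 1, 0, 0, 0, 1, 0, 0, 0, 0, 1, 1], [0, 1, 0, 2, 0, 0, 0, 1, 0, 0, 0, 0, 1, 2], [1, 2, 0, 0, 0, 2, 1, 0, 1, 0, 1, 2, 0, 2], [1, 1, 2, 1, 1, 2, 1, 2, 1, 1, 1, 2, 2, 2], [0, 1, 1, 2, 1, 0, 1, 1, 0, 1, 0, 2, 1, 0], [0, 1, 1, 2, 0, 0, 0, 1, 1, 0, 0, 0, 1, 2], [0, 0, 1, 0, 0, 0, 0, 1, 1, 0, 0, 0, 0, 2]]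
  | ⟨26, _⟩ => [[1, 1, 0, 2, 0, 2, 2, 0, 1, 0, 0, 1, 1, 0], [0, 1, 0, 2, 0, 0, 0, 2, 0, 0, 0, 0, 0, 1], [0, 1, 1, 1, 0, 0, 0, 1, 2, 0, 0, 0, 1, 2], [0, 0, 0, 1, 0, 0, 0, 1, 1, 0, 0, 0, 2, 0], [1, 2, 1, 1, 1, 1, 1, 2, 1, 2, 1, 2, 1, 2], [0, 2, 0, 0, 0, 1, 1, 2, 1, 1, 2, 0, 1, 2], [0, 1, 1, 1, 2, 2, 0, 0, 1, 0, 2, 1, 0, 2], [0, 0, 2, 2, 0, 0, 0, 0, 0, 0, 0, 0, 2, 1], [0, 2, 2, 2, 0, 0, 0, 2, 2, 0, 0, 0, 1, 1], [2, 2, 2, 2, 2, 2, 2, 2, 1, 2, 1, 1, 1, 2], [2, 2, 0, 0, 0, 2, 2, 1, 0, 1, 0, 1, 2, 0], [0, 0, 1, 1, 2, 2, 0, 2, 2, 1, 1, 2, 1, 1], [0, 2, 0, 2, 0, 0, 0, 2, 1, 0, 0, 0, 0, 1], [0, 0, 2, 2, 0, 0, 0, 0, 1, 0, 0, 0, 1, 2]]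
  | ⟨27, _⟩ => [[1, 1, 2, 0, 0, 1, 2, 0, 0, 2, 2, 0, 2, 0], [0, 1, 0, 1, 0, 0, 0, 2, 2, 0, 0, 0, 2, 0], [0, 2, 1, 0, 0, 0, 0, 0, 0, 0, 0, 0, 2, 2], [0, 2, 1, 1, 0, 0, 0, 0, 2, 0, 0, 0, 2, 0], [2, 1, 2, 1, 1, 0, 0, 0, 2, 0, 2, 2, 1, 1], [2, 2, 1, 2, 1, 1, 0, 0, 1, 2, 2, 0, 0, 0], [1, 1, 2, 1, 2, 1, 1, 0, 2, 2, 2, 2, 2, 2], [0, 1, 2, 1, 0, 0, 0, 1, 2, 0, 0, 0, 2, 2], [0, 2, 0, 1, 0, 0, 0, 2, 0, 0, 0, 0, 2, 2], [2, 2, 0, 0, 0, 1, 2, 2, 0, 0, 2, 2, 1, 1], [0, 2, 1, 2, 2, 1, 2, 1, 2, 1, 1, 0, 0, 0], [2, 0, 1, 2, 1, 1, 0, 2, 2, 1, 1, 1, 1, 1], [0, 0, 2, 1, 0, 0, 0, 2, 1, 0, 0, 0, 1, 0], [0, 2, 1, 1, 0, 0, 0, 0, 1, 0, 0, 0, 1, 1]]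
  | ⟨28, _⟩ => [[1, 0, 2, 2, 1, 1, 2, 2, 0, 1, 2, 2, 2, 0], [0, 1, 1, 1, 0, 0, 0, 2, 1, 0, 0, 0, 2, 2], [0, 1, 2, 1, 0, 0, 0, 0, 0, 0, 0, 0, 0, 1], [0, 2, 2, 2, 0, 0, 0, 2, 0, 0, 0, 0, 2, 2], [1, 2, 2, 2, 2, 1, 0, 1, 0, 0, 0, 1, 1, 2], [2, 0, 0, 2, 2, 2, 2, 1, 0, 0, 2, 2, 1, 0], [2, 1, 2, 2, 0, 1, 1, 0, 0, 1, 1, 2, 0, 1], [0, 2, 0, 1, 0, 0, 0, 1, 1, 0, 0, 0, 1, 2], [0, 1, 0, 0, 0, 0, 0, 1, 2, 0, 0, 0, 0, 2], [1, 0, 0, 1, 0, 0, 1, 1, 2, 2, 0, 2, 1, 1], [1, 1, 2, 2, 0, 2, 2, 2, 2, 0, 1, 0, 0, 1], [2, 2, 0, 0, 1, 1, 2, 1, 2, 2, 0, 1, 0, 1], [0, 1, 0, 2, 0, 0, 0, 2, 0, 0, 0, 0, 1, 0], [0, 2, 1, 1, 0, 0, 0, 2, 2, 0, 0, 0, 0, 1]]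
  | ⟨29, _⟩ => [[0, 0, 1, 0, 1, 0, 2, 1, 0, 2, 0, 0, 0, 2], [0, 0, 1, 0, 0, 0, 0, 2, 2, 0, 0, 0, 0, 0], [0, 1, 1, 2, 0, 0, 0, 0, 1, 0, 0, 0, 2, 1], [0, 1, 0, 1, 0, 0, 0, 2, 2, 0, 0, 0, 1, 1], [1, 2, 2, 1, 1, 2, 0, 1, 2, 1, 2, 1, 2, 0], [1, 0, 2, 1, 0, 1, 2, 1, 2, 2, 1, 1, 1, 0], [0, 2, 1, 1, 1, 2, 1, 2, 2, 0, 1, 1, 1, 0], [0, 0, 1, 2, 0, 0, 0, 1, 0, 0, 0, 0, 1, 1], [0, 0, 1, 1, 0, 0, 0, 1, 0, 0, 0, 0, 2, 1], [0, 1, 1, 2, 1, 1, 1, 2, 2, 0, 2, 1, 2, 0], [2, 0, 2, 2, 0, 2, 2, 1, 2, 2, 2, 1, 2, 0], [2, 1, 2, 2, 1, 1, 0, 1, 2, 1, 1, 1, 1, 0], [0, 2, 0, 2, 0, 0, 0, 2, 2, 0, 0, 0, 2, 1], [0, 2, 1, 1, 0, 0, 0, 0, 1, 0, 0, 0, 1, 1]]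
  | ⟨30, _⟩ => [[2, 0, 2, 2, 0, 2, 1, 2, 0, 0, 0, 2, 0, 0], [0, 2, 0, 2, 0, 0, 0, 1, 0, 0, 0, 0, 0, 2], [0, 0, 1, 0, 0, 0, 0, 1, 1, 0, 0, 0, 0, 2], [0, 2, 2, 1, 0, 0, 0, 2, 2, 0, 0, 0, 2, 1], [0, 1, 1, 2, 1, 0, 1, 1, 0, 1, 0, 2, 1, 0], [2, 2, 1, 2, 2, 1, 2, 1, 2, 2, 2, 1, 1, 1], [1, 2, 0, 0, 0, 2, 1, 0, 1, 0, 1, 2, 0, 2], [0, 1, 0, 2, 0, 0, 0, 1, 0, 0, 0, 0, 1, 2], [0, 0, 2, 1, 0, 0, 0, 1, 0, 0, 0, 0, 1, 1], [0, 1, 2, 1, 2, 1, 1, 0, 2, 0, 1, 1, 0, 1], [0, 0, 1, 2, 1, 0, 1, 2, 2, 2, 1, 1, 2, 1], [2, 1, 2, 1, 1, 1, 2, 1, 0, 2, 0, 1, 1, 0], [0, 0, 1, 0, 0, 0, 0, 1, 2, 0, 0, 0, 1, 1], [0, 2, 1, 1, 0, 0, 0, 2, 2, 0, 0, 0, 0, 1]]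
  | ⟨31, _⟩ => [[2, 1, 0, 0, 1, 2, 2, 1, 0, 0, 1, 1, 2, 1], [0, 2, 1, 2, 0, 0, 0, 2, 0, 0, 0, 0, 1, 1], [0, 2, 1, 2, 0, 0, 0, 1, 2, 0, 0, 0, 2, 2], [0, 1, 2, 2, 0, 0, 0, 1, 0, 0, 0, 0, 0, 1], [2, 2, 0, 2, 1, 2, 1, 2, 0, 2, 2, 2, 1, 0], [1, 1, 2, 0, 2, 2, 1, 0, 2, 0, 0, 1, 0, 2], [1, 1, 1, 2, 1, 1, 0, 1, 0, 2, 0, 2, 2, 1], [0, 1, 1, 1, 0, 0, 0, 0, 2, 0, 0, 0, 0, 2], [0, 0, 2, 0, 0, 0, 0, 2, 0, 0, 0, 0, 2, 0], [0, 2, 2, 1, 2, 0, 2, 0, 1, 0, 2, 0, 0, 1], [2, 1, 2, 2, 2, 0, 0, 2, 0, 2, 0, 1, 1, 1], [2, 1, 0, 2, 2, 1, 2, 0, 0, 0, 1, 2, 0, 2], [0, 2, 2, 0, 0, 0, 0, 0, 2, 0, 0, 0, 0, 1], [0, 2, 2, 1, 0, 0, 0, 2, 0, 0, 0, 0, 1, 2]]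
  | ⟨32, _⟩ => [[0, 1, 2, 2, 1, 1, 2, 2, 1, 0, 0, 1, 1, 0], [0, 0, 1, 1, 0, 0, 0, 2, 0, 0, 0, 0, 0, 1], [0, 1, 1, 2, 0, 0, 0, 0, 1, 0, 0, 0, 2, 1], [0, 0, 2, 2, 0, 0, 0, 2, 1, 0, 0, 0, 2, 0], [1, 0, 1, 1, 1, 2, 0, 2, 2, 1, 2, 1, 2, 1], [0, 0, 0, 2, 2, 2, 2, 1, 1, 1, 2, 0, 1, 2], [1, 1, 1, 1, 0, 2, 2, 0, 2, 0, 1, 2, 0, 1], [0, 1, 0, 2, 0, 0, 0, 2, 0, 0, 0, 0, 1, 2], [0, 2, 0, 0, 0, 0, 0, 2, 1, 0, 0, 0, 2, 2], [2, 0, 0, 2, 0, 0, 2, 2, 2, 1, 2, 2, 2, 1], [1, 2, 2, 2, 0, 2, 2, 2, 0, 1, 0, 1, 2, 0], [2, 1, 0, 0, 2, 2, 1, 2, 1, 2, 2, 1, 2, 2], [0, 1, 0, 2, 0, 0, 0, 2, 1, 0, 0, 0, 0, 1], [0, 2, 2, 2, 0, 0, 0, 1, 2, 0, 0, 0, 2, 1]]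
  | ⟨33, _⟩ => [[1, 2, 2, 0, 1, 0, 2, 1, 0, 0, 2, 0, 1, 1], [0, 1, 1, 0, 0, 0, 0, 2, 0, 0, 0, 0, 2, 0], [0, 1, 2, 1, 0, 0, 0, 1, 2, 0, 0, 0, 1, 1], [0, 0, 2, 2, 0, 0, 0, 0, 0, 0, 0, 0, 1, 2], [1, 0, 1, 0, 2, 1, 1, 0, 0, 2, 1, 1, 0, 2], [0, 2, 1, 1, 2, 2, 0, 0, 2, 0, 1, 2, 0, 2], [2, 0, 0, 2, 1, 0, 0, 0, 0, 0, 0, 2, 0, 2], [0, 2, 1, 0, 0, 0, 0, 0, 0, 0, 0, 0, 0, 2], [0, 0, 2, 0, 0, 0, 0, 0, 0, 0, 0, 0, 1, 0], [0, 0, 0, 2, 2, 0, 0, 0, 1, 0, 1, 0, 0, 0], [1, 0, 1, 2, 2, 1, 0, 0, 0, 2, 0, 1, 0, 2], [0, 1, 2, 0, 1, 1, 2, 0, 0, 0, 2, 1, 0, 1], [0, 1, 2, 1, 0, 0, 0, 0, 2, 0, 0, 0, 0, 1], [0, 0, 1, 1, 0, 0, 0, 2, 0, 0, 0, 0, 2, 1]]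
  | ⟨34, _⟩ => [[0, 0, 0, 1, 0, 1, 0, 0, 2, 2, 1, 1, 2, 2], [0, 0, 0, 1, 0, 0, 0, 0, 2, 0, 0, 0, 1, 1], [0, 1, 2, 0, 0, 0, 0, 2, 2, 0, 0, 0, 0, 2], [0, 2, 0, 1, 0, 0, 0, 0, 2, 0, 0, 0, 2, 2], [1, 2, 1, 0, 2, 0, 2, 1, 2, 2, 0, 2, 2, 2], [2, 1, 0, 0, 0, 1, 0, 0, 0, 2, 2, 2, 1, 0], [1, 1, 2, 0, 2, 0, 1, 2, 2, 2, 2, 0, 2, 2], [0, 1, 2, 0, 0, 0, 0, 1, 2, 0, 0, 0, 2, 0], [0, 1, 2, 0, 0, 0, 0, 2, 1, 0, 0, 0, 0, 0], [1, 2, 1, 0, 2, 0, 2, 2, 2, 1, 0, 0, 2, 0], [2, 1, 0, 0, 0, 2, 0, 0, 0, 1, 1, 0, 2, 2], [2, 2, 1, 0, 1, 0, 2, 2, 1, 2, 1, 1, 0, 0], [0, 2, 0, 2, 0, 0, 0, 0, 1, 0, 0, 0, 1, 0], [0, 2, 1, 0, 0, 0, 0, 2, 2, 0, 0, 0, 1, 1]]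
  | ⟨35, _⟩ => [[1, 1, 0, 2, 0, 2, 1, 0, 1, 2, 2, 1, 0, 0], [0, 1, 0, 2, 0, 0, 0, 1, 2, 0, 0, 0, 2, 1], [0, 0, 2, 1, 0, 0, 0, 2, 2, 0, 0, 0, 1, 2], [0, 0, 0, 1, 0, 0, 0, 2, 0, 0, 0, 0, 0, 2], [0, 1, 2, 1, 2, 1, 2, 1, 0, 2, 1, 2, 2, 0], [0, 2, 0, 0, 0, 1, 2, 1, 2, 0, 0, 2, 2, 2], [1, 0, 2, 1, 1, 2, 0, 0, 0, 2, 0, 2, 1, 2], [0, 1, 1, 2, 0, 0, 0, 0, 2, 0, 0, 0, 0, 2], [0, 0, 1, 2, 0, 0, 0, 1, 0, 0, 0, 0, 1, 1], [0, 0, 1, 2, 1, 2, 1, 1, 1, 0, 1, 1, 2, 1], [2, 2, 0, 0, 0, 2, 1, 2, 0, 1, 2, 2, 0, 2], [1, 2, 2, 1, 1, 2, 0, 1, 2, 1, 2, 1, 2, 0], [0, 2, 0, 2, 0, 0, 0, 1, 1, 0, 0, 0, 2, 2], [0, 1, 1, 2, 0, 0, 0, 0, 1, 0, 0, 0, 2, 1]]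
  | ⟨36, _⟩ => [[1, 1, 2, 1, 0, 2, 0, 0, 0, 0, 0, 1, 0, 2], [0, 1, 0, 2, 0, 0, 0, 0, 0, 0, 0, 0, 0, 1], [0, 1, 1, 1, 0, 0, 0, 0, 0, 0, 0, 0, 0, 2], [0, 0, 2, 0, 0, 0, 0, 1, 0, 0, 0, 0, 2, 0], [1, 0, 1, 0, 1, 1, 0, 0, 0, 0, 0, 2, 0, 0], [0, 1, 1, 0, 2, 0, 1, 0, 0, 0, 2, 0, 0, 2], [0, 0, 0, 0, 0, 2, 0, 1, 0, 2, 0, 0, 2, 0], [0, 0, 0, 2, 0, 0, 0, 0, 2, 0, 0, 0, 0, 0], [0, 0, 2, 0, 0, 0, 0, 0, 0, 0, 0, 0, 2, 0], [0, 2, 2, 0, 2, 0, 0, 0, 0, 0, 2, 0, 0, 1], [1, 0, 1, 0, 1, 1, 0, 1, 0, 1, 0, 2, 2, 0], [0, 2, 2, 0, 1, 2, 2, 0, 0, 0, 1, 1, 0, 1], [0, 1, 1, 1, 0, 0, 0, 0, 1, 0, 0, 0, 0, 2], [0, 0, 1, 2, 0, 0, 0, 2, 0, 0, 0, 0, 1, 1]]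
  | ⟨37, _⟩ => [[2, 2, 2, 2, 0, 0, 2, 1, 2, 0, 2, 2, 0, 2], [0, 2, 0, 0, 0, 0, 0, 2, 0, 0, 0, 0, 2, 2], [0, 1, 2, 1, 0, 0, 0, 2, 1, 0, 0, 0, 1, 1], [0, 2, 1, 0, 0, 0, 0, 0, 1, 0, 0, 0, 1, 2], [1, 1, 0, 2, 2, 1, 2, 0, 2, 1, 1, 1, 1, 0], [2, 1, 0, 2, 1, 0, 0, 0, 2, 1, 1, 2, 2, 1], [2, 0, 0, 1, 2, 0, 2, 0, 0, 0, 2, 1, 0, 2], [0, 2, 2, 0, 0, 0, 0, 2, 0, 0, 0, 0, 2, 1], [0, 1, 2, 1, 0, 0, 0, 0, 1, 0, 0, 0, 2, 0], [1, 1, 0, 2, 2, 1, 0, 0, 2, 1, 2, 0, 1, 2], [2, 2, 0, 1, 1, 2, 2, 0, 2, 2, 1, 2, 2, 2], [0, 1, 0, 1, 2, 0, 1, 0, 1, 1, 0, 1, 2, 1], [0, 2, 1, 2, 0, 0, 0, 2, 2, 0, 0, 0, 1, 2], [0, 0, 2, 0, 0, 0, 0, 1, 1, 0, 0, 0, 0, 1]]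
  | ⟨38, _⟩ => [[1, 0, 2, 2, 2, 1, 0, 0, 1, 2, 1, 1, 2, 0], [0, 1, 2, 1, 0, 0, 0, 0, 2, 0, 0, 0, 1, 1], [0, 0, 2, 2, 0, 0, 0, 0, 1, 0, 0, 0, 1, 2], [0, 1, 2, 0, 0, 0, 0, 1, 0, 0, 0, 0, 1, 1], [0, 1, 2, 0, 2, 2, 0, 0, 0, 1, 1, 2, 0, 1], [1, 0, 2, 1, 2, 0, 1, 0, 2, 0, 1, 1, 1, 0], [0, 2, 1, 0, 0, 1, 0, 1, 0, 0, 0, 1, 1, 2], [0, 0, 0, 1, 0, 0, 0, 0, 0, 0, 0, 0, 0, 1], [0, 1, 2, 0, 0, 0, 0, 2, 0, 0, 0, 0, 2, 1], [1, 0, 1, 1, 2, 0, 2, 0, 2, 0, 2, 1, 2, 2], [0, 2, 1, 0, 2, 0, 0, 1, 0, 2, 1, 0, 1, 2], [0, 1, 0, 2, 2, 1, 2, 0, 1, 2, 1, 2, 1, 2], [0, 0, 2, 0, 0, 0, 0, 0, 2, 0, 0, 0, 1, 0], [0, 0, 2, 1, 0, 0, 0, 2, 2, 0, 0, 0, 1, 2]]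
  | ⟨39, _⟩ => [[0, 0, 0, 0, 2, 0, 0, 0, 2, 1, 0, 2, 0, 1], [0, 0, 2, 0, 0, 0, 0, 0, 1, 0, 0, 0, 0, 2], [0, 1, 1, 0, 0, 0, 0, 2, 2, 0, 0, 0, 2, 1], [0, 2, 1, 1, 0, 0, 0, 2, 0, 0, 0, 0, 1, 1], [1, 1, 0, 1, 1, 0, 2, 0, 0, 2, 2, 1, 0, 2], [2, 2, 1, 2, 1, 1, 2, 2, 0, 0, 1, 1, 2, 2], [2, 0, 1, 0, 1, 1, 0, 2, 0, 0, 0, 2, 1, 0], [0, 2, 1, 1, 0, 0, 0, 0, 0, 0, 0, 0, 0, 2], [0, 2, 2, 1, 0, 0, 0, 0, 0, 0, 0, 0, 0, 1], [2, 0, 2, 0, 2, 1, 0, 1, 0, 0, 0, 1, 1, 0], [1, 1, 1, 1, 1, 2, 2, 2, 0, 0, 2, 1, 1, 2], [1, 1, 0, 1, 2, 0, 1, 0, 0, 1, 2, 2, 0, 1], [0, 1, 1, 2, 0, 0, 0, 2, 0, 0, 0, 0, 2, 1], [0, 1, 2, 0, 0, 0, 0, 1, 1, 0, 0, 0, 2, 2]]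
  | ⟨40, _⟩ => [[1, 0, 0, 0, 0, 0, 0, 0, 0, 0, 0, 1, 0, 2], [0, 1, 0, 0, 0, 0, 0, 0, 0, 0, 0, 0, 0, 1], [0, 2, 2, 0, 0, 0, 0, 0, 0, 0, 0, 0, 2, 1], [0, 0, 0, 1, 0, 0, 0, 0, 1, 0, 0, 0, 0, 2], [2, 0, 0, 0, 2, 0, 0, 0, 0, 0, 2, 1, 0, 1], [0, 0, 0, 0, 0, 1, 0, 0, 0, 1, 0, 2, 1, 0], [0, 0, 0, 0, 0, 0, 2, 0, 0, 0, 1, 0, 0, 1], [0, 0, 0, 0, 0, 0, 0, 2, 0, 0, 0, 0, 1, 0], [0, 0, 0, 0, 0, 0, 0, 0, 2, 0, 0, 0, 0, 0], [0, 0, 0, 0, 0, 0, 0, 0, 0, 2, 0, 0, 1, 0], [0, 0, 0, 0, 0, 0, 0, 0, 0, 0, 1, 0, 0, 2], [0, 0, 0, 0, 0, 0, 0, 0, 0, 0, 0, 2, 0, 0], [0, 0, 0, 0, 0, 0, 0, 0, 0, 0, 0, 0, 1, 0], [0, 0, 0, 0, 0, 0, 0, 0, 0, 0, 0, 0, 0, 2]]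
  | ⟨41, _⟩ => [[1, 1, 0, 2, 0, 2, 1, 0, 2, 0, 0, 2, 1, 0], [0, 1, 0, 2, 0, 0, 0, 1, 0, 0, 0, 0, 0, 2], [0, 2, 1, 2, 0, 0, 0, 1, 2, 0, 0, 0, 2, 2], [0, 0, 0, 1, 0, 0, 0, 2, 2, 0, 0, 0, 2, 0], [2, 1, 1, 2, 1, 2, 1, 2, 1, 2, 2, 2, 2, 2], [0, 2, 0, 0, 0, 1, 2, 1, 2, 2, 2, 0, 1, 1], [0, 2, 1, 2, 2, 1, 0, 0, 1, 0, 1, 1, 0, 2], [0, 0, 2, 1, 0, 0, 0, 0, 0, 0, 0, 0, 1, 1], [0, 1, 2, 1, 0, 0, 0, 2, 2, 0, 0, 0, 2, 1], [1, 1, 2, 1, 2, 1, 2, 2, 1, 2, 2, 1, 2, 2], [2, 2, 0, 0, 0, 2, 1, 2, 0, 2, 0, 2, 2, 0], [0, 0, 1, 2, 2, 1, 0, 2, 2, 1, 2, 2, 2, 1], [0, 2, 0, 2, 0, 0, 0, 1, 2, 0, 0, 0, 0, 2], [0, 0, 2, 1, 0, 0, 0, 0, 1, 0, 0, 0, 2, 2]]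
  | ⟨42, _⟩ => [[2, 2, 2, 2, 1, 1, 1, 0, 2, 1, 0, 2, 0, 2], [0, 2, 1, 1, 0, 0, 0, 1, 1, 0, 0, 0, 0, 2], [0, 2, 2, 0, 0, 0, 0, 0, 0, 0, 0, 0, 2, 1], [0, 2, 2, 1, 0, 0, 0, 0, 1, 0, 0, 0, 2, 0], [2, 1, 1, 1, 2, 0, 0, 0, 1, 0, 2, 1, 1, 2], [2, 1, 1, 2, 2, 1, 0, 0, 2, 1, 2, 0, 2, 1], [1, 0, 0, 2, 1, 1, 2, 0, 2, 1, 2, 1, 1, 1], [0, 1, 1, 1, 0, 0, 0, 2, 1, 0, 0, 0, 2, 1], [0, 1, 2, 2, 0, 0, 0, 1, 1, 0, 0, 0, 1, 1], [1, 2, 0, 2, 2, 2, 1, 1, 2, 1, 1, 1, 2, 1], [1, 1, 1, 0, 2, 0, 2, 2, 2, 1, 1, 0, 1, 1], [0, 0, 2, 2, 1, 2, 2, 1, 1, 0, 1, 1, 2, 2], [0, 1, 2, 0, 0, 0, 0, 2, 1, 0, 0, 0, 1, 0], [0, 0, 1, 2, 0, 0, 0, 2, 0, 0, 0, 0, 1, 1]]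
  | ⟨43, _⟩ => [[1, 2, 2, 1, 0, 2, 0, 0, 2, 1, 0, 2, 0, 1], [0, 1, 0, 2, 0, 0, 0, 0, 1, 0, 0, 0, 0, 2], [0, 0, 2, 2, 0, 0, 0, 0, 1, 0, 0, 0, 1, 2], [0, 1, 2, 0, 0, 0, 0, 1, 0, 0, 0, 0, 1, 1], [0, 1, 2, 0, 2, 2, 0, 0, 0, 1, 1, 2, 0, 1], [1, 0, 1, 0, 2, 0, 1, 0, 0, 0, 1, 1, 2, 2], [0, 0, 0, 0, 0, 1, 0, 2, 0, 0, 0, 1, 2, 0], [0, 0, 0, 1, 0, 0, 0, 0, 0, 0, 0, 0, 0, 1], [0, 2, 1, 0, 0, 0, 0, 0, 0, 0, 0, 0, 0, 2], [2, 0, 1, 0, 1, 0, 0, 0, 0, 0, 0, 2, 2, 0], [0, 2, 1, 0, 1, 1, 0, 1, 0, 0, 2, 1, 1, 2], [1, 0, 1, 0, 2, 1, 1, 0, 0, 2, 1, 1, 0, 2], [0, 0, 1, 1, 0, 0, 0, 0, 0, 0, 0, 0, 2, 1], [0, 1, 2, 1, 0, 0, 0, 1, 2, 0, 0, 0, 1, 1]]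
  | ⟨44, _⟩ => [[0, 0, 0, 0, 2, 0, 0, 0, 2, 1, 0, 2, 0, 1], [0, 0, 2, 0, 0, 0, 0, 0, 1, 0, 0, 0, 0, 2], [0, 2, 2, 0, 0, 0, 0, 1, 1, 0, 0, 0, 1, 2], [0, 2, 1, 1, 0, 0, 0, 2, 0, 0, 0, 0, 1, 1], [2, 2, 0, 2, 2, 0, 1, 0, 0, 1, 1, 2, 0, 1], [2, 2, 1, 2, 1, 1, 2, 2, 0, 0, 1, 1, 2, 2], [1, 0, 2, 0, 2, 2, 0, 1, 0, 0, 0, 1, 2, 0], [0, 1, 2, 2, 0, 0, 0, 0, 0, 0, 0, 0, 0, 1], [0, 1, 1, 2, 0, 0, 0, 0, 0, 0, 0, 0, 0, 2], [1, 0, 1, 0, 1, 2, 0, 2, 0, 0, 0, 2, 2, 0], [1, 1, 1, 1, 1, 2, 2, 2, 0, 0, 2, 1, 1, 2], [2, 2, 0, 2, 1, 0, 2, 0, 0, 2, 1, 1, 0, 2], [0, 1, 1, 2, 0, 0, 0, 2, 0, 0, 0, 0, 2, 1], [0, 2, 1, 0, 0, 0, 0, 2, 2, 0, 0, 0, 1, 1]]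
  | ⟨45, _⟩ => [[2, 0, 0, 2, 1, 1, 2, 1, 2, 1, 0, 1, 2, 1], [0, 2, 1, 1, 0, 0, 0, 2, 1, 0, 0, 0, 0, 1], [0, 2, 2, 1, 0, 0, 0, 2, 0, 0, 0, 0, 1, 2], [0, 0, 0, 1, 0, 0, 0, 2, 1, 0, 0, 0, 1, 1], [2, 0, 2, 1, 2, 1, 2, 1, 1, 0, 1, 2, 2, 2], [0, 1, 2, 1, 0, 1, 2, 0, 2, 1, 1, 1, 0, 1], [2, 2, 2, 2, 1, 2, 0, 2, 2, 1, 1, 0, 1, 1], [0, 2, 1, 2, 0, 0, 0, 0, 1, 0, 0, 0, 1, 0], [0, 1, 1, 0, 0, 0, 0, 0, 0, 0, 0, 0, 2, 2], [1, 1, 2, 1, 1, 0, 0, 0, 2, 0, 2, 2, 2, 1], [2, 0, 0, 1, 1, 1, 0, 2, 1, 2, 1, 1, 2, 2], [2, 2, 1, 0, 2, 1, 1, 0, 0, 1, 0, 2, 2, 0], [0, 2, 1, 1, 0, 0, 0, 0, 2, 0, 0, 0, 1, 1], [0, 2, 2, 1, 0, 0, 0, 1, 1, 0, 0, 0, 0, 2]]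
  | ⟨46, _⟩ => [[1, 2, 1, 1, 0, 2, 0, 0, 1, 2, 0, 1, 0, 2], [0, 1, 0, 2, 0, 0, 0, 0, 2, 0, 0, 0, 0, 1], [0, 0, 2, 1, 0, 0, 0, 0, 1, 0, 0, 0, 2, 2], [0, 1, 1, 0, 0, 0, 0, 2, 0, 0, 0, 0, 1, 2], [0, 2, 2, 0, 2, 1, 0, 0, 0, 1, 2, 2, 0, 1], [1, 0, 2, 0, 1, 0, 2, 0, 0, 0, 1, 2, 2, 1], [0, 0, 0, 0, 0, 2, 0, 2, 0, 0, 0, 1, 1, 0], [0, 0, 0, 2, 0, 0, 0, 0, 0, 0, 0, 0, 0, 1], [0, 1, 1, 0, 0, 0, 0, 0, 0, 0, 0, 0, 0, 2], [1, 0, 1, 0, 1, 0, 0, 0, 0, 0, 0, 2, 1, 0], [0, 2, 2, 0, 2, 1, 0, 2, 0, 0, 2, 2, 1, 1], [2, 0, 1, 0, 2, 2, 1, 0, 0, 2, 2, 1, 0, 2], [0, 0, 2, 1, 0, 0, 0, 0, 0, 0, 0, 0, 2, 2], [0, 2, 2, 2, 0, 0, 0, 1, 2, 0, 0, 0, 2, 1]]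
  | ⟨47, _⟩ => [[1, 0, 2, 0, 0, 1, 2, 0, 0, 0, 0, 0, 0, 0], [0, 1, 0, 1, 0, 0, 0, 2, 0, 0, 0, 0, 0, 0], [0, 0, 1, 0, 0, 0, 0, 0, 0, 0, 0, 0, 0, 0], [0, 0, 1, 1, 0, 0, 0, 0, 0, 0, 0, 0, 0, 0], [0, 0, 2, 1, 1, 0, 0, 0, 0, 0, 0, 0, 0, 0], [0, 0, 1, 2, 1, 1, 0, 0, 0, 0, 0, 0, 0, 0], [0, 0, 2, 1, 2, 1, 1, 0, 0, 0, 0, 0, 0, 0], [0, 0, 2, 1, 0, 0, 0, 1, 0, 0, 0, 0, 0, 0], [0, 2, 0, 1, 0, 0, 0, 2, 1, 0, 0, 0, 0, 0], [2, 2, 0, 0, 0, 1, 2, 2, 0, 1, 0, 0, 0, 0], [2, 0, 1, 2, 2, 1, 2, 1, 1, 2, 1, 0, 0, 0], [0, 1, 1, 2, 1, 1, 0, 2, 1, 2, 2, 1, 0, 0], [0, 2, 2, 1, 0, 0, 0, 2, 2, 0, 0, 0, 1, 0], [0, 0, 1, 1, 0, 0, 0, 0, 2, 0, 0, 0, 2, 1]]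
  | ⟨48, _⟩ => [[2, 0, 2, 2, 2, 0, 2, 1, 2, 1, 1, 2, 2, 0], [0, 2, 2, 0, 0, 0, 0, 2, 1, 0, 0, 0, 1, 2], [0, 1, 2, 0, 0, 0, 0, 1, 1, 0, 0, 0, 2, 2], [0, 2, 2, 1, 0, 0, 0, 1, 0, 0, 0, 0, 1, 2], [1, 1, 0, 1, 2, 0, 1, 0, 0, 1, 2, 2, 0, 1], [2, 0, 1, 2, 2, 1, 1, 2, 1, 0, 1, 2, 1, 0], [2, 2, 1, 1, 2, 1, 0, 2, 0, 0, 0, 1, 2, 2], [0, 2, 2, 1, 0, 0, 0, 0, 0, 0, 0, 0, 0, 1], [0, 1, 0, 2, 0, 0, 0, 1, 0, 0, 0, 0, 1, 1], [1, 1, 1, 2, 0, 2, 1, 2, 2, 0, 1, 1, 1, 2], [0, 1, 2, 0, 2, 1, 2, 1, 0, 1, 1, 0, 1, 1], [1, 0, 2, 1, 2, 2, 0, 1, 1, 2, 2, 2, 2, 2], [0, 0, 2, 1, 0, 0, 0, 2, 1, 0, 0, 0, 1, 0], [0, 1, 2, 2, 0, 0, 0, 0, 2, 0, 0, 0, 2, 2]]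
  | ⟨49, _⟩ => [[1, 0, 1, 2, 1, 1, 0, 0, 2, 1, 1, 2, 2, 0], [0, 1, 1, 1, 0, 0, 0, 0, 1, 0, 0, 0, 1, 2], [0, 0, 2, 1, 0, 0, 0, 0, 1, 0, 0, 0, 2, 2], [0, 1, 1, 0, 0, 0, 0, 2, 0, 0, 0, 0, 1, 2], [0, 2, 2, 0, 2, 1, 0, 0, 0, 1, 2, 2, 0, 1], [1, 0, 1, 1, 1, 0, 2, 0, 1, 0, 1, 2, 1, 0], [0, 1, 1, 0, 0, 2, 0, 1, 0, 0, 0, 1, 2, 2], [0, 0, 0, 2, 0, 0, 0, 0, 0, 0, 0, 0, 0, 1], [0, 2, 2, 0, 0, 0, 0, 2, 0, 0, 0, 0, 1, 1], [2, 0, 1, 2, 2, 0, 2, 0, 2, 0, 1, 1, 1, 2], [0, 2, 2, 0, 1, 0, 0, 2, 0, 1, 1, 0, 1, 1], [0, 2, 0, 1, 2, 2, 2, 0, 1, 2, 2, 2, 2, 2], [0, 0, 1, 0, 0, 0, 0, 0, 1, 0, 0, 0, 1, 0], [0, 0, 2, 2, 0, 0, 0, 2, 2, 0, 0, 0, 2, 2]]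
  | ⟨50, _⟩ => [[1, 0, 0, 0, 0, 0, 0, 0, 0, 2, 1, 0, 0, 2], [0, 1, 0, 0, 0, 0, 0, 0, 2, 0, 0, 0, 1, 0], [0, 0, 1, 2, 0, 0, 0, 2, 0, 0, 0, 0, 1, 1], [0, 2, 0, 1, 0, 0, 0, 2, 2, 0, 0, 0, 1, 2], [0, 1, 0, 0, 1, 2, 2, 1, 2, 0, 1, 1, 2, 1], [2, 0, 0, 0, 0, 1, 2, 1, 1, 2, 1, 2, 2, 1], [2, 2, 0, 0, 0, 0, 1, 0, 2, 2, 1, 0, 0, 0], [0, 2, 0, 0, 0, 0, 0, 1, 2, 0, 0, 0, 1, 0], [0, 0, 0, 0, 0, 0, 0, 0, 1, 0, 0, 0, 1, 2], [0, 0, 0, 0, 0, 0, 0, 0, 0, 1, 1, 2, 1, 2], [0, 0, 0, 0, 0, 0, 0, 0, 0, 0, 1, 1, 2, 1], [0, 0, 0, 0, 0, 0, 0, 0, 0, 0, 0, 1, 1, 2], [0, 0, 0, 0, 0, 0, 0, 0, 0, 0, 0, 0, 1, 1], [0, 0, 0, 0, 0, 0, 0, 0, 0, 0, 0, 0, 0, 1]]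
  | ⟨51, _⟩ => [[2, 1, 1, 2, 2, 1, 1, 1, 2, 1, 2, 0, 2, 2], [0, 2, 2, 1, 0, 0, 0, 1, 1, 0, 0, 0, 2, 0], [0, 1, 2, 1, 0, 0, 0, 1, 2, 0, 0, 0, 1, 1], [0, 2, 0, 1, 0, 0, 0, 2, 1, 0, 0, 0, 0, 1], [1, 2, 0, 0, 2, 1, 1, 2, 1, 2, 1, 1, 1, 2], [2, 2, 1, 2, 0, 1, 2, 0, 2, 1, 0, 1, 2, 1], [1, 2, 0, 2, 0, 0, 2, 1, 0, 1, 1, 2, 1, 2], [0, 1, 0, 0, 0, 0, 0, 2, 1, 0, 0, 0, 1, 2], [0, 1, 0, 2, 0, 0, 0, 1, 1, 0, 0, 0, 2, 0], [1, 2, 1, 2, 0, 2, 1, 1, 0, 1, 2, 0, 0, 0], [0, 1, 0, 1, 1, 2, 1, 0, 1, 2, 1, 2, 2, 1], [2, 0, 1, 2, 1, 0, 1, 1, 1, 1, 0, 1, 2, 1], [0, 0, 1, 2, 0, 0, 0, 1, 2, 0, 0, 0, 1, 2], [0, 2, 1, 0, 0, 0, 0, 1, 1, 0, 0, 0, 0, 1]]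
  | ⟨52, _⟩ => [[0, 0, 0, 2, 1, 1, 2, 1, 1, 2, 2, 1, 1, 0], [0, 0, 1, 1, 0, 0, 0, 2, 2, 0, 0, 0, 2, 1], [0, 2, 1, 2, 0, 0, 0, 1, 2, 0, 0, 0, 2, 2], [0, 0, 0, 1, 0, 0, 0, 2, 2, 0, 0, 0, 2, 0], [2, 1, 1, 2, 1, 2, 1, 2, 1, 2, 2, 2, 2, 2], [0, 0, 2, 1, 0, 1, 2, 0, 0, 2, 2, 0, 2, 2], [0, 2, 1, 1, 2, 1, 0, 1, 2, 0, 1, 1, 1, 2], [0, 0, 2, 1, 0, 0, 0, 0, 0, 0, 0, 0, 1, 1], [0, 1, 2, 0, 0, 0, 0, 0, 0, 0, 0, 0, 0, 1], [1, 0, 1, 2, 2, 0, 0, 0, 0, 0, 0, 1, 2, 2], [0, 0, 0, 1, 1, 1, 0, 2, 2, 0, 2, 1, 2, 0], [2, 0, 2, 0, 1, 2, 2, 0, 0, 1, 2, 2, 0, 1], [0, 0, 1, 1, 0, 0, 0, 0, 0, 0, 0, 0, 2, 1], [0, 2, 1, 2, 0, 0, 0, 2, 1, 0, 0, 0, 2, 2]]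
  | ⟨53, _⟩ => [[1, 0, 1, 0, 2, 0, 0, 0, 0, 0, 0, 0, 0, 0], [0, 1, 2, 0, 0, 0, 0, 0, 0, 0, 0, 0, 0, 0], [0, 0, 2, 0, 0, 0, 0, 0, 0, 0, 0, 0, 0, 0], [0, 0, 0, 1, 0, 0, 0, 0, 0, 0, 0, 0, 0, 0], [0, 0, 0, 0, 2, 0, 0, 0, 0, 0, 0, 0, 0, 0], [0, 0, 1, 0, 0, 1, 0, 0, 0, 0, 0, 0, 0, 0], [0, 0, 0, 2, 0, 0, 2, 0, 0, 0, 0, 0, 0, 0], [0, 0, 0, 0, 0, 0, 0, 2, 0, 0, 0, 0, 0, 0], [0, 0, 0, 2, 0, 0, 0, 0, 2, 0, 0, 0, 0, 0], [0, 0, 1, 0, 0, 2, 0, 0, 0, 2, 0, 0, 0, 0], [0, 0, 0, 1, 1, 0, 2, 0, 0, 0, 1, 0, 0, 0], [1, 0, 1, 0, 1, 1, 0, 0, 0, 0, 0, 2, 0, 0], [0, 0, 1, 0, 0, 0, 0, 2, 0, 0, 0, 0, 1, 0], [0, 1, 1, 1, 0, 0, 0, 0, 0, 0, 0, 0, 0, 2]]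
  | ⟨54, _⟩ => [[2, 2, 0, 0, 1, 1, 2, 1, 0, 1, 1, 0, 1, 0], [0, 2, 1, 1, 0, 0, 0, 2, 1, 0, 0, 0, 1, 0], [0, 0, 2, 2, 0, 0, 0, 2, 2, 0, 0, 0, 2, 2], [0, 0, 2, 0, 0, 0, 0, 0, 2, 0, 0, 0, 2, 0], [0, 2, 0, 1, 2, 2, 2, 0, 1, 2, 2, 2, 2, 2], [0, 1, 2, 1, 2, 0, 0, 2, 1, 2, 2, 0, 0, 0], [2, 0, 2, 2, 2, 0, 2, 0, 0, 0, 1, 1, 2, 2], [0, 2, 2, 0, 0, 0, 0, 2, 0, 0, 0, 0, 1, 1], [0, 0, 1, 2, 0, 0, 0, 0, 1, 0, 0, 0, 1, 1], [0, 0, 1, 1, 1, 2, 0, 1, 1, 1, 1, 1, 1, 1], [1, 1, 2, 0, 2, 1, 1, 0, 2, 1, 1, 0, 0, 0], [2, 1, 0, 1, 1, 1, 1, 2, 1, 0, 1, 1, 2, 2], [0, 1, 2, 1, 0, 0, 0, 1, 1, 0, 0, 0, 1, 0], [0, 2, 1, 1, 0, 0, 0, 1, 0, 0, 0, 0, 1, 1]]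
  | ⟨55, _⟩ => [[2, 1, 1, 0, 2, 0, 1, 2, 0, 0, 1, 0, 2, 2], [0, 2, 2, 0, 0, 0, 0, 1, 0, 0, 0, 0, 1, 0], [0, 0, 1, 1, 0, 0, 0, 2, 0, 0, 0, 0, 2, 1], [0, 2, 1, 2, 0, 0, 0, 0, 1, 0, 0, 0, 0, 2], [0, 1, 2, 0, 1, 1, 2, 0, 0, 0, 2, 1, 0, 1], [2, 0, 2, 1, 1, 2, 0, 0, 0, 1, 0, 2, 0, 1], [0, 0, 0, 2, 2, 0, 0, 0, 1, 0, 1, 0, 0, 0], [0, 0, 2, 0, 0, 0, 0, 0, 0, 0, 0, 0, 1, 0], [0, 2, 1, 0, 0, 0, 0, 0, 0, 0, 0, 0, 0, 2], [2, 0, 0, 2, 1, 0, 0, 0, 0, 0, 0, 2, 0, 2], [0, 1, 2, 2, 1, 1, 0, 0, 1, 0, 2, 1, 0, 1], [1, 0, 1, 0, 2, 1, 1, 0, 0, 2, 1, 1, 0, 2], [0, 0, 1, 1, 0, 0, 0, 0, 0, 0, 0, 0, 2, 1], [0, 1, 2, 1, 0, 0, 0, 1, 2, 0, 0, 0, 1, 1]]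
  | ⟨56, _⟩ => [[2, 1, 0, 1, 2, 0, 0, 2, 2, 1, 0, 0, 2, 1], [0, 2, 2, 0, 0, 0, 0, 0, 1, 0, 0, 0, 0, 0], [0, 1, 2, 2, 0, 0, 0, 1, 1, 0, 0, 0, 0, 2], [0, 0, 2, 0, 0, 0, 0, 2, 1, 0, 0, 0, 2, 2], [1, 2, 1, 2, 2, 2, 1, 2, 0, 1, 0, 2, 2, 0], [0, 2, 0, 2, 2, 0, 2, 0, 0, 1, 2, 2, 1, 0], [0, 2, 2, 2, 1, 2, 2, 1, 0, 0, 2, 2, 1, 0], [0, 0, 1, 2, 0, 0, 0, 2, 0, 0, 0, 0, 2, 2], [0, 2, 1, 1, 0, 0, 0, 0, 2, 0, 0, 0, 0, 2], [2, 0, 2, 0, 1, 1, 0, 1, 0, 2, 0, 2, 2, 0], [0, 1, 1, 1, 0, 2, 2, 2, 0, 0, 0, 2, 2, 0], [0, 2, 2, 2, 2, 2, 2, 1, 0, 2, 2, 2, 1, 0], [0, 0, 0, 2, 0, 0, 0, 2, 0, 0, 0, 0, 0, 2], [0, 0, 2, 2, 0, 0, 0, 2, 2, 0, 0, 0, 2, 2]]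
  | ⟨57, _⟩ => [[1, 0, 2, 0, 0, 1, 2, 0, 0, 0, 0, 0, 0, 0], [0, 1, 0, 1, 0, 0, 0, 2, 0, 0, 0, 0, 0, 0], [0, 0, 2, 0, 0, 0, 0, 0, 0, 0, 0, 0, 0, 0], [0, 0, 1, 1, 0, 0, 0, 0, 0, 0, 0, 0, 0, 0], [0, 0, 1, 2, 2, 0, 0, 0, 0, 0, 0, 0, 0, 0], [0, 0, 1, 2, 1, 1, 0, 0, 0, 0, 0, 0, 0, 0], [0, 0, 1, 2, 1, 2, 2, 0, 0, 0, 0, 0, 0, 0], [0, 0, 1, 2, 0, 0, 0, 2, 0, 0, 0, 0, 0, 0], [0, 1, 0, 2, 0, 0, 0, 1, 2, 0, 0, 0, 0, 0], [1, 1, 0, 0, 0, 2, 1, 1, 0, 2, 0, 0, 0, 0], [2, 0, 1, 2, 2, 1, 2, 1, 1, 2, 1, 0, 0, 0], [0, 2, 2, 1, 2, 2, 0, 1, 2, 1, 1, 2, 0, 0], [0, 2, 2, 1, 0, 0, 0, 2, 2, 0, 0, 0, 1, 0], [0, 0, 2, 2, 0, 0, 0, 0, 1, 0, 0, 0, 1, 2]]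
  | ⟨58, _⟩ => [[1, 0, 0, 1, 2, 2, 1, 2, 1, 2, 0, 2, 1, 2], [0, 1, 2, 2, 0, 0, 0, 1, 2, 0, 0, 0, 0, 2], [0, 2, 2, 1, 0, 0, 0, 1, 1, 0, 0, 0, 0, 2], [0, 1, 2, 2, 0, 0, 0, 0, 1, 0, 0, 0, 2, 2], [2, 2, 1, 0, 2, 1, 1, 0, 0, 1, 0, 2, 2, 0], [1, 0, 0, 2, 2, 2, 0, 1, 2, 1, 2, 2, 1, 1], [1, 1, 2, 1, 1, 0, 0, 0, 2, 0, 2, 2, 2, 1], [0, 1, 1, 0, 0, 0, 0, 0, 0, 0, 0, 0, 2, 2], [0, 2, 1, 2, 0, 0, 0, 0, 1, 0, 0, 0, 1, 0], [2, 2, 2, 2, 1, 2, 0, 2, 2, 1, 1, 0, 1, 1], [0, 2, 1, 2, 0, 2, 1, 0, 1, 2, 2, 2, 0, 2], [2, 0, 2, 1, 2, 1, 2, 1, 1, 0, 1, 2, 2, 2], [0, 0, 0, 2, 0, 0, 0, 1, 2, 0, 0, 0, 2, 2], [0, 2, 2, 1, 0, 0, 0, 2, 0, 0, 0, 0, 1, 2]]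
  | ⟨59, _⟩ => [[0, 2, 2, 2, 2, 1, 0, 0, 0, 0, 0, 2, 0, 1], [0, 0, 2, 1, 0, 0, 0, 0, 0, 0, 0, 0, 0, 2], [0, 2, 2, 2, 0, 0, 0, 0, 0, 0, 0, 0, 0, 1], [0, 0, 2, 0, 0, 0, 0, 1, 0, 0, 0, 0, 2, 0], [2, 0, 2, 0, 2, 2, 0, 0, 0, 0, 0, 1, 0, 0], [0, 2, 2, 1, 2, 0, 1, 0, 0, 0, 2, 0, 0, 1], [0, 0, 1, 0, 0, 1, 0, 1, 0, 1, 0, 0, 2, 0], [0, 0, 0, 1, 0, 0, 0, 0, 1, 0, 0, 0, 0, 0], [0, 0, 2, 0, 0, 0, 0, 2, 0, 0, 0, 0, 2, 0], [0, 1, 1, 1, 2, 0, 2, 0, 0, 0, 2, 0, 0, 2], [2, 0, 1, 0, 2, 0, 0, 1, 0, 2, 0, 1, 2, 0], [2, 1, 0, 2, 2, 1, 2, 0, 0, 0, 1, 2, 0, 2], [0, 2, 2, 0, 0, 0, 0, 0, 2, 0, 0, 0, 0, 1], [0, 2, 2, 1, 0, 0, 0, 2, 0, 0, 0, 0, 1, 2]]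
  | ⟨60, _⟩ => [[1, 2, 1, 1, 2, 2, 1, 1, 2, 1, 1, 0, 1, 2], [0, 1, 2, 2, 0, 0, 0, 1, 1, 0, 0, 0, 1, 0], [0, 1, 1, 0, 0, 0, 0, 1, 1, 0, 0, 0, 0, 1], [0, 0, 1, 1, 0, 0, 0, 1, 2, 0, 0, 0, 2, 2], [1, 0, 1, 1, 1, 0, 1, 1, 1, 1, 0, 1, 1, 1], [0, 2, 0, 2, 1, 1, 1, 0, 1, 2, 2, 2, 1, 1], [2, 1, 1, 1, 0, 1, 1, 1, 0, 1, 1, 0, 0, 0], [0, 2, 0, 1, 0, 0, 0, 1, 1, 0, 0, 0, 1, 0], [0, 2, 0, 0, 0, 0, 0, 2, 1, 0, 0, 0, 2, 2], [2, 1, 0, 1, 0, 0, 2, 1, 0, 1, 2, 2, 2, 2], [1, 1, 1, 1, 0, 2, 2, 0, 2, 1, 0, 1, 1, 1], [2, 1, 0, 0, 2, 2, 1, 2, 1, 2, 2, 1, 2, 2], [0, 1, 0, 2, 0, 0, 0, 2, 1, 0, 0, 0, 0, 1], [0, 2, 2, 2, 0, 0, 0, 1, 2, 0, 0, 0, 2, 1]]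
  | ⟨61, _⟩ => [[1, 1, 1, 1, 0, 2, 0, 0, 0, 0, 0, 2, 0, 1], [0, 1, 0, 2, 0, 0, 0, 0, 0, 0, 0, 0, 0, 2], [0, 2, 1, 2, 0, 0, 0, 0, 0, 0, 0, 0, 0, 2], [0, 0, 1, 0, 0, 0, 0, 2, 0, 0, 0, 0, 2, 0], [2, 0, 1, 0, 1, 2, 0, 0, 0, 0, 0, 2, 0, 0], [0, 1, 2, 0, 1, 0, 2, 0, 0, 0, 2, 0, 0, 1], [0, 0, 0, 0, 0, 1, 0, 1, 0, 2, 0, 0, 1, 0], [0, 0, 0, 1, 0, 0, 0, 0, 2, 0, 0, 0, 0, 0], [0, 0, 2, 0, 0, 0, 0, 0, 0, 0, 0, 0, 1, 0], [0, 1, 2, 0, 2, 0, 0, 0, 0, 0, 1, 0, 0, 1], [1, 0, 2, 0, 2, 1, 0, 2, 0, 2, 0, 1, 2, 0], [0, 1, 2, 0, 1, 1, 2, 0, 0, 0, 2, 1, 0, 1], [0, 1, 2, 1, 0, 0, 0, 0, 2, 0, 0, 0, 0, 1], [0, 0, 1, 1, 0, 0, 0, 2, 0, 0, 0, 0, 2, 1]]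
  | ⟨62, _⟩ => [[1, 0, 0, 1, 2, 1, 1, 0, 0, 0, 0, 0, 0, 0], [0, 1, 2, 1, 0, 0, 0, 1, 0, 0, 0, 0, 0, 0], [0, 0, 1, 0, 0, 0, 0, 0, 0, 0, 0, 0, 0, 0], [0, 0, 2, 1, 0, 0, 0, 0, 0, 0, 0, 0, 0, 0], [0, 0, 2, 2, 1, 0, 0, 0, 0, 0, 0, 0, 0, 0], [0, 0, 0, 2, 2, 1, 0, 0, 0, 0, 0, 0, 0, 0], [0, 0, 1, 0, 2, 2, 1, 0, 0, 0, 0, 0, 0, 0], [0, 0, 2, 2, 0, 0, 0, 1, 0, 0, 0, 0, 0, 0], [0, 1, 2, 0, 0, 0, 0, 2, 1, 0, 0, 0, 0, 0], [1, 1, 1, 2, 2, 0, 2, 2, 0, 1, 0, 0, 0, 0], [2, 0, 1, 0, 0, 2, 0, 2, 2, 1, 1, 0, 0, 0], [2, 2, 1, 0, 1, 0, 2, 2, 1, 2, 1, 1, 0, 0], [0, 2, 0, 2, 0, 0, 0, 0, 1, 0, 0, 0, 1, 0], [0, 2, 1, 0, 0, 0, 0, 2, 2, 0, 0, 0, 1, 1]]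
  | ⟨n+63, h⟩ => absurd h (by omega)
def T14_c6 : Fin 63 → List (List ℕ)
  | ⟨0, _⟩ => [[2, 0, 0, 0, 0, 0, 0, 0, 0, 0, 0, 0, 0, 0], [0, 2, 0, 0, 0, 0, 0, 0, 0, 0, 0, 0, 0, 0], [0, 0, 0, 0, 0, 0, 0, 0, 0, 0, 0, 0, 0, 2], [0, 0, 0, 0, 0, 0, 0, 0, 0, 0, 0, 0, 2, 0], [0, 0, 0, 0, 0, 0, 0, 0, 0, 0, 0, 2, 0, 0], [0, 0, 0, 0, 0, 0, 0, 0, 0, 0, 2, 0, 0, 0], [0, 0, 0, 0, 0, 0, 0, 0, 0, 2, 0, 0, 0, 0], [0, 0, 0, 0, 0, 0, 0, 0, 2, 0, 0, 0, 0, 0], [0, 0, 0, 0, 0, 0, 0, 2, 0, 0, 0, 0, 0, 0], [0, 0, 0, 0, 0, 0, 2, 0, 0, 0, 0, 0, 0, 0], [0, 0, 0, 0, 0, 2, 0, 0, 0, 0, 0, 0, 0, 0], [0, 0, 0, 0, 2, 0, 0, 0, 0, 0, 0, 0, 0, 0], [0, 0, 0, 2, 0, 0,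 0, 0, 0, 0, 0, 0, 0, 0], [0, 0, 2, 0, 0, 0, 0, 0, 0, 0, 0, 0, 0, 0]]
  | ⟨1, _⟩ => [[0, 2, 0, 2, 2, 0, 0, 2, 1, 1, 2, 2, 1, 1], [0, 0, 2, 0, 0, 0, 0, 0, 1, 0, 0, 0, 2, 2], [0, 2, 2, 1, 0, 0, 0, 2, 0, 0, 0, 0, 1, 2], [0, 0, 0, 1, 0, 0, 0, 2, 1, 0, 0, 0, 1, 1], [2, 0, 2, 1, 2, 1, 2, 1, 1, 0, 1, 2, 2, 2], [0, 0, 1, 2, 0, 1, 2, 2, 2, 1, 1, 1, 1, 0], [2, 2, 2, 0, 1, 2, 0, 1, 0, 1, 1, 0, 2, 2], [0, 2, 1, 2, 0, 0, 0, 0, 1, 0, 0, 0, 1, 0], [0, 1, 1, 1, 0, 0, 0, 2, 1, 0, 0, 0, 0, 0], [1, 0, 2, 1, 1, 1, 2, 1, 1, 1, 0, 0, 1, 0], [2, 1, 0, 1, 2, 0, 2, 0, 1, 1, 1, 0, 1, 1], [1, 2, 1, 1, 2, 1, 1, 2, 1, 2, 1, 1, 0, 0], [0, 2, 2, 0, 0, 0, 0,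 2, 1, 0, 0, 0, 1, 0], [0, 1, 2, 1, 0, 0, 0, 1, 2, 0, 0, 0, 1, 1]]
  | ⟨2, _⟩ => [[1, 0, 2, 1, 0, 0, 2, 1, 0, 0, 2, 0, 1, 2], [0, 1, 0, 0, 0, 0, 0, 2, 0, 0, 0, 0, 2, 0], [0, 2, 2, 0, 0, 0, 0, 1, 1, 0, 0, 0, 1, 2], [0, 2, 1, 1, 0, 0, 0, 2, 0, 0, 0, 0, 1, 1], [2, 2, 0, 2, 2, 0, 1, 0, 0, 1, 1, 2, 0, 1], [2, 1, 0, 2, 1, 1, 2, 0, 1, 0, 1, 1, 0, 1], [1, 2, 0, 1, 2, 2, 0, 0, 0, 0, 0, 1, 0, 1], [0, 1, 2, 2, 0, 0, 0, 0, 0, 0, 0, 0, 0, 1], [0, 0, 2, 0, 0, 0, 0, 2, 0, 0, 0, 0, 1, 0], [0, 0, 0, 2, 2, 0, 2, 0, 2, 0, 1, 0, 0, 0], [2, 2, 0, 1, 1, 0, 0, 0, 0, 1, 0, 2, 0, 1], [1, 2, 0, 1, 2, 2, 2, 0, 0, 0, 2, 2, 0, 2], [0, 2, 1, 0, 0, 0, 0, 0,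 1, 0, 0, 0, 0, 2], [0, 1, 2, 2, 0, 0, 0, 2, 0, 0, 0, 0, 2, 2]]
  | ⟨3, _⟩ => [[1, 1, 1, 1, 2, 2, 1, 1, 1, 1, 2, 2, 1, 1], [0, 1, 2, 2, 0, 0, 0, 1, 1, 0, 0, 0, 2, 2], [0, 0, 1, 1, 0, 0, 0, 2, 0, 0, 0, 0, 2, 1], [0, 2, 0, 1, 0, 0, 0, 1, 1, 0, 0, 0, 1, 1], [0, 2, 0, 0, 1, 1, 2, 1, 2, 0, 2, 1, 1, 1], [2, 0, 1, 1, 0, 1, 1, 1, 2, 1, 1, 1, 1, 0], [1, 0, 0, 1, 0, 0, 1, 1, 0, 2, 2, 0, 1, 1], [0, 1, 0, 0, 0, 0, 0, 1, 2, 0, 0, 0, 2, 0], [0, 2, 0, 1, 0, 0, 0, 1, 2, 0, 0, 0, 0, 0], [2, 0, 2, 2, 0, 1, 1, 0, 2, 2, 0, 0, 2, 0], [2, 0, 0, 1, 1, 1, 1, 2, 1, 1, 1, 0, 1, 1], [0, 1, 2, 2, 2, 1, 0, 1, 2, 1, 2, 2, 0, 0], [0, 2, 1, 1, 0, 0, 0, 1, 1,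 0, 0, 0, 1, 0], [0, 0, 2, 1, 0, 0, 0, 0, 1, 0, 0, 0, 2, 2]]
  | ⟨4, _⟩ => [[1, 2, 0, 0, 2, 1, 1, 2, 0, 0, 2, 2, 1, 2], [0, 1, 2, 1, 0, 0, 0, 1, 0, 0, 0, 0, 2, 2], [0, 1, 1, 2, 0, 0, 0, 1, 0, 0, 0, 0, 2, 1], [0, 1, 1, 0, 0, 0, 0, 0, 1, 0, 0, 0, 0, 2], [1, 2, 0, 1, 1, 2, 1, 0, 0, 0, 2, 1, 0, 1], [1, 2, 1, 1, 1, 0, 0, 1, 0, 1, 0, 2, 2, 2], [0, 1, 1, 2, 1, 0, 1, 0, 2, 0, 1, 0, 0, 2], [0, 0, 1, 0, 0, 0, 0, 1, 0, 0, 0, 0, 1, 0], [0, 2, 2, 2, 0, 0, 0, 0, 1, 0, 0, 0, 0, 1], [2, 2, 2, 1, 2, 2, 0, 2, 0, 1, 0, 1, 1, 2], [2, 2, 1, 0, 1, 1, 2, 0, 1, 0, 0, 2, 0, 1], [1, 1, 0, 1, 2, 1, 2, 1, 0, 1, 1, 1, 2, 0], [0, 2, 1, 1, 0, 0, 0, 2, 0, 0,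 0, 0, 0, 2], [0, 1, 2, 1, 0, 0, 0, 2, 1, 0, 0, 0, 1, 1]]
  | ⟨5, _⟩ => [[1, 1, 0, 0, 1, 2, 2, 1, 0, 1, 2, 0, 2, 0], [0, 1, 1, 2, 0, 0, 0, 2, 1, 0, 0, 0, 2, 0], [0, 1, 1, 2, 0, 0, 0, 1, 0, 0, 0, 0, 2, 1], [0, 2, 2, 2, 0, 0, 0, 1, 1, 0, 0, 0, 2, 0], [1, 2, 0, 2, 1, 2, 1, 2, 1, 0, 2, 1, 1, 2], [2, 2, 2, 0, 2, 2, 1, 0, 2, 1, 2, 0, 0, 0], [0, 0, 1, 2, 1, 1, 0, 1, 1, 1, 2, 1, 2, 1], [0, 0, 1, 1, 0, 0, 0, 0, 1, 0, 0, 0, 2, 1], [0, 1, 2, 0, 0, 0, 0, 2, 0, 0, 0, 0, 2, 1], [1, 0, 2, 1, 2, 0, 2, 0, 0, 0, 2, 1, 1, 2], [0, 2, 2, 2, 2, 0, 0, 2, 1, 2, 1, 0, 0, 0], [0, 1, 0, 2, 2, 1, 2, 0, 1, 2, 1, 2, 1, 2], [0, 0, 2, 0, 0, 0, 0, 0, 2, 0, 0,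 0, 1, 0], [0, 0, 2, 1, 0, 0, 0, 2, 2, 0, 0, 0, 1, 2]]
  | ⟨6, _⟩ => [[0, 0, 0, 1, 1, 2, 2, 1, 1, 2, 1, 1, 2, 0], [0, 0, 1, 2, 0, 0, 0, 2, 2, 0, 0, 0, 1, 1], [0, 1, 1, 1, 0, 0, 0, 2, 1, 0, 0, 0, 1, 2], [0, 0, 1, 2, 0, 0, 0, 0, 0, 0, 0, 0, 1, 1], [1, 0, 2, 0, 1, 1, 2, 0, 0, 1, 1, 2, 0, 1], [0, 0, 0, 2, 1, 2, 0, 2, 2, 0, 1, 1, 1, 0], [2, 0, 1, 1, 2, 0, 0, 0, 0, 0, 0, 1, 1, 2], [0, 2, 2, 0, 0, 0, 0, 0, 0, 0, 0, 0, 0, 1], [0, 0, 2, 2, 0, 0, 0, 0, 0, 0, 0, 0, 2, 1], [0, 1, 1, 2, 2, 2, 0, 1, 2, 0, 2, 1, 2, 2], [0, 0, 2, 2, 0, 2, 2, 0, 0, 2, 1, 0, 1, 2], [1, 2, 1, 1, 1, 1, 1, 2, 1, 2, 1, 2, 1, 2], [0, 0, 0, 2, 0, 0, 0, 2, 2, 0, 0, 0,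 1, 0], [0, 1, 1, 1, 0, 0, 0, 1, 2, 0, 0, 0, 1, 2]]
  | ⟨7, _⟩ => [[1, 0, 0, 0, 0, 0, 0, 0, 0, 1, 1, 0, 0, 1], [0, 1, 0, 0, 0, 0, 0, 0, 1, 0, 0, 0, 1, 0], [0, 0, 2, 2, 0, 0, 0, 1, 0, 0, 0, 0, 1, 2], [0, 2, 0, 1, 0, 0, 0, 1, 1, 0, 0, 0, 1, 1], [0, 1, 0, 0, 2, 2, 1, 2, 1, 0, 1, 2, 2, 2], [2, 0, 0, 0, 0, 1, 1, 2, 2, 1, 1, 1, 2, 2], [2, 2, 0, 0, 0, 0, 2, 0, 1, 1, 1, 0, 0, 0], [0, 2, 0, 0, 0, 0, 0, 2, 1, 0, 0, 0, 1, 0], [0, 0, 0, 0, 0, 0, 0, 0, 2, 0, 0, 0, 1, 1], [0, 0, 0, 0, 0, 0, 0, 0, 0, 2, 1, 1, 1, 1], [0, 0, 0, 0, 0, 0, 0, 0, 0, 0, 1, 2, 2, 2], [0, 0, 0, 0, 0, 0, 0, 0, 0, 0, 0, 2, 1, 1], [0, 0, 0, 0, 0, 0, 0, 0, 0, 0, 0, 0, 1,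 2], [0, 0, 0, 0, 0, 0, 0, 0, 0, 0, 0, 0, 0, 2]]
  | ⟨8, _⟩ => [[1, 0, 1, 1, 0, 0, 1, 2, 0, 0, 2, 0, 1, 1], [0, 1, 0, 0, 0, 0, 0, 1, 0, 0, 0, 0, 2, 0], [0, 1, 2, 0, 0, 0, 0, 1, 1, 0, 0, 0, 2, 2], [0, 2, 2, 1, 0, 0, 0, 1, 0, 0, 0, 0, 1, 2], [1, 1, 0, 1, 2, 0, 1, 0, 0, 1, 2, 2, 0, 1], [2, 1, 0, 2, 2, 1, 1, 0, 2, 0, 1, 2, 0, 2], [2, 1, 0, 2, 2, 1, 0, 0, 0, 0, 0, 1, 0, 1], [0, 2, 2, 1, 0, 0, 0, 0, 0, 0, 0, 0, 0, 1], [0, 0, 2, 0, 0, 0, 0, 2, 0, 0, 0, 0, 2, 0], [0, 0, 0, 1, 2, 0, 2, 0, 2, 0, 2, 0, 0, 0], [2, 2, 0, 1, 2, 0, 0, 0, 0, 2, 0, 1, 0, 2], [2, 1, 0, 2, 2, 1, 2, 0, 0, 0, 1, 2, 0, 2], [0, 2, 2, 0, 0, 0, 0, 0, 2, 0, 0, 0, 0, 1],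 [0, 2, 2, 1, 0, 0, 0, 2, 0, 0, 0, 0, 1, 2]]
  | ⟨9, _⟩ => [[2, 1, 1, 2, 0, 1, 0, 0, 1, 2, 0, 1, 0, 2], [0, 2, 0, 1, 0, 0, 0, 0, 2, 0, 0, 0, 0, 1], [0, 2, 1, 2, 0, 0, 0, 2, 1, 0, 0, 0, 2, 2], [0, 0, 2, 2, 0, 0, 0, 0, 0, 0, 0, 0, 1, 2], [2, 0, 2, 0, 1, 2, 2, 0, 0, 1, 2, 2, 0, 1], [0, 1, 2, 0, 2, 2, 0, 2, 0, 0, 1, 2, 2, 1], [1, 0, 2, 0, 2, 0, 0, 0, 0, 0, 0, 1, 1, 0], [0, 1, 2, 0, 0, 0, 0, 0, 0, 0, 0, 0, 0, 1], [0, 0, 0, 2, 0, 0, 0, 0, 0, 0, 0, 0, 0, 2], [0, 0, 0, 0, 0, 2, 0, 1, 0, 0, 0, 2, 1, 0], [2, 0, 2, 0, 1, 0, 2, 0, 0, 0, 2, 2, 1, 1], [0, 2, 1, 0, 1, 1, 0, 0, 0, 2, 2, 1, 0, 2], [0, 2, 1, 0, 0, 0, 0, 2, 0, 0, 0, 0, 2, 2], [0,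 0, 1, 1, 0, 0, 0, 0, 2, 0, 0, 0, 2, 1]]
  | ⟨10, _⟩ => [[0, 2, 0, 2, 1, 0, 0, 1, 2, 2, 2, 1, 1, 2], [0, 0, 1, 0, 0, 0, 0, 0, 2, 0, 0, 0, 2, 1], [0, 2, 1, 1, 0, 0, 0, 1, 0, 0, 0, 0, 1, 1], [0, 0, 0, 1, 0, 0, 0, 1, 2, 0, 0, 0, 1, 2], [2, 0, 1, 1, 1, 1, 1, 2, 2, 0, 1, 1, 2, 1], [0, 0, 2, 2, 0, 1, 1, 1, 1, 2, 1, 2, 1, 0], [2, 2, 1, 0, 2, 2, 0, 2, 0, 2, 1, 0, 2, 1], [0, 2, 2, 2, 0, 0, 0, 0, 2, 0, 0, 0, 1, 0], [0, 1, 2, 1, 0, 0, 0, 1, 2, 0, 0, 0, 0, 0], [1, 0, 1, 1, 2, 1, 1, 2, 2, 2, 0, 0, 1, 0], [2, 1, 0, 1, 1, 0, 1, 0, 2, 2, 1, 0, 1, 2], [1, 2, 2, 1, 1, 1, 2, 1, 2, 1, 1, 2, 0, 0], [0, 2, 1, 0, 0, 0, 0, 1, 2, 0, 0, 0, 1, 0], [0, 1,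 1, 1, 0, 0, 0, 2, 1, 0, 0, 0, 1, 2]]
  | ⟨11, _⟩ => [[2, 2, 0, 1, 0, 1, 2, 0, 1, 0, 0, 1, 2, 0], [0, 2, 0, 1, 0, 0, 0, 2, 0, 0, 0, 0, 0, 1], [0, 0, 1, 2, 0, 0, 0, 0, 2, 0, 0, 0, 1, 1], [0, 1, 0, 1, 0, 0, 0, 2, 1, 0, 0, 0, 0, 1], [0, 0, 2, 1, 1, 2, 0, 1, 1, 2, 1, 1, 1, 2], [1, 1, 0, 0, 0, 1, 2, 1, 0, 1, 0, 1, 1, 0], [2, 2, 1, 2, 1, 2, 1, 1, 2, 1, 1, 2, 1, 1], [0, 2, 1, 2, 0, 0, 0, 1, 1, 0, 0, 0, 1, 2], [0, 0, 1, 2, 0, 0, 0, 0, 0, 0, 0, 0, 2, 2], [0, 1, 2, 1, 1, 2, 0, 0, 2, 0, 2, 2, 0, 1], [0, 1, 0, 0, 0, 2, 1, 2, 1, 1, 1, 0, 2, 2], [1, 2, 2, 1, 2, 1, 2, 1, 2, 1, 1, 1, 1, 1], [0, 0, 0, 2, 0, 0, 0, 1, 1, 0, 0, 0, 1, 0], [0, 1, 2,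 1, 0, 0, 0, 2, 1, 0, 0, 0, 1, 1]]
  | ⟨12, _⟩ => [[1, 0, 0, 0, 0, 0, 0, 0, 0, 0, 0, 0, 0, 0], [0, 1, 0, 0, 0, 0, 0, 0, 0, 0, 0, 0, 0, 0], [0, 0, 2, 0, 0, 0, 0, 0, 0, 0, 0, 0, 0, 0], [0, 0, 0, 1, 0, 0, 0, 0, 0, 0, 0, 0, 0, 0], [0, 0, 0, 0, 2, 0, 0, 0, 0, 0, 0, 0, 0, 0], [0, 0, 0, 0, 0, 1, 0, 0, 0, 0, 0, 0, 0, 0], [0, 0, 0, 0, 0, 0, 2, 0, 0, 0, 0, 0, 0, 0], [0, 0, 0, 0, 0, 0, 0, 2, 0, 0, 0, 0, 0, 0], [0, 0, 0, 0, 0, 0, 0, 0, 2, 0, 0, 0, 0, 0], [0, 0, 0, 0, 0, 0, 0, 0, 0, 2, 0, 0, 0, 0], [0, 0, 0, 0, 0, 0, 0, 0, 0, 0, 1, 0, 0, 0], [0, 0, 0, 0, 0, 0, 0, 0, 0, 0, 0, 2, 0, 0], [0, 0, 0, 0, 0, 0, 0, 0, 0, 0, 0, 0, 1, 0], [0, 0, 0, 0,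 0, 0, 0, 0, 0, 0, 0, 0, 0, 2]]
  | ⟨13, _⟩ => [[0, 1, 1, 2, 2, 1, 1, 1, 2, 0, 0, 2, 1, 0], [0, 0, 2, 1, 0, 0, 0, 1, 0, 0, 0, 0, 0, 2], [0, 1, 2, 2, 0, 0, 0, 0, 2, 0, 0, 0, 2, 2], [0, 0, 1, 2, 0, 0, 0, 1, 2, 0, 0, 0, 2, 0], [1, 0, 2, 1, 2, 2, 0, 1, 1, 2, 2, 2, 2, 2], [0, 0, 0, 2, 1, 2, 1, 2, 2, 2, 2, 0, 1, 1], [1, 1, 2, 1, 0, 2, 1, 0, 1, 0, 1, 1, 0, 2], [0, 1, 0, 2, 0, 0, 0, 1, 0, 0, 0, 0, 1, 1], [0, 2, 0, 0, 0, 0, 0, 1, 2, 0, 0, 0, 2, 1], [2, 0, 0, 2, 0, 0, 1, 1, 1, 2, 2, 1, 2, 2], [1, 2, 1, 2, 0, 2, 1, 1, 0, 2, 0, 2, 2, 0], [2, 1, 0, 0, 1, 2, 2, 1, 2, 1, 2, 2, 2, 1], [0, 1, 0, 2, 0, 0, 0, 1, 2, 0, 0, 0, 0, 2], [0, 2, 1, 2, 0,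 0, 0, 2, 1, 0, 0, 0, 2, 2]]
  | ⟨14, _⟩ => [[2, 0, 2, 2, 0, 1, 0, 0, 1, 2, 0, 0, 2, 2], [0, 2, 0, 1, 0, 0, 0, 0, 2, 0, 0, 0, 0, 0], [0, 1, 2, 2, 0, 0, 0, 1, 1, 0, 0, 0, 0, 2], [0, 1, 1, 2, 0, 0, 0, 0, 2, 0, 0, 0, 2, 1], [1, 1, 1, 0, 2, 2, 1, 0, 0, 1, 0, 2, 1, 0], [1, 2, 1, 0, 1, 2, 0, 1, 0, 2, 2, 1, 1, 0], [2, 1, 1, 0, 1, 0, 0, 0, 0, 0, 1, 2, 2, 0], [0, 2, 1, 0, 0, 0, 0, 0, 0, 0, 0, 0, 1, 2], [0, 0, 0, 2, 0, 0, 0, 0, 2, 0, 0, 0, 0, 2], [0, 0, 0, 0, 0, 2, 0, 2, 0, 2, 0, 2, 1, 0], [1, 1, 1, 0, 2, 0, 1, 0, 0, 0, 0, 1, 2, 0], [2, 1, 2, 0, 2, 1, 0, 0, 0, 2, 1, 2, 2, 0], [0, 1, 2, 0, 0, 0, 0, 1, 0, 0, 0, 0, 0, 1], [0, 2, 2, 1, 0, 0,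 0, 0, 2, 0, 0, 0, 1, 2]]
  | ⟨15, _⟩ => [[1, 0, 0, 1, 1, 1, 2, 0, 0, 0, 0, 0, 0, 0], [0, 1, 1, 1, 0, 0, 0, 2, 0, 0, 0, 0, 0, 0], [0, 0, 2, 0, 0, 0, 0, 0, 0, 0, 0, 0, 0, 0], [0, 0, 1, 1, 0, 0, 0, 0, 0, 0, 0, 0, 0, 0], [0, 0, 1, 2, 2, 0, 0, 0, 0, 0, 0, 0, 0, 0], [0, 0, 0, 2, 1, 1, 0, 0, 0, 0, 0, 0, 0, 0], [0, 0, 2, 0, 1, 2, 2, 0, 0, 0, 0, 0, 0, 0], [0, 0, 1, 2, 0, 0, 0, 2, 0, 0, 0, 0, 0, 0], [0, 1, 1, 0, 0, 0, 0, 1, 2, 0, 0, 0, 0, 0], [1, 1, 2, 2, 1, 0, 1, 1, 0, 2, 0, 0, 0, 0], [2, 0, 2, 0, 0, 2, 0, 1, 1, 2, 1, 0, 0, 0], [2, 2, 2, 0, 2, 0, 1, 1, 2, 1, 1, 2, 0, 0], [0, 2, 0, 2, 0, 0, 0, 0, 2, 0, 0, 0, 1, 0], [0, 2, 2, 0, 0, 0, 0,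 1, 1, 0, 0, 0, 1, 2]]
  | ⟨16, _⟩ => [[2, 0, 1, 2, 0, 2, 2, 1, 0, 0, 0, 1, 0, 0], [0, 2, 0, 2, 0, 0, 0, 2, 0, 0, 0, 0, 0, 1], [0, 0, 1, 0, 0, 0, 0, 1, 1, 0, 0, 0, 0, 2], [0, 2, 1, 1, 0, 0, 0, 1, 1, 0, 0, 0, 2, 2], [0, 2, 1, 1, 1, 0, 1, 1, 0, 1, 0, 2, 2, 0], [2, 2, 2, 2, 1, 1, 1, 2, 1, 1, 2, 2, 1, 2], [2, 1, 0, 0, 0, 1, 1, 0, 1, 0, 2, 2, 0, 2], [0, 2, 0, 1, 0, 0, 0, 1, 0, 0, 0, 0, 2, 2], [0, 0, 2, 2, 0, 0, 0, 1, 0, 0, 0, 0, 2, 1], [0, 2, 2, 2, 2, 2, 1, 0, 2, 0, 2, 1, 0, 1], [0, 0, 2, 2, 2, 0, 2, 1, 1, 1, 1, 2, 2, 2], [1, 2, 2, 2, 1, 2, 2, 1, 0, 2, 0, 1, 2, 0], [0, 0, 2, 0, 0, 0, 0, 2, 1, 0, 0, 0, 1, 2], [0, 1, 1, 2, 0, 0, 0, 2,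 2, 0, 0, 0, 0, 1]]
  | ⟨17, _⟩ => [[2, 0, 1, 0, 2, 0, 0, 0, 0, 0, 0, 0, 0, 0], [0, 2, 2, 0, 0, 0, 0, 0, 0, 0, 0, 0, 0, 0], [0, 1, 2, 1, 0, 0, 0, 0, 0, 0, 0, 0, 0, 1], [0, 0, 1, 0, 0, 0, 0, 2, 0, 0, 0, 0, 2, 0], [1, 0, 2, 0, 2, 1, 0, 0, 0, 0, 0, 1, 0, 0], [0, 0, 0, 2, 1, 0, 2, 0, 0, 0, 2, 0, 0, 0], [0, 0, 2, 0, 0, 2, 0, 0, 0, 1, 0, 0, 0, 0], [0, 0, 0, 2, 0, 0, 0, 0, 1, 0, 0, 0, 0, 0], [0, 0, 0, 0, 0, 0, 0, 1, 0, 0, 0, 0, 0, 0], [0, 0, 0, 2, 0, 0, 1, 0, 0, 0, 0, 0, 0, 0], [0, 0, 1, 0, 0, 2, 0, 0, 0, 0, 0, 0, 0, 0], [0, 0, 0, 0, 1, 0, 0, 0, 0, 0, 0, 0, 0, 0], [0, 0, 0, 2, 0, 0, 0, 0, 0, 0, 0, 0, 0, 0], [0, 0, 1, 0, 0, 0, 0, 0, 0,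 0, 0, 0, 0, 0]]
  | ⟨18, _⟩ => [[0, 0, 1, 0, 1, 2, 0, 1, 2, 0, 1, 2, 0, 2], [0, 0, 1, 2, 0, 0, 0, 0, 0, 0, 0, 0, 1, 2], [0, 2, 2, 0, 0, 0, 0, 2, 2, 0, 0, 0, 0, 2], [0, 0, 1, 1, 0, 0, 0, 1, 2, 0, 0, 0, 2, 2], [2, 0, 2, 2, 2, 0, 2, 2, 2, 2, 0, 2, 2, 2], [0, 0, 1, 2, 1, 1, 1, 1, 2, 2, 2, 2, 1, 2], [1, 2, 1, 1, 0, 2, 2, 1, 1, 2, 2, 0, 1, 1], [0, 1, 0, 2, 0, 0, 0, 2, 2, 0, 0, 0, 2, 0], [0, 1, 2, 2, 0, 0, 0, 0, 0, 0, 0, 0, 2, 2], [1, 1, 1, 0, 2, 2, 0, 0, 0, 0, 2, 2, 0, 1], [0, 0, 2, 2, 1, 1, 2, 1, 2, 1, 2, 2, 1, 1], [0, 1, 0, 1, 2, 1, 2, 1, 1, 2, 1, 2, 1, 0], [0, 0, 1, 1, 0, 0, 0, 2, 1, 0, 0, 0, 2, 2], [0, 0, 2, 1, 0, 0, 0, 2, 2, 0,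 0, 0, 1, 2]]
  | ⟨19, _⟩ => [[2, 0, 0, 0, 0, 0, 0, 0, 0, 0, 0, 1, 0, 2], [0, 2, 0, 0, 0, 0, 0, 0, 0, 0, 0, 0, 0, 1], [0, 0, 0, 0, 0, 0, 0, 0, 0, 0, 0, 0, 0, 2], [0, 0, 0, 0, 0, 0, 0, 0, 0, 0, 0, 0, 2, 0], [0, 0, 0, 0, 0, 0, 0, 0, 0, 0, 0, 2, 0, 0], [0, 0, 0, 0, 0, 0, 0, 0, 0, 0, 2, 0, 0, 2], [0, 0, 0, 0, 0, 0, 0, 0, 0, 2, 0, 0, 2, 0], [0, 0, 0, 0, 0, 0, 0, 0, 2, 0, 0, 0, 0, 0], [0, 0, 0, 0, 0, 0, 0, 2, 0, 0, 0, 0, 2, 0], [0, 0, 0, 0, 0, 0, 2, 0, 0, 0, 2, 0, 0, 1], [0, 0, 0, 0, 0, 2, 0, 0, 0, 1, 0, 2, 2, 0], [1, 0, 0, 0, 2, 0, 0, 0, 0, 0, 1, 1, 0, 1], [0, 0, 0, 2, 0, 0, 0, 0, 1, 0, 0, 0, 0, 2], [0, 1, 2, 0, 0, 0, 0, 0, 0, 0, 0,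 0, 1, 1]]
  | ⟨20, _⟩ => [[2, 1, 0, 0, 2, 2, 1, 2, 0, 0, 1, 2, 2, 2], [0, 2, 2, 2, 0, 0, 0, 1, 0, 0, 0, 0, 1, 2], [0, 1, 1, 1, 0, 0, 0, 1, 2, 0, 0, 0, 1, 2], [0, 1, 1, 2, 0, 0, 0, 2, 0, 0, 0, 0, 0, 2], [1, 1, 0, 1, 1, 1, 1, 2, 0, 2, 1, 2, 2, 0], [1, 1, 1, 0, 1, 2, 2, 0, 1, 0, 0, 2, 0, 1], [2, 2, 1, 1, 1, 2, 0, 1, 0, 2, 0, 2, 1, 1], [0, 2, 1, 2, 0, 0, 0, 0, 2, 0, 0, 0, 0, 2], [0, 0, 2, 0, 0, 0, 0, 2, 0, 0, 0, 0, 1, 0], [0, 1, 2, 2, 2, 0, 2, 0, 1, 0, 1, 0, 0, 1], [2, 1, 1, 2, 1, 0, 0, 1, 0, 1, 0, 2, 1, 2], [1, 2, 0, 1, 2, 2, 2, 0, 0, 0, 2, 2, 0, 2], [0, 2, 1, 0, 0, 0, 0, 0, 1, 0, 0, 0, 0, 2], [0, 1, 2, 2, 0, 0, 0, 2, 0, 0, 0, 0,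 2, 2]]
  | ⟨21, _⟩ => [[0, 2, 2, 2, 2, 1, 0, 0, 0, 0, 0, 2, 0, 1], [0, 0, 2, 1, 0, 0, 0, 0, 0, 0, 0, 0, 0, 2], [0, 1, 1, 1, 0, 0, 0, 0, 0, 0, 0, 0, 0, 2], [0, 0, 2, 0, 0, 0, 0, 1, 0, 0, 0, 0, 2, 0], [1, 0, 1, 0, 1, 1, 0, 0, 0, 0, 0, 2, 0, 0], [0, 2, 2, 1, 2, 0, 1, 0, 0, 0, 2, 0, 0, 1], [0, 0, 2, 0, 0, 2, 0, 2, 0, 2, 0, 0, 1, 0], [0, 0, 0, 2, 0, 0, 0, 0, 2, 0, 0, 0, 0, 0], [0, 0, 1, 0, 0, 0, 0, 1, 0, 0, 0, 0, 1, 0], [0, 2, 2, 2, 1, 0, 1, 0, 0, 0, 1, 0, 0, 1], [2, 0, 1, 0, 2, 0, 0, 1, 0, 2, 0, 1, 2, 0], [1, 2, 0, 1, 1, 2, 1, 0, 0, 0, 2, 1, 0, 1], [0, 2, 2, 0, 0, 0, 0, 0, 2, 0, 0, 0, 0, 1], [0, 1, 1, 2, 0, 0, 0, 1, 0, 0, 0, 0, 2,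 1]]
  | ⟨22, _⟩ => [[1, 2, 1, 1, 1, 2, 0, 0, 1, 2, 1, 1, 0, 0], [0, 1, 1, 2, 0, 0, 0, 0, 2, 0, 0, 0, 1, 1], [0, 1, 2, 1, 0, 0, 0, 2, 1, 0, 0, 0, 1, 1], [0, 2, 1, 0, 0, 0, 0, 0, 1, 0, 0, 0, 1, 2], [1, 1, 0, 2, 2, 1, 2, 0, 2, 1, 1, 1, 1, 0], [2, 2, 2, 0, 1, 0, 0, 2, 0, 1, 1, 2, 0, 2], [2, 2, 1, 1, 2, 0, 2, 0, 1, 0, 2, 1, 1, 1], [0, 2, 2, 0, 0, 0, 0, 2, 0, 0, 0, 0, 2, 1], [0, 0, 0, 1, 0, 0, 0, 0, 2, 0, 0, 0, 0, 2], [0, 1, 1, 0, 0, 1, 0, 1, 0, 2, 0, 2, 2, 2], [1, 2, 1, 2, 1, 0, 2, 0, 2, 0, 0, 2, 1, 2], [1, 2, 2, 0, 2, 2, 0, 0, 0, 2, 2, 2, 1, 0], [0, 1, 1, 0, 0, 0, 0, 2, 0, 0, 0, 0, 0, 2], [0, 1, 2, 2, 0, 0, 0, 0, 2, 0, 0, 0, 2, 2]]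
  | ⟨23, _⟩ => [[2, 0, 1, 2, 1, 0, 1, 2, 1, 2, 1, 1, 2, 0], [0, 2, 1, 0, 0, 0, 0, 1, 2, 0, 0, 0, 1, 1], [0, 1, 1, 0, 0, 0, 0, 2, 2, 0, 0, 0, 2, 1], [0, 2, 1, 1, 0, 0, 0, 2, 0, 0, 0, 0, 1, 1], [1, 1, 0, 1, 1, 0, 2, 0, 0, 2, 2, 1, 0, 2], [2, 0, 2, 2, 1, 1, 2, 1, 2, 0, 1, 1, 1, 0], [2, 2, 2, 1, 1, 1, 0, 1, 0, 0, 0, 2, 2, 1], [0, 2, 1, 1, 0, 0, 0, 0, 0, 0, 0, 0, 0, 2], [0, 1, 0, 2, 0, 0, 0, 2, 0, 0, 0, 0, 1, 2], [1, 1, 2, 2, 0, 2, 2, 1, 1, 0, 1, 2, 1, 1], [0, 1, 1, 0, 1, 1, 1, 2, 0, 2, 1, 0, 1, 2], [1, 0, 1, 1, 1, 2, 0, 2, 2, 1, 2, 1, 2, 1], [0, 0, 1, 1, 0, 0, 0, 1, 2, 0, 0, 0, 1, 0], [0, 1, 1, 2, 0, 0, 0, 0, 1, 0, 0, 0, 2, 1]]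
  | ⟨24, _⟩ => [[1, 1, 1, 1, 0, 1, 2, 1, 1, 1, 1, 1, 1, 1], [0, 1, 0, 1, 0, 0, 0, 2, 1, 0, 0, 0, 1, 1], [0, 0, 1, 1, 0, 0, 0, 2, 0, 0, 0, 0, 2, 1], [0, 2, 2, 0, 0, 0, 0, 2, 1, 0, 0, 0, 2, 0], [0, 0, 2, 1, 1, 1, 2, 1, 1, 0, 2, 1, 1, 2], [2, 2, 2, 1, 2, 0, 2, 1, 2, 1, 2, 0, 1, 2], [2, 0, 2, 1, 2, 1, 1, 0, 0, 1, 2, 1, 0, 1], [0, 2, 2, 1, 0, 0, 0, 1, 1, 0, 0, 0, 2, 1], [0, 1, 0, 2, 0, 0, 0, 1, 2, 0, 0, 0, 0, 1], [1, 2, 0, 0, 0, 2, 1, 0, 1, 2, 0, 1, 2, 1], [2, 0, 2, 1, 1, 2, 1, 2, 2, 0, 1, 0, 0, 2], [1, 2, 1, 2, 1, 0, 1, 1, 2, 1, 0, 1, 0, 2], [0, 2, 1, 2, 0, 0, 0, 1, 0, 0, 0, 0, 1, 0], [0, 1, 1, 0, 0, 0, 0, 1, 1, 0, 0, 0, 0, 1]]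
  | ⟨25, _⟩ => [[1, 2, 1, 1, 0, 1, 2, 1, 2, 2, 2, 1, 1, 2], [0, 1, 0, 1, 0, 0, 0, 2, 2, 0, 0, 0, 2, 1], [0, 2, 2, 2, 0, 0, 0, 1, 2, 0, 0, 0, 2, 1], [0, 1, 2, 0, 0, 0, 0, 2, 1, 0, 0, 0, 2, 0], [2, 1, 1, 2, 2, 2, 1, 2, 1, 2, 2, 1, 0, 0], [1, 1, 2, 1, 2, 0, 2, 1, 0, 1, 2, 0, 1, 2], [2, 1, 1, 2, 1, 2, 2, 0, 2, 1, 0, 0, 1, 0], [0, 2, 1, 2, 0, 0, 0, 2, 1, 0, 0, 0, 0, 0], [0, 2, 0, 1, 0, 0, 0, 2, 2, 0, 0, 0, 1, 0], [2, 1, 0, 0, 0, 1, 2, 0, 2, 2, 1, 0, 1, 2], [0, 2, 2, 1, 1, 2, 1, 2, 0, 2, 1, 2, 2, 0], [1, 0, 2, 1, 2, 0, 2, 2, 2, 2, 0, 2, 1, 2], [0, 0, 1, 2, 0, 0, 0, 1, 2, 0, 0, 0, 1, 2], [0, 1, 2, 0, 0, 0, 0, 2, 2, 0, 0, 0, 0, 2]]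
  | ⟨26, _⟩ => [[2, 0, 0, 1, 1, 1, 2, 0, 1, 1, 2, 2, 1, 1], [0, 2, 1, 1, 0, 0, 0, 2, 1, 0, 0, 0, 2, 2], [0, 1, 1, 0, 0, 0, 0, 0, 0, 0, 0, 0, 1, 2], [0, 1, 1, 1, 0, 0, 0, 0, 1, 0, 0, 0, 1, 1], [1, 2, 2, 1, 1, 0, 0, 0, 1, 0, 1, 2, 2, 2], [1, 0, 0, 2, 1, 1, 0, 0, 2, 1, 1, 1, 1, 0], [2, 1, 1, 0, 2, 1, 1, 0, 0, 1, 1, 0, 2, 2], [0, 2, 2, 1, 0, 0, 0, 1, 1, 0, 0, 0, 1, 0], [0, 1, 2, 0, 0, 0, 0, 2, 1, 0, 0, 0, 0, 0], [1, 0, 1, 1, 2, 0, 2, 2, 1, 1, 0, 0, 1, 0], [2, 2, 2, 0, 0, 2, 0, 1, 1, 1, 1, 0, 1, 1], [2, 2, 1, 0, 1, 0, 2, 2, 1, 2, 1, 1, 0, 0], [0, 2, 0, 2, 0, 0, 0, 0, 1, 0, 0, 0, 1, 0], [0, 2, 1, 0, 0, 0, 0, 2, 2, 0, 0, 0, 1, 1]]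
  | ⟨27, _⟩ => [[2, 0, 1, 2, 0, 2, 2, 1, 0, 0, 0, 1, 0, 0], [0, 2, 0, 2, 0, 0, 0, 2, 0, 0, 0, 0, 0, 1], [0, 0, 2, 0, 0, 0, 0, 2, 2, 0, 0, 0, 0, 1], [0, 2, 1, 1, 0, 0, 0, 1, 1, 0, 0, 0, 2, 2], [0, 1, 2, 2, 2, 0, 2, 2, 0, 2, 0, 1, 1, 0], [2, 2, 2, 2, 1, 1, 1, 2, 1, 1, 2, 2, 1, 2], [1, 2, 0, 0, 0, 2, 2, 0, 2, 0, 1, 1, 0, 1], [0, 1, 0, 2, 0, 0, 0, 2, 0, 0, 0, 0, 1, 1], [0, 0, 1, 1, 0, 0, 0, 2, 0, 0, 0, 0, 1, 2], [0, 1, 1, 1, 1, 1, 2, 0, 1, 0, 1, 2, 0, 2], [0, 0, 2, 2, 2, 0, 2, 1, 1, 1, 1, 2, 2, 2], [2, 1, 1, 1, 2, 1, 1, 2, 0, 1, 0, 2, 1, 0], [0, 0, 2, 0, 0, 0, 0, 2, 1, 0, 0, 0, 1, 2], [0, 2, 2, 1, 0, 0, 0, 1, 1, 0, 0, 0, 0, 2]]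
  | ⟨28, _⟩ => [[2, 1, 2, 2, 0, 0, 2, 1, 1, 0, 0, 1, 1, 0], [0, 2, 0, 0, 0, 0, 0, 2, 0, 0, 0, 0, 0, 1], [0, 0, 2, 1, 0, 0, 0, 2, 2, 0, 0, 0, 1, 2], [0, 0, 1, 0, 0, 0, 0, 0, 1, 0, 0, 0, 2, 0], [0, 1, 0, 2, 2, 1, 2, 0, 1, 2, 1, 2, 1, 2], [0, 1, 0, 2, 1, 0, 0, 0, 1, 1, 2, 0, 1, 2], [1, 0, 0, 1, 2, 0, 2, 0, 1, 0, 2, 1, 0, 2], [0, 1, 2, 0, 0, 0, 0, 2, 0, 0, 0, 0, 2, 1], [0, 0, 2, 1, 0, 0, 0, 0, 2, 0, 0, 0, 1, 1], [0, 1, 0, 2, 2, 1, 0, 0, 1, 2, 1, 1, 1, 2], [0, 2, 0, 1, 1, 2, 2, 0, 0, 1, 0, 1, 2, 0], [2, 1, 0, 1, 2, 0, 1, 0, 2, 1, 1, 2, 1, 1], [0, 0, 1, 2, 0, 0, 0, 2, 1, 0, 0, 0, 0, 1], [0, 2, 2, 0, 0, 0, 0, 1, 1, 0, 0, 0, 1, 2]]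
  | ⟨29, _⟩ => [[0, 1, 2, 2, 1, 1, 1, 0, 1, 2, 0, 2, 2, 2], [0, 0, 1, 1, 0, 0, 0, 1, 2, 0, 0, 0, 0, 2], [0, 1, 2, 0, 0, 0, 0, 0, 0, 0, 0, 0, 1, 1], [0, 1, 2, 1, 0, 0, 0, 0, 2, 0, 0, 0, 1, 2], [1, 2, 1, 1, 2, 0, 0, 0, 2, 0, 1, 1, 2, 1], [1, 2, 1, 2, 2, 1, 0, 0, 1, 2, 1, 2, 0, 2], [2, 0, 0, 2, 1, 1, 2, 0, 1, 2, 1, 0, 1, 2], [0, 2, 1, 1, 0, 0, 0, 2, 2, 0, 0, 0, 1, 0], [0, 0, 2, 2, 0, 0, 0, 1, 0, 0, 0, 0, 2, 1], [0, 2, 0, 2, 2, 2, 1, 1, 1, 0, 2, 1, 2, 2], [0, 2, 1, 0, 2, 0, 2, 2, 2, 1, 1, 2, 2, 1], [1, 2, 2, 2, 1, 2, 2, 1, 0, 2, 0, 1, 2, 0], [0, 0, 2, 0, 0, 0, 0, 2, 1, 0, 0, 0, 1, 2], [0, 1, 1, 2, 0, 0, 0, 2, 2, 0, 0, 0, 0, 1]]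
  | ⟨30, _⟩ => [[1, 1, 0, 0, 2, 2, 1, 2, 0, 2, 2, 0, 2, 0], [0, 1, 2, 2, 0, 0, 0, 1, 2, 0, 0, 0, 2, 0], [0, 1, 2, 2, 0, 0, 0, 2, 0, 0, 0, 0, 2, 2], [0, 2, 1, 2, 0, 0, 0, 2, 2, 0, 0, 0, 2, 0], [1, 2, 0, 2, 2, 2, 2, 1, 2, 0, 2, 2, 1, 1], [2, 2, 1, 0, 1, 2, 2, 0, 1, 2, 2, 0, 0, 0], [0, 0, 2, 2, 2, 1, 0, 2, 2, 2, 2, 2, 2, 2], [0, 0, 2, 1, 0, 0, 0, 0, 2, 0, 0, 0, 2, 2], [0, 1, 1, 0, 0, 0, 0, 1, 0, 0, 0, 0, 2, 2], [1, 0, 1, 1, 1, 0, 1, 0, 0, 0, 2, 2, 1, 1], [0, 2, 1, 2, 1, 0, 0, 1, 2, 1, 1, 0, 0, 0], [0, 1, 0, 2, 1, 1, 1, 0, 2, 1, 1, 1, 1, 1], [0, 0, 1, 0, 0, 0, 0, 0, 1, 0, 0, 0, 1, 0], [0, 0, 1, 1, 0, 0, 0, 1, 1, 0, 0, 0, 1, 1]]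
  | ⟨31, _⟩ => [[0, 0, 1, 2, 1, 2, 1, 1, 0, 1, 2, 2, 2, 0], [0, 0, 1, 2, 0, 0, 0, 1, 1, 0, 0, 0, 2, 2], [0, 2, 2, 2, 0, 0, 0, 0, 0, 0, 0, 0, 0, 1], [0, 1, 0, 1, 0, 0, 0, 1, 0, 0, 0, 0, 2, 2], [2, 1, 1, 1, 2, 2, 0, 2, 0, 0, 0, 1, 1, 2], [1, 0, 2, 2, 0, 1, 1, 2, 0, 0, 2, 2, 1, 0], [1, 2, 2, 0, 2, 2, 2, 0, 0, 1, 1, 2, 0, 1], [0, 1, 2, 2, 0, 0, 0, 2, 1, 0, 0, 0, 1, 2], [0, 0, 2, 0, 0, 0, 0, 1, 2, 0, 0, 0, 0, 2], [0, 1, 2, 2, 2, 0, 1, 2, 2, 2, 0, 2, 1, 1], [1, 2, 2, 0, 0, 2, 0, 2, 2, 0, 1, 0, 0, 1], [0, 0, 1, 0, 2, 0, 2, 1, 2, 2, 0, 1, 0, 1], [0, 1, 0, 2, 0, 0, 0, 0, 0, 0, 0, 0, 1, 0], [0, 0, 2, 0, 0, 0, 0, 2, 2, 0, 0, 0, 0, 1]]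
  | ⟨32, _⟩ => [[2, 0, 0, 0, 0, 0, 0, 0, 0, 1, 2, 2, 2, 0], [0, 2, 0, 0, 0, 0, 0, 0, 1, 0, 0, 0, 2, 2], [0, 0, 0, 0, 0, 0, 0, 0, 0, 0, 0, 0, 0, 1], [0, 0, 0, 0, 0, 0, 0, 0, 0, 0, 0, 0, 2, 2], [0, 0, 0, 0, 0, 0, 0, 0, 0, 0, 0, 1, 1, 2], [0, 0, 0, 0, 0, 0, 0, 0, 0, 0, 2, 2, 1, 0], [0, 0, 0, 0, 0, 0, 0, 0, 0, 1, 1, 2, 0, 1], [0, 0, 0, 0, 0, 0, 0, 0, 1, 0, 0, 0, 1, 2], [0, 2, 0, 0, 0, 0, 0, 1, 2, 0, 0, 0, 0, 2], [2, 2, 0, 0, 0, 0, 1, 0, 2, 2, 0, 2, 1, 1], [1, 0, 0, 0, 0, 2, 1, 2, 2, 0, 1, 0, 0, 1], [1, 1, 0, 0, 1, 2, 2, 1, 2, 2, 0, 1, 0, 1], [0, 1, 0, 2, 0, 0, 0, 1, 0, 0, 0, 0, 1, 0], [0, 1, 1, 2, 0, 0, 0, 2, 2, 0, 0, 0, 0, 1]]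
  | ⟨33, _⟩ => [[0, 2, 0, 0, 1, 1, 2, 1, 0, 2, 0, 0, 0, 2], [0, 0, 1, 1, 0, 0, 0, 2, 2, 0, 0, 0, 0, 0], [0, 2, 2, 2, 0, 0, 0, 2, 1, 0, 0, 0, 2, 1], [0, 2, 2, 0, 0, 0, 0, 0, 2, 0, 0, 0, 1, 1], [2, 2, 0, 1, 2, 2, 2, 0, 2, 1, 2, 1, 2, 0], [2, 0, 2, 1, 2, 0, 0, 2, 2, 2, 1, 1, 1, 0], [1, 2, 2, 2, 2, 0, 2, 0, 2, 0, 1, 1, 1, 0], [0, 1, 2, 0, 0, 0, 0, 2, 0, 0, 0, 0, 1, 1], [0, 1, 1, 2, 0, 0, 0, 0, 0, 0, 0, 0, 2, 1], [1, 1, 1, 1, 1, 2, 0, 1, 2, 0, 2, 1, 2, 0], [0, 0, 2, 0, 2, 1, 1, 0, 2, 2, 2, 1, 2, 0], [0, 1, 0, 1, 1, 1, 1, 2, 2, 1, 1, 1, 1, 0], [0, 0, 2, 1, 0, 0, 0, 1, 2, 0, 0, 0, 2, 1], [0, 0, 1, 1, 0, 0, 0, 1, 1, 0, 0, 0, 1, 1]]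
  | ⟨34, _⟩ => [[1, 0, 2, 1, 0, 1, 1, 2, 0, 0, 0, 2, 0, 0], [0, 1, 0, 1, 0, 0, 0, 1, 0, 0, 0, 0, 0, 2], [0, 2, 2, 1, 0, 0, 0, 1, 1, 0, 0, 0, 0, 2], [0, 0, 1, 0, 0, 0, 0, 1, 2, 0, 0, 0, 2, 1], [2, 1, 1, 1, 2, 1, 1, 2, 0, 1, 0, 2, 1, 0], [0, 0, 1, 1, 1, 0, 1, 2, 2, 2, 2, 1, 1, 1], [0, 1, 1, 1, 1, 1, 2, 0, 1, 0, 1, 2, 0, 2], [0, 0, 1, 1, 0, 0, 0, 2, 0, 0, 0, 0, 1, 2], [0, 1, 0, 2, 0, 0, 0, 2, 0, 0, 0, 0, 1, 1], [1, 2, 0, 0, 0, 2, 2, 0, 2, 0, 1, 1, 0, 1], [1, 1, 1, 1, 2, 2, 2, 1, 2, 2, 1, 1, 2, 1], [0, 1, 2, 2, 2, 0, 2, 2, 0, 2, 0, 1, 1, 0], [0, 1, 2, 2, 0, 0, 0, 2, 2, 0, 0, 0, 1, 1], [0, 0, 2, 0, 0, 0, 0, 2, 2, 0, 0, 0, 0, 1]]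
  | ⟨35, _⟩ => [[0, 2, 2, 0, 1, 0, 0, 0, 0, 0, 1, 1, 2, 1], [0, 0, 1, 0, 0, 0, 0, 0, 0, 0, 0, 0, 1, 1], [0, 1, 2, 2, 0, 0, 0, 0, 2, 0, 0, 0, 2, 2], [0, 2, 2, 0, 0, 0, 0, 1, 0, 0, 0, 0, 0, 1], [1, 2, 2, 0, 2, 2, 0, 0, 0, 2, 2, 2, 1, 0], [2, 0, 0, 2, 2, 0, 1, 0, 2, 0, 0, 1, 0, 2], [0, 2, 2, 0, 0, 1, 0, 0, 0, 2, 0, 2, 2, 1], [0, 0, 0, 1, 0, 0, 0, 0, 2, 0, 0, 0, 0, 2], [0, 0, 0, 0, 0, 0, 0, 1, 0, 0, 0, 0, 2, 0], [0, 0, 0, 1, 0, 0, 1, 0, 1, 0, 2, 0, 0, 1], [0, 2, 2, 0, 0, 2, 0, 0, 0, 2, 0, 1, 1, 1], [1, 0, 0, 0, 1, 0, 0, 0, 0, 0, 1, 2, 0, 2], [0, 0, 0, 2, 0, 0, 0, 0, 2, 0, 0, 0, 0, 1], [0, 1, 1, 0, 0, 0, 0, 0, 0, 0, 0, 0, 1, 2]]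
  | ⟨36, _⟩ => [[1, 1, 0, 2, 0, 2, 2, 0, 1, 0, 0, 1, 1, 0], [0, 1, 0, 2, 0, 0, 0, 2, 0, 0, 0, 0, 0, 1], [0, 2, 2, 2, 0, 0, 0, 2, 1, 0, 0, 0, 2, 1], [0, 0, 0, 1, 0, 0, 0, 1, 1, 0, 0, 0, 2, 0], [2, 1, 2, 2, 2, 2, 2, 1, 2, 1, 2, 1, 2, 1], [0, 2, 0, 0, 0, 1, 1, 2, 1, 1, 2, 0, 1, 2], [0, 2, 2, 2, 1, 1, 0, 0, 2, 0, 1, 2, 0, 1], [0, 0, 1, 1, 0, 0, 0, 0, 0, 0, 0, 0, 1, 2], [0, 1, 1, 1, 0, 0, 0, 1, 1, 0, 0, 0, 2, 2], [1, 1, 1, 1, 1, 1, 1, 1, 2, 1, 2, 2, 2, 1], [2, 2, 0, 0, 0, 2, 2, 1, 0, 1, 0, 1, 2, 0], [0, 0, 2, 2, 1, 1, 0, 1, 1, 2, 2, 1, 2, 2], [0, 2, 0, 2, 0, 0, 0, 2, 1, 0, 0, 0, 0, 1], [0, 0, 1, 1, 0, 0, 0, 0, 2, 0, 0, 0, 2, 1]]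
  | ⟨37, _⟩ => [[2, 1, 2, 2, 0, 0, 2, 1, 1, 0, 0, 1, 1, 0], [0, 2, 0, 0, 0, 0, 0, 2, 0, 0, 0, 0, 0, 1], [0, 0, 1, 2, 0, 0, 0, 1, 1, 0, 0, 0, 2, 1], [0, 0, 1, 0, 0, 0, 0, 0, 1, 0, 0, 0, 2, 0], [0, 2, 0, 1, 1, 2, 1, 0, 2, 1, 2, 1, 2, 1], [0, 1, 0, 2, 1, 0, 0, 0, 1, 1, 2, 0, 1, 2], [2, 0, 0, 2, 1, 0, 1, 0, 2, 0, 1, 2, 0, 1], [0, 2, 1, 0, 0, 0, 0, 1, 0, 0, 0, 0, 1, 2], [0, 0, 1, 2, 0, 0, 0, 0, 1, 0, 0, 0, 2, 2], [0, 2, 0, 1, 1, 2, 0, 0, 2, 1, 2, 2, 2, 1], [0, 2, 0, 1, 1, 2, 2, 0, 0, 1, 0, 1, 2, 0], [1, 2, 0, 2, 1, 0, 2, 0, 1, 2, 2, 1, 2, 2], [0, 0, 1, 2, 0, 0, 0, 2, 1, 0, 0, 0, 0, 1], [0, 1, 1, 0, 0, 0, 0, 2, 2, 0, 0, 0, 2, 1]]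
  | ⟨38, _⟩ => [[1, 0, 1, 1, 0, 0, 1, 2, 0, 0, 2, 0, 1, 1], [0, 1, 0, 0, 0, 0, 0, 1, 0, 0, 0, 0, 2, 0], [0, 2, 1, 0, 0, 0, 0, 2, 2, 0, 0, 0, 1, 1], [0, 2, 2, 1, 0, 0, 0, 1, 0, 0, 0, 0, 1, 2], [2, 2, 0, 2, 1, 0, 2, 0, 0, 2, 1, 1, 0, 2], [2, 1, 0, 2, 2, 1, 1, 0, 2, 0, 1, 2, 0, 2], [1, 2, 0, 1, 1, 2, 0, 0, 0, 0, 0, 2, 0, 2], [0, 1, 1, 2, 0, 0, 0, 0, 0, 0, 0, 0, 0, 2], [0, 0, 1, 0, 0, 0, 0, 1, 0, 0, 0, 0, 1, 0], [0, 0, 0, 2, 1, 0, 1, 0, 1, 0, 1, 0, 0, 0], [2, 2, 0, 1, 2, 0, 0, 0, 0, 2, 0, 1, 0, 2], [1, 2, 0, 1, 1, 2, 1, 0, 0, 0, 2, 1, 0, 1], [0, 2, 2, 0, 0, 0, 0, 0, 2, 0, 0, 0, 0, 1], [0, 1, 1, 2, 0, 0, 0, 1, 0, 0, 0, 0, 2, 1]]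
  | ⟨39, _⟩ => [[1, 2, 1, 2, 1, 0, 1, 2, 2, 2, 1, 1, 2, 2], [0, 1, 1, 0, 0, 0, 0, 1, 2, 0, 0, 0, 1, 1], [0, 0, 1, 0, 0, 0, 0, 2, 2, 0, 0, 0, 0, 2], [0, 1, 1, 1, 0, 0, 0, 2, 2, 0, 0, 0, 2, 2], [0, 1, 0, 1, 1, 0, 2, 0, 2, 2, 0, 2, 2, 2], [1, 1, 2, 2, 1, 1, 2, 1, 0, 2, 2, 2, 1, 0], [1, 0, 2, 1, 1, 1, 0, 1, 2, 2, 2, 0, 2, 2], [0, 1, 1, 1, 0, 0, 0, 0, 2, 0, 0, 0, 2, 0], [0, 1, 0, 2, 0, 0, 0, 2, 1, 0, 0, 0, 0, 0], [1, 2, 2, 2, 0, 2, 2, 1, 2, 1, 0, 0, 2, 0], [2, 0, 1, 0, 1, 1, 1, 2, 0, 1, 1, 0, 2, 2], [0, 2, 1, 1, 1, 2, 0, 2, 1, 2, 1, 1, 0, 0], [0, 2, 1, 1, 0, 0, 0, 1, 1, 0, 0, 0, 1, 0], [0, 0, 1, 2, 0, 0, 0, 0, 2, 0, 0, 0, 1, 1]]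
  | ⟨40, _⟩ => [[2, 1, 1, 2, 1, 1, 0, 0, 1, 2, 2, 1, 0, 0], [0, 2, 1, 1, 0, 0, 0, 0, 2, 0, 0, 0, 2, 1], [0, 2, 2, 1, 0, 0, 0, 0, 2, 0, 0, 0, 1, 2], [0, 2, 1, 0, 0, 0, 0, 2, 0, 0, 0, 0, 0, 2], [2, 1, 2, 0, 2, 1, 0, 0, 0, 2, 1, 2, 2, 0], [2, 1, 1, 1, 1, 0, 2, 0, 2, 0, 0, 2, 2, 2], [0, 2, 1, 0, 0, 2, 0, 1, 0, 2, 0, 2, 1, 2], [0, 0, 0, 2, 0, 0, 0, 0, 2, 0, 0, 0, 0, 2], [0, 1, 2, 0, 0, 0, 0, 2, 0, 0, 0, 0, 1, 1], [1, 1, 1, 2, 2, 0, 2, 0, 1, 0, 1, 1, 2, 1], [1, 1, 2, 0, 1, 0, 0, 2, 0, 1, 2, 2, 0, 2], [2, 2, 0, 1, 2, 2, 2, 0, 2, 1, 2, 1, 2, 0], [0, 1, 1, 0, 0, 0, 0, 0, 1, 0, 0, 0, 2, 2], [0, 2, 2, 2, 0, 0, 0, 2, 1, 0, 0, 0, 2, 1]]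
  | ⟨41, _⟩ => [[1, 1, 0, 2, 0, 2, 1, 0, 0, 1, 1, 0, 0, 1], [0, 1, 0, 2, 0, 0, 0, 1, 1, 0, 0, 0, 1, 0], [0, 2, 2, 1, 0, 0, 0, 2, 0, 0, 0, 0, 1, 2], [0, 0, 0, 1, 0, 0, 0, 2, 1, 0, 0, 0, 1, 1], [2, 0, 2, 1, 2, 1, 2, 1, 1, 0, 1, 2, 2, 2], [0, 2, 0, 0, 0, 1, 2, 1, 2, 1, 1, 1, 2, 2], [2, 2, 2, 1, 1, 2, 0, 0, 1, 1, 1, 0, 0, 0], [0, 2, 1, 2, 0, 0, 0, 0, 1, 0, 0, 0, 1, 0], [0, 1, 1, 2, 0, 0, 0, 1, 2, 0, 0, 0, 1, 1], [1, 1, 1, 2, 1, 2, 1, 1, 0, 2, 1, 1, 1, 1], [2, 2, 0, 0, 0, 2, 1, 2, 0, 0, 1, 2, 2, 2], [2, 1, 2, 1, 1, 2, 0, 1, 0, 0, 0, 2, 1, 1], [0, 2, 0, 2, 0, 0, 0, 1, 0, 0, 0, 0, 1, 2], [0, 2, 1, 2, 0, 0, 0, 0, 0, 0, 0, 0, 0, 2]]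
  | ⟨42, _⟩ => [[2, 0, 1, 2, 1, 0, 1, 2, 1, 2, 1, 1, 2, 0], [0, 2, 1, 0, 0, 0, 0, 1, 2, 0, 0, 0, 1, 1], [0, 2, 2, 0, 0, 0, 0, 1, 1, 0, 0, 0, 1, 2], [0, 2, 1, 1, 0, 0, 0, 2, 0, 0, 0, 0, 1, 1], [2, 2, 0, 2, 2, 0, 1, 0, 0, 1, 1, 2, 0, 1], [2, 0, 2, 2, 1, 1, 2, 1, 2, 0, 1, 1, 1, 0], [1, 1, 1, 2, 2, 2, 0, 2, 0, 0, 0, 1, 1, 2], [0, 1, 2, 2, 0, 0, 0, 0, 0, 0, 0, 0, 0, 1], [0, 2, 0, 1, 0, 0, 0, 1, 0, 0, 0, 0, 2, 1], [2, 2, 1, 1, 0, 1, 1, 2, 2, 0, 2, 1, 2, 2], [0, 1, 1, 0, 1, 1, 1, 2, 0, 2, 1, 0, 1, 2], [2, 0, 2, 2, 2, 1, 0, 1, 1, 2, 1, 2, 1, 2], [0, 0, 1, 1, 0, 0, 0, 1, 2, 0, 0, 0, 1, 0], [0, 2, 2, 1, 0, 0, 0, 0, 2, 0, 0, 0, 1, 2]]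
  | ⟨43, _⟩ => [[1, 2, 2, 2, 1, 1, 2, 2, 2, 1, 0, 1, 2, 1], [0, 1, 1, 1, 0, 0, 0, 2, 1, 0, 0, 0, 0, 1], [0, 0, 1, 1, 0, 0, 0, 2, 0, 0, 0, 0, 2, 1], [0, 2, 0, 1, 0, 0, 0, 1, 1, 0, 0, 0, 1, 1], [0, 2, 0, 0, 1, 1, 2, 1, 2, 0, 2, 1, 1, 1], [2, 0, 2, 2, 0, 1, 1, 0, 2, 1, 1, 1, 0, 1], [1, 2, 0, 2, 0, 0, 1, 2, 1, 2, 2, 0, 2, 2], [0, 1, 0, 0, 0, 0, 0, 1, 2, 0, 0, 0, 2, 0], [0, 1, 0, 2, 0, 0, 0, 2, 0, 0, 0, 0, 1, 1], [1, 0, 2, 2, 0, 2, 2, 2, 1, 0, 1, 1, 1, 2], [1, 1, 0, 1, 2, 2, 2, 0, 1, 2, 1, 1, 2, 2], [0, 1, 2, 2, 2, 0, 2, 2, 0, 2, 0, 1, 1, 0], [0, 1, 2, 2, 0, 0, 0, 2, 2, 0, 0, 0, 1, 1], [0, 0, 2, 0, 0, 0, 0, 2, 2, 0, 0, 0, 0, 1]]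
  | ⟨44, _⟩ => [[0, 0, 2, 2, 1, 1, 2, 2, 0, 0, 1, 0, 1, 0], [0, 0, 1, 1, 0, 0, 0, 2, 0, 0, 0, 0, 1, 0], [0, 1, 2, 2, 0, 0, 0, 1, 1, 0, 0, 0, 0, 2], [0, 2, 0, 1, 0, 0, 0, 1, 0, 0, 0, 0, 2, 0], [1, 1, 0, 0, 2, 2, 1, 2, 1, 1, 0, 2, 0, 2], [2, 1, 2, 2, 0, 1, 1, 0, 0, 0, 2, 0, 0, 0], [2, 1, 0, 1, 0, 0, 2, 1, 1, 1, 0, 1, 0, 2], [0, 2, 0, 0, 0, 0, 0, 2, 1, 0, 0, 0, 0, 1], [0, 2, 0, 1, 0, 0, 0, 1, 2, 0, 0, 0, 0, 1], [2, 2, 1, 1, 0, 1, 1, 1, 1, 2, 0, 1, 0, 1], [2, 1, 0, 1, 2, 2, 2, 0, 0, 0, 1, 0, 0, 0], [2, 1, 1, 1, 1, 0, 1, 1, 2, 1, 0, 1, 0, 2], [0, 2, 2, 2, 0, 0, 0, 2, 0, 0, 0, 0, 1, 0], [0, 2, 1, 0, 0, 0, 0, 1, 1, 0, 0, 0, 0, 1]]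
  | ⟨45, _⟩ => [[2, 2, 1, 1, 1, 1, 1, 1, 2, 0, 1, 2, 0, 2], [0, 2, 1, 1, 0, 0, 0, 1, 0, 0, 0, 0, 1, 2], [0, 2, 1, 0, 0, 0, 0, 1, 1, 0, 0, 0, 0, 1], [0, 2, 0, 1, 0, 0, 0, 0, 2, 0, 0, 0, 2, 2], [2, 1, 2, 0, 1, 0, 1, 2, 1, 1, 0, 1, 1, 1], [2, 2, 2, 0, 0, 1, 0, 2, 2, 2, 2, 2, 1, 2], [2, 0, 1, 2, 1, 0, 2, 1, 2, 1, 1, 0, 2, 2], [0, 2, 1, 0, 0, 0, 0, 2, 1, 0, 0, 0, 1, 0], [0, 0, 1, 2, 0, 0, 0, 1, 0, 0, 0, 0, 1, 1], [0, 1, 1, 0, 1, 2, 1, 0, 0, 0, 1, 1, 0, 2], [2, 1, 2, 1, 0, 2, 1, 2, 2, 1, 2, 2, 1, 1], [1, 2, 2, 1, 1, 2, 0, 1, 2, 1, 2, 1, 2, 0], [0, 2, 0, 2, 0, 0, 0, 1, 1, 0, 0, 0, 2, 2], [0, 1, 1, 2, 0, 0, 0, 0, 1, 0, 0, 0, 2, 1]]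
  | ⟨46, _⟩ => [[1, 0, 0, 2, 1, 1, 2, 1, 0, 0, 1, 2, 2, 2], [0, 1, 1, 1, 0, 0, 0, 2, 0, 0, 0, 0, 1, 2], [0, 0, 1, 2, 0, 0, 0, 1, 1, 0, 0, 0, 2, 1], [0, 0, 0, 1, 0, 0, 0, 2, 0, 0, 0, 0, 0, 2], [0, 2, 1, 2, 1, 2, 1, 2, 0, 1, 2, 1, 1, 0], [0, 2, 2, 1, 0, 1, 2, 0, 1, 0, 0, 2, 0, 1], [2, 0, 1, 1, 2, 1, 0, 1, 0, 1, 0, 1, 2, 2], [0, 2, 2, 1, 0, 0, 0, 0, 1, 0, 0, 0, 0, 1], [0, 0, 2, 0, 0, 0, 0, 0, 0, 0, 0, 0, 2, 0], [0, 1, 1, 2, 2, 0, 0, 0, 2, 0, 2, 0, 0, 2], [1, 0, 0, 1, 1, 1, 0, 2, 0, 1, 0, 2, 1, 2], [0, 2, 2, 0, 1, 2, 2, 0, 0, 0, 1, 1, 0, 1], [0, 1, 1, 1, 0, 0, 0, 0, 1, 0, 0, 0, 0, 2], [0, 0, 1, 2, 0, 0, 0, 2, 0, 0, 0, 0, 1, 1]]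
  | ⟨47, _⟩ => [[2, 0, 0, 0, 2, 0, 0, 0, 2, 1, 2, 0, 2, 2], [0, 2, 2, 0, 0, 0, 0, 0, 1, 0, 0, 0, 2, 0], [0, 2, 1, 0, 0, 0, 0, 2, 2, 0, 0, 0, 1, 1], [0, 0, 1, 1, 0, 0, 0, 2, 1, 0, 0, 0, 0, 1], [2, 1, 0, 1, 1, 0, 2, 0, 1, 2, 1, 1, 1, 2], [0, 0, 1, 2, 1, 1, 2, 2, 2, 1, 0, 1, 2, 1], [0, 1, 1, 0, 1, 1, 0, 2, 0, 1, 1, 2, 1, 2], [0, 0, 1, 1, 0, 0, 0, 0, 1, 0, 0, 0, 1, 2], [0, 1, 2, 1, 0, 0, 0, 0, 1, 0, 0, 0, 2, 0], [1, 2, 2, 0, 2, 1, 0, 1, 0, 1, 2, 0, 0, 0], [2, 2, 1, 1, 1, 2, 2, 2, 1, 2, 1, 2, 2, 1], [0, 1, 0, 1, 2, 0, 1, 0, 1, 1, 0, 1, 2, 1], [0, 2, 1, 2, 0, 0, 0, 2, 2, 0, 0, 0, 1, 2], [0, 0, 2, 0, 0, 0, 0, 1, 1, 0, 0, 0, 0, 1]]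
  | ⟨48, _⟩ => [[1, 0, 1, 1, 1, 0, 1, 2, 1, 2, 2, 1, 1, 0], [0, 1, 1, 0, 0, 0, 0, 1, 2, 0, 0, 0, 2, 1], [0, 1, 2, 2, 0, 0, 0, 0, 2, 0, 0, 0, 2, 2], [0, 0, 1, 2, 0, 0, 0, 1, 2, 0, 0, 0, 2, 0], [1, 0, 2, 1, 2, 2, 0, 1, 1, 2, 2, 2, 2, 2], [0, 2, 1, 0, 1, 2, 1, 2, 0, 2, 2, 0, 2, 2], [1, 1, 1, 2, 0, 2, 1, 2, 2, 0, 1, 1, 1, 2], [0, 1, 0, 2, 0, 0, 0, 1, 0, 0, 0, 0, 1, 1], [0, 2, 2, 1, 0, 0, 0, 0, 0, 0, 0, 0, 0, 1], [2, 2, 1, 1, 2, 1, 0, 2, 0, 0, 0, 1, 2, 2], [1, 0, 2, 1, 1, 2, 2, 1, 2, 0, 2, 1, 2, 0], [1, 1, 0, 1, 2, 0, 1, 0, 0, 1, 2, 2, 0, 1], [0, 1, 1, 2, 0, 0, 0, 2, 0, 0, 0, 0, 2, 1], [0, 1, 2, 0, 0, 0, 0, 1, 1, 0, 0, 0, 2, 2]]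
  | ⟨49, _⟩ => [[2, 2, 0, 2, 2, 0, 0, 2, 0, 1, 1, 0, 1, 0], [0, 2, 2, 0, 0, 0, 0, 0, 1, 0, 0, 0, 1, 0], [0, 2, 1, 2, 0, 0, 0, 1, 2, 0, 0, 0, 2, 2], [0, 0, 0, 1, 0, 0, 0, 2, 2, 0, 0, 0, 2, 0], [2, 1, 1, 2, 1, 2, 1, 2, 1, 2, 2, 2, 2, 2], [0, 1, 1, 2, 0, 1, 2, 2, 1, 2, 2, 0, 0, 0], [0, 2, 1, 0, 2, 1, 0, 2, 0, 0, 1, 1, 2, 2], [0, 0, 2, 1, 0, 0, 0, 0, 0, 0, 0, 0, 1, 1], [0, 1, 2, 2, 0, 0, 0, 1, 1, 0, 0, 0, 1, 1], [1, 1, 1, 2, 2, 2, 1, 2, 1, 1, 1, 1, 1, 1], [1, 1, 0, 1, 2, 0, 2, 0, 2, 1, 1, 0, 0, 0], [0, 0, 2, 2, 1, 2, 2, 1, 1, 0, 1, 1, 2, 2], [0, 1, 2, 0, 0, 0, 0, 2, 1, 0, 0, 0, 1, 0], [0, 0, 1, 2, 0, 0, 0, 2, 0, 0, 0, 0, 1, 1]]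
  | ⟨50, _⟩ => [[1, 2, 2, 0, 0, 1, 2, 0, 0, 1, 1, 0, 0, 1], [0, 1, 0, 1, 0, 0, 0, 2, 1, 0, 0, 0, 1, 0], [0, 2, 2, 0, 0, 0, 0, 0, 0, 0, 0, 0, 2, 1], [0, 1, 1, 1, 0, 0, 0, 0, 1, 0, 0, 0, 1, 1], [2, 1, 1, 2, 2, 0, 0, 0, 2, 0, 2, 1, 1, 1], [1, 1, 1, 2, 1, 1, 0, 0, 2, 1, 1, 1, 2, 2], [1, 1, 1, 2, 1, 2, 2, 0, 2, 2, 2, 0, 0, 0], [0, 1, 1, 2, 0, 0, 0, 2, 2, 0, 0, 0, 2, 0], [0, 1, 0, 2, 0, 0, 0, 1, 1, 0, 0, 0, 2, 2], [1, 1, 0, 0, 0, 2, 1, 1, 0, 1, 2, 2, 2, 2], [1, 1, 1, 2, 2, 1, 2, 1, 0, 0, 1, 2, 2, 2], [2, 1, 2, 1, 2, 2, 0, 1, 0, 0, 0, 1, 2, 2], [0, 1, 2, 1, 0, 0, 0, 2, 0, 0, 0, 0, 1, 2], [0, 2, 2, 2, 0, 0, 0, 0, 0, 0, 0, 0, 0, 1]]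
  | ⟨51, _⟩ => [[2, 2, 1, 0, 1, 2, 0, 1, 2, 1, 0, 0, 2, 1], [0, 2, 1, 2, 0, 0, 0, 0, 1, 0, 0, 0, 0, 0], [0, 0, 1, 0, 0, 0, 0, 1, 1, 0, 0, 0, 0, 2], [0, 2, 1, 1, 0, 0, 0, 1, 1, 0, 0, 0, 2, 2], [0, 2, 1, 1, 1, 0, 1, 1, 0, 1, 0, 2, 2, 0], [2, 2, 1, 2, 1, 1, 1, 1, 0, 1, 2, 2, 1, 0], [2, 2, 2, 2, 0, 1, 1, 2, 0, 0, 2, 2, 1, 0], [0, 2, 0, 1, 0, 0, 0, 1, 0, 0, 0, 0, 2, 2], [0, 1, 1, 1, 0, 0, 0, 0, 2, 0, 0, 0, 0, 2], [1, 0, 2, 0, 1, 1, 0, 0, 0, 2, 0, 2, 2, 0], [2, 1, 2, 2, 1, 1, 2, 1, 0, 0, 0, 2, 2, 0], [2, 2, 0, 2, 1, 2, 1, 2, 0, 2, 2, 2, 1, 0], [0, 2, 1, 1, 0, 0, 0, 2, 0, 0, 0, 0, 0, 2], [0, 2, 1, 2, 0, 0, 0, 1, 2, 0, 0, 0, 2, 2]]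
  | ⟨52, _⟩ => [[0, 2, 2, 1, 1, 2, 1, 0, 1, 2, 0, 2, 1, 2], [0, 0, 1, 2, 0, 0, 0, 1, 2, 0, 0, 0, 0, 2], [0, 1, 2, 2, 0, 0, 0, 1, 1, 0, 0, 0, 0, 2], [0, 0, 2, 0, 0, 0, 0, 2, 1, 0, 0, 0, 2, 2], [1, 2, 1, 2, 2, 2, 1, 2, 0, 1, 0, 2, 2, 0], [0, 1, 1, 0, 2, 0, 2, 2, 2, 1, 2, 2, 1, 1], [0, 2, 0, 2, 1, 2, 2, 2, 2, 0, 2, 2, 2, 1], [0, 0, 1, 2, 0, 0, 0, 2, 0, 0, 0, 0, 2, 2], [0, 2, 2, 1, 0, 0, 0, 1, 1, 0, 0, 0, 1, 0], [2, 0, 0, 2, 2, 1, 1, 0, 2, 1, 1, 0, 1, 1], [2, 1, 1, 1, 2, 2, 0, 0, 1, 2, 2, 2, 0, 2], [1, 2, 2, 1, 1, 0, 0, 0, 1, 0, 1, 2, 2, 2], [0, 2, 2, 2, 0, 0, 0, 0, 2, 0, 0, 0, 2, 2], [0, 1, 1, 0, 0, 0, 0, 0, 0, 0, 0, 0, 1, 2]]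
  | ⟨53, _⟩ => [[0, 2, 2, 0, 0, 0, 2, 0, 1, 2, 1, 1, 0, 0], [0, 0, 0, 0, 0, 0, 0, 2, 2, 0, 0, 0, 1, 1], [0, 0, 2, 2, 0, 0, 0, 2, 2, 0, 0, 0, 2, 2], [0, 0, 1, 2, 0, 0, 0, 2, 1, 0, 0, 0, 1, 2], [0, 2, 0, 2, 2, 2, 2, 1, 1, 2, 2, 2, 2, 0], [0, 0, 0, 2, 1, 2, 2, 2, 0, 1, 1, 2, 0, 2], [2, 2, 0, 1, 2, 1, 0, 1, 2, 0, 1, 2, 2, 2], [0, 2, 2, 1, 0, 0, 0, 0, 0, 0, 0, 0, 1, 2], [0, 2, 2, 2, 0, 0, 0, 0, 1, 0, 0, 0, 0, 1], [2, 1, 0, 2, 2, 2, 0, 1, 0, 1, 0, 1, 1, 1], [2, 0, 0, 1, 1, 1, 2, 2, 2, 0, 0, 2, 1, 2], [1, 1, 0, 1, 2, 1, 2, 1, 0, 1, 1, 1, 2, 0], [0, 2, 1, 1, 0, 0, 0, 2, 0, 0, 0, 0, 0, 2], [0, 1, 2, 1, 0, 0, 0, 2, 1, 0, 0, 0, 1, 1]]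
  | ⟨54, _⟩ => [[2, 0, 0, 0, 0, 0, 0, 0, 0, 0, 0, 2, 0, 1], [0, 2, 0, 0, 0, 0, 0, 0, 0, 0, 0, 0, 0, 2], [0, 0, 0, 0, 0, 0, 0, 0, 0, 0, 0, 0, 0, 1], [0, 0, 0, 0, 0, 0, 0, 0, 0, 0, 0, 0, 2, 0], [0, 0, 0, 0, 0, 0, 0, 0, 0, 0, 0, 1, 0, 0], [0, 0, 0, 0, 0, 0, 0, 0, 0, 0, 2, 0, 0, 1], [0, 0, 0, 0, 0, 0, 0, 0, 0, 1, 0, 0, 2, 0], [0, 0, 0, 0, 0, 0, 0, 0, 1, 0, 0, 0, 0, 0], [0, 0, 0, 0, 0, 0, 0, 1, 0, 0, 0, 0, 2, 0], [0, 0, 0, 0, 0, 0, 1, 0, 0, 0, 2, 0, 0, 2], [0, 0, 0, 0, 0, 2, 0, 0, 0, 2, 0, 1, 2, 0], [1, 0, 0, 0, 1, 0, 0, 0, 0, 0, 1, 2, 0, 2], [0, 0, 0, 2, 0, 0, 0, 0, 2, 0, 0, 0, 0, 1], [0, 1, 1, 0, 0, 0, 0, 0, 0, 0, 0, 0, 1, 2]]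
  | ⟨55, _⟩ => [[1, 1, 2, 1, 2, 1, 2, 2, 2, 1, 1, 0, 1, 2], [0, 1, 2, 1, 0, 0, 0, 2, 1, 0, 0, 0, 1, 0], [0, 2, 1, 0, 0, 0, 0, 1, 1, 0, 0, 0, 0, 1], [0, 2, 0, 1, 0, 0, 0, 0, 2, 0, 0, 0, 2, 2], [2, 1, 2, 0, 1, 0, 1, 2, 1, 1, 0, 1, 1, 1], [2, 0, 1, 0, 0, 1, 0, 1, 1, 2, 2, 2, 1, 1], [2, 1, 1, 1, 1, 0, 2, 1, 0, 1, 1, 0, 0, 0], [0, 2, 1, 0, 0, 0, 0, 2, 1, 0, 0, 0, 1, 0], [0, 1, 1, 1, 0, 0, 0, 1, 1, 0, 0, 0, 2, 2], [1, 0, 1, 0, 1, 1, 1, 0, 0, 1, 2, 2, 2, 2], [2, 2, 1, 1, 0, 2, 2, 1, 2, 1, 0, 1, 1, 1], [0, 0, 2, 2, 1, 1, 0, 1, 1, 2, 2, 1, 2, 2], [0, 2, 0, 2, 0, 0, 0, 2, 1, 0, 0, 0, 0, 1], [0, 0, 1, 1, 0, 0, 0, 0, 2, 0, 0, 0, 2, 1]]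
  | ⟨56, _⟩ => [[1, 0, 0, 0, 2, 0, 0, 0, 2, 1, 1, 0, 1, 2], [0, 1, 2, 0, 0, 0, 0, 0, 1, 0, 0, 0, 1, 0], [0, 0, 2, 0, 0, 0, 0, 1, 1, 0, 0, 0, 0, 1], [0, 1, 1, 1, 0, 0, 0, 2, 2, 0, 0, 0, 2, 2], [0, 2, 0, 2, 2, 0, 1, 0, 1, 1, 0, 1, 1, 1], [1, 1, 1, 2, 1, 1, 2, 2, 1, 2, 2, 2, 1, 1], [2, 1, 2, 0, 2, 2, 0, 1, 0, 1, 1, 0, 0, 0], [0, 2, 2, 2, 0, 0, 0, 0, 1, 0, 0, 0, 1, 0], [0, 0, 1, 2, 0, 0, 0, 0, 1, 0, 0, 0, 2, 2], [0, 2, 1, 0, 1, 2, 0, 2, 0, 1, 2, 2, 2, 2], [0, 0, 1, 1, 1, 2, 2, 2, 2, 1, 0, 1, 1, 1], [1, 2, 0, 2, 1, 0, 2, 0, 1, 2, 2, 1, 2, 2], [0, 0, 1, 2, 0, 0, 0, 2, 1, 0, 0, 0, 0, 1], [0, 1, 1, 0, 0, 0, 0, 2, 2, 0, 0, 0, 2, 1]]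
  | ⟨57, _⟩ => [[1, 0, 1, 0, 0, 1, 1, 0, 0, 0, 0, 0, 0, 0], [0, 1, 0, 1, 0, 0, 0, 1, 0, 0, 0, 0, 0, 0], [0, 0, 1, 0, 0, 0, 0, 0, 0, 0, 0, 0, 0, 0], [0, 0, 2, 1, 0, 0, 0, 0, 0, 0, 0, 0, 0, 0], [0, 0, 2, 2, 1, 0, 0, 0, 0, 0, 0, 0, 0, 0], [0, 0, 2, 2, 2, 1, 0, 0, 0, 0, 0, 0, 0, 0], [0, 0, 2, 2, 2, 2, 1, 0, 0, 0, 0, 0, 0, 0], [0, 0, 2, 2, 0, 0, 0, 1, 0, 0, 0, 0, 0, 0], [0, 1, 0, 2, 0, 0, 0, 2, 1, 0, 0, 0, 0, 0], [1, 1, 0, 0, 0, 2, 2, 2, 0, 1, 0, 0, 0, 0], [2, 0, 2, 2, 1, 1, 1, 2, 2, 1, 1, 0, 0, 0], [0, 2, 1, 1, 1, 2, 0, 2, 1, 2, 1, 1, 0, 0], [0, 2, 1, 1, 0, 0, 0, 1, 1, 0, 0, 0, 1, 0], [0, 0, 1, 2, 0, 0, 0, 0, 2, 0, 0, 0, 1, 1]]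
  | ⟨58, _⟩ => [[2, 0, 1, 0, 2, 0, 0, 0, 0, 0, 0, 0, 0, 0], [0, 2, 2, 0, 0, 0, 0, 0, 0, 0, 0, 0, 0, 0], [0, 2, 1, 2, 0, 0, 0, 0, 0, 0, 0, 0, 0, 2], [0, 0, 1, 0, 0, 0, 0, 2, 0, 0, 0, 0, 2, 0], [2, 0, 1, 0, 1, 2, 0, 0, 0, 0, 0, 2, 0, 0], [0, 0, 0, 2, 1, 0, 2, 0, 0, 0, 2, 0, 0, 0], [0, 0, 1, 0, 0, 1, 0, 0, 0, 2, 0, 0, 0, 0], [0, 0, 0, 1, 0, 0, 0, 0, 2, 0, 0, 0, 0, 0], [0, 0, 0, 0, 0, 0, 0, 2, 0, 0, 0, 0, 0, 0], [0, 0, 0, 1, 0, 0, 2, 0, 0, 0, 0, 0, 0, 0], [0, 0, 1, 0, 0, 2, 0, 0, 0, 0, 0, 0, 0, 0], [0, 0, 0, 0, 2, 0, 0, 0, 0, 0, 0, 0, 0, 0], [0, 0, 0, 2, 0, 0, 0, 0, 0, 0, 0, 0, 0, 0], [0, 0, 2, 0, 0, 0, 0, 0, 0, 0, 0, 0, 0, 0]]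
  | ⟨59, _⟩ => [[1, 1, 1, 1, 2, 2, 1, 1, 1, 1, 2, 2, 1, 1], [0, 1, 2, 2, 0, 0, 0, 1, 1, 0, 0, 0, 2, 2], [0, 0, 2, 2, 0, 0, 0, 1, 0, 0, 0, 0, 1, 2], [0, 2, 0, 1, 0, 0, 0, 1, 1, 0, 0, 0, 1, 1], [0, 1, 0, 0, 2, 2, 1, 2, 1, 0, 1, 2, 2, 2], [2, 0, 1, 1, 0, 1, 1, 1, 2, 1, 1, 1, 1, 0], [2, 0, 0, 2, 0, 0, 2, 2, 0, 1, 1, 0, 2, 2], [0, 2, 0, 0, 0, 0, 0, 2, 1, 0, 0, 0, 1, 0], [0, 1, 0, 2, 0, 0, 0, 2, 1, 0, 0, 0, 0, 0], [1, 0, 1, 1, 0, 2, 2, 0, 1, 1, 0, 0, 1, 0], [2, 0, 0, 1, 1, 1, 1, 2, 1, 1, 1, 0, 1, 1], [0, 2, 1, 1, 1, 2, 0, 2, 1, 2, 1, 1, 0, 0], [0, 2, 1, 1, 0, 0, 0, 1, 1, 0, 0, 0, 1, 0], [0, 0, 1, 2, 0, 0, 0, 0, 2, 0, 0, 0, 1, 1]]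
  | ⟨60, _⟩ => [[1, 2, 1, 0, 2, 0, 1, 2, 0, 0, 2, 0, 1, 2], [0, 1, 2, 0, 0, 0, 0, 1, 0, 0, 0, 0, 2, 0], [0, 1, 1, 1, 0, 0, 0, 2, 1, 0, 0, 0, 1, 2], [0, 0, 1, 2, 0, 0, 0, 0, 0, 0, 0, 0, 1, 1], [1, 0, 2, 0, 1, 1, 2, 0, 0, 1, 1, 2, 0, 1], [0, 2, 2, 1, 1, 2, 0, 0, 1, 0, 1, 1, 0, 1], [2, 0, 0, 2, 2, 0, 0, 0, 0, 0, 0, 1, 0, 1], [0, 2, 2, 0, 0, 0, 0, 0, 0, 0, 0, 0, 0, 1], [0, 0, 1, 0, 0, 0, 0, 0, 0, 0, 0, 0, 1, 0], [0, 0, 0, 2, 1, 0, 0, 0, 2, 0, 1, 0, 0, 0], [1, 0, 2, 2, 1, 1, 0, 0, 0, 1, 0, 2, 0, 1], [0, 1, 1, 0, 2, 1, 1, 0, 0, 0, 2, 2, 0, 2], [0, 1, 1, 1, 0, 0, 0, 0, 1, 0, 0, 0, 0, 2], [0, 0, 2, 1, 0, 0, 0, 1, 0, 0, 0, 0, 2, 2]]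
  | ⟨61, _⟩ => [[0, 2, 0, 2, 2, 0, 0, 2, 1, 1, 2, 2, 1, 1], [0, 0, 2, 0, 0, 0, 0, 0, 1, 0, 0, 0, 2, 2], [0, 1, 1, 2, 0, 0, 0, 1, 0, 0, 0, 0, 2, 1], [0, 0, 0, 1, 0, 0, 0, 2, 1, 0, 0, 0, 1, 1], [1, 0, 1, 2, 1, 2, 1, 2, 2, 0, 2, 1, 1, 1], [0, 0, 1, 2, 0, 1, 2, 2, 2, 1, 1, 1, 1, 0], [1, 1, 1, 0, 2, 1, 0, 2, 0, 2, 2, 0, 1, 1], [0, 1, 2, 1, 0, 0, 0, 0, 2, 0, 0, 0, 2, 0], [0, 2, 2, 2, 0, 0, 0, 1, 2, 0, 0, 0, 0, 0], [2, 0, 1, 2, 2, 2, 1, 2, 2, 2, 0, 0, 2, 0], [2, 1, 0, 1, 2, 0, 2, 0, 1, 1, 1, 0, 1, 1], [2, 1, 2, 2, 1, 2, 2, 1, 2, 1, 2, 2, 0, 0], [0, 2, 2, 0, 0, 0, 0, 2, 1, 0, 0, 0, 1, 0], [0, 2, 1, 2, 0, 0, 0, 2, 1, 0, 0, 0, 2, 2]]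
  | ⟨62, _⟩ => [[0, 1, 1, 0, 2, 0, 0, 0, 0, 0, 2, 2, 1, 2], [0, 0, 2, 0, 0, 0, 0, 0, 0, 0, 0, 0, 2, 2], [0, 2, 2, 0, 0, 0, 0, 0, 0, 0, 0, 0, 2, 1], [0, 0, 0, 1, 0, 0, 0, 0, 1, 0, 0, 0, 0, 2], [2, 0, 0, 0, 2, 0, 0, 0, 0, 0, 2, 1, 0, 1], [0, 1, 1, 0, 0, 1, 0, 0, 0, 1, 0, 2, 2, 2], [0, 0, 0, 2, 0, 0, 2, 0, 2, 0, 1, 0, 0, 2], [0, 0, 0, 0, 0, 0, 0, 2, 0, 0, 0, 0, 1, 0], [0, 0, 0, 2, 0, 0, 0, 0, 1, 0, 0, 0, 0, 1], [0, 1, 1, 0, 0, 2, 0, 0, 0, 1, 0, 1, 1, 2], [1, 0, 0, 1, 1, 0, 2, 0, 1, 0, 0, 2, 0, 1], [2, 1, 1, 0, 1, 1, 0, 0, 0, 1, 1, 1, 2, 0], [0, 1, 1, 0, 0, 0, 0, 2, 0, 0, 0, 0, 0, 2], [0, 2, 1, 1, 0, 0, 0, 0, 1, 0, 0, 0, 1, 1]]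
  | ⟨n+63, h⟩ => absurd h (by omega)
def T14_c7 : Fin 63 → List (List ℕ)
  | ⟨0, _⟩ => [[1, 1, 1, 0, 0, 1, 1, 0, 0, 1, 2, 0, 2, 0], [0, 1, 0, 1, 0, 0, 0, 1, 1, 0, 0, 0, 2, 0], [0, 2, 2, 0, 0, 0, 0, 0, 0, 0, 0, 0, 2, 1], [0, 2, 2, 1, 0, 0, 0, 0, 1, 0, 0, 0, 2, 0], [2, 1, 1, 1, 2, 0, 0, 0, 1, 0, 2, 1, 1, 2], [2, 2, 2, 2, 2, 1, 0, 0, 2, 1, 2, 0, 0, 0], [1, 1, 1, 1, 1, 1, 2, 0, 1, 1, 2, 1, 2, 1], [0, 1, 1, 1, 0, 0, 0, 2, 1, 0, 0, 0, 2, 1], [0, 2, 0, 1, 0, 0, 0, 1, 0, 0, 0, 0, 2, 1], [2, 2, 0, 0, 0, 1, 1, 1, 0, 0, 2, 1, 1, 2], [0, 2, 2, 2, 1, 1, 1, 2, 1, 2, 1, 0, 0, 0], [2, 0, 2, 2, 2, 1, 0, 1, 1, 2, 1, 2, 1, 2], [0, 0, 1, 1, 0, 0,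 0, 1, 2, 0, 0, 0, 1, 0], [0, 2, 2, 1, 0, 0, 0, 0, 2, 0, 0, 0, 1, 2]]
  | ⟨1, _⟩ => [[1, 1, 1, 0, 2, 0, 0, 0, 0, 0, 2, 0, 1, 1], [0, 1, 2, 0, 0, 0, 0, 0, 0, 0, 0, 0, 2, 0], [0, 0, 2, 1, 0, 0, 0, 0, 1, 0, 0, 0, 2, 2], [0, 1, 1, 0, 0, 0, 0, 2, 0, 0, 0, 0, 1, 2], [0, 2, 2, 0, 2, 1, 0, 0, 0, 1, 2, 2, 0, 1], [1, 0, 0, 2, 1, 0, 2, 0, 2, 0, 1, 2, 0, 2], [0, 2, 2, 0, 0, 2, 0, 0, 0, 0, 0, 1, 0, 1], [0, 0, 0, 2, 0, 0, 0, 0, 0, 0, 0, 0, 0, 1], [0, 0, 0, 0, 0, 0, 0, 1, 0, 0, 0, 0, 2, 0], [0, 0, 0, 2, 0, 0, 1, 0, 2, 0, 2, 0, 0, 0], [0, 1, 1, 0, 0, 2, 0, 0, 0, 2, 0, 1, 0, 2], [1, 0, 0, 0, 1, 0, 0, 0, 0, 0, 1, 2, 0, 2], [0, 0, 0, 2, 0, 0, 0,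 0, 2, 0, 0, 0, 0, 1], [0, 1, 1, 0, 0, 0, 0, 0, 0, 0, 0, 0, 1, 2]]
  | ⟨2, _⟩ => [[1, 1, 2, 1, 1, 2, 2, 2, 2, 2, 2, 1, 1, 2], [0, 1, 1, 2, 0, 0, 0, 2, 2, 0, 0, 0, 2, 1], [0, 0, 1, 2, 0, 0, 0, 2, 0, 0, 0, 0, 1, 1], [0, 2, 0, 1, 0, 0, 0, 2, 2, 0, 0, 0, 1, 2], [0, 1, 0, 0, 1, 2, 2, 1, 2, 0, 1, 1, 2, 1], [2, 0, 2, 1, 0, 1, 2, 2, 1, 2, 1, 2, 1, 0], [2, 0, 0, 2, 0, 0, 1, 1, 0, 2, 1, 0, 2, 1], [0, 2, 0, 0, 0, 0, 0, 1, 2, 0, 0, 0, 1, 0], [0, 1, 0, 2, 0, 0, 0, 1, 2, 0, 0, 0, 0, 0], [1, 0, 2, 1, 0, 2, 1, 0, 2, 2, 0, 0, 1, 0], [2, 0, 0, 1, 2, 1, 2, 1, 2, 2, 1, 0, 1, 2], [0, 2, 2, 1, 2, 2, 0, 1, 2, 1, 1, 2, 0, 0], [0, 2, 2, 1, 0, 0, 0, 2,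 2, 0, 0, 0, 1, 0], [0, 0, 2, 2, 0, 0, 0, 0, 1, 0, 0, 0, 1, 2]]
  | ⟨3, _⟩ => [[0, 2, 2, 1, 1, 2, 2, 2, 1, 0, 0, 1, 2, 0], [0, 0, 1, 2, 0, 0, 0, 2, 0, 0, 0, 0, 0, 1], [0, 1, 2, 1, 0, 0, 0, 1, 2, 0, 0, 0, 1, 1], [0, 2, 0, 1, 0, 0, 0, 2, 1, 0, 0, 0, 0, 1], [1, 2, 0, 0, 2, 1, 1, 2, 1, 2, 1, 1, 1, 2], [2, 1, 2, 1, 0, 1, 2, 2, 0, 1, 0, 1, 1, 0], [1, 0, 0, 1, 0, 0, 2, 2, 2, 1, 1, 2, 1, 1], [0, 1, 0, 0, 0, 0, 0, 2, 1, 0, 0, 0, 1, 2], [0, 2, 0, 1, 0, 0, 0, 2, 0, 0, 0, 0, 2, 2], [2, 2, 1, 2, 0, 1, 2, 0, 2, 0, 2, 2, 0, 1], [0, 0, 0, 1, 2, 1, 2, 1, 1, 1, 1, 0, 2, 2], [2, 0, 1, 2, 1, 1, 0, 2, 2, 1, 1, 1, 1, 1], [0, 0, 2, 1, 0, 0, 0, 2, 1,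 0, 0, 0, 1, 0], [0, 2, 1, 1, 0, 0, 0, 0, 1, 0, 0, 0, 1, 1]]
  | ⟨4, _⟩ => [[2, 1, 1, 2, 0, 0, 1, 2, 2, 0, 0, 2, 1, 0], [0, 2, 0, 0, 0, 0, 0, 1, 0, 0, 0, 0, 0, 2], [0, 0, 2, 2, 0, 0, 0, 2, 2, 0, 0, 0, 2, 2], [0, 0, 2, 0, 0, 0, 0, 0, 2, 0, 0, 0, 2, 0], [0, 2, 0, 1, 2, 2, 2, 0, 1, 2, 2, 2, 2, 2], [0, 1, 0, 2, 2, 0, 0, 0, 2, 2, 2, 0, 1, 1], [2, 0, 0, 2, 2, 0, 2, 0, 1, 0, 1, 1, 0, 2], [0, 2, 2, 0, 0, 0, 0, 2, 0, 0, 0, 0, 1, 1], [0, 0, 2, 2, 0, 0, 0, 0, 2, 0, 0, 0, 2, 1], [0, 2, 0, 1, 2, 2, 0, 0, 1, 2, 2, 1, 2, 2], [0, 2, 0, 1, 2, 2, 1, 0, 0, 2, 0, 2, 2, 0], [1, 2, 0, 2, 2, 0, 1, 0, 2, 1, 2, 2, 2, 1], [0, 0, 2, 2, 0, 0, 0, 1, 2, 0,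 0, 0, 0, 2], [0, 1, 2, 0, 0, 0, 0, 1, 1, 0, 0, 0, 2, 2]]
  | ⟨5, _⟩ => [[0, 0, 2, 0, 1, 0, 2, 1, 0, 0, 0, 1, 0, 0], [0, 0, 1, 0, 0, 0, 0, 2, 0, 0, 0, 0, 0, 1], [0, 2, 2, 1, 0, 0, 0, 1, 1, 0, 0, 0, 0, 2], [0, 1, 2, 2, 0, 0, 0, 0, 1, 0, 0, 0, 2, 2], [2, 2, 1, 0, 2, 1, 1, 0, 0, 1, 0, 2, 2, 0], [1, 1, 1, 1, 2, 2, 0, 0, 1, 1, 2, 2, 1, 2], [1, 0, 0, 2, 1, 0, 0, 0, 1, 0, 2, 2, 0, 2], [0, 1, 1, 0, 0, 0, 0, 0, 0, 0, 0, 0, 2, 2], [0, 1, 2, 0, 0, 0, 0, 0, 0, 0, 0, 0, 2, 1], [1, 0, 0, 2, 2, 0, 0, 0, 2, 0, 2, 1, 0, 1], [2, 2, 1, 2, 2, 1, 0, 0, 1, 1, 1, 2, 2, 2], [2, 2, 2, 0, 1, 1, 2, 0, 0, 2, 0, 1, 2, 0], [0, 2, 2, 1, 0, 0, 0, 0, 1, 0, 0,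 0, 1, 2], [0, 2, 1, 1, 0, 0, 0, 2, 2, 0, 0, 0, 0, 1]]
  | ⟨6, _⟩ => [[2, 0, 2, 0, 1, 0, 0, 0, 0, 0, 0, 0, 0, 0], [0, 2, 1, 0, 0, 0, 0, 0, 0, 0, 0, 0, 0, 0], [0, 2, 2, 2, 0, 0, 0, 0, 0, 0, 0, 0, 0, 1], [0, 0, 2, 0, 0, 0, 0, 1, 0, 0, 0, 0, 2, 0], [2, 0, 2, 0, 2, 2, 0, 0, 0, 0, 0, 1, 0, 0], [0, 0, 0, 2, 2, 0, 1, 0, 0, 0, 2, 0, 0, 0], [0, 0, 2, 0, 0, 1, 0, 0, 0, 1, 0, 0, 0, 0], [0, 0, 0, 1, 0, 0, 0, 0, 1, 0, 0, 0, 0, 0], [0, 0, 0, 0, 0, 0, 0, 1, 0, 0, 0, 0, 0, 0], [0, 0, 0, 1, 0, 0, 1, 0, 0, 0, 0, 0, 0, 0], [0, 0, 2, 0, 0, 2, 0, 0, 0, 0, 0, 0, 0, 0], [0, 0, 0, 0, 1, 0, 0, 0, 0, 0, 0, 0, 0, 0], [0, 0, 0, 2, 0, 0, 0, 0, 0, 0, 0, 0,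 0, 0], [0, 0, 1, 0, 0, 0, 0, 0, 0, 0, 0, 0, 0, 0]]
  | ⟨7, _⟩ => [[2, 1, 1, 2, 0, 2, 2, 1, 2, 2, 1, 1, 2, 2], [0, 2, 0, 2, 0, 0, 0, 2, 2, 0, 0, 0, 1, 1], [0, 1, 1, 0, 0, 0, 0, 1, 1, 0, 0, 0, 0, 1], [0, 0, 1, 1, 0, 0, 0, 1, 2, 0, 0, 0, 2, 2], [1, 0, 1, 1, 1, 0, 1, 1, 1, 1, 0, 1, 1, 1], [0, 1, 2, 2, 1, 1, 1, 2, 0, 2, 2, 2, 1, 0], [2, 1, 0, 0, 0, 1, 1, 0, 1, 1, 1, 0, 1, 1], [0, 2, 0, 1, 0, 0, 0, 1, 1, 0, 0, 0, 1, 0], [0, 2, 2, 2, 0, 0, 0, 1, 2, 0, 0, 0, 0, 0], [2, 1, 2, 2, 2, 2, 1, 0, 1, 2, 0, 0, 1, 0], [2, 2, 2, 2, 2, 0, 2, 1, 0, 1, 1, 0, 2, 2], [2, 1, 2, 2, 1, 2, 2, 1, 2, 1, 2, 2, 0, 0], [0, 2, 2, 0, 0, 0, 0, 2, 1, 0, 0, 0, 1,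 0], [0, 2, 1, 2, 0, 0, 0, 2, 1, 0, 0, 0, 2, 2]]
  | ⟨8, _⟩ => [[0, 2, 1, 2, 1, 1, 0, 0, 0, 0, 0, 1, 0, 2], [0, 0, 1, 1, 0, 0, 0, 0, 0, 0, 0, 0, 0, 1], [0, 2, 1, 2, 0, 0, 0, 0, 0, 0, 0, 0, 0, 2], [0, 0, 1, 0, 0, 0, 0, 2, 0, 0, 0, 0, 2, 0], [2, 0, 1, 0, 1, 2, 0, 0, 0, 0, 0, 2, 0, 0], [0, 2, 1, 1, 1, 0, 2, 0, 0, 0, 2, 0, 0, 2], [0, 0, 2, 0, 0, 1, 0, 2, 0, 2, 0, 0, 2, 0], [0, 0, 0, 1, 0, 0, 0, 0, 2, 0, 0, 0, 0, 0], [0, 0, 1, 0, 0, 0, 0, 1, 0, 0, 0, 0, 2, 0], [0, 1, 2, 1, 1, 0, 1, 0, 0, 0, 2, 0, 0, 1], [2, 0, 2, 0, 1, 0, 0, 2, 0, 1, 0, 2, 2, 0], [2, 1, 0, 2, 1, 1, 1, 0, 0, 0, 1, 1, 0, 1], [0, 2, 1, 0, 0, 0, 0, 0, 1, 0, 0, 0, 0, 2],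 [0, 2, 1, 1, 0, 0, 0, 1, 0, 0, 0, 0, 1, 1]]
  | ⟨9, _⟩ => [[1, 0, 0, 0, 0, 0, 0, 0, 0, 1, 1, 0, 0, 1], [0, 1, 0, 0, 0, 0, 0, 0, 1, 0, 0, 0, 1, 0], [0, 0, 1, 1, 0, 0, 0, 2, 0, 0, 0, 0, 2, 1], [0, 2, 0, 1, 0, 0, 0, 1, 1, 0, 0, 0, 1, 1], [0, 2, 0, 0, 1, 1, 2, 1, 2, 0, 2, 1, 1, 1], [2, 0, 0, 0, 0, 1, 1, 2, 2, 1, 1, 1, 2, 2], [1, 1, 0, 0, 0, 0, 1, 0, 2, 2, 2, 0, 0, 0], [0, 1, 0, 0, 0, 0, 0, 1, 2, 0, 0, 0, 2, 0], [0, 0, 0, 0, 0, 0, 0, 0, 1, 0, 0, 0, 2, 2], [0, 0, 0, 0, 0, 0, 0, 0, 0, 1, 2, 2, 2, 2], [0, 0, 0, 0, 0, 0, 0, 0, 0, 0, 1, 2, 2, 2], [0, 0, 0, 0, 0, 0, 0, 0, 0, 0, 0, 1, 2, 2], [0, 0, 0, 0, 0, 0, 0, 0, 0, 0, 0, 0, 1, 2], [0,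 0, 0, 0, 0, 0, 0, 0, 0, 0, 0, 0, 0, 1]]
  | ⟨10, _⟩ => [[2, 2, 2, 0, 2, 1, 0, 2, 1, 1, 1, 1, 1, 1], [0, 2, 2, 1, 0, 0, 0, 0, 1, 0, 0, 0, 1, 1], [0, 1, 1, 2, 0, 0, 0, 1, 0, 0, 0, 0, 2, 1], [0, 2, 2, 2, 0, 0, 0, 1, 1, 0, 0, 0, 2, 0], [1, 2, 0, 2, 1, 2, 1, 2, 1, 0, 2, 1, 1, 2], [2, 1, 1, 1, 2, 2, 1, 2, 2, 1, 2, 0, 1, 2], [0, 1, 2, 0, 1, 1, 0, 0, 0, 1, 2, 1, 0, 1], [0, 0, 1, 1, 0, 0, 0, 0, 1, 0, 0, 0, 2, 1], [0, 2, 0, 1, 0, 0, 0, 1, 2, 0, 0, 0, 0, 1], [2, 0, 2, 2, 0, 1, 1, 2, 1, 2, 0, 1, 2, 1], [2, 2, 2, 1, 2, 2, 2, 2, 2, 0, 1, 0, 0, 2], [2, 1, 1, 1, 1, 0, 1, 1, 2, 1, 0, 1, 0, 2], [0, 2, 2, 2, 0, 0, 0, 2, 0, 0, 0, 0, 1, 0], [0, 2,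 1, 0, 0, 0, 0, 1, 1, 0, 0, 0, 0, 1]]
  | ⟨11, _⟩ => [[1, 2, 2, 0, 1, 0, 2, 1, 0, 0, 2, 0, 1, 1], [0, 1, 1, 0, 0, 0, 0, 2, 0, 0, 0, 0, 2, 0], [0, 2, 1, 2, 0, 0, 0, 2, 1, 0, 0, 0, 2, 2], [0, 0, 2, 2, 0, 0, 0, 0, 0, 0, 0, 0, 1, 2], [2, 0, 2, 0, 1, 2, 2, 0, 0, 1, 2, 2, 0, 1], [0, 2, 1, 1, 2, 2, 0, 0, 2, 0, 1, 2, 0, 2], [1, 0, 0, 1, 2, 0, 0, 0, 0, 0, 0, 1, 0, 1], [0, 1, 2, 0, 0, 0, 0, 0, 0, 0, 0, 0, 0, 1], [0, 0, 1, 0, 0, 0, 0, 0, 0, 0, 0, 0, 2, 0], [0, 0, 0, 1, 1, 0, 0, 0, 2, 0, 2, 0, 0, 0], [1, 0, 1, 2, 2, 1, 0, 0, 0, 2, 0, 1, 0, 2], [0, 2, 1, 0, 2, 2, 1, 0, 0, 0, 1, 2, 0, 2], [0, 1, 2, 1, 0, 0, 0, 0, 2, 0, 0, 0, 0, 1], [0, 0, 2,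 2, 0, 0, 0, 1, 0, 0, 0, 0, 1, 2]]
  | ⟨12, _⟩ => [[2, 0, 0, 2, 2, 1, 1, 2, 1, 2, 0, 2, 2, 2], [0, 2, 2, 1, 0, 0, 0, 1, 2, 0, 0, 0, 0, 2], [0, 2, 1, 1, 0, 0, 0, 1, 0, 0, 0, 0, 1, 1], [0, 0, 0, 1, 0, 0, 0, 1, 2, 0, 0, 0, 1, 2], [2, 0, 1, 1, 1, 1, 1, 2, 2, 0, 1, 1, 2, 1], [0, 1, 1, 1, 0, 1, 1, 0, 1, 2, 1, 2, 0, 2], [2, 2, 1, 2, 2, 2, 0, 1, 1, 2, 1, 0, 1, 2], [0, 2, 2, 2, 0, 0, 0, 0, 2, 0, 0, 0, 1, 0], [0, 1, 2, 0, 0, 0, 0, 0, 0, 0, 0, 0, 2, 1], [1, 1, 1, 1, 2, 0, 0, 0, 1, 0, 2, 1, 2, 2], [2, 0, 0, 1, 2, 1, 0, 1, 2, 1, 1, 2, 2, 1], [2, 2, 2, 0, 1, 1, 2, 0, 0, 2, 0, 1, 2, 0], [0, 2, 2, 1, 0, 0, 0, 0, 1, 0, 0, 0, 1, 2], [0, 2, 1, 1,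 0, 0, 0, 2, 2, 0, 0, 0, 0, 1]]
  | ⟨13, _⟩ => [[2, 2, 1, 0, 1, 0, 2, 1, 0, 2, 1, 2, 2, 1], [0, 2, 1, 0, 0, 0, 0, 2, 2, 0, 0, 0, 1, 2], [0, 0, 1, 2, 0, 0, 0, 0, 2, 0, 0, 0, 1, 1], [0, 1, 0, 1, 0, 0, 0, 2, 1, 0, 0, 0, 0, 1], [0, 0, 2, 1, 1, 2, 0, 1, 1, 2, 1, 1, 1, 2], [1, 1, 2, 1, 0, 1, 2, 1, 1, 1, 0, 1, 0, 2], [2, 1, 1, 1, 1, 2, 1, 2, 1, 1, 1, 2, 1, 0], [0, 2, 1, 2, 0, 0, 0, 1, 1, 0, 0, 0, 1, 2], [0, 2, 1, 1, 0, 0, 0, 1, 2, 0, 0, 0, 2, 1], [2, 0, 1, 2, 1, 1, 1, 2, 0, 2, 2, 1, 1, 0], [2, 1, 2, 2, 0, 2, 2, 1, 0, 0, 1, 1, 2, 2], [1, 2, 2, 2, 1, 1, 0, 1, 0, 0, 0, 2, 2, 1], [0, 2, 0, 2, 0, 0, 0, 2, 0, 0, 0, 0, 1, 1], [0, 1, 1, 1, 0,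 0, 0, 0, 0, 0, 0, 0, 0, 2]]
  | ⟨14, _⟩ => [[0, 0, 1, 0, 2, 0, 1, 2, 0, 0, 0, 2, 0, 0], [0, 0, 2, 0, 0, 0, 0, 1, 0, 0, 0, 0, 0, 2], [0, 1, 2, 2, 0, 0, 0, 1, 1, 0, 0, 0, 0, 2], [0, 1, 1, 2, 0, 0, 0, 0, 2, 0, 0, 0, 2, 1], [1, 1, 1, 0, 2, 2, 1, 0, 0, 1, 0, 2, 1, 0], [1, 1, 2, 1, 1, 2, 0, 0, 2, 2, 2, 1, 1, 1], [2, 0, 0, 1, 1, 0, 0, 0, 1, 0, 1, 2, 0, 2], [0, 2, 1, 0, 0, 0, 0, 0, 0, 0, 0, 0, 1, 2], [0, 2, 2, 0, 0, 0, 0, 0, 0, 0, 0, 0, 1, 1], [2, 0, 0, 1, 2, 0, 0, 0, 2, 0, 1, 1, 0, 1], [2, 2, 2, 2, 1, 1, 0, 0, 2, 2, 1, 1, 2, 1], [1, 1, 2, 0, 1, 2, 2, 0, 0, 2, 0, 1, 1, 0], [0, 2, 1, 1, 0, 0, 0, 0, 2, 0, 0, 0, 1, 1], [0, 1, 1, 2, 0, 0,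 0, 2, 2, 0, 0, 0, 0, 1]]
  | ⟨15, _⟩ => [[0, 2, 1, 2, 1, 1, 0, 0, 0, 0, 0, 1, 0, 2], [0, 0, 1, 1, 0, 0, 0, 0, 0, 0, 0, 0, 0, 1], [0, 1, 2, 1, 0, 0, 0, 0, 0, 0, 0, 0, 0, 1], [0, 0, 1, 0, 0, 0, 0, 2, 0, 0, 0, 0, 2, 0], [1, 0, 2, 0, 2, 1, 0, 0, 0, 0, 0, 1, 0, 0], [0, 2, 1, 1, 1, 0, 2, 0, 0, 0, 2, 0, 0, 2], [0, 0, 1, 0, 0, 2, 0, 1, 0, 1, 0, 0, 1, 0], [0, 0, 0, 2, 0, 0, 0, 0, 1, 0, 0, 0, 0, 0], [0, 0, 2, 0, 0, 0, 0, 2, 0, 0, 0, 0, 1, 0], [0, 2, 1, 2, 2, 0, 2, 0, 0, 0, 1, 0, 0, 2], [2, 0, 2, 0, 1, 0, 0, 2, 0, 1, 0, 2, 2, 0], [1, 2, 0, 1, 2, 2, 2, 0, 0, 0, 2, 2, 0, 2], [0, 2, 1, 0, 0, 0, 0, 0, 1, 0, 0, 0, 0, 2], [0, 1, 2, 2, 0, 0, 0,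 2, 0, 0, 0, 0, 2, 2]]
  | ⟨16, _⟩ => [[2, 1, 1, 2, 0, 2, 2, 1, 2, 2, 1, 1, 2, 2], [0, 2, 0, 2, 0, 0, 0, 2, 2, 0, 0, 0, 1, 1], [0, 2, 2, 0, 0, 0, 0, 2, 2, 0, 0, 0, 0, 2], [0, 0, 1, 1, 0, 0, 0, 1, 2, 0, 0, 0, 2, 2], [2, 0, 2, 2, 2, 0, 2, 2, 2, 2, 0, 2, 2, 2], [0, 1, 2, 2, 1, 1, 1, 2, 0, 2, 2, 2, 1, 0], [1, 2, 0, 0, 0, 2, 2, 0, 2, 2, 2, 0, 2, 2], [0, 1, 0, 2, 0, 0, 0, 2, 2, 0, 0, 0, 2, 0], [0, 1, 1, 1, 0, 0, 0, 2, 1, 0, 0, 0, 0, 0], [1, 2, 1, 1, 1, 1, 2, 0, 2, 1, 0, 0, 2, 0], [2, 2, 2, 2, 2, 0, 2, 1, 0, 1, 1, 0, 2, 2], [1, 2, 1, 1, 2, 1, 1, 2, 1, 2, 1, 1, 0, 0], [0, 2, 2, 0, 0, 0, 0, 2, 1, 0, 0, 0, 1, 0], [0, 1, 2, 1, 0, 0, 0, 1,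 2, 0, 0, 0, 1, 1]]
  | ⟨17, _⟩ => [[0, 1, 2, 0, 0, 0, 2, 0, 1, 2, 2, 1, 0, 0], [0, 0, 0, 0, 0, 0, 0, 2, 2, 0, 0, 0, 2, 1], [0, 1, 1, 1, 0, 0, 0, 1, 2, 0, 0, 0, 1, 2], [0, 1, 1, 2, 0, 0, 0, 2, 0, 0, 0, 0, 0, 2], [1, 1, 0, 1, 1, 1, 1, 2, 0, 2, 1, 2, 2, 0], [1, 0, 0, 2, 1, 2, 2, 2, 2, 0, 0, 2, 2, 2], [2, 1, 0, 2, 1, 2, 0, 2, 0, 2, 0, 2, 1, 2], [0, 2, 1, 2, 0, 0, 0, 0, 2, 0, 0, 0, 0, 2], [0, 2, 1, 1, 0, 0, 0, 0, 0, 0, 0, 0, 1, 1], [2, 2, 0, 1, 1, 1, 0, 2, 1, 0, 1, 1, 2, 1], [0, 0, 0, 1, 1, 1, 2, 2, 0, 1, 2, 2, 0, 2], [0, 2, 0, 2, 1, 2, 1, 2, 2, 1, 2, 1, 2, 0], [0, 0, 1, 1, 0, 0, 0, 2, 1, 0, 0, 0, 2, 2], [0, 0, 1, 2, 0, 0, 0, 1, 1,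 0, 0, 0, 2, 1]]
  | ⟨18, _⟩ => [[2, 0, 0, 2, 1, 1, 2, 1, 2, 1, 0, 1, 2, 1], [0, 2, 1, 1, 0, 0, 0, 2, 1, 0, 0, 0, 0, 1], [0, 1, 1, 2, 0, 0, 0, 1, 0, 0, 0, 0, 2, 1], [0, 0, 0, 1, 0, 0, 0, 2, 1, 0, 0, 0, 1, 1], [1, 0, 1, 2, 1, 2, 1, 2, 2, 0, 2, 1, 1, 1], [0, 1, 2, 1, 0, 1, 2, 0, 2, 1, 1, 1, 0, 1], [1, 1, 1, 1, 2, 1, 0, 1, 1, 2, 2, 0, 2, 2], [0, 1, 2, 1, 0, 0, 0, 0, 2, 0, 0, 0, 2, 0], [0, 2, 2, 0, 0, 0, 0, 0, 0, 0, 0, 0, 1, 1], [2, 2, 1, 2, 2, 0, 0, 0, 1, 0, 1, 1, 1, 2], [2, 0, 0, 1, 1, 1, 0, 2, 1, 2, 1, 1, 2, 2], [1, 1, 2, 0, 1, 2, 2, 0, 0, 2, 0, 1, 1, 0], [0, 2, 1, 1, 0, 0, 0, 0, 2, 0, 0, 0, 1, 1], [0, 1, 1, 2, 0, 0, 0, 2, 2, 0,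 0, 0, 0, 1]]
  | ⟨19, _⟩ => [[0, 0, 0, 1, 0, 1, 0, 0, 0, 0, 1, 0, 1, 0], [0, 0, 0, 1, 0, 0, 0, 0, 0, 0, 0, 0, 1, 0], [0, 0, 1, 0, 0, 0, 0, 1, 1, 0, 0, 0, 0, 2], [0, 2, 0, 1, 0, 0, 0, 0, 0, 0, 0, 0, 2, 0], [0, 0, 2, 0, 1, 0, 1, 2, 1, 1, 0, 2, 0, 2], [2, 1, 0, 0, 0, 1, 0, 0, 0, 0, 2, 0, 0, 0], [0, 0, 1, 0, 1, 0, 2, 1, 1, 1, 0, 1, 0, 2], [0, 0, 1, 0, 0, 0, 0, 2, 1, 0, 0, 0, 0, 1], [0, 0, 1, 0, 0, 0, 0, 1, 2, 0, 0, 0, 0, 1], [0, 0, 2, 0, 1, 0, 1, 1, 1, 2, 0, 1, 0, 1], [2, 1, 0, 0, 0, 2, 0, 0, 0, 0, 1, 0, 0, 0], [0, 0, 2, 0, 2, 0, 1, 1, 2, 1, 0, 1, 0, 2], [0, 2, 0, 2, 0, 0, 0, 0, 0, 0, 0, 0, 1, 0], [0, 0, 2, 0, 0, 0, 0, 1, 1, 0, 0,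 0, 0, 1]]
  | ⟨20, _⟩ => [[1, 1, 2, 1, 0, 0, 2, 1, 2, 0, 1, 2, 0, 2], [0, 1, 0, 0, 0, 0, 0, 2, 0, 0, 0, 0, 1, 2], [0, 0, 2, 0, 0, 0, 0, 1, 1, 0, 0, 0, 0, 1], [0, 1, 1, 1, 0, 0, 0, 2, 2, 0, 0, 0, 2, 2], [0, 2, 0, 2, 2, 0, 1, 0, 1, 1, 0, 1, 1, 1], [1, 1, 0, 2, 1, 1, 2, 0, 2, 2, 2, 2, 1, 2], [2, 2, 0, 1, 2, 2, 0, 0, 2, 1, 1, 0, 2, 2], [0, 2, 2, 2, 0, 0, 0, 0, 1, 0, 0, 0, 1, 0], [0, 1, 2, 0, 0, 0, 0, 2, 0, 0, 0, 0, 1, 1], [1, 0, 0, 2, 2, 0, 2, 0, 0, 0, 1, 1, 0, 2], [1, 2, 0, 1, 1, 0, 0, 0, 2, 1, 2, 2, 1, 1], [2, 2, 0, 1, 2, 2, 2, 0, 2, 1, 2, 1, 2, 0], [0, 1, 1, 0, 0, 0, 0, 0, 1, 0, 0, 0, 2, 2], [0, 2, 2, 2, 0, 0, 0, 2, 1, 0, 0, 0,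 2, 1]]
  | ⟨21, _⟩ => [[0, 2, 1, 0, 2, 0, 0, 0, 0, 0, 1, 2, 2, 2], [0, 0, 2, 0, 0, 0, 0, 0, 0, 0, 0, 0, 1, 2], [0, 1, 1, 2, 0, 0, 0, 0, 1, 0, 0, 0, 2, 1], [0, 2, 1, 0, 0, 0, 0, 2, 0, 0, 0, 0, 0, 2], [1, 2, 1, 0, 1, 2, 0, 0, 0, 1, 2, 1, 1, 0], [2, 0, 0, 2, 1, 0, 2, 0, 1, 0, 0, 2, 0, 1], [0, 2, 1, 0, 0, 1, 0, 0, 0, 1, 0, 1, 2, 2], [0, 0, 0, 1, 0, 0, 0, 0, 1, 0, 0, 0, 0, 1], [0, 0, 0, 0, 0, 0, 0, 2, 0, 0, 0, 0, 2, 0], [0, 0, 0, 1, 0, 0, 2, 0, 2, 0, 2, 0, 0, 2], [0, 2, 1, 0, 0, 2, 0, 0, 0, 1, 0, 2, 1, 2], [1, 0, 0, 0, 2, 0, 0, 0, 0, 0, 1, 1, 0, 1], [0, 0, 0, 2, 0, 0, 0, 0, 1, 0, 0, 0, 0, 2], [0, 1, 2, 0, 0, 0, 0, 0, 0, 0, 0, 0, 1,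 1]]
  | ⟨22, _⟩ => [[0, 0, 1, 1, 1, 1, 1, 1, 0, 1, 1, 2, 1, 0], [0, 0, 1, 1, 0, 0, 0, 1, 1, 0, 0, 0, 1, 2], [0, 0, 1, 0, 0, 0, 0, 1, 1, 0, 0, 0, 0, 2], [0, 2, 0, 1, 0, 0, 0, 0, 0, 0, 0, 0, 2, 0], [0, 0, 2, 0, 1, 0, 1, 2, 1, 1, 0, 2, 0, 2], [2, 1, 2, 0, 0, 1, 0, 2, 2, 0, 2, 0, 0, 1], [0, 1, 1, 2, 1, 0, 2, 1, 1, 1, 0, 1, 1, 2], [0, 0, 1, 0, 0, 0, 0, 2, 1, 0, 0, 0, 0, 1], [0, 1, 1, 2, 0, 0, 0, 1, 2, 0, 0, 0, 1, 1], [1, 2, 1, 0, 1, 2, 1, 0, 0, 2, 1, 1, 0, 2], [2, 0, 2, 1, 0, 2, 1, 2, 0, 0, 1, 2, 2, 0], [2, 1, 2, 1, 1, 2, 0, 1, 0, 0, 0, 2, 1, 1], [0, 2, 0, 2, 0, 0, 0, 1, 0, 0, 0, 0, 1, 2], [0, 2, 1, 2, 0, 0, 0, 0, 0, 0, 0, 0, 0, 2]]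
  | ⟨23, _⟩ => [[0, 1, 1, 2, 2, 1, 2, 0, 2, 1, 0, 1, 2, 1], [0, 0, 2, 1, 0, 0, 0, 2, 1, 0, 0, 0, 0, 1], [0, 2, 2, 0, 0, 0, 0, 0, 0, 0, 0, 0, 2, 1], [0, 1, 1, 1, 0, 0, 0, 0, 1, 0, 0, 0, 1, 1], [2, 1, 1, 2, 2, 0, 0, 0, 2, 0, 2, 1, 1, 1], [1, 2, 2, 2, 1, 1, 0, 0, 2, 1, 1, 1, 0, 1], [1, 0, 0, 1, 1, 2, 2, 0, 1, 2, 2, 0, 2, 2], [0, 1, 1, 2, 0, 0, 0, 2, 2, 0, 0, 0, 2, 0], [0, 0, 2, 1, 0, 0, 0, 1, 0, 0, 0, 0, 1, 1], [0, 1, 0, 1, 2, 1, 1, 1, 1, 0, 1, 1, 1, 2], [0, 2, 2, 0, 1, 0, 1, 1, 1, 2, 1, 1, 2, 2], [2, 1, 2, 1, 1, 1, 2, 1, 0, 2, 0, 1, 1, 0], [0, 0, 1, 0, 0, 0, 0, 1, 2, 0, 0, 0, 1, 1], [0, 2, 1, 1, 0, 0, 0, 2, 2, 0, 0, 0, 0, 1]]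
  | ⟨24, _⟩ => [[1, 2, 1, 1, 1, 2, 0, 0, 1, 2, 1, 1, 0, 0], [0, 1, 1, 2, 0, 0, 0, 0, 2, 0, 0, 0, 1, 1], [0, 2, 1, 2, 0, 0, 0, 1, 2, 0, 0, 0, 2, 2], [0, 2, 1, 0, 0, 0, 0, 0, 1, 0, 0, 0, 1, 2], [2, 2, 0, 1, 1, 2, 1, 0, 1, 2, 2, 2, 2, 0], [2, 2, 2, 0, 1, 0, 0, 2, 0, 1, 1, 2, 0, 2], [1, 1, 2, 2, 1, 0, 1, 0, 2, 0, 1, 2, 2, 2], [0, 1, 1, 0, 0, 0, 0, 1, 0, 0, 0, 0, 1, 2], [0, 0, 0, 2, 0, 0, 0, 0, 1, 0, 0, 0, 0, 1], [0, 2, 2, 0, 0, 2, 0, 2, 0, 1, 0, 1, 1, 1], [1, 2, 1, 2, 1, 0, 2, 0, 2, 0, 0, 2, 1, 2], [2, 1, 1, 0, 1, 1, 0, 0, 0, 1, 1, 1, 2, 0], [0, 1, 1, 0, 0, 0, 0, 2, 0, 0, 0, 0, 0, 2], [0, 2, 1, 1, 0, 0, 0, 0, 1, 0, 0, 0, 1, 1]]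
  | ⟨25, _⟩ => [[1, 0, 1, 1, 0, 2, 0, 0, 2, 1, 0, 0, 1, 1], [0, 1, 0, 2, 0, 0, 0, 0, 1, 0, 0, 0, 0, 0], [0, 1, 1, 2, 0, 0, 0, 0, 1, 0, 0, 0, 2, 1], [0, 2, 1, 0, 0, 0, 0, 2, 0, 0, 0, 0, 0, 2], [1, 2, 1, 0, 1, 2, 0, 0, 0, 1, 2, 1, 1, 0], [2, 2, 2, 0, 1, 0, 2, 0, 0, 0, 0, 2, 1, 0], [0, 0, 0, 0, 0, 1, 0, 1, 0, 1, 0, 1, 2, 0], [0, 0, 0, 1, 0, 0, 0, 0, 1, 0, 0, 0, 0, 1], [0, 1, 2, 0, 0, 0, 0, 0, 0, 0, 0, 0, 2, 1], [1, 2, 2, 0, 2, 0, 0, 0, 0, 0, 2, 1, 1, 0], [2, 1, 2, 0, 2, 1, 0, 2, 0, 1, 1, 2, 2, 0], [2, 2, 2, 0, 1, 1, 2, 0, 0, 2, 0, 1, 2, 0], [0, 2, 2, 1, 0, 0, 0, 0, 1, 0, 0, 0, 1, 2], [0, 2, 1, 1, 0, 0, 0, 2, 2, 0, 0, 0, 0, 1]]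
  | ⟨26, _⟩ => [[1, 0, 2, 2, 1, 1, 1, 0, 0, 0, 0, 0, 0, 0], [0, 1, 1, 1, 0, 0, 0, 1, 0, 0, 0, 0, 0, 0], [0, 0, 1, 0, 0, 0, 0, 0, 0, 0, 0, 0, 0, 0], [0, 0, 2, 1, 0, 0, 0, 0, 0, 0, 0, 0, 0, 0], [0, 0, 2, 2, 1, 0, 0, 0, 0, 0, 0, 0, 0, 0], [0, 0, 1, 2, 2, 1, 0, 0, 0, 0, 0, 0, 0, 0], [0, 0, 0, 1, 2, 2, 1, 0, 0, 0, 0, 0, 0, 0], [0, 0, 2, 2, 0, 0, 0, 1, 0, 0, 0, 0, 0, 0], [0, 1, 1, 1, 0, 0, 0, 2, 1, 0, 0, 0, 0, 0], [1, 1, 0, 1, 1, 1, 2, 2, 0, 1, 0, 0, 0, 0], [2, 0, 1, 0, 2, 0, 2, 2, 2, 1, 1, 0, 0, 0], [1, 2, 1, 1, 2, 1, 1, 2, 1, 2, 1, 1, 0, 0], [0, 2, 2, 0, 0, 0, 0, 2, 1, 0, 0, 0, 1, 0], [0, 1, 2, 1, 0, 0, 0, 1, 2, 0, 0, 0, 1, 1]]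
  | ⟨27, _⟩ => [[0, 2, 0, 0, 2, 1, 1, 2, 0, 1, 0, 0, 0, 1], [0, 0, 2, 1, 0, 0, 0, 1, 1, 0, 0, 0, 0, 0], [0, 2, 1, 2, 0, 0, 0, 1, 2, 0, 0, 0, 2, 2], [0, 2, 1, 0, 0, 0, 0, 0, 1, 0, 0, 0, 1, 2], [2, 2, 0, 1, 1, 2, 1, 0, 1, 2, 2, 2, 2, 0], [2, 0, 1, 1, 1, 0, 0, 1, 1, 1, 1, 2, 1, 0], [1, 2, 1, 2, 1, 0, 1, 0, 1, 0, 1, 2, 1, 0], [0, 1, 1, 0, 0, 0, 0, 1, 0, 0, 0, 0, 1, 2], [0, 1, 2, 2, 0, 0, 0, 0, 0, 0, 0, 0, 2, 2], [1, 1, 2, 1, 2, 2, 0, 2, 1, 0, 2, 2, 2, 0], [0, 0, 1, 0, 1, 1, 2, 0, 1, 1, 2, 2, 2, 0], [0, 1, 0, 1, 2, 1, 2, 1, 1, 2, 1, 2, 1, 0], [0, 0, 1, 1, 0, 0, 0, 2, 1, 0, 0, 0, 2, 2], [0, 0, 2, 1, 0, 0, 0, 2, 2, 0, 0, 0, 1, 2]]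
  | ⟨28, _⟩ => [[2, 0, 0, 1, 1, 1, 2, 0, 1, 1, 2, 2, 1, 1], [0, 2, 1, 1, 0, 0, 0, 2, 1, 0, 0, 0, 2, 2], [0, 2, 2, 0, 0, 0, 0, 0, 0, 0, 0, 0, 2, 1], [0, 1, 1, 1, 0, 0, 0, 0, 1, 0, 0, 0, 1, 1], [2, 1, 1, 2, 2, 0, 0, 0, 2, 0, 2, 1, 1, 1], [1, 0, 0, 2, 1, 1, 0, 0, 2, 1, 1, 1, 1, 0], [1, 2, 2, 0, 1, 2, 2, 0, 0, 2, 2, 0, 1, 1], [0, 1, 1, 2, 0, 0, 0, 2, 2, 0, 0, 0, 2, 0], [0, 2, 1, 0, 0, 0, 0, 1, 2, 0, 0, 0, 0, 0], [2, 0, 2, 2, 1, 0, 1, 1, 2, 2, 0, 0, 2, 0], [2, 2, 2, 0, 0, 2, 0, 1, 1, 1, 1, 0, 1, 1], [1, 1, 2, 0, 2, 0, 1, 1, 2, 1, 2, 2, 0, 0], [0, 2, 0, 2, 0, 0, 0, 0, 1, 0, 0, 0, 1, 0], [0, 1, 2, 0, 0, 0, 0, 1, 1, 0, 0, 0, 2, 2]]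
  | ⟨29, _⟩ => [[1, 0, 0, 0, 0, 0, 0, 0, 0, 1, 1, 2, 1, 0], [0, 1, 0, 0, 0, 0, 0, 0, 1, 0, 0, 0, 1, 2], [0, 1, 2, 2, 0, 0, 0, 1, 1, 0, 0, 0, 0, 2], [0, 2, 0, 1, 0, 0, 0, 1, 0, 0, 0, 0, 2, 0], [1, 1, 0, 0, 2, 2, 1, 2, 1, 1, 0, 2, 0, 2], [2, 0, 0, 0, 0, 1, 1, 2, 2, 0, 2, 0, 0, 1], [2, 2, 0, 0, 0, 0, 2, 0, 1, 1, 0, 1, 1, 2], [0, 2, 0, 0, 0, 0, 0, 2, 1, 0, 0, 0, 0, 1], [0, 0, 0, 0, 0, 0, 0, 0, 2, 0, 0, 0, 1, 1], [0, 0, 0, 0, 0, 0, 0, 0, 0, 2, 1, 1, 0, 2], [0, 0, 0, 0, 0, 0, 0, 0, 0, 0, 1, 2, 2, 0], [0, 0, 0, 0, 0, 0, 0, 0, 0, 0, 0, 2, 1, 1], [0, 0, 0, 0, 0, 0, 0, 0, 0, 0, 0, 0, 1, 2], [0, 0, 0, 0, 0, 0, 0, 0, 0, 0, 0, 0, 0, 2]]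
  | ⟨30, _⟩ => [[1, 2, 0, 2, 2, 0, 0, 2, 2, 1, 0, 0, 1, 1], [0, 1, 2, 0, 0, 0, 0, 0, 1, 0, 0, 0, 0, 0], [0, 0, 1, 2, 0, 0, 0, 1, 1, 0, 0, 0, 2, 1], [0, 0, 0, 1, 0, 0, 0, 2, 0, 0, 0, 0, 0, 2], [0, 2, 1, 2, 1, 2, 1, 2, 0, 1, 2, 1, 1, 0], [0, 2, 1, 2, 0, 1, 2, 2, 0, 0, 0, 2, 1, 0], [2, 0, 1, 0, 2, 1, 0, 2, 0, 1, 0, 1, 2, 0], [0, 2, 2, 1, 0, 0, 0, 0, 1, 0, 0, 0, 0, 1], [0, 0, 2, 2, 0, 0, 0, 1, 0, 0, 0, 0, 2, 1], [0, 2, 1, 2, 2, 2, 1, 2, 0, 0, 2, 1, 1, 0], [0, 1, 0, 1, 2, 0, 2, 0, 0, 1, 1, 2, 2, 0], [1, 2, 2, 2, 1, 2, 2, 1, 0, 2, 0, 1, 2, 0], [0, 0, 2, 0, 0, 0, 0, 2, 1, 0, 0, 0, 1, 2], [0, 1, 1, 2, 0, 0, 0, 2, 2, 0, 0, 0, 0, 1]]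
  | ⟨31, _⟩ => [[1, 2, 2, 1, 0, 0, 2, 1, 1, 0, 0, 1, 2, 0], [0, 1, 0, 0, 0, 0, 0, 2, 0, 0, 0, 0, 0, 1], [0, 2, 1, 0, 0, 0, 0, 2, 2, 0, 0, 0, 1, 1], [0, 0, 1, 1, 0, 0, 0, 2, 1, 0, 0, 0, 0, 1], [2, 1, 0, 1, 1, 0, 2, 0, 1, 2, 1, 1, 1, 2], [0, 1, 0, 2, 1, 1, 2, 0, 0, 1, 0, 1, 1, 0], [0, 1, 0, 2, 1, 1, 0, 0, 2, 1, 1, 2, 1, 1], [0, 0, 1, 1, 0, 0, 0, 0, 1, 0, 0, 0, 1, 2], [0, 1, 1, 0, 0, 0, 0, 1, 0, 0, 0, 0, 2, 2], [1, 0, 0, 1, 1, 0, 1, 0, 2, 0, 2, 2, 0, 1], [0, 2, 0, 1, 1, 0, 0, 0, 1, 1, 1, 0, 2, 2], [0, 1, 0, 2, 1, 1, 1, 0, 2, 1, 1, 1, 1, 1], [0, 0, 1, 0, 0, 0, 0, 0, 1, 0, 0, 0, 1, 0], [0, 0, 1, 1, 0, 0, 0, 1, 1, 0, 0, 0, 1, 1]]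
  | ⟨32, _⟩ => [[1, 0, 1, 1, 0, 1, 2, 1, 0, 0, 0, 1, 0, 0], [0, 1, 0, 1, 0, 0, 0, 2, 0, 0, 0, 0, 0, 1], [0, 1, 2, 2, 0, 0, 0, 1, 1, 0, 0, 0, 0, 2], [0, 0, 2, 0, 0, 0, 0, 2, 1, 0, 0, 0, 2, 2], [1, 2, 1, 2, 2, 2, 1, 2, 0, 1, 0, 2, 2, 0], [0, 0, 2, 1, 2, 0, 2, 1, 1, 1, 2, 2, 1, 2], [0, 2, 1, 2, 1, 2, 2, 0, 1, 0, 2, 2, 0, 2], [0, 0, 1, 2, 0, 0, 0, 2, 0, 0, 0, 0, 2, 2], [0, 2, 0, 1, 0, 0, 0, 2, 0, 0, 0, 0, 2, 1], [2, 1, 0, 0, 0, 1, 2, 0, 2, 0, 2, 1, 0, 1], [1, 1, 2, 1, 1, 2, 1, 2, 1, 1, 1, 2, 2, 2], [0, 2, 2, 1, 2, 0, 2, 2, 0, 2, 0, 1, 2, 0], [0, 1, 1, 2, 0, 0, 0, 1, 1, 0, 0, 0, 1, 2], [0, 0, 2, 0, 0, 0, 0, 2, 2, 0, 0, 0, 0, 1]]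
  | ⟨33, _⟩ => [[0, 1, 0, 0, 2, 2, 1, 2, 0, 1, 0, 0, 0, 1], [0, 0, 2, 2, 0, 0, 0, 1, 1, 0, 0, 0, 0, 0], [0, 0, 2, 2, 0, 0, 0, 2, 2, 0, 0, 0, 2, 2], [0, 0, 1, 2, 0, 0, 0, 2, 1, 0, 0, 0, 1, 2], [0, 2, 0, 2, 2, 2, 2, 1, 1, 2, 2, 2, 2, 0], [0, 0, 1, 0, 1, 2, 2, 0, 1, 1, 1, 2, 1, 0], [2, 2, 2, 2, 2, 1, 0, 2, 1, 0, 1, 2, 1, 0], [0, 2, 2, 1, 0, 0, 0, 0, 0, 0, 0, 0, 1, 2], [0, 2, 1, 0, 0, 0, 0, 1, 0, 0, 0, 0, 2, 2], [2, 1, 1, 1, 1, 0, 1, 0, 1, 0, 2, 2, 2, 0], [1, 0, 1, 2, 1, 0, 0, 1, 1, 1, 2, 2, 2, 0], [1, 1, 0, 2, 1, 1, 1, 0, 1, 2, 1, 2, 1, 0], [0, 1, 1, 0, 0, 0, 0, 0, 1, 0, 0, 0, 2, 2], [0, 1, 1, 1, 0, 0, 0, 1, 2, 0, 0, 0, 1, 2]]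
  | ⟨34, _⟩ => [[2, 0, 0, 0, 0, 0, 0, 0, 0, 0, 0, 0, 0, 0], [0, 2, 0, 0, 0, 0, 0, 0, 0, 0, 0, 0, 0, 0], [0, 0, 0, 0, 0, 0, 0, 0, 0, 0, 0, 0, 0, 1], [0, 0, 0, 0, 0, 0, 0, 0, 0, 0, 0, 0, 2, 0], [0, 0, 0, 0, 0, 0, 0, 0, 0, 0, 0, 1, 0, 0], [0, 0, 0, 0, 0, 0, 0, 0, 0, 0, 2, 0, 0, 0], [0, 0, 0, 0, 0, 0, 0, 0, 0, 1, 0, 0, 0, 0], [0, 0, 0, 0, 0, 0, 0, 0, 1, 0, 0, 0, 0, 0], [0, 0, 0, 0, 0, 0, 0, 1, 0, 0, 0, 0, 0, 0], [0, 0, 0, 0, 0, 0, 1, 0, 0, 0, 0, 0, 0, 0], [0, 0, 0, 0, 0, 2, 0, 0, 0, 0, 0, 0, 0, 0], [0, 0, 0, 0, 1, 0, 0, 0, 0, 0, 0, 0, 0, 0], [0, 0, 0, 2, 0, 0, 0, 0, 0, 0, 0, 0, 0, 0], [0, 0, 1, 0, 0, 0, 0, 0, 0, 0, 0, 0, 0, 0]]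
  | ⟨35, _⟩ => [[0, 0, 0, 1, 0, 1, 0, 0, 2, 2, 1, 1, 2, 2], [0, 0, 0, 1, 0, 0, 0, 0, 2, 0, 0, 0, 1, 1], [0, 2, 1, 0, 0, 0, 0, 1, 1, 0, 0, 0, 0, 1], [0, 2, 0, 1, 0, 0, 0, 0, 2, 0, 0, 0, 2, 2], [2, 1, 2, 0, 1, 0, 1, 2, 1, 1, 0, 1, 1, 1], [2, 1, 0, 0, 0, 1, 0, 0, 0, 2, 2, 2, 1, 0], [2, 2, 1, 0, 1, 0, 2, 1, 1, 1, 1, 0, 1, 1], [0, 2, 1, 0, 0, 0, 0, 2, 1, 0, 0, 0, 1, 0], [0, 2, 1, 0, 0, 0, 0, 1, 2, 0, 0, 0, 0, 0], [2, 1, 2, 0, 1, 0, 1, 1, 1, 2, 0, 0, 1, 0], [2, 1, 0, 0, 0, 2, 0, 0, 0, 1, 1, 0, 2, 2], [1, 1, 2, 0, 2, 0, 1, 1, 2, 1, 2, 2, 0, 0], [0, 2, 0, 2, 0, 0, 0, 0, 1, 0, 0, 0, 1, 0], [0, 1, 2, 0, 0, 0, 0, 1, 1, 0, 0, 0, 2, 2]]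
  | ⟨36, _⟩ => [[1, 2, 1, 2, 1, 0, 1, 2, 2, 2, 1, 1, 2, 2], [0, 1, 1, 0, 0, 0, 0, 1, 2, 0, 0, 0, 1, 1], [0, 0, 2, 0, 0, 0, 0, 1, 1, 0, 0, 0, 0, 1], [0, 1, 1, 1, 0, 0, 0, 2, 2, 0, 0, 0, 2, 2], [0, 2, 0, 2, 2, 0, 1, 0, 1, 1, 0, 1, 1, 1], [1, 1, 2, 2, 1, 1, 2, 1, 0, 2, 2, 2, 1, 0], [2, 0, 1, 2, 2, 2, 0, 2, 1, 1, 1, 0, 1, 1], [0, 2, 2, 2, 0, 0, 0, 0, 1, 0, 0, 0, 1, 0], [0, 2, 0, 1, 0, 0, 0, 1, 2, 0, 0, 0, 0, 0], [2, 1, 1, 1, 0, 1, 1, 2, 1, 2, 0, 0, 1, 0], [2, 0, 1, 0, 1, 1, 1, 2, 0, 1, 1, 0, 2, 2], [0, 1, 2, 2, 2, 1, 0, 1, 2, 1, 2, 2, 0, 0], [0, 2, 1, 1, 0, 0, 0, 1, 1, 0, 0, 0, 1, 0], [0, 0, 2, 1, 0, 0, 0, 0, 1, 0, 0, 0, 2, 2]]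
  | ⟨37, _⟩ => [[1, 1, 0, 2, 0, 2, 1, 0, 0, 1, 1, 0, 0, 1], [0, 1, 0, 2, 0, 0, 0, 1, 1, 0, 0, 0, 1, 0], [0, 1, 1, 2, 0, 0, 0, 1, 0, 0, 0, 0, 2, 1], [0, 0, 0, 1, 0, 0, 0, 2, 1, 0, 0, 0, 1, 1], [1, 0, 1, 2, 1, 2, 1, 2, 2, 0, 2, 1, 1, 1], [0, 2, 0, 0, 0, 1, 2, 1, 2, 1, 1, 1, 2, 2], [1, 1, 1, 2, 2, 1, 0, 0, 2, 2, 2, 0, 0, 0], [0, 1, 2, 1, 0, 0, 0, 0, 2, 0, 0, 0, 2, 0], [0, 2, 2, 1, 0, 0, 0, 2, 1, 0, 0, 0, 2, 2], [2, 2, 2, 1, 2, 1, 2, 2, 0, 1, 2, 2, 2, 2], [2, 2, 0, 0, 0, 2, 1, 2, 0, 0, 1, 2, 2, 2], [1, 2, 1, 2, 2, 1, 0, 2, 0, 0, 0, 1, 2, 2], [0, 2, 0, 2, 0, 0, 0, 1, 0, 0, 0, 0, 1, 2], [0, 1, 2, 1, 0, 0, 0, 0, 0, 0, 0, 0, 0, 1]]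
  | ⟨38, _⟩ => [[0, 0, 0, 1, 2, 1, 1, 0, 1, 1, 1, 1, 1, 1], [0, 0, 2, 1, 0, 0, 0, 1, 1, 0, 0, 0, 1, 1], [0, 2, 2, 0, 0, 0, 0, 0, 0, 0, 0, 0, 2, 1], [0, 2, 2, 1, 0, 0, 0, 0, 1, 0, 0, 0, 2, 0], [2, 1, 1, 1, 2, 0, 0, 0, 1, 0, 2, 1, 1, 2], [2, 0, 0, 2, 2, 1, 0, 0, 2, 1, 2, 0, 1, 2], [1, 2, 2, 0, 1, 1, 2, 0, 0, 1, 2, 1, 0, 1], [0, 1, 1, 1, 0, 0, 0, 2, 1, 0, 0, 0, 2, 1], [0, 0, 1, 0, 0, 0, 0, 1, 2, 0, 0, 0, 0, 1], [0, 1, 2, 1, 1, 0, 1, 1, 1, 2, 0, 1, 2, 1], [2, 1, 1, 0, 0, 2, 0, 2, 2, 0, 1, 0, 0, 2], [0, 0, 2, 0, 2, 0, 1, 1, 2, 1, 0, 1, 0, 2], [0, 2, 0, 2, 0, 0, 0, 0, 0, 0, 0, 0, 1, 0], [0, 0, 2, 0, 0, 0, 0, 1, 1, 0, 0, 0, 0, 1]]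
  | ⟨39, _⟩ => [[1, 2, 1, 2, 2, 1, 1, 1, 1, 2, 0, 2, 2, 2], [0, 1, 2, 1, 0, 0, 0, 1, 2, 0, 0, 0, 0, 2], [0, 0, 1, 2, 0, 0, 0, 2, 0, 0, 0, 0, 1, 1], [0, 2, 0, 1, 0, 0, 0, 2, 2, 0, 0, 0, 1, 2], [0, 1, 0, 0, 1, 2, 2, 1, 2, 0, 1, 1, 2, 1], [2, 0, 1, 2, 0, 1, 2, 0, 1, 2, 1, 2, 0, 2], [2, 1, 0, 1, 0, 0, 1, 2, 1, 2, 1, 0, 1, 2], [0, 2, 0, 0, 0, 0, 0, 1, 2, 0, 0, 0, 1, 0], [0, 2, 0, 1, 0, 0, 0, 2, 0, 0, 0, 0, 2, 1], [2, 0, 2, 1, 0, 1, 2, 2, 1, 0, 2, 1, 2, 2], [1, 1, 0, 1, 1, 2, 1, 0, 2, 1, 1, 2, 2, 1], [0, 2, 2, 1, 2, 0, 2, 2, 0, 2, 0, 1, 2, 0], [0, 1, 1, 2, 0, 0, 0, 1, 1, 0, 0, 0, 1, 2], [0, 0, 2, 0, 0, 0, 0, 2, 2, 0, 0, 0, 0, 1]]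
  | ⟨40, _⟩ => [[1, 0, 0, 0, 0, 0, 0, 0, 0, 2, 1, 2, 2, 1], [0, 1, 0, 0, 0, 0, 0, 0, 2, 0, 0, 0, 1, 2], [0, 1, 2, 1, 0, 0, 0, 1, 2, 0, 0, 0, 1, 1], [0, 2, 0, 1, 0, 0, 0, 2, 1, 0, 0, 0, 0, 1], [1, 2, 0, 0, 2, 1, 1, 2, 1, 2, 1, 1, 1, 2], [2, 0, 0, 0, 0, 1, 2, 1, 1, 1, 0, 1, 0, 2], [1, 1, 0, 0, 0, 0, 2, 0, 1, 1, 1, 2, 1, 0], [0, 1, 0, 0, 0, 0, 0, 2, 1, 0, 0, 0, 1, 2], [0, 0, 0, 0, 0, 0, 0, 0, 2, 0, 0, 0, 2, 1], [0, 0, 0, 0, 0, 0, 0, 0, 0, 2, 2, 1, 1, 0], [0, 0, 0, 0, 0, 0, 0, 0, 0, 0, 1, 1, 2, 2], [0, 0, 0, 0, 0, 0, 0, 0, 0, 0, 0, 2, 2, 1], [0, 0, 0, 0, 0, 0, 0, 0, 0, 0, 0, 0, 1, 1], [0, 0, 0, 0, 0, 0, 0, 0, 0, 0, 0, 0, 0, 2]]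
  | ⟨41, _⟩ => [[1, 1, 2, 1, 0, 2, 0, 0, 0, 0, 0, 1, 0, 2], [0, 1, 0, 2, 0, 0, 0, 0, 0, 0, 0, 0, 0, 1], [0, 2, 2, 2, 0, 0, 0, 0, 0, 0, 0, 0, 0, 1], [0, 0, 2, 0, 0, 0, 0, 1, 0, 0, 0, 0, 2, 0], [2, 0, 2, 0, 2, 2, 0, 0, 0, 0, 0, 1, 0, 0], [0, 1, 1, 0, 2, 0, 1, 0, 0, 0, 2, 0, 0, 2], [0, 0, 0, 0, 0, 1, 0, 2, 0, 1, 0, 0, 1, 0], [0, 0, 0, 1, 0, 0, 0, 0, 1, 0, 0, 0, 0, 0], [0, 0, 1, 0, 0, 0, 0, 0, 0, 0, 0, 0, 1, 0], [0, 1, 1, 0, 1, 0, 0, 0, 0, 0, 1, 0, 0, 2], [1, 0, 1, 0, 1, 1, 0, 1, 0, 1, 0, 2, 2, 0], [0, 1, 1, 0, 2, 1, 1, 0, 0, 0, 2, 2, 0, 2], [0, 1, 1, 1, 0, 0, 0, 0, 1, 0, 0, 0, 0, 2], [0, 0, 2, 1, 0, 0, 0, 1, 0, 0, 0, 0, 2, 2]]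
  | ⟨42, _⟩ => [[0, 0, 1, 0, 1, 2, 0, 1, 2, 0, 1, 2, 0, 2], [0, 0, 1, 2, 0, 0, 0, 0, 0, 0, 0, 0, 1, 2], [0, 1, 1, 0, 0, 0, 0, 1, 1, 0, 0, 0, 0, 1], [0, 0, 1, 1, 0, 0, 0, 1, 2, 0, 0, 0, 2, 2], [1, 0, 1, 1, 1, 0, 1, 1, 1, 1, 0, 1, 1, 1], [0, 0, 1, 2, 1, 1, 1, 1, 2, 2, 2, 2, 1, 2], [2, 1, 2, 2, 0, 1, 1, 2, 2, 1, 1, 0, 2, 2], [0, 2, 0, 1, 0, 0, 0, 1, 1, 0, 0, 0, 1, 0], [0, 2, 1, 1, 0, 0, 0, 0, 0, 0, 0, 0, 1, 1], [2, 2, 2, 0, 1, 1, 0, 0, 0, 0, 1, 1, 0, 2], [0, 0, 2, 2, 1, 1, 2, 1, 2, 1, 2, 2, 1, 1], [0, 2, 0, 2, 1, 2, 1, 2, 2, 1, 2, 1, 2, 0], [0, 0, 1, 1, 0, 0, 0, 2, 1, 0, 0, 0, 2, 2], [0, 0, 1, 2, 0, 0, 0, 1, 1, 0, 0, 0, 2, 1]]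
  | ⟨43, _⟩ => [[0, 1, 1, 2, 1, 0, 1, 2, 0, 2, 1, 2, 2, 1], [0, 0, 1, 0, 0, 0, 0, 1, 2, 0, 0, 0, 1, 2], [0, 2, 1, 0, 0, 0, 0, 2, 2, 0, 0, 0, 1, 1], [0, 0, 1, 1, 0, 0, 0, 2, 1, 0, 0, 0, 0, 1], [2, 1, 0, 1, 1, 0, 2, 0, 1, 2, 1, 1, 1, 2], [0, 2, 2, 2, 1, 1, 2, 1, 1, 1, 0, 1, 0, 2], [0, 1, 2, 1, 1, 1, 0, 1, 1, 1, 1, 2, 1, 0], [0, 0, 1, 1, 0, 0, 0, 0, 1, 0, 0, 0, 1, 2], [0, 1, 0, 2, 0, 0, 0, 2, 2, 0, 0, 0, 2, 1], [1, 0, 2, 2, 0, 2, 2, 1, 0, 2, 2, 1, 1, 0], [1, 2, 1, 0, 1, 1, 1, 2, 0, 0, 1, 1, 2, 2], [2, 1, 1, 1, 1, 2, 0, 2, 0, 0, 0, 2, 2, 1], [0, 1, 1, 1, 0, 0, 0, 1, 0, 0, 0, 0, 1, 1], [0, 2, 1, 2, 0, 0, 0, 0, 0, 0, 0, 0, 0, 2]]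
  | ⟨44, _⟩ => [[0, 0, 1, 2, 2, 1, 1, 1, 0, 0, 1, 0, 1, 0], [0, 0, 2, 1, 0, 0, 0, 1, 0, 0, 0, 0, 1, 0], [0, 2, 2, 1, 0, 0, 0, 1, 1, 0, 0, 0, 0, 2], [0, 2, 0, 1, 0, 0, 0, 2, 0, 0, 0, 0, 2, 0], [2, 2, 0, 0, 2, 1, 1, 2, 1, 1, 0, 2, 0, 2], [2, 1, 1, 2, 0, 1, 2, 0, 0, 0, 2, 0, 0, 0], [1, 2, 0, 2, 0, 0, 2, 1, 1, 1, 0, 1, 0, 2], [0, 1, 0, 0, 0, 0, 0, 2, 1, 0, 0, 0, 0, 1], [0, 1, 0, 2, 0, 0, 0, 1, 2, 0, 0, 0, 0, 1], [1, 1, 1, 2, 0, 2, 1, 1, 1, 2, 0, 1, 0, 1], [2, 1, 0, 1, 1, 2, 1, 0, 0, 0, 1, 0, 0, 0], [1, 2, 1, 2, 1, 0, 1, 1, 2, 1, 0, 1, 0, 2], [0, 2, 1, 2, 0, 0, 0, 1, 0, 0, 0, 0, 1, 0], [0, 1, 1, 0, 0, 0, 0, 1, 1, 0, 0, 0, 0, 1]]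
  | ⟨45, _⟩ => [[2, 0, 0, 0, 0, 0, 0, 0, 0, 0, 0, 1, 0, 2], [0, 2, 0, 0, 0, 0, 0, 0, 0, 0, 0, 0, 0, 1], [0, 0, 0, 0, 0, 0, 0, 0, 0, 0, 0, 0, 0, 1], [0, 0, 0, 0, 0, 0, 0, 0, 0, 0, 0, 0, 2, 0], [0, 0, 0, 0, 0, 0, 0, 0, 0, 0, 0, 1, 0, 0], [0, 0, 0, 0, 0, 0, 0, 0, 0, 0, 2, 0, 0, 2], [0, 0, 0, 0, 0, 0, 0, 0, 0, 1, 0, 0, 1, 0], [0, 0, 0, 0, 0, 0, 0, 0, 1, 0, 0, 0, 0, 0], [0, 0, 0, 0, 0, 0, 0, 1, 0, 0, 0, 0, 1, 0], [0, 0, 0, 0, 0, 0, 1, 0, 0, 0, 1, 0, 0, 2], [0, 0, 0, 0, 0, 2, 0, 0, 0, 1, 0, 2, 2, 0], [2, 0, 0, 0, 1, 0, 0, 0, 0, 0, 2, 2, 0, 2], [0, 0, 0, 2, 0, 0, 0, 0, 1, 0, 0, 0, 0, 2], [0, 2, 1, 0, 0, 0, 0, 0, 0, 0, 0, 0, 2, 2]]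
  | ⟨46, _⟩ => [[2, 1, 0, 0, 2, 2, 1, 2, 0, 0, 1, 2, 2, 2], [0, 2, 2, 2, 0, 0, 0, 1, 0, 0, 0, 0, 1, 2], [0, 2, 2, 2, 0, 0, 0, 2, 1, 0, 0, 0, 2, 1], [0, 1, 1, 2, 0, 0, 0, 2, 0, 0, 0, 0, 0, 2], [2, 2, 0, 2, 2, 2, 2, 1, 0, 1, 2, 1, 1, 0], [1, 1, 1, 0, 1, 2, 2, 0, 1, 0, 0, 2, 0, 1], [1, 1, 2, 2, 2, 1, 0, 2, 0, 1, 0, 1, 2, 2], [0, 1, 2, 1, 0, 0, 0, 0, 1, 0, 0, 0, 0, 1], [0, 0, 1, 0, 0, 0, 0, 1, 0, 0, 0, 0, 2, 0], [0, 2, 1, 1, 1, 0, 1, 0, 2, 0, 2, 0, 0, 2], [2, 1, 1, 2, 1, 0, 0, 1, 0, 1, 0, 2, 1, 2], [2, 1, 0, 2, 1, 1, 1, 0, 0, 0, 1, 1, 0, 1], [0, 2, 1, 0, 0, 0, 0, 0, 1, 0, 0, 0, 0, 2], [0, 2, 1, 1, 0, 0, 0, 1, 0, 0, 0, 0, 1, 1]]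
  | ⟨47, _⟩ => [[2, 0, 2, 1, 1, 2, 2, 2, 0, 1, 1, 2, 1, 0], [0, 2, 1, 2, 0, 0, 0, 2, 1, 0, 0, 0, 1, 2], [0, 2, 2, 1, 0, 0, 0, 1, 1, 0, 0, 0, 0, 2], [0, 2, 0, 1, 0, 0, 0, 2, 0, 0, 0, 0, 2, 0], [2, 2, 0, 0, 2, 1, 1, 2, 1, 1, 0, 2, 0, 2], [2, 2, 2, 1, 0, 1, 2, 2, 2, 0, 2, 0, 0, 1], [1, 0, 0, 1, 0, 0, 2, 2, 1, 1, 0, 1, 1, 2], [0, 1, 0, 0, 0, 0, 0, 2, 1, 0, 0, 0, 0, 1], [0, 2, 0, 1, 0, 0, 0, 2, 2, 0, 0, 0, 1, 1], [2, 1, 1, 2, 0, 1, 2, 0, 0, 2, 1, 1, 0, 2], [1, 0, 0, 1, 2, 1, 2, 1, 0, 0, 1, 2, 2, 0], [1, 2, 1, 2, 1, 1, 0, 2, 0, 0, 0, 2, 1, 1], [0, 1, 2, 1, 0, 0, 0, 2, 0, 0, 0, 0, 1, 2], [0, 1, 1, 1, 0, 0, 0, 0, 0, 0, 0, 0, 0, 2]]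
  | ⟨48, _⟩ => [[2, 2, 0, 1, 0, 1, 1, 0, 1, 2, 1, 1, 0, 0], [0, 2, 0, 1, 0, 0, 0, 1, 2, 0, 0, 0, 1, 1], [0, 1, 2, 2, 0, 0, 0, 0, 2, 0, 0, 0, 2, 2], [0, 1, 0, 1, 0, 0, 0, 1, 1, 0, 0, 0, 1, 2], [1, 2, 1, 1, 2, 2, 0, 2, 1, 2, 2, 2, 2, 0], [1, 1, 0, 0, 0, 1, 1, 2, 0, 1, 1, 2, 0, 2], [0, 0, 2, 2, 2, 2, 2, 2, 2, 0, 1, 2, 2, 2], [0, 0, 2, 2, 0, 0, 0, 2, 0, 0, 0, 0, 1, 2], [0, 1, 2, 2, 0, 0, 0, 0, 1, 0, 0, 0, 0, 1], [1, 0, 1, 1, 2, 2, 0, 0, 0, 1, 0, 1, 1, 1], [0, 1, 0, 0, 0, 2, 2, 1, 2, 0, 0, 2, 1, 2], [0, 1, 1, 1, 1, 1, 1, 2, 0, 1, 1, 1, 2, 0], [0, 0, 0, 2, 0, 0, 0, 2, 0, 0, 0, 0, 0, 2], [0, 0, 1, 1, 0, 0, 0, 1, 1, 0, 0, 0, 1, 1]]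
  | ⟨49, _⟩ => [[1, 1, 1, 0, 1, 1, 0, 1, 2, 1, 0, 0, 1, 1], [0, 1, 1, 1, 0, 0, 0, 0, 1, 0, 0, 0, 0, 0], [0, 2, 2, 2, 0, 0, 0, 2, 1, 0, 0, 0, 2, 1], [0, 1, 1, 2, 0, 0, 0, 2, 0, 0, 0, 0, 0, 2], [2, 2, 0, 2, 2, 2, 2, 1, 0, 1, 2, 1, 1, 0], [1, 2, 2, 1, 1, 2, 2, 1, 0, 0, 0, 2, 1, 0], [1, 0, 1, 0, 2, 1, 0, 0, 0, 1, 0, 1, 2, 0], [0, 1, 2, 1, 0, 0, 0, 0, 1, 0, 0, 0, 0, 1], [0, 2, 0, 1, 0, 0, 0, 2, 0, 0, 0, 0, 2, 1], [2, 2, 1, 2, 0, 1, 2, 1, 0, 0, 2, 1, 1, 0], [1, 1, 1, 1, 1, 2, 1, 1, 0, 1, 1, 2, 2, 0], [0, 2, 2, 1, 2, 0, 2, 2, 0, 2, 0, 1, 2, 0], [0, 1, 1, 2, 0, 0, 0, 1, 1, 0, 0, 0, 1, 2], [0, 0, 2, 0, 0, 0, 0, 2, 2, 0, 0, 0, 0, 1]]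
  | ⟨50, _⟩ => [[0, 0, 2, 0, 2, 0, 1, 2, 0, 1, 0, 0, 0, 1], [0, 0, 2, 0, 0, 0, 0, 1, 1, 0, 0, 0, 0, 0], [0, 1, 2, 2, 0, 0, 0, 0, 2, 0, 0, 0, 2, 2], [0, 1, 0, 1, 0, 0, 0, 1, 1, 0, 0, 0, 1, 2], [1, 2, 1, 1, 2, 2, 0, 2, 1, 2, 2, 2, 2, 0], [1, 0, 1, 1, 0, 1, 1, 2, 1, 1, 1, 2, 1, 0], [0, 2, 2, 1, 2, 2, 2, 1, 1, 0, 1, 2, 1, 0], [0, 0, 2, 2, 0, 0, 0, 2, 0, 0, 0, 0, 1, 2], [0, 0, 2, 1, 0, 0, 0, 2, 0, 0, 0, 0, 2, 2], [0, 1, 2, 2, 2, 1, 2, 1, 1, 0, 2, 2, 2, 0], [2, 0, 1, 2, 0, 2, 1, 2, 1, 1, 2, 2, 2, 0], [2, 1, 1, 2, 2, 1, 0, 2, 1, 2, 1, 2, 1, 0], [0, 2, 0, 2, 0, 0, 0, 1, 1, 0, 0, 0, 2, 2], [0, 2, 2, 1, 0, 0, 0, 0, 2, 0, 0, 0, 1, 2]]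
  | ⟨51, _⟩ => [[0, 0, 2, 1, 2, 1, 2, 2, 0, 2, 1, 1, 1, 0], [0, 0, 2, 1, 0, 0, 0, 2, 2, 0, 0, 0, 1, 1], [0, 0, 1, 0, 0, 0, 0, 1, 1, 0, 0, 0, 0, 2], [0, 2, 0, 1, 0, 0, 0, 0, 0, 0, 0, 0, 2, 0], [0, 0, 2, 0, 1, 0, 1, 2, 1, 1, 0, 2, 0, 2], [2, 1, 1, 0, 0, 1, 0, 1, 1, 0, 2, 0, 0, 2], [0, 2, 1, 1, 1, 0, 2, 1, 1, 1, 0, 1, 2, 2], [0, 0, 1, 0, 0, 0, 0, 2, 1, 0, 0, 0, 0, 1], [0, 2, 1, 1, 0, 0, 0, 1, 2, 0, 0, 0, 2, 1], [2, 1, 1, 0, 1, 1, 1, 0, 0, 2, 2, 1, 0, 2], [2, 0, 1, 1, 0, 2, 2, 1, 0, 0, 1, 1, 2, 0], [1, 2, 2, 2, 1, 1, 0, 1, 0, 0, 0, 2, 2, 1], [0, 2, 0, 2, 0, 0, 0, 2, 0, 0, 0, 0, 1, 1], [0, 1, 1, 1, 0, 0, 0, 0, 0, 0, 0, 0, 0, 2]]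
  | ⟨52, _⟩ => [[2, 1, 1, 2, 1, 1, 0, 0, 1, 2, 2, 1, 0, 0], [0, 2, 1, 1, 0, 0, 0, 0, 2, 0, 0, 0, 2, 1], [0, 1, 1, 2, 0, 0, 0, 0, 1, 0, 0, 0, 2, 1], [0, 2, 1, 0, 0, 0, 0, 2, 0, 0, 0, 0, 0, 2], [1, 2, 1, 0, 1, 2, 0, 0, 0, 1, 2, 1, 1, 0], [2, 1, 1, 1, 1, 0, 2, 0, 2, 0, 0, 2, 2, 2], [0, 1, 2, 0, 0, 1, 0, 2, 0, 1, 0, 1, 2, 1], [0, 0, 0, 1, 0, 0, 0, 0, 1, 0, 0, 0, 0, 1], [0, 2, 1, 0, 0, 0, 0, 1, 0, 0, 0, 0, 2, 2], [2, 2, 2, 1, 1, 0, 1, 0, 2, 0, 2, 2, 1, 2], [1, 1, 2, 0, 1, 0, 0, 2, 0, 1, 2, 2, 0, 2], [1, 1, 0, 2, 1, 1, 1, 0, 1, 2, 1, 2, 1, 0], [0, 1, 1, 0, 0, 0, 0, 0, 1, 0, 0, 0, 2, 2], [0, 1, 1, 1, 0, 0, 0, 1, 2, 0, 0, 0, 1, 2]]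
  | ⟨53, _⟩ => [[2, 2, 2, 2, 0, 0, 2, 1, 2, 0, 2, 2, 0, 2], [0, 2, 0, 0, 0, 0, 0, 2, 0, 0, 0, 0, 2, 2], [0, 2, 1, 2, 0, 0, 0, 1, 2, 0, 0, 0, 2, 2], [0, 2, 1, 0, 0, 0, 0, 0, 1, 0, 0, 0, 1, 2], [2, 2, 0, 1, 1, 2, 1, 0, 1, 2, 2, 2, 2, 0], [2, 1, 0, 2, 1, 0, 0, 0, 2, 1, 1, 2, 2, 1], [1, 0, 0, 2, 1, 0, 1, 0, 0, 0, 1, 2, 0, 1], [0, 1, 1, 0, 0, 0, 0, 1, 0, 0, 0, 0, 1, 2], [0, 2, 1, 2, 0, 0, 0, 0, 2, 0, 0, 0, 1, 0], [2, 2, 0, 1, 1, 2, 0, 0, 1, 2, 1, 0, 2, 1], [2, 2, 0, 1, 1, 2, 2, 0, 2, 2, 1, 2, 2, 2], [0, 2, 0, 2, 1, 0, 2, 0, 2, 2, 0, 2, 1, 2], [0, 2, 1, 2, 0, 0, 0, 2, 2, 0, 0, 0, 1, 2], [0, 0, 1, 0, 0, 0, 0, 2, 2, 0, 0, 0, 0, 2]]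
  | ⟨54, _⟩ => [[2, 0, 1, 1, 2, 2, 1, 1, 0, 2, 1, 1, 1, 0], [0, 2, 2, 2, 0, 0, 0, 1, 2, 0, 0, 0, 1, 1], [0, 1, 2, 2, 0, 0, 0, 1, 1, 0, 0, 0, 0, 2], [0, 2, 0, 1, 0, 0, 0, 1, 0, 0, 0, 0, 2, 0], [1, 1, 0, 0, 2, 2, 1, 2, 1, 1, 0, 2, 0, 2], [2, 2, 1, 1, 0, 1, 1, 1, 1, 0, 2, 0, 0, 2], [2, 0, 0, 2, 0, 0, 2, 2, 1, 1, 0, 1, 2, 2], [0, 2, 0, 0, 0, 0, 0, 2, 1, 0, 0, 0, 0, 1], [0, 1, 0, 2, 0, 0, 0, 2, 2, 0, 0, 0, 2, 1], [1, 2, 1, 1, 0, 2, 2, 0, 0, 2, 2, 1, 0, 2], [1, 0, 0, 1, 1, 1, 1, 2, 0, 0, 1, 1, 2, 0], [2, 1, 1, 1, 1, 2, 0, 2, 0, 0, 0, 2, 2, 1], [0, 1, 1, 1, 0, 0, 0, 1, 0, 0, 0, 0, 1, 1], [0, 2, 1, 2, 0, 0, 0, 0, 0, 0, 0, 0, 0, 2]]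
  | ⟨55, _⟩ => [[1, 1, 0, 2, 0, 2, 1, 0, 1, 2, 2, 1, 0, 0], [0, 1, 0, 2, 0, 0, 0, 1, 2, 0, 0, 0, 2, 1], [0, 0, 1, 2, 0, 0, 0, 1, 1, 0, 0, 0, 2, 1], [0, 0, 0, 1, 0, 0, 0, 2, 0, 0, 0, 0, 0, 2], [0, 2, 1, 2, 1, 2, 1, 2, 0, 1, 2, 1, 1, 0], [0, 2, 0, 0, 0, 1, 2, 1, 2, 0, 0, 2, 2, 2], [2, 0, 1, 2, 2, 1, 0, 0, 0, 1, 0, 1, 2, 1], [0, 2, 2, 1, 0, 0, 0, 0, 1, 0, 0, 0, 0, 1], [0, 0, 2, 1, 0, 0, 0, 2, 0, 0, 0, 0, 2, 2], [0, 0, 2, 1, 2, 1, 2, 2, 2, 0, 2, 2, 1, 2], [2, 2, 0, 0, 0, 2, 1, 2, 0, 1, 2, 2, 0, 2], [2, 1, 1, 2, 2, 1, 0, 2, 1, 2, 1, 2, 1, 0], [0, 2, 0, 2, 0, 0, 0, 1, 1, 0, 0, 0, 2, 2], [0, 2, 2, 1, 0, 0, 0, 0, 2, 0, 0, 0, 1, 2]]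
  | ⟨56, _⟩ => [[0, 0, 1, 0, 1, 1, 0, 1, 2, 0, 2, 2, 0, 2], [0, 0, 1, 1, 0, 0, 0, 0, 0, 0, 0, 0, 2, 2], [0, 0, 2, 2, 0, 0, 0, 2, 2, 0, 0, 0, 2, 2], [0, 0, 1, 2, 0, 0, 0, 2, 1, 0, 0, 0, 1, 2], [0, 2, 0, 2, 2, 2, 2, 1, 1, 2, 2, 2, 2, 0], [0, 0, 2, 1, 1, 2, 2, 1, 2, 1, 1, 2, 2, 1], [2, 2, 1, 0, 2, 1, 0, 0, 0, 0, 1, 2, 0, 1], [0, 2, 2, 1, 0, 0, 0, 0, 0, 0, 0, 0, 1, 2], [0, 2, 0, 1, 0, 0, 0, 2, 2, 0, 0, 0, 1, 0], [2, 1, 1, 2, 0, 1, 2, 1, 1, 2, 1, 0, 2, 1], [0, 0, 1, 1, 1, 2, 1, 1, 2, 2, 1, 2, 2, 2], [1, 0, 2, 1, 2, 0, 2, 2, 2, 2, 0, 2, 1, 2], [0, 0, 1, 2, 0, 0, 0, 1, 2, 0, 0, 0, 1, 2], [0, 1, 2, 0, 0, 0, 0, 2, 2, 0, 0, 0, 0, 2]]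
  | ⟨57, _⟩ => [[1, 1, 1, 2, 1, 2, 1, 1, 2, 0, 2, 2, 0, 2], [0, 1, 1, 2, 0, 0, 0, 1, 0, 0, 0, 0, 2, 2], [0, 1, 2, 2, 0, 0, 0, 0, 2, 0, 0, 0, 2, 2], [0, 1, 0, 1, 0, 0, 0, 1, 1, 0, 0, 0, 1, 2], [1, 2, 1, 1, 2, 2, 0, 2, 1, 2, 2, 2, 2, 0], [1, 2, 2, 2, 0, 1, 1, 2, 2, 1, 1, 2, 2, 1], [0, 1, 2, 0, 2, 2, 2, 0, 0, 0, 1, 2, 0, 1], [0, 0, 2, 2, 0, 0, 0, 2, 0, 0, 0, 0, 1, 2], [0, 2, 2, 0, 0, 0, 0, 1, 2, 0, 0, 0, 1, 0], [2, 0, 2, 2, 2, 0, 1, 2, 1, 2, 1, 0, 2, 1], [1, 1, 2, 0, 0, 2, 0, 2, 2, 2, 1, 2, 2, 2], [2, 1, 1, 0, 2, 0, 2, 1, 2, 2, 0, 2, 1, 2], [0, 1, 0, 2, 0, 0, 0, 0, 2, 0, 0, 0, 1, 2], [0, 2, 2, 0, 0, 0, 0, 2, 2, 0, 0, 0, 0, 2]]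
  | ⟨58, _⟩ => [[1, 0, 1, 0, 0, 1, 1, 0, 0, 0, 0, 0, 0, 0], [0, 1, 0, 1, 0, 0, 0, 1, 0, 0, 0, 0, 0, 0], [0, 0, 2, 0, 0, 0, 0, 0, 0, 0, 0, 0, 0, 0], [0, 0, 2, 1, 0, 0, 0, 0, 0, 0, 0, 0, 0, 0], [0, 0, 1, 1, 2, 0, 0, 0, 0, 0, 0, 0, 0, 0], [0, 0, 2, 2, 2, 1, 0, 0, 0, 0, 0, 0, 0, 0], [0, 0, 1, 1, 1, 1, 2, 0, 0, 0, 0, 0, 0, 0], [0, 0, 1, 1, 0, 0, 0, 2, 0, 0, 0, 0, 0, 0], [0, 2, 0, 1, 0, 0, 0, 1, 2, 0, 0, 0, 0, 0], [2, 2, 0, 0, 0, 1, 1, 1, 0, 2, 0, 0, 0, 0], [2, 0, 2, 2, 1, 1, 1, 2, 2, 1, 1, 0, 0, 0], [0, 1, 2, 2, 2, 1, 0, 1, 2, 1, 2, 2, 0, 0], [0, 2, 1, 1, 0, 0, 0, 1, 1, 0, 0, 0, 1, 0], [0, 0, 2, 1, 0, 0, 0, 0, 1, 0, 0, 0, 2, 2]]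
  | ⟨59, _⟩ => [[1, 0, 0, 1, 2, 1, 1, 0, 0, 0, 0, 0, 0, 0], [0, 1, 2, 1, 0, 0, 0, 1, 0, 0, 0, 0, 0, 0], [0, 0, 2, 0, 0, 0, 0, 0, 0, 0, 0, 0, 0, 0], [0, 0, 2, 1, 0, 0, 0, 0, 0, 0, 0, 0, 0, 0], [0, 0, 1, 1, 2, 0, 0, 0, 0, 0, 0, 0, 0, 0], [0, 0, 0, 2, 2, 1, 0, 0, 0, 0, 0, 0, 0, 0], [0, 0, 2, 0, 1, 1, 2, 0, 0, 0, 0, 0, 0, 0], [0, 0, 1, 1, 0, 0, 0, 2, 0, 0, 0, 0, 0, 0], [0, 2, 1, 0, 0, 0, 0, 1, 2, 0, 0, 0, 0, 0], [2, 2, 2, 1, 1, 0, 1, 1, 0, 2, 0, 0, 0, 0], [2, 0, 1, 0, 0, 2, 0, 2, 2, 1, 1, 0, 0, 0], [1, 1, 2, 0, 2, 0, 1, 1, 2, 1, 2, 2, 0, 0], [0, 2, 0, 2, 0, 0, 0, 0, 1, 0, 0, 0, 1, 0], [0, 1, 2, 0, 0, 0, 0, 1, 1, 0, 0, 0, 2, 2]]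
  | ⟨60, _⟩ => [[1, 0, 0, 0, 0, 0, 0, 0, 0, 2, 1, 1, 1, 0], [0, 1, 0, 0, 0, 0, 0, 0, 2, 0, 0, 0, 1, 1], [0, 2, 2, 1, 0, 0, 0, 1, 1, 0, 0, 0, 0, 2], [0, 2, 0, 1, 0, 0, 0, 2, 0, 0, 0, 0, 2, 0], [2, 2, 0, 0, 2, 1, 1, 2, 1, 1, 0, 2, 0, 2], [2, 0, 0, 0, 0, 1, 2, 1, 1, 0, 2, 0, 0, 2], [1, 1, 0, 0, 0, 0, 2, 0, 1, 1, 0, 1, 2, 2], [0, 1, 0, 0, 0, 0, 0, 2, 1, 0, 0, 0, 0, 1], [0, 0, 0, 0, 0, 0, 0, 0, 2, 0, 0, 0, 2, 1], [0, 0, 0, 0, 0, 0, 0, 0, 0, 2, 2, 1, 0, 2], [0, 0, 0, 0, 0, 0, 0, 0, 0, 0, 1, 1, 2, 0], [0, 0, 0, 0, 0, 0, 0, 0, 0, 0, 0, 2, 2, 1], [0, 0, 0, 0, 0, 0, 0, 0, 0, 0, 0, 0, 1, 1], [0, 0, 0, 0, 0, 0, 0, 0, 0, 0, 0, 0, 0, 2]]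
  | ⟨61, _⟩ => [[0, 1, 2, 0, 0, 0, 2, 0, 1, 2, 2, 1, 0, 0], [0, 0, 0, 0, 0, 0, 0, 2, 2, 0, 0, 0, 2, 1], [0, 2, 2, 2, 0, 0, 0, 2, 1, 0, 0, 0, 2, 1], [0, 1, 1, 2, 0, 0, 0, 2, 0, 0, 0, 0, 0, 2], [2, 2, 0, 2, 2, 2, 2, 1, 0, 1, 2, 1, 1, 0], [1, 0, 0, 2, 1, 2, 2, 2, 2, 0, 0, 2, 2, 2], [1, 2, 0, 1, 2, 1, 0, 1, 0, 1, 0, 1, 2, 1], [0, 1, 2, 1, 0, 0, 0, 0, 1, 0, 0, 0, 0, 1], [0, 1, 2, 2, 0, 0, 0, 0, 0, 0, 0, 0, 2, 2], [1, 1, 0, 2, 2, 2, 0, 1, 2, 0, 2, 2, 1, 2], [0, 0, 0, 1, 1, 1, 2, 2, 0, 1, 2, 2, 0, 2], [0, 1, 0, 1, 2, 1, 2, 1, 1, 2, 1, 2, 1, 0], [0, 0, 1, 1, 0, 0, 0, 2, 1, 0, 0, 0, 2, 2], [0, 0, 2, 1, 0, 0, 0, 2, 2, 0, 0, 0, 1, 2]]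
  | ⟨62, _⟩ => [[1, 0, 2, 2, 1, 1, 1, 0, 0, 0, 0, 0, 0, 0], [0, 1, 1, 1, 0, 0, 0, 1, 0, 0, 0, 0, 0, 0], [0, 0, 2, 0, 0, 0, 0, 0, 0, 0, 0, 0, 0, 0], [0, 0, 2, 1, 0, 0, 0, 0, 0, 0, 0, 0, 0, 0], [0, 0, 1, 1, 2, 0, 0, 0, 0, 0, 0, 0, 0, 0], [0, 0, 1, 2, 2, 1, 0, 0, 0, 0, 0, 0, 0, 0], [0, 0, 0, 2, 1, 1, 2, 0, 0, 0, 0, 0, 0, 0], [0, 0, 1, 1, 0, 0, 0, 2, 0, 0, 0, 0, 0, 0], [0, 2, 2, 2, 0, 0, 0, 1, 2, 0, 0, 0, 0, 0], [2, 2, 0, 2, 2, 2, 1, 1, 0, 2, 0, 0, 0, 0], [2, 0, 1, 0, 2, 0, 2, 2, 2, 1, 1, 0, 0, 0], [2, 1, 2, 2, 1, 2, 2, 1, 2, 1, 2, 2, 0, 0], [0, 2, 2, 0, 0, 0, 0, 2, 1, 0, 0, 0, 1, 0], [0, 2, 1, 2, 0, 0, 0, 2, 1, 0, 0, 0, 2, 2]]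
  | ⟨n+63, h⟩ => absurd h (by omega)
def T14_ch : Fin 8 → Fin 63 → List (List ℕ)
  | ⟨0, _⟩ => T14_c0
  | ⟨1, _⟩ => T14_c1
  | ⟨2, _⟩ => T14_c2
  | ⟨3, _⟩ => T14_c3
  | ⟨4, _⟩ => T14_c4
  | ⟨5, _⟩ => T14_c5
  | ⟨6, _⟩ => T14_c6
  | ⟨7, _⟩ => T14_c7
  | ⟨n+8, h⟩ => absurd h (by omega)
def T14 (i : Idx) : List (List ℕ) := T14_ch i.1 i.2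

abbrev LX : List (List ℕ) := T14 (0, 1)
abbrev LY : List (List ℕ) := T14 (0, 2)
abbrev LYY : List (List ℕ) := T14 (0, 5)

abbrev chk14 (A C B : List (List ℕ)) : Bool :=
  chkM 64 3 (D.rank + D.nroots) (D.rank + D.nroots) A C (packM 64 (D.rank + D.nroots) 3 B)
theorem chk14_sound (A B C : List (List ℕ)) (h : chk14 A C B = true) : TM A * TM B = TM C :=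
  chkM_sound 64 D.rank D.nroots 3 (by decide) A B C h
set_option maxRecDepth 100000 in
theorem edge14_x_c0 : ∀ b : Fin 63, chk14 (T14_c0 b) (T14 (nx_x (0, b))) LX = true := by decide +kernel
set_option maxRecDepth 100000 in
theorem edge14_x_c1 : ∀ b : Fin 63, chk14 (T14_c1 b) (T14 (nx_x (1, b))) LX = true := by decide +kernel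
set_option maxRecDepth 100000 in
theorem edge14_x_c2 : ∀ b : Fin 63, chk14 (T14_c2 b) (T14 (nx_x (2, b))) LX = true := by decide +kernel
set_option maxRecDepth 100000 in
theorem edge14_x_c3 : ∀ b : Fin 63, chk14 (T14_c3 b) (T14 (nx_x (3, b))) LX = true := by decide +kernel
set_option maxRecDepth 100000 in
theorem edge14_x_c4 : ∀ b : Fin 63, chk14 (T14_c4 b) (T14 (nx_x (4, b))) LX = true := by decide +kernel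
set_option maxRecDepth 100000 in
theorem edge14_x_c5 : ∀ b : Fin 63, chk14 (T14_c5 b) (T14 (nx_x (5, b))) LX = true := by decide +kernel
set_option maxRecDepth 100000 in
theorem edge14_x_c6 : ∀ b : Fin 63, chk14 (T14_c6 b) (T14 (nx_x (6, b))) LX = true := by decide +kernel
set_option maxRecDepth 100000 in
theorem edge14_x_c7 : ∀ b : Fin 63, chk14 (T14_c7 b) (T14 (nx_x (7, b))) LX = true := by decide +kernel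
theorem edge14_x_ch : ∀ (a : Fin 8) (b : Fin 63), chk14 (T14_ch a b) (T14 (nx_x (a, b))) LX = true
  | ⟨0, _⟩ => edge14_x_c0
  | ⟨1, _⟩ => edge14_x_c1
  | ⟨2, _⟩ => edge14_x_c2
  | ⟨3, _⟩ => edge14_x_c3
  | ⟨4, _⟩ => edge14_x_c4
  | ⟨5, _⟩ => edge14_x_c5
  | ⟨6, _⟩ => edge14_x_c6
  | ⟨7, _⟩ => edge14_x_c7
  | ⟨n+8, h⟩ => absurd h (by omega)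
theorem edge14_x (i : Idx) : TM (T14 i) * TM LX = TM (T14 (nx_x i)) :=
  chk14_sound _ _ _ (edge14_x_ch i.1 i.2)
set_option maxRecDepth 100000 in
theorem edge14_y_c0 : ∀ b : Fin 63, chk14 (T14_c0 b) (T14 (nx_y (0, b))) LY = true := by decide +kernel
set_option maxRecDepth 100000 in
theorem edge14_y_c1 : ∀ b : Fin 63, chk14 (T14_c1 b) (T14 (nx_y (1, b))) LY = true := by decide +kernel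
set_option maxRecDepth 100000 in
theorem edge14_y_c2 : ∀ b : Fin 63, chk14 (T14_c2 b) (T14 (nx_y (2, b))) LY = true := by decide +kernel
set_option maxRecDepth 100000 in
theorem edge14_y_c3 : ∀ b : Fin 63, chk14 (T14_c3 b) (T14 (nx_y (3, b))) LY = true := by decide +kernel
set_option maxRecDepth 100000 in
theorem edge14_y_c4 : ∀ b : Fin 63, chk14 (T14_c4 b) (T14 (nx_y (4, b))) LY = true := by decide +kernel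
set_option maxRecDepth 100000 in
theorem edge14_y_c5 : ∀ b : Fin 63, chk14 (T14_c5 b) (T14 (nx_y (5, b))) LY = true := by decide +kernel
set_option maxRecDepth 100000 in
theorem edge14_y_c6 : ∀ b : Fin 63, chk14 (T14_c6 b) (T14 (nx_y (6, b))) LY = true := by decide +kernel
set_option maxRecDepth 100000 in
theorem edge14_y_c7 : ∀ b : Fin 63, chk14 (T14_c7 b) (T14 (nx_y (7, b))) LY = true := by decide +kernel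
theorem edge14_y_ch : ∀ (a : Fin 8) (b : Fin 63), chk14 (T14_ch a b) (T14 (nx_y (a, b))) LY = true
  | ⟨0, _⟩ => edge14_y_c0
  | ⟨1, _⟩ => edge14_y_c1
  | ⟨2, _⟩ => edge14_y_c2
  | ⟨3, _⟩ => edge14_y_c3
  | ⟨4, _⟩ => edge14_y_c4
  | ⟨5, _⟩ => edge14_y_c5
  | ⟨6, _⟩ => edge14_y_c6
  | ⟨7, _⟩ => edge14_y_c7
  | ⟨n+8, h⟩ => absurd h (by omega)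
theorem edge14_y (i : Idx) : TM (T14 i) * TM LY = TM (T14 (nx_y i)) :=
  chk14_sound _ _ _ (edge14_y_ch i.1 i.2)

theorem T14_zero : T14 (0, 0) = id14 := by decide +kernel

theorem TM_T0 : TM (T14 (0, 0)) = 1 := by rw [T14_zero]; exact TM_one

set_option maxRecDepth 100000 in
theorem kerL : ∀ i : Idx, normL (D.rank + D.nroots) 3 (T14 i) = normL (D.rank + D.nroots) 3 id14 →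
    i = (0, 0) := by decide +kernel

theorem ker14 (i : Idx) (h : TM (T14 i) = 1) : i = (0, 0) :=
  kerL i (normL_eq_of_toMat_eq _ _ _ _ _ (h.trans TM_one.symm))

end Cfsg.Agent.Lib.Helper56.Ree3Tab
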