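import Mathlib
import Cfsg.Agent.Lib.Helper42.ReeDegStmt

/-!
# S2343 piece EIG: a common eigenvector of an abelian subgroup, nontrivial at `z`
-/

set_option autoImplicit false

namespace Cfsg.Agent.Lib.Helper56.ReeDegEIG

open Cfsg.Agent.Lib.Helper42.ReeDegStmt

universe u

/-- finite induction: a nonzero invariant subspace on which finitely many members of a
commuting family act as scalars -/
theorem common_aux {k : ℕ} {ι : Type*} (f : ι → Module.End ℂ (Fin k → ℂ))
    (hcomm : ∀ i j, Commute (f i) (f j)) (S : Finset ι) :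
    ∀ W : Submodule ℂ (Fin k → ℂ), W ≠ ⊥ → (∀ i, ∀ w ∈ W, f i w ∈ W) →
      ∃ W' : Submodule ℂ (Fin k → ℂ), W' ≤ W ∧ W' ≠ ⊥ ∧ (∀ i, ∀ w ∈ W', f i w ∈ W') ∧
        ∀ s ∈ S, ∃ c : ℂ, ∀ w ∈ W', f s w = c • w := by
  classical
  induction S using Finset.induction_on with
  | empty => intro W hW hinv; exact ⟨W, le_rfl, hW, hinv, by simp⟩
  | insert s S hs ih =>
    intro W hW hinv
    obtain ⟨W', hle, hne, hinv', hsc⟩ := ih W hW hinv
    have hmaps : ∀ w ∈ W', f s w ∈ W' := hinv' s
    let g : Module.End ℂ W' := (f s).restrict hmaps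
    have : Nontrivial W' := Submodule.nontrivial_iff_ne_bot.mpr hne
    obtain ⟨c, hc⟩ := Module.End.exists_eigenvalue g
    obtain ⟨v, hv⟩ := hc.exists_hasEigenvector
    have hker : ∀ w : Fin k → ℂ, w ∈ LinearMap.ker (f s - c • LinearMap.id) ↔ f s w = c • w := by
      intro w
      simp [LinearMap.mem_ker, sub_eq_zero]
    refine ⟨W' ⊓ LinearMap.ker (f s - c • LinearMap.id), ?_, ?_, ?_, ?_⟩
    · exact inf_le_left.trans hle
    · intro hbot
      have hvmem : (v : Fin k → ℂ) ∈ W' ⊓ LinearMap.ker (f s - c • LinearMap.id) := by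
        refine Submodule.mem_inf.mpr ⟨v.2, (hker _).mpr ?_⟩
        have h1 := hv.apply_eq_smul
        have h2 := congrArg Subtype.val h1
        simpa [g] using h2
      rw [hbot] at hvmem
      have h0 : (v : Fin k → ℂ) = 0 := by simpa using hvmem
      exact hv.2 (Subtype.ext h0)
    · intro i w hw
      have hw1 := (Submodule.mem_inf.mp hw).1
      have hw2 := (Submodule.mem_inf.mp hw).2
      refine Submodule.mem_inf.mpr ⟨hinv' i w hw1, (hker _).mpr ?_⟩
      have hk : f s w = c • w := (hker w).mp hw2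
      have hcm : f s (f i w) = f i (f s w) := by
        have h1 := (hcomm s i).eq
        exact congrArg (fun T : Module.End ℂ (Fin k → ℂ) => T w) h1
      rw [hcm, hk, map_smul]
    · intro s' hs'
      rcases Finset.mem_insert.mp hs' with rfl | hs'
      · exact ⟨c, fun w hw => (hker w).mp (Submodule.mem_inf.mp hw).2⟩
      · obtain ⟨c', hc'⟩ := hsc s' hs'
        exact ⟨c', fun w hw => hc' w (Submodule.mem_inf.mp hw).1⟩

theorem main : EigP.{u} := by
  intro G _ _ A hA k ρ z hz hρz
  classical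
  let f : A → Module.End ℂ (Fin k → ℂ) := fun a => ρ (a : G)
  have hcomm : ∀ i j, Commute (f i) (f j) := by
    intro i j
    show ρ (i : G) * ρ (j : G) = ρ (j : G) * ρ (i : G)
    rw [← map_mul, ← map_mul, hA i i.2 j j.2]
  let W : Submodule ℂ (Fin k → ℂ) := LinearMap.range (ρ z - 1)
  have hW : W ≠ ⊥ := by
    intro h
    apply hρz
    have h0 : ρ z - 1 = 0 := LinearMap.range_eq_bot.mp h
    exact sub_eq_zero.mp h0
  have hinv : ∀ i, ∀ w ∈ W, f i w ∈ W := by
    rintro i w ⟨v, rfl⟩
    refine ⟨f i v, ?_⟩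
    have hc := (hcomm ⟨z, hz⟩ i).eq
    have h1 : ρ z (ρ (i : G) v) = ρ (i : G) (ρ z v) :=
      congrArg (fun T : Module.End ℂ (Fin k → ℂ) => T v) hc
    simp [f, LinearMap.sub_apply, h1]
  haveI : Fintype A := Fintype.ofFinite A
  obtain ⟨W', hle, hne, hinv', hsc⟩ := common_aux f hcomm Finset.univ W hW hinv
  obtain ⟨w, hwW, hw0⟩ := Submodule.exists_mem_ne_zero_of_ne_bot hne
  have hsc' : ∀ a : A, ∃ c : ℂ, f a w = c • w := fun a => by
    obtain ⟨c, hc⟩ := hsc a (Finset.mem_univ a)
    exact ⟨c, hc w hwW⟩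
  choose c hc using hsc'
  refine ⟨fun g => if h : g ∈ A then c ⟨g, h⟩ else 0, w, hw0, ?_, ?_⟩
  · intro a ha
    simp only [dif_pos ha]
    exact hc ⟨a, ha⟩
  · simp only [dif_pos hz]
    intro h1
    have hzw : ρ z w = w := by
      have h2 := hc ⟨z, hz⟩
      rw [h1, one_smul] at h2
      exact h2
    obtain ⟨v, hv⟩ := hle hwW
    have hzv : ρ z v = v + w := by
      have h3 : ρ z v - v = w := by simpa [LinearMap.sub_apply] using hv
      rw [← h3]; abel
    have hT : ∀ j : ℕ, (ρ z ^ j) v = v + (j : ℂ) • w := by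
      intro j
      induction j with
      | zero => simp
      | succ j ih =>
        rw [pow_succ', Module.End.mul_apply, ih, map_add, map_smul, hzw, hzv]
        push_cast
        module
    have hn : ρ z ^ (orderOf z) = 1 := by
      rw [← map_pow, pow_orderOf_eq_one, map_one]
    have hpos : 0 < orderOf z := orderOf_pos z
    have h4 := hT (orderOf z)
    rw [hn] at h4
    have h5 : ((orderOf z : ℕ) : ℂ) • w = 0 := by
      have h6 : v = v + ((orderOf z : ℕ) : ℂ) • w := by simpa using h4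
      have h7 : v + ((orderOf z : ℕ) : ℂ) • w = v + 0 := by rw [add_zero]; exact h6.symm
      exact add_left_cancel h7
    rcases smul_eq_zero.mp h5 with h | h
    · exact (Nat.pos_iff_ne_zero.mp hpos) (by exact_mod_cast h)
    · exact hw0 h

end Cfsg.Agent.Lib.Helper56.ReeDegEIG
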