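import Mathlib
import Cfsg.Agent.Lib.Helper39.TLStmt

/-!
# S4404 / CASE2 (call by helper39), second seat

Assembly of Case 2 from `Hall`, `Frob`, `PW5`, `PW7`, `Fin2`.
-/

set_option autoImplicit false

namespace Cfsg.Agent.Lib.Helper56.TLCASE2

open Cfsg Cfsg.Agent.Lib.Helper39.TLStmt

universe u

theorem isPGroup_of_elemAb {S : Type u} [Group S] {p : ℕ} {E : Subgroup S}
    (hE : IsElementaryAbelian p E) : IsPGroup p ↥E := by
  intro g
  refine ⟨1, ?_⟩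
  apply Subtype.ext
  rw [pow_one]
  have h1 := hE.2 g.1 g.2
  simpa using h1

theorem elemAb_conj {S : Type u} [Group S] {p : ℕ} {E : Subgroup S}
    (hE : IsElementaryAbelian p E) (g : S) :
    IsElementaryAbelian p (E.map (MulAut.conj g).toMonoidHom) := by
  refine ⟨⟨⟨?_⟩⟩, ?_⟩
  · rintro ⟨_, a, ha, rfl⟩ ⟨_, b, hb, rfl⟩
    apply Subtype.ext
    have hcomm : a * b = b * a := by
      have h1 := hE.1.is_comm.comm ⟨a, ha⟩ ⟨b, hb⟩
      exact congrArg Subtype.val h1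
    show (MulAut.conj g).toMonoidHom a * (MulAut.conj g).toMonoidHom b
      = (MulAut.conj g).toMonoidHom b * (MulAut.conj g).toMonoidHom a
    rw [← map_mul, ← map_mul, hcomm]
  · rintro _ ⟨a, ha, rfl⟩
    rw [← map_pow, hE.2 a ha, map_one]

theorem main (hHall : Hall.{u}) (hFrob : Frob.{u}) (hPW5 : PW5.{u}) (hPW7 : PW7.{u})
    (hFin2 : Cfsg.Agent.Lib.Helper39.TLStmt.Fin2.{u}) : Case2.{u} := by
  intro S _ _ _ M _ hM p hp hp2 hp3 E Q hE hEc hQ hrank x W hxQ hrefl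
  obtain ⟨T, hT, hQT, g, hgE⟩ := hHall S p hp Q E hQ (isPGroup_of_elemAb hE)
  obtain ⟨Y, hYT, hYp, hYn, hYmax⟩ := hFrob S p hp hp2 hp3 hrank T hT
  have hE' : IsElementaryAbelian p (E.map (MulAut.conj g).toMonoidHom) := elemAb_conj hE g
  have hE'Y : E.map (MulAut.conj g).toMonoidHom ≤ Y := hYmax _ hgE (isPGroup_of_elemAb hE')
  have hxY : ∀ y ∈ Y, x * y * x⁻¹ ∈ Y := fun y hy => hYn x (hQT hxQ) y hy
  have hidx : Nat.card ↥Y ≤ 7 * Nat.card ↥(Y ⊓ Subgroup.centralizer (W : Set S)) := by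
    by_cases h7 : p = 7
    · subst h7
      exact hPW7 S M hM Y Q hYp hQ x W hxQ hrefl hxY
    · have hle := hPW5 S M hM p hp hp2 hp3 h7 Y Q hYp hQ x W hxQ hrefl hxY
      rw [inf_eq_left.mpr hle]
      omega
  have hcard : Nat.card ↥(E.map (MulAut.conj g).toMonoidHom) = p ^ 3 := by
    rw [Subgroup.card_map_of_injective (MulAut.conj g).injective]
    exact hEc
  exact ⟨_, hE', hcard, hFin2 S p hp hp2 hp3 Y _ _ hYp hE'Y hE' hcard hidx⟩

end Cfsg.Agent.Lib.Helper56.TLCASE2
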