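import Mathlib
import Cfsg.Agent.Lib.Helper56.TPStmt

/-!
# S3557: assembly of the pieces of `TPStmt`
-/

set_option autoImplicit false

namespace Cfsg.Agent.Lib.Helper56.TPFinal

open Cfsg.Agent.Lib.Helper56.TPStmt

universe u v

/-- pointwise stabilizer of `S` inside `P` -/
def ptStab {G : Type u} {Ω : Type v} [Group G] [MulAction G Ω] (P : Subgroup G) (S : Set Ω) :
    Subgroup G where
  carrier := {h | h ∈ P ∧ ∀ s ∈ S, h • s = s}
  mul_mem' := by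
    rintro a b ⟨ha, ha'⟩ ⟨hb, hb'⟩
    exact ⟨P.mul_mem ha hb, fun s hs => by rw [mul_smul, hb' s hs, ha' s hs]⟩
  one_mem' := ⟨P.one_mem, fun s _ => one_smul _ s⟩
  inv_mem' := by
    rintro a ⟨ha, ha'⟩
    exact ⟨P.inv_mem ha, fun s hs => by rw [inv_smul_eq_iff, ha' s hs]⟩

theorem mem_ptStab {G : Type u} {Ω : Type v} [Group G] [MulAction G Ω] (P : Subgroup G)
    (S : Set Ω) (h : G) : h ∈ ptStab P S ↔ h ∈ P ∧ ∀ s ∈ S, h • s = s := Iff.rfl

theorem final (hSO : SylOrb.{u, v}) (hTO : TwoOrb.{u, v}) (hC : Cent.{u})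
    (hGl : Glue.{u, v}) (hLI : LIdx.{u, v}) (hLN : LNormal.{u}) (hLM : LMem.{u, v})
    (hRC : RelCent.{u}) (hKN : KNe.{u, v}) (hF : Fpf.{u, v}) (hO : OrdP.{u, v})
    {G : Type u} {Ω : Type v} [Group G] [Finite G] [MulAction G Ω] [FaithfulSMul G Ω] [Finite Ω]
    (htrans : MulAction.IsPretransitive G Ω) (p : ℕ) (hp : p.Prime)
    (hcard : Nat.card Ω = 2 * p ^ 2)
    (hcl : ∀ σ : Equiv.Perm Ω, (∀ a b : Ω, ∃ g : G, σ a = g • a ∧ σ b = g • b) →
      ∃ g : G, ∀ a : Ω, σ a = g • a) :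
    ∃ g : G, (orderOf g).Prime ∧ ∀ ω : Ω, g • ω ≠ ω := by
  classical
  haveI : Fact p.Prime := ⟨hp⟩
  obtain ⟨P⟩ : Nonempty (Sylow p G) := inferInstance
  have hcard0 : Nat.card Ω ≠ 0 := by
    rw [hcard]
    have := hp.pos
    positivity
  have horb0 := hSO G Ω htrans p P
  have hfac : 2 ≤ (Nat.card Ω).factorization p := by
    apply (hp.pow_dvd_iff_le_factorization hcard0).mp
    rw [hcard]
    exact Dvd.intro_left 2 rfl
  have horb : ∀ a : Ω, p ^ 2 ∣ Nat.card (MulAction.orbit (↥(P : Subgroup G)) a) := fun a =>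
    (pow_dvd_pow p hfac).trans (horb0 a)
  have hPp : IsPGroup p (↥(P : Subgroup G)) := P.isPGroup'
  obtain ⟨ω₁⟩ : Nonempty Ω := (Nat.card_pos_iff.mp (Nat.pos_of_ne_zero hcard0)).1
  have hP1 : (P : Subgroup G) ≠ ⊥ := by
    apply Sylow.ne_bot_of_dvd_card
    have h1 : Nat.card Ω ∣ Nat.card G := by
      rw [← MulAction.index_stabilizer_of_transitive G ω₁]
      exact Subgroup.index_dvd_card _
    refine dvd_trans ?_ h1
    rw [hcard]
    exact Dvd.intro_left (2 * p) (by ring)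
  obtain ⟨z, hzP, hzord, hzc⟩ := hC G p (P : Subgroup G) hPp hP1
  by_cases hfix : ∃ ω : Ω, z • ω = ω
  swap
  · exact ⟨z, by rw [hzord]; exact hp, fun ω hω => hfix ⟨ω, hω⟩⟩
  obtain ⟨ω₀, hω₀⟩ := hfix
  have hz1 : z ≠ 1 := by
    intro h
    rw [h, orderOf_one] at hzord
    exact hp.one_lt.ne hzord
  obtain ⟨S, hSdef⟩ : ∃ S : Set Ω, ∀ a, a ∈ S ↔ z • a = a := ⟨{a | z • a = a}, fun a => Iff.rfl⟩
  have hSne : S.Nonempty := ⟨ω₀, (hSdef ω₀).mpr hω₀⟩
  have hScne : Sᶜ.Nonempty := by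
    by_contra hcon
    rw [Set.not_nonempty_iff_eq_empty, Set.compl_empty_iff] at hcon
    apply hz1
    apply FaithfulSMul.eq_of_smul_eq_smul (α := Ω)
    intro a
    rw [one_smul]
    have : a ∈ S := by rw [hcon]; trivial
    exact (hSdef a).mp this
  have hSinv : ∀ g ∈ (P : Subgroup G), ∀ s ∈ S, g • s ∈ S := by
    intro g hg s hs
    rw [hSdef]
    rw [← mul_smul, ← hzc g hg, mul_smul, (hSdef s).mp hs]
  obtain ⟨htS, htSc, horbc⟩ := hTO G Ω p (P : Subgroup G) hcard hp.pos horb S hSne hScne hSinv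
  obtain ⟨K, hKdef⟩ : ∃ K : Subgroup G, ∀ h, h ∈ K ↔ h ∈ (P : Subgroup G) ∧ ∀ s ∈ S, h • s = s :=
    ⟨ptStab (P : Subgroup G) S, fun h => Iff.rfl⟩
  have hKP : K ≤ (P : Subgroup G) := fun h hh => ((hKdef h).mp hh).1
  have hKfix : ∀ κ ∈ K, ∀ s ∈ S, κ • s = s := fun κ hκ => ((hKdef κ).mp hκ).2
  have hzK : z ∈ K := (hKdef z).mpr ⟨hzP, fun s hs => (hSdef s).mp hs⟩
  have hKnorm : ∀ h ∈ (P : Subgroup G), ∀ κ ∈ K, h * κ * h⁻¹ ∈ K := by
    intro h hh κ hκ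
    rw [hKdef]
    refine ⟨mul_mem (mul_mem hh (hKP hκ)) (inv_mem hh), fun s hs => ?_⟩
    have hs' : h⁻¹ • s ∈ S := hSinv h⁻¹ (inv_mem hh) s hs
    rw [mul_smul, mul_smul, hKfix κ hκ _ hs', smul_inv_smul]
  obtain ⟨b, hb⟩ := hScne
  have hbS : b ∉ S := hb
  have hzb : z • b ≠ b := fun h => hbS ((hSdef b).mpr h)
  obtain ⟨L, hLdef⟩ : ∃ L : Subgroup G, L = (MulAction.stabilizer G b ⊓ (P : Subgroup G)) ⊔ K :=
    ⟨_, rfl⟩
  have hLidx : L.relIndex (P : Subgroup G) ∣ p := by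
    rw [hLdef]
    exact hLI G Ω p (P : Subgroup G) K hKP b (horbc b) ⟨z, hzK, hzb⟩
  have hLP : L ≤ (P : Subgroup G) := by
    rw [hLdef]
    exact sup_le inf_le_right hKP
  have hKL : K ≤ L := by
    rw [hLdef]
    exact le_sup_right
  have hLnorm : ∀ h ∈ (P : Subgroup G), ∀ l ∈ L, h * l * h⁻¹ ∈ L :=
    hLN G p (P : Subgroup G) L hPp hLP hLidx
  obtain ⟨a, ha⟩ := hSne
  have hKneL : K ≠ L :=
    hKN G Ω p (P : Subgroup G) K L a hKL hLP (fun κ hκ => hKfix κ hκ a ha) (horbc a) hLidx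
  have hK'n : (K.subgroupOf (P : Subgroup G)).Normal := by
    constructor
    intro κ hκ h
    rw [Subgroup.mem_subgroupOf] at hκ ⊢
    exact hKnorm h h.2 κ hκ
  have hL'n : (L.subgroupOf (P : Subgroup G)).Normal := by
    constructor
    intro l hl h
    rw [Subgroup.mem_subgroupOf] at hl ⊢
    exact hLnorm h h.2 l hl
  have hlt : K.subgroupOf (P : Subgroup G) < L.subgroupOf (P : Subgroup G) := by
    refine lt_of_le_of_ne ?_ ?_
    · intro x hx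
      rw [Subgroup.mem_subgroupOf] at hx ⊢
      exact hKL hx
    · intro heq
      apply hKneL
      apply le_antisymm hKL
      intro l hl
      have h1 : (⟨l, hLP hl⟩ : ↥(P : Subgroup G)) ∈ L.subgroupOf (P : Subgroup G) := by
        rw [Subgroup.mem_subgroupOf]
        exact hl
      rw [← heq, Subgroup.mem_subgroupOf] at h1
      exact h1
  obtain ⟨g', hg'L, hg'K, hg'p, hg'c⟩ :=
    hRC (↥(P : Subgroup G)) p hPp (K.subgroupOf (P : Subgroup G)) (L.subgroupOf (P : Subgroup G))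
      hK'n hL'n hlt
  obtain ⟨g, hgdef⟩ : ∃ g : G, g = (g' : G) := ⟨_, rfl⟩
  have hgP : g ∈ (P : Subgroup G) := by rw [hgdef]; exact g'.2
  have hgL : g ∈ L := by rw [hgdef]; exact Subgroup.mem_subgroupOf.mp hg'L
  have hgK : g ∉ K := fun h => hg'K (Subgroup.mem_subgroupOf.mpr (by rw [← hgdef]; exact h))
  have hgp : g ^ p ∈ K := by
    have h1 := Subgroup.mem_subgroupOf.mp hg'p
    rw [hgdef]
    simpa using h1
  have hgc : ∀ h ∈ (P : Subgroup G), g * h * g⁻¹ * h⁻¹ ∈ K := by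
    intro h hh
    have h1 := Subgroup.mem_subgroupOf.mp (hg'c ⟨h, hh⟩)
    rw [hgdef]
    simpa using h1
  have hgM : ∀ b', b' ∉ S → ∃ κ ∈ K, g • b' = κ • b' := by
    intro b' hb'
    obtain ⟨t, ht, rfl⟩ := htSc b hbS b' hb'
    have hgL' : g ∈ (MulAction.stabilizer G b ⊓ (P : Subgroup G)) ⊔ K := by rw [← hLdef]; exact hgL
    refine hLM G Ω (P : Subgroup G) K b hKP hKnorm ?_ g hgL' t ht
    rw [← hLdef]
    exact hLnorm
  obtain ⟨h, hhS, hhSc⟩ :=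
    hGl G Ω hcl S K g z hKfix hzK (hSinv g hgP) (hSinv g⁻¹ (inv_mem hgP)) hgM
  have hgfpf : ∀ a ∈ S, g • a ≠ a :=
    hF G Ω (P : Subgroup G) K S htS hKfix (fun h hh hfixS => (hKdef h).mpr ⟨hh, hfixS⟩) hSinv
      g hgP hgK hgc
  have hder : ∀ ω : Ω, h • ω ≠ ω := by
    intro ω
    by_cases hω : ω ∈ S
    · rw [hhS ω hω]
      exact hgfpf ω hω
    · rw [hhSc ω hω]
      exact fun h => hω ((hSdef ω).mpr h)
  have hzSc : ∀ b', b' ∉ S → z • b' ∉ S := by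
    intro b' hb' hzb'
    apply hb'
    rw [hSdef] at hzb' ⊢
    exact smul_left_cancel z hzb'
  have hord : orderOf h = p :=
    hO G Ω p S K g z h hKfix hgp (by rw [← hzord]; exact pow_orderOf_eq_one z) (hSinv g hgP)
      hzSc hhS hhSc ⟨a, hder a⟩
  exact ⟨h, by rw [hord]; exact hp, hder⟩

end Cfsg.Agent.Lib.Helper56.TPFinal
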