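import Mathlib
import Cfsg.Agent.Lib.Helper44.TPStmt

/-!
# S5973 / INVGOOD1 (call by helper44), second seat

An involution of `Omega^+` fixes a totally singular `m`-space when `q ≡ 1 (mod 4)` or
`m + 2 ≤ d` (adapted from `Helper66.TSINVGOOD`).
-/

set_option autoImplicit false

universe u

open scoped Matrix

namespace Cfsg.Agent.Lib.Helper56.TPINVGOOD1

open Module
open Cfsg.Agent.Lib.Helper44.TPStmt

/-- a subspace of any smaller dimension -/
theorem exists_le_finrank {F : Type*} [Field F] {V : Type*} [AddCommGroup V] [Module F V]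
    [FiniteDimensional F V] {W : Submodule F V} {k : ℕ} (hk : k ≤ finrank F W) :
    ∃ W' ≤ W, finrank F W' = k := by
  obtain ⟨b, -⟩ : ∃ b : Basis (Fin (finrank F W)) F W, True := ⟨Module.finBasis F W, trivial⟩
  obtain ⟨f, hf⟩ : ∃ f : Fin k → V, f = fun i => (b (Fin.castLE hk i) : V) := ⟨_, rfl⟩
  refine ⟨Submodule.span F (Set.range f), ?_, ?_⟩
  · rw [Submodule.span_le]
    rintro _ ⟨i, rfl⟩
    rw [hf]
    exact (b _).2
  · have h1 : LinearIndependent F (fun i => (b i : V)) :=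
      b.linearIndependent.map' W.subtype (Submodule.ker_subtype W)
    have hli : LinearIndependent F f := by
      rw [hf]
      exact h1.comp _ (Fin.castLE_injective hk)
    rw [finrank_span_eq_card hli, Fintype.card_fin]

theorem main (hTop : Top.{u}) (hDec : InvDec.{u}) (hPar : InvPar.{u}) (hSpin : SpinInv.{u})
    (hTsIn : TsIn.{u}) (hCancel : Cancel.{u}) : InvGood1.{u} := by
  intro F _ _ hodd d m hd hmd hcase x hx hx2
  have hxiso : x ∈ Cfsg.isometryGroup F (Cfsg.quadFormPlus d F) := by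
    obtain ⟨y, -, rfl⟩ := hx
    exact y.2
  obtain ⟨hFxND, hFmND, horth, hinf, hdim, hsup⟩ := hDec F hodd d x hxiso hx2
  obtain ⟨e, he⟩ := hPar F hodd d x hx hx2
  have hbotTS : TSub d F (⊥ : Submodule F (J d → F)) := by
    intro w hw
    rw [(Submodule.mem_bot F).mp hw]
    simp [Cfsg.quadFormPlus]
  -- the two pieces
  have key : ∃ U₁ U₂ : Submodule F (J d → F), U₁ ≤ Fx (x : Matrix (J d) (J d) F) ∧
      U₂ ≤ Fm (x : Matrix (J d) (J d) F) ∧ TSub d F U₁ ∧ TSub d F U₂ ∧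
      Module.finrank F ↥U₁ + Module.finrank F ↥U₂ = m := by
    by_cases hlt : m + 2 ≤ d
    · by_cases h1 : 2 * m < Module.finrank F ↥(Fx (x : Matrix (J d) (J d) F))
      · obtain ⟨U₁, hU₁, hts₁, hd₁⟩ := hTsIn F d _ m hFxND h1
        refine ⟨U₁, ⊥, hU₁, bot_le, hts₁, hbotTS, ?_⟩
        rw [hd₁, finrank_bot, add_zero]
      · by_cases hf : Module.finrank F ↥(Fx (x : Matrix (J d) (J d) F)) = 0
        · have h3 : 2 * m < Module.finrank F ↥(Fm (x : Matrix (J d) (J d) F)) := by omega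
          obtain ⟨U₂, hU₂, hts₂, hd₂⟩ := hTsIn F d _ m hFmND h3
          refine ⟨⊥, U₂, bot_le, hU₂, hbotTS, hts₂, ?_⟩
          rw [hd₂, finrank_bot, zero_add]
        · have h2 : 2 * (d - e - 1) < Module.finrank F ↥(Fx (x : Matrix (J d) (J d) F)) := by
            omega
          have h3 : 2 * (m - (d - e - 1)) <
              Module.finrank F ↥(Fm (x : Matrix (J d) (J d) F)) := by
            omega
          obtain ⟨U₁, hU₁, hts₁, hd₁⟩ := hTsIn F d _ (d - e - 1) hFxND h2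
          obtain ⟨U₂, hU₂, hts₂, hd₂⟩ := hTsIn F d _ (m - (d - e - 1)) hFmND h3
          refine ⟨U₁, U₂, hU₁, hU₂, hts₁, hts₂, ?_⟩
          rw [hd₁, hd₂]
          omega
    · have hq : Fintype.card F % 4 = 1 := by
        rcases hcase with h | h
        · exact h
        · exact absurd h hlt
      obtain ⟨T₂, hT₂, htsT₂, hdT₂⟩ := hSpin F hodd hq d hd x hx hx2
      have hplus : Plus d F (Fm (x : Matrix (J d) (J d) F) ⊔ Fx (x : Matrix (J d) (J d) F)) := by
        rw [sup_comm, hsup]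
        exact (hTop F d).2
      obtain ⟨T₁, hT₁, htsT₁, hdT₁⟩ := hCancel F d _ _ hFmND hFxND
        (fun u hu v hv => by
          rw [QuadraticMap.polar_comm]
          exact horth v hv u hu) hplus ⟨T₂, hT₂, htsT₂, hdT₂⟩
      have h4 : min m (d - e) ≤ Module.finrank F ↥T₁ := by omega
      have h5 : m - min m (d - e) ≤ Module.finrank F ↥T₂ := by omega
      obtain ⟨U₁, hU₁, hd₁⟩ := exists_le_finrank h4
      obtain ⟨U₂, hU₂, hd₂⟩ := exists_le_finrank h5
      refine ⟨U₁, U₂, le_trans hU₁ hT₁, le_trans hU₂ hT₂, fun w hw => htsT₁ w (hU₁ hw),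
        fun w hw => htsT₂ w (hU₂ hw), ?_⟩
      rw [hd₁, hd₂]
      omega
  obtain ⟨U₁, U₂, hU₁, hU₂, hts₁, hts₂, hsum⟩ := key
  refine ⟨U₁ ⊔ U₂, ?_, ?_, ?_⟩
  · -- dimension
    have h1 := Submodule.finrank_sup_add_finrank_inf_eq U₁ U₂
    have h2 : U₁ ⊓ U₂ = ⊥ := by
      rw [eq_bot_iff, ← hinf]
      exact inf_le_inf hU₁ hU₂
    rw [h2, finrank_bot, add_zero] at h1
    rw [h1, hsum]
  · -- totally singular
    intro w hw
    obtain ⟨u₁, hu₁, u₂, hu₂, rfl⟩ := Submodule.mem_sup.mp hw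
    have h1 := horth u₁ (hU₁ hu₁) u₂ (hU₂ hu₂)
    have h2 := hts₁ u₁ hu₁
    have h3 := hts₂ u₂ hu₂
    unfold QuadraticMap.polar at h1
    rw [h2, h3, sub_zero, sub_zero] at h1
    exact h1
  · -- invariant
    rintro _ ⟨w, hw, rfl⟩
    obtain ⟨u₁, hu₁, u₂, hu₂, rfl⟩ := Submodule.mem_sup.mp hw
    rw [map_add]
    apply Submodule.add_mem
    · apply Submodule.mem_sup_left
      have h1 : u₁ ∈ Fx (x : Matrix (J d) (J d) F) := hU₁ hu₁
      unfold Fx at h1
      rw [LinearMap.mem_ker, LinearMap.sub_apply, LinearMap.id_apply] at h1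
      rw [sub_eq_zero.mp h1]
      exact hu₁
    · apply Submodule.mem_sup_right
      have h1 : u₂ ∈ Fm (x : Matrix (J d) (J d) F) := hU₂ hu₂
      unfold Fm at h1
      rw [LinearMap.mem_ker, LinearMap.add_apply, LinearMap.id_apply] at h1
      rw [eq_neg_of_add_eq_zero_left h1]
      exact Submodule.neg_mem _ hu₂

end Cfsg.Agent.Lib.Helper56.TPINVGOOD1
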