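import Cfsg.Agent.Lib.Helper56.U3Cls

/-!
# Two complex representations of the presented group `P` of order 6048

Matrices over the Gaussian integers for the generators `x`, `y` of `P`, in degrees 6 and 7; the
relators and the traces at the class representatives are checked in the kernel along chains of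
literal partial products.  `rep D6`, `rep D7` are the representations over `ℂ`, and `val6`, `val7`
give their characters at the class representatives.
-/

set_option autoImplicit false

namespace Cfsg.Agent.Lib.Helper56.U3Rep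

open Cfsg.Agent.Lib.Helper56.TC Cfsg.Agent.Lib.Helper56.P6048 Cfsg.Agent.Lib.Helper56.P6048S
  Cfsg.Agent.Lib.Helper56.U3Cls

/-- Square matrices over the Gaussian integers. -/
abbrev GM (n : ℕ) := Matrix (Fin n) (Fin n) GaussianInt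

section Generic

variable {n : ℕ}

/-- The letters as matrices. -/
def lm (A B Bi : GM n) : ℕ → GM n
  | 0 => A
  | 1 => B
  | _ => Bi

/-- A chain of partial products along a word. -/
def chainB (A B Bi : GM n) : List ℕ → List (GM n) → Bool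
  | [], _ => true
  | a :: w, Q0 :: Q1 :: L => decide (Q0 * lm A B Bi a = Q1) && chainB A B Bi w (Q1 :: L)
  | _ :: _, _ => false

theorem chainB_spec (A B Bi : GM n) : ∀ (w : List ℕ) (L : List (GM n)),
    chainB A B Bi w L = true →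
      L.getD 0 1 * (w.map (lm A B Bi)).prod = L.getD w.length 1
  | [], L, _ => by simp
  | a :: w, Q0 :: Q1 :: L, h => by
    simp only [chainB, Bool.and_eq_true, decide_eq_true_eq] at h
    have ih := chainB_spec A B Bi w (Q1 :: L) h.2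
    simp only [List.getD_cons_zero] at ih
    simp only [List.map_cons, List.prod_cons, List.getD_cons_zero, List.length_cons,
      List.getD_cons_succ]
    rw [← mul_assoc, h.1, ih]
  | _ :: _, [], h => by simp [chainB] at h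
  | _ :: _, [_], h => by simp [chainB] at h

/-- The check of a relator. -/
def relB (A B Bi : GM n) (w : List ℕ) (L : List (GM n)) : Bool :=
  chainB A B Bi w L && decide (L.getD 0 1 = 1) && decide (L.getD w.length 1 = 1)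

theorem relB_spec (A B Bi : GM n) (w : List ℕ) (L : List (GM n)) (h : relB A B Bi w L = true) :
    (w.map (lm A B Bi)).prod = 1 := by
  simp only [relB, Bool.and_eq_true, decide_eq_true_eq] at h
  have h1 := chainB_spec A B Bi w L h.1.1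
  rw [h.1.2, one_mul, h.2] at h1
  exact h1

/-- The check of the trace of a word. -/
def clsB (A B Bi : GM n) (w : List ℕ) (L : List (GM n)) (t : GaussianInt) : Bool :=
  chainB A B Bi w L && decide (L.getD 0 1 = 1) && decide (Matrix.trace (L.getD w.length 1) = t)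

theorem clsB_spec (A B Bi : GM n) (w : List ℕ) (L : List (GM n)) (t : GaussianInt)
    (h : clsB A B Bi w L t = true) : Matrix.trace ((w.map (lm A B Bi)).prod) = t := by
  simp only [clsB, Bool.and_eq_true, decide_eq_true_eq] at h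
  have h1 := chainB_spec A B Bi w L h.1.1
  rw [h.1.2, one_mul] at h1
  rw [h1, h.2]

theorem hrel_of_relOK (A B Bi : GM n) (qR : List (List (GM n)))
    (h : allBelow (fun r => relB A B Bi (relsL.getD r []) (qR.getD r [])) 8 = true) :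
    ∀ w ∈ relsL, (w.map (lm A B Bi)).prod = 1 := by
  intro w hw
  obtain ⟨r, hr, e⟩ := List.mem_iff_getElem.mp hw
  have hr8 : r < 8 := hr
  have h1 := allBelow_spec _ _ h r hr8
  have e2 : relsL.getD r [] = w := by rw [List.getD_eq_getElem _ _ hr]; exact e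
  rw [e2] at h1
  exact relB_spec A B Bi w _ h1

/-- Matrices for the generators satisfying the relators. -/
structure Dat (n : ℕ) where
  A : GM n
  B : GM n
  Bi : GM n
  hA : A * A = 1
  hB : B * Bi = 1
  hBi : Bi * B = 1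
  hrel : ∀ w ∈ relsL, (w.map (lm A B Bi)).prod = 1

/-- The generators as units. -/
def uA (D : Dat n) : (GM n)ˣ := ⟨D.A, D.A, D.hA, D.hA⟩
def uB (D : Dat n) : (GM n)ˣ := ⟨D.B, D.Bi, D.hB, D.hBi⟩

theorem lett_val (D : Dat n) (a : ℕ) : (lett (uA D) (uB D) a).val = lm D.A D.B D.Bi a := by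
  rcases a with _ | _ | a <;> rfl

theorem word_val (D : Dat n) (w : List ℕ) :
    ((w.map (lett (uA D) (uB D))).prod).val = (w.map (lm D.A D.B D.Bi)).prod := by
  induction w with
  | nil => rfl
  | cons a w ih =>
    simp only [List.map_cons, List.prod_cons, Units.val_mul, ih, lett_val]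

theorem unit_rels (D : Dat n) : ∀ w ∈ relsL, (w.map (lett (uA D) (uB D))).prod = 1 := by
  intro w hw
  apply Units.ext
  rw [word_val]
  exact D.hrel w hw

/-- The homomorphism to the units of the matrix ring. -/
noncomputable def Φ (D : Dat n) : P →* (GM n)ˣ := hom (uA D) (uB D) (unit_rels D)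

theorem Φ_word (D : Dat n) (w : List ℕ) :
    (Φ D ((w.map gl).prod)).val = (w.map (lm D.A D.B D.Bi)).prod := by
  have h := map_word (Φ D) x y w
  have hx : Φ D x = uA D := hom_x _ _ _
  have hy : Φ D y = uB D := hom_y _ _ _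
  rw [hx, hy] at h
  rw [h, word_val]

/-- The representation over `ℂ`. -/
noncomputable def rep (D : Dat n) : Representation ℂ P (Fin n → ℂ) where
  toFun g := Matrix.toLin' ((Φ D g).val.map GaussianInt.toComplex)
  map_one' := by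
    rw [map_one, Units.val_one, Matrix.map_one _ (map_zero _) (map_one _), Matrix.toLin'_one]
    rfl
  map_mul' a b := by
    rw [map_mul, Units.val_mul, Matrix.map_mul, Matrix.toLin'_mul]
    rfl

theorem rep_char (D : Dat n) (g : P) :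
    (rep D).character g = GaussianInt.toComplex (Matrix.trace (Φ D g).val) := by
  show LinearMap.trace ℂ (Fin n → ℂ) (Matrix.toLin' ((Φ D g).val.map GaussianInt.toComplex)) = _
  rw [Matrix.trace_toLin'_eq]
  simp [Matrix.trace, map_sum]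

theorem val_of_clsOK (D : Dat n) (qC : List (List (GM n))) (tv : List GaussianInt)
    (h : allBelow (fun c => clsB D.A D.B D.Bi (cwL.getD c []) (qC.getD c []) (tv.getD c 0)) 14
      = true) (c : ℕ) (hc : c < 14) :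
    (rep D).character (rp (crep c)) = GaussianInt.toComplex (tv.getD c 0) := by
  have h1 := allBelow_spec _ _ h c hc
  have h2 := clsB_spec _ _ _ _ _ _ h1
  rw [rep_char, ← wd_spec (crep c) (crep_lt c hc), cw_eq c hc, Φ_word, h2]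

end Generic

/-! ### The representation of degree 6 -/

def mA6 : GM 6 := !![⟨0, -3⟩, ⟨1, 0⟩, ⟨-3, 3⟩, ⟨-3, 0⟩, ⟨3, 0⟩, ⟨0, 0⟩; ⟨-2, 3⟩, ⟨0, 0⟩, ⟨3, -3⟩, ⟨3, 0⟩, ⟨-3, 3⟩, ⟨3, 3⟩; ⟨-3, -1⟩, ⟨0, -1⟩, ⟨2, 3⟩, ⟨0, 3⟩, ⟨0, -3⟩, ⟨0, 0⟩; ⟨1, -2⟩, ⟨0, 0⟩, ⟨-2, 2⟩, ⟨-3, 0⟩, ⟨2, -1⟩, ⟨-1, -1⟩; ⟨1, -1⟩, ⟨-1, 0⟩, ⟨-1, 1⟩, ⟨-1, 0⟩, ⟨0, -2⟩, ⟨-2, -2⟩; ⟨-2, -2⟩, ⟨1, 0⟩, ⟨1, 3⟩, ⟨-1, 2⟩, ⟨0, -1⟩, ⟨-1, 2⟩]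
def mB6 : GM 6 := !![⟨3, -1⟩, ⟨2, 1⟩, ⟨-4, -2⟩, ⟨0, -3⟩, ⟨3, 3⟩, ⟨0, 0⟩; ⟨3, -1⟩, ⟨0, 0⟩, ⟨-5, 0⟩, ⟨-3, -3⟩, ⟨3, 0⟩, ⟨0, -3⟩; ⟨-1, 0⟩, ⟨0, -2⟩, ⟨2, 1⟩, ⟨0, 0⟩, ⟨0, -3⟩, ⟨0, 0⟩; ⟨0, -2⟩, ⟨2, 0⟩, ⟨-3, 2⟩, ⟨-1, 0⟩, ⟨4, 1⟩, ⟨1, 0⟩; ⟨-2, 2⟩, ⟨-1, 0⟩, ⟨5, -2⟩, ⟨3, 2⟩, ⟨-4, 0⟩, ⟨0, 2⟩; ⟨2, 0⟩, ⟨1, 0⟩, ⟨-3, -2⟩, ⟨0, -3⟩, ⟨2, 2⟩, ⟨1, 0⟩]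
def mBi6 : GM 6 := !![⟨0, 2⟩, ⟨-1, -2⟩, ⟨2, 1⟩, ⟨0, 0⟩, ⟨0, -3⟩, ⟨0, -3⟩; ⟨-2, -1⟩, ⟨0, -1⟩, ⟨4, 2⟩, ⟨0, 3⟩, ⟨-3, -3⟩, ⟨-3, 3⟩; ⟨1, 0⟩, ⟨0, 2⟩, ⟨-1, -1⟩, ⟨0, 0⟩, ⟨0, 3⟩, ⟨0, 0⟩; ⟨1, 1⟩, ⟨-2, -1⟩, ⟨1, -1⟩, ⟨0, -1⟩, ⟨-2, -2⟩, ⟨-1, -1⟩; ⟨1, 0⟩, ⟨2, 1⟩, ⟨-4, 0⟩, ⟨0, -2⟩, ⟨5, 3⟩, ⟨3, -2⟩; ⟨0, 0⟩, ⟨-1, -1⟩, ⟨2, 2⟩, ⟨-1, 1⟩, ⟨-1, -4⟩, ⟨-3, -2⟩]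

def qR6 : List (List (GM 6)) := [
  [!![⟨1, 0⟩, ⟨0, 0⟩, ⟨0, 0⟩, ⟨0, 0⟩, ⟨0, 0⟩, ⟨0, 0⟩; ⟨0, 0⟩, ⟨1, 0⟩, ⟨0, 0⟩, ⟨0, 0⟩, ⟨0, 0⟩, ⟨0, 0⟩; ⟨0, 0⟩, ⟨0, 0⟩, ⟨1, 0⟩, ⟨0, 0⟩, ⟨0, 0⟩, ⟨0, 0⟩; ⟨0, 0⟩, ⟨0, 0⟩, ⟨0, 0⟩, ⟨1, 0⟩, ⟨0, 0⟩, ⟨0, 0⟩; ⟨0, 0⟩, ⟨0, 0⟩, ⟨0, 0⟩, ⟨0, 0⟩, ⟨1, 0⟩, ⟨0, 0⟩; ⟨0, 0⟩, ⟨0, 0⟩, ⟨0, 0⟩, ⟨0, 0⟩, ⟨0, 0⟩, ⟨1, 0⟩],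
  !![⟨0, -3⟩, ⟨1, 0⟩, ⟨-3, 3⟩, ⟨-3, 0⟩, ⟨3, 0⟩, ⟨0, 0⟩; ⟨-2, 3⟩, ⟨0, 0⟩, ⟨3, -3⟩, ⟨3, 0⟩, ⟨-3, 3⟩, ⟨3, 3⟩; ⟨-3, -1⟩, ⟨0, -1⟩, ⟨2, 3⟩, ⟨0, 3⟩, ⟨0, -3⟩, ⟨0, 0⟩; ⟨1, -2⟩, ⟨0, 0⟩, ⟨-2, 2⟩, ⟨-3, 0⟩, ⟨2, -1⟩, ⟨-1, -1⟩; ⟨1, -1⟩, ⟨-1, 0⟩, ⟨-1, 1⟩, ⟨-1, 0⟩, ⟨0, -2⟩, ⟨-2, -2⟩; ⟨-2, -2⟩, ⟨1, 0⟩, ⟨1, 3⟩, ⟨-1, 2⟩, ⟨0, -1⟩, ⟨-1, 2⟩],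
  !![⟨1, 0⟩, ⟨0, 0⟩, ⟨0, 0⟩, ⟨0, 0⟩, ⟨0, 0⟩, ⟨0, 0⟩; ⟨0, 0⟩, ⟨1, 0⟩, ⟨0, 0⟩, ⟨0, 0⟩, ⟨0, 0⟩, ⟨0, 0⟩; ⟨0, 0⟩, ⟨0, 0⟩, ⟨1, 0⟩, ⟨0, 0⟩, ⟨0, 0⟩, ⟨0, 0⟩; ⟨0, 0⟩, ⟨0, 0⟩, ⟨0, 0⟩, ⟨1, 0⟩, ⟨0, 0⟩, ⟨0, 0⟩; ⟨0, 0⟩, ⟨0, 0⟩, ⟨0, 0⟩, ⟨0, 0⟩, ⟨1, 0⟩, ⟨0, 0⟩; ⟨0, 0⟩, ⟨0, 0⟩, ⟨0, 0⟩, ⟨0, 0⟩, ⟨0, 0⟩, ⟨1, 0⟩]],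
  [!![⟨1, 0⟩, ⟨0, 0⟩, ⟨0, 0⟩, ⟨0, 0⟩, ⟨0, 0⟩, ⟨0, 0⟩; ⟨0, 0⟩, ⟨1, 0⟩, ⟨0, 0⟩, ⟨0, 0⟩, ⟨0, 0⟩, ⟨0, 0⟩; ⟨0, 0⟩, ⟨0, 0⟩, ⟨1, 0⟩, ⟨0, 0⟩, ⟨0, 0⟩, ⟨0, 0⟩; ⟨0, 0⟩, ⟨0, 0⟩, ⟨0, 0⟩, ⟨1, 0⟩, ⟨0, 0⟩, ⟨0, 0⟩; ⟨0, 0⟩, ⟨0, 0⟩, ⟨0, 0⟩, ⟨0, 0⟩, ⟨1, 0⟩, ⟨0, 0⟩; ⟨0, 0⟩, ⟨0, 0⟩, ⟨0, 0⟩, ⟨0, 0⟩, ⟨0, 0⟩, ⟨1, 0⟩],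
  !![⟨3, -1⟩, ⟨2, 1⟩, ⟨-4, -2⟩, ⟨0, -3⟩, ⟨3, 3⟩, ⟨0, 0⟩; ⟨3, -1⟩, ⟨0, 0⟩, ⟨-5, 0⟩, ⟨-3, -3⟩, ⟨3, 0⟩, ⟨0, -3⟩; ⟨-1, 0⟩, ⟨0, -2⟩, ⟨2, 1⟩, ⟨0, 0⟩, ⟨0, -3⟩, ⟨0, 0⟩; ⟨0, -2⟩, ⟨2, 0⟩, ⟨-3, 2⟩, ⟨-1, 0⟩, ⟨4, 1⟩, ⟨1, 0⟩; ⟨-2, 2⟩, ⟨-1, 0⟩, ⟨5, -2⟩, ⟨3, 2⟩, ⟨-4, 0⟩, ⟨0, 2⟩; ⟨2, 0⟩, ⟨1, 0⟩, ⟨-3, -2⟩, ⟨0, -3⟩, ⟨2, 2⟩, ⟨1, 0⟩],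
  !![⟨1, 0⟩, ⟨0, 0⟩, ⟨0, 0⟩, ⟨0, 0⟩, ⟨0, 0⟩, ⟨0, 0⟩; ⟨0, 0⟩, ⟨1, 0⟩, ⟨0, 0⟩, ⟨0, 0⟩, ⟨0, 0⟩, ⟨0, 0⟩; ⟨0, 0⟩, ⟨0, 0⟩, ⟨1, 0⟩, ⟨0, 0⟩, ⟨0, 0⟩, ⟨0, 0⟩; ⟨0, 0⟩, ⟨0, 0⟩, ⟨0, 0⟩, ⟨1, 0⟩, ⟨0, 0⟩, ⟨0, 0⟩; ⟨0, 0⟩, ⟨0, 0⟩, ⟨0, 0⟩, ⟨0, 0⟩, ⟨1, 0⟩, ⟨0, 0⟩; ⟨0, 0⟩, ⟨0, 0⟩, ⟨0, 0⟩, ⟨0, 0⟩, ⟨0, 0⟩, ⟨1, 0⟩]],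
  [!![⟨1, 0⟩, ⟨0, 0⟩, ⟨0, 0⟩, ⟨0, 0⟩, ⟨0, 0⟩, ⟨0, 0⟩; ⟨0, 0⟩, ⟨1, 0⟩, ⟨0, 0⟩, ⟨0, 0⟩, ⟨0, 0⟩, ⟨0, 0⟩; ⟨0, 0⟩, ⟨0, 0⟩, ⟨1, 0⟩, ⟨0, 0⟩, ⟨0, 0⟩, ⟨0, 0⟩; ⟨0, 0⟩, ⟨0, 0⟩, ⟨0, 0⟩, ⟨1, 0⟩, ⟨0, 0⟩, ⟨0, 0⟩; ⟨0, 0⟩, ⟨0, 0⟩, ⟨0, 0⟩, ⟨0, 0⟩, ⟨1, 0⟩, ⟨0, 0⟩; ⟨0, 0⟩, ⟨0, 0⟩, ⟨0, 0⟩, ⟨0, 0⟩, ⟨0, 0⟩, ⟨1, 0⟩],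
  !![⟨0, 2⟩, ⟨-1, -2⟩, ⟨2, 1⟩, ⟨0, 0⟩, ⟨0, -3⟩, ⟨0, -3⟩; ⟨-2, -1⟩, ⟨0, -1⟩, ⟨4, 2⟩, ⟨0, 3⟩, ⟨-3, -3⟩, ⟨-3, 3⟩; ⟨1, 0⟩, ⟨0, 2⟩, ⟨-1, -1⟩, ⟨0, 0⟩, ⟨0, 3⟩, ⟨0, 0⟩; ⟨1, 1⟩, ⟨-2, -1⟩, ⟨1, -1⟩, ⟨0, -1⟩, ⟨-2, -2⟩, ⟨-1, -1⟩; ⟨1, 0⟩, ⟨2, 1⟩, ⟨-4, 0⟩, ⟨0, -2⟩, ⟨5, 3⟩, ⟨3, -2⟩; ⟨0, 0⟩, ⟨-1, -1⟩, ⟨2, 2⟩, ⟨-1, 1⟩, ⟨-1, -4⟩, ⟨-3, -2⟩],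
  !![⟨1, 0⟩, ⟨0, 0⟩, ⟨0, 0⟩, ⟨0, 0⟩, ⟨0, 0⟩, ⟨0, 0⟩; ⟨0, 0⟩, ⟨1, 0⟩, ⟨0, 0⟩, ⟨0, 0⟩, ⟨0, 0⟩, ⟨0, 0⟩; ⟨0, 0⟩, ⟨0, 0⟩, ⟨1, 0⟩, ⟨0, 0⟩, ⟨0, 0⟩, ⟨0, 0⟩; ⟨0, 0⟩, ⟨0, 0⟩, ⟨0, 0⟩, ⟨1, 0⟩, ⟨0, 0⟩, ⟨0, 0⟩; ⟨0, 0⟩, ⟨0, 0⟩, ⟨0, 0⟩, ⟨0, 0⟩, ⟨1, 0⟩, ⟨0, 0⟩; ⟨0, 0⟩, ⟨0, 0⟩, ⟨0, 0⟩, ⟨0, 0⟩, ⟨0, 0⟩, ⟨1, 0⟩]],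
  [!![⟨1, 0⟩, ⟨0, 0⟩, ⟨0, 0⟩, ⟨0, 0⟩, ⟨0, 0⟩, ⟨0, 0⟩; ⟨0, 0⟩, ⟨1, 0⟩, ⟨0, 0⟩, ⟨0, 0⟩, ⟨0, 0⟩, ⟨0, 0⟩; ⟨0, 0⟩, ⟨0, 0⟩, ⟨1, 0⟩, ⟨0, 0⟩, ⟨0, 0⟩, ⟨0, 0⟩; ⟨0, 0⟩, ⟨0, 0⟩, ⟨0, 0⟩, ⟨1, 0⟩, ⟨0, 0⟩, ⟨0, 0⟩; ⟨0, 0⟩, ⟨0, 0⟩, ⟨0, 0⟩, ⟨0, 0⟩, ⟨1, 0⟩, ⟨0, 0⟩; ⟨0, 0⟩, ⟨0, 0⟩, ⟨0, 0⟩, ⟨0, 0⟩, ⟨0, 0⟩, ⟨1, 0⟩],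
  !![⟨0, -3⟩, ⟨1, 0⟩, ⟨-3, 3⟩, ⟨-3, 0⟩, ⟨3, 0⟩, ⟨0, 0⟩; ⟨-2, 3⟩, ⟨0, 0⟩, ⟨3, -3⟩, ⟨3, 0⟩, ⟨-3, 3⟩, ⟨3, 3⟩; ⟨-3, -1⟩, ⟨0, -1⟩, ⟨2, 3⟩, ⟨0, 3⟩, ⟨0, -3⟩, ⟨0, 0⟩; ⟨1, -2⟩, ⟨0, 0⟩, ⟨-2, 2⟩, ⟨-3, 0⟩, ⟨2, -1⟩, ⟨-1, -1⟩; ⟨1, -1⟩, ⟨-1, 0⟩, ⟨-1, 1⟩, ⟨-1, 0⟩, ⟨0, -2⟩, ⟨-2, -2⟩; ⟨-2, -2⟩, ⟨1, 0⟩, ⟨1, 3⟩, ⟨-1, 2⟩, ⟨0, -1⟩, ⟨-1, 2⟩],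
  !![⟨-3, -1⟩, ⟨0, 0⟩, ⟨4, 3⟩, ⟨0, 3⟩, ⟨-3, -3⟩, ⟨-3, 3⟩; ⟨0, 2⟩, ⟨-1, -2⟩, ⟨2, 1⟩, ⟨0, 0⟩, ⟨0, -3⟩, ⟨0, -3⟩; ⟨-1, 0⟩, ⟨1, 0⟩, ⟨-1, -1⟩, ⟨0, 0⟩, ⟨0, 3⟩, ⟨3, 3⟩; ⟨-1, 1⟩, ⟨-1, 1⟩, ⟨4, -2⟩, ⟨2, 1⟩, ⟨-5, 0⟩, ⟨-2, 3⟩; ⟨0, -2⟩, ⟨1, 1⟩, ⟨-3, 1⟩, ⟨-1, 0⟩, ⟨2, 2⟩, ⟨1, 1⟩; ⟨-2, 0⟩, ⟨1, -1⟩, ⟨2, 2⟩, ⟨0, 1⟩, ⟨0, -2⟩, ⟨0, 1⟩],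
  !![⟨0, -1⟩, ⟨0, 1⟩, ⟨-1, 0⟩, ⟨0, 0⟩, ⟨0, 0⟩, ⟨0, 0⟩; ⟨0, -1⟩, ⟨1, 0⟩, ⟨-2, -1⟩, ⟨0, 0⟩, ⟨3, 3⟩, ⟨3, 0⟩; ⟨3, 1⟩, ⟨1, 1⟩, ⟨-2, -2⟩, ⟨0, -3⟩, ⟨0, 3⟩, ⟨0, 0⟩; ⟨-3, 0⟩, ⟨0, 0⟩, ⟨2, 2⟩, ⟨1, 2⟩, ⟨-1, -3⟩, ⟨-1, 0⟩; ⟨2, -1⟩, ⟨0, 0⟩, ⟨-1, 1⟩, ⟨-2, -1⟩, ⟨0, -1⟩, ⟨-2, 0⟩; ⟨-1, 0⟩, ⟨0, 1⟩, ⟨1, -1⟩, ⟨1, 1⟩, ⟨-2, 2⟩, ⟨1, 2⟩],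
  !![⟨2, -2⟩, ⟨-1, -1⟩, ⟨0, 3⟩, ⟨-3, 0⟩, ⟨0, -6⟩, ⟨-6, -3⟩; ⟨1, 1⟩, ⟨0, 2⟩, ⟨0, -3⟩, ⟨3, 0⟩, ⟨0, 3⟩, ⟨0, 0⟩; ⟨-2, 1⟩, ⟨-2, 0⟩, ⟨4, 0⟩, ⟨0, 3⟩, ⟨-6, 0⟩, ⟨0, 3⟩; ⟨0, -4⟩, ⟨1, -1⟩, ⟨-1, 4⟩, ⟨-3, 0⟩, ⟨1, -5⟩, ⟨-5, 1⟩; ⟨0, 1⟩, ⟨0, -1⟩, ⟨0, 1⟩, ⟨-1, 0⟩, ⟨1, 0⟩, ⟨2, -2⟩; ⟨0, -1⟩, ⟨-2, 0⟩, ⟨2, 1⟩, ⟨-1, 2⟩, ⟨-3, -3⟩, ⟨-4, 0⟩],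
  !![⟨-1, 2⟩, ⟨-1, 1⟩, ⟨0, -3⟩, ⟨3, 0⟩, ⟨0, 3⟩, ⟨3, 0⟩; ⟨0, -1⟩, ⟨-2, -2⟩, ⟨0, 3⟩, ⟨-3, 0⟩, ⟨0, -6⟩, ⟨-3, -3⟩; ⟨1, -1⟩, ⟨4, 0⟩, ⟨-4, 0⟩, ⟨0, -3⟩, ⟨6, 3⟩, ⟨3, 0⟩; ⟨1, 2⟩, ⟨-2, 3⟩, ⟨0, -3⟩, ⟨2, 0⟩, ⟨-3, 3⟩, ⟨0, 0⟩; ⟨-1, 0⟩, ⟨2, -1⟩, ⟨0, -1⟩, ⟨1, 0⟩, ⟨2, 3⟩, ⟨4, 2⟩; ⟨1, 1⟩, ⟨0, 0⟩, ⟨-2, -1⟩, ⟨1, -2⟩, ⟨3, 0⟩, ⟨1, -3⟩],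
  !![⟨2, 0⟩, ⟨0, 1⟩, ⟨-4, -1⟩, ⟨0, -3⟩, ⟨3, 0⟩, ⟨0, -3⟩; ⟨1, 0⟩, ⟨2, 0⟩, ⟨-3, -2⟩, ⟨0, -3⟩, ⟨3, 3⟩, ⟨3, 0⟩; ⟨-1, -2⟩, ⟨0, 2⟩, ⟨2, 2⟩, ⟨0, 3⟩, ⟨-3, 0⟩, ⟨-3, 3⟩; ⟨2, 0⟩, ⟨-1, -1⟩, ⟨-3, 2⟩, ⟨-3, -2⟩, ⟨2, -4⟩, ⟨-2, -5⟩; ⟨-2, 1⟩, ⟨-1, 1⟩, ⟨4, -1⟩, ⟨3, 3⟩, ⟨-3, 1⟩, ⟨0, 2⟩; ⟨2, 0⟩, ⟨1, 1⟩, ⟨-3, -1⟩, ⟨0, -3⟩, ⟨2, 1⟩, ⟨0, -1⟩],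
  !![⟨-1, -1⟩, ⟨-2, 1⟩, ⟨4, 1⟩, ⟨0, 3⟩, ⟨-6, -3⟩, ⟨-6, 3⟩; ⟨-3, 3⟩, ⟨-1, 0⟩, ⟨6, -1⟩, ⟨3, 3⟩, ⟨-6, 0⟩, ⟨0, 3⟩; ⟨-1, -3⟩, ⟨1, -1⟩, ⟨-2, 4⟩, ⟨-3, 0⟩, ⟨3, -3⟩, ⟨0, 0⟩; ⟨1, 2⟩, ⟨0, 2⟩, ⟨1, -6⟩, ⟨4, -1⟩, ⟨-3, 6⟩, ⟨1, 4⟩; ⟨0, -3⟩, ⟨0, -2⟩, ⟨-2, 5⟩, ⟨-4, 0⟩, ⟨4, -6⟩, ⟨-2, -4⟩; ⟨-2, -1⟩, ⟨-1, 1⟩, ⟨3, 1⟩, ⟨0, 3⟩, ⟨-5, -1⟩, ⟨-3, 4⟩],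
  !![⟨-1, 2⟩, ⟨1, 1⟩, ⟨1, -2⟩, ⟨3, 0⟩, ⟨0, 3⟩, ⟨3, 0⟩; ⟨3, 2⟩, ⟨1, 0⟩, ⟨-3, -2⟩, ⟨0, -3⟩, ⟨3, 3⟩, ⟨3, -3⟩; ⟨-2, 2⟩, ⟨0, 0⟩, ⟨3, -2⟩, ⟨3, 0⟩, ⟨-3, 0⟩, ⟨0, 3⟩; ⟨0, -1⟩, ⟨0, -1⟩, ⟨0, 2⟩, ⟨-1, 1⟩, ⟨2, -2⟩, ⟨-1, -3⟩; ⟨-3, 0⟩, ⟨-1, 0⟩, ⟨3, 0⟩, ⟨1, 2⟩, ⟨-4, -1⟩, ⟨0, 4⟩; ⟨0, 2⟩, ⟨1, 1⟩, ⟨0, -2⟩, ⟨2, -1⟩, ⟨0, 3⟩, ⟨2, 0⟩],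
  !![⟨-4, 0⟩, ⟨0, -2⟩, ⟨5, 2⟩, ⟨0, 3⟩, ⟨-3, -3⟩, ⟨0, 3⟩; ⟨-1, 0⟩, ⟨1, -1⟩, ⟨0, -1⟩, ⟨0, 0⟩, ⟨0, 3⟩, ⟨3, 3⟩; ⟨1, 0⟩, ⟨-1, 2⟩, ⟨0, -1⟩, ⟨0, 0⟩, ⟨-3, 0⟩, ⟨-3, 0⟩; ⟨-1, 3⟩, ⟨-1, -2⟩, ⟨2, -2⟩, ⟨2, 0⟩, ⟨1, 0⟩, ⟨4, -2⟩; ⟨1, -2⟩, ⟨1, 2⟩, ⟨-1, 2⟩, ⟨-1, 0⟩, ⟨0, -1⟩, ⟨-4, 0⟩; ⟨-2, 1⟩, ⟨0, -1⟩, ⟨3, -1⟩, ⟨1, 1⟩, ⟨-3, 0⟩, ⟨1, 3⟩],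
  !![⟨-3, -2⟩, ⟨1, 0⟩, ⟨2, 2⟩, ⟨0, 3⟩, ⟨0, 0⟩, ⟨0, 3⟩; ⟨-3, 1⟩, ⟨-1, 1⟩, ⟨3, -2⟩, ⟨3, 3⟩, ⟨-3, 3⟩, ⟨3, 3⟩; ⟨1, -2⟩, ⟨0, -1⟩, ⟨-1, 2⟩, ⟨-3, 0⟩, ⟨0, -3⟩, ⟨-3, 0⟩; ⟨-1, 3⟩, ⟨1, 1⟩, ⟨1, -3⟩, ⟨4, -1⟩, ⟨1, 3⟩, ⟨3, 0⟩; ⟨2, -3⟩, ⟨0, 0⟩, ⟨-2, 3⟩, ⟨-4, 0⟩, ⟨0, -2⟩, ⟨-4, 0⟩; ⟨-3, -1⟩, ⟨0, -1⟩, ⟨3, 2⟩, ⟨0, 3⟩, ⟨-1, -2⟩, ⟨0, 2⟩],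
  !![⟨1, -2⟩, ⟨1, 2⟩, ⟨-3, 0⟩, ⟨0, 0⟩, ⟨3, 3⟩, ⟨0, 0⟩; ⟨1, 0⟩, ⟨-2, 0⟩, ⟨0, 0⟩, ⟨0, 0⟩, ⟨0, -3⟩, ⟨-3, -3⟩; ⟨-1, 0⟩, ⟨2, -2⟩, ⟨0, 1⟩, ⟨0, 0⟩, ⟨3, 0⟩, ⟨3, 0⟩; ⟨0, -2⟩, ⟨1, 2⟩, ⟨-2, 2⟩, ⟨-1, 0⟩, ⟨1, 0⟩, ⟨-2, 1⟩; ⟨0, 1⟩, ⟨0, -1⟩, ⟨0, -1⟩, ⟨0, 0⟩, ⟨0, 2⟩, ⟨3, 0⟩; ⟨0, -1⟩, ⟨1, 0⟩, ⟨-1, 1⟩, ⟨0, 0⟩, ⟨3, 0⟩, ⟨0, -1⟩],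
  !![⟨1, -1⟩, ⟨-2, -2⟩, ⟨0, 3⟩, ⟨-3, 0⟩, ⟨0, -6⟩, ⟨-3, -3⟩; ⟨1, 0⟩, ⟨-2, 0⟩, ⟨0, 0⟩, ⟨0, 0⟩, ⟨0, -3⟩, ⟨-3, -3⟩; ⟨0, 1⟩, ⟨0, 0⟩, ⟨0, -1⟩, ⟨0, 0⟩, ⟨0, 3⟩, ⟨3, 0⟩; ⟨0, -2⟩, ⟨-1, 1⟩, ⟨1, 1⟩, ⟨-1, 1⟩, ⟨-4, -2⟩, ⟨-4, 3⟩; ⟨1, 1⟩, ⟨2, -1⟩, ⟨-2, -1⟩, ⟨0, -2⟩, ⟨4, 3⟩, ⟨4, -1⟩; ⟨0, 0⟩, ⟨-2, -1⟩, ⟨1, 1⟩, ⟨-1, 1⟩, ⟨-1, -3⟩, ⟨-1, -2⟩],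
  !![⟨0, 1⟩, ⟨0, 2⟩, ⟨1, -3⟩, ⟨3, 0⟩, ⟨-3, 3⟩, ⟨0, 3⟩; ⟨-3, 1⟩, ⟨-1, 1⟩, ⟨3, -2⟩, ⟨3, 3⟩, ⟨-3, 3⟩, ⟨3, 3⟩; ⟨1, -2⟩, ⟨0, -1⟩, ⟨0, 3⟩, ⟨-3, 0⟩, ⟨0, -3⟩, ⟨-3, 0⟩; ⟨1, 1⟩, ⟨2, 1⟩, ⟨-3, -2⟩, ⟨2, -3⟩, ⟨3, 3⟩, ⟨2, -1⟩; ⟨1, -2⟩, ⟨-1, -1⟩, ⟨1, 3⟩, ⟨-3, 1⟩, ⟨-1, -5⟩, ⟨-5, -1⟩; ⟨0, 0⟩, ⟨0, 1⟩, ⟨0, -2⟩, ⟨1, 0⟩, ⟨-2, 3⟩, ⟨1, 3⟩],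
  !![⟨0, -2⟩, ⟨0, 0⟩, ⟨-1, 3⟩, ⟨-3, 0⟩, ⟨0, -3⟩, ⟨-3, 0⟩; ⟨0, -2⟩, ⟨1, -2⟩, ⟨0, 5⟩, ⟨-3, 0⟩, ⟨3, -6⟩, ⟨-3, -3⟩; ⟨0, -1⟩, ⟨1, 1⟩, ⟨-3, 0⟩, ⟨0, 0⟩, ⟨3, 3⟩, ⟨3, 0⟩; ⟨-1, 1⟩, ⟨-2, 0⟩, ⟨4, -1⟩, ⟨0, 2⟩, ⟨-6, -1⟩, ⟨-2, 3⟩; ⟨0, 1⟩, ⟨0, 1⟩, ⟨-2, -2⟩, ⟨2, -1⟩, ⟨2, 3⟩, ⟨3, -1⟩; ⟨1, -1⟩, ⟨1, 0⟩, ⟨-2, 2⟩, ⟨-2, -1⟩, ⟨2, -1⟩, ⟨-1, -1⟩],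
  !![⟨0, -3⟩, ⟨2, 0⟩, ⟨-3, 3⟩, ⟨-3, 0⟩, ⟨3, 0⟩, ⟨0, 0⟩; ⟨0, -1⟩, ⟨2, 1⟩, ⟨0, 0⟩, ⟨0, 0⟩, ⟨0, 3⟩, ⟨0, 3⟩; ⟨1, 0⟩, ⟨-1, 0⟩, ⟨0, 1⟩, ⟨0, 0⟩, ⟨0, -3⟩, ⟨-3, -3⟩; ⟨-2, 0⟩, ⟨1, -2⟩, ⟨0, 2⟩, ⟨-1, 1⟩, ⟨3, -1⟩, ⟨3, -1⟩; ⟨2, 0⟩, ⟨-1, 1⟩, ⟨-2, -1⟩, ⟨0, -2⟩, ⟨0, -1⟩, ⟨-2, -2⟩; ⟨-1, -1⟩, ⟨1, 0⟩, ⟨0, 2⟩, ⟨-1, 1⟩, ⟨0, 0⟩, ⟨0, 1⟩],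
  !![⟨-1, -2⟩, ⟨0, 1⟩, ⟨2, 1⟩, ⟨0, 3⟩, ⟨-3, 0⟩, ⟨-3, 3⟩; ⟨-1, -1⟩, ⟨-1, 2⟩, ⟨1, 0⟩, ⟨0, 3⟩, ⟨-3, 3⟩, ⟨0, 3⟩; ⟨2, 1⟩, ⟨0, -1⟩, ⟨-1, -2⟩, ⟨0, -3⟩, ⟨0, 0⟩, ⟨0, 0⟩; ⟨-3, 0⟩, ⟨2, 1⟩, ⟨2, 0⟩, ⟨3, 2⟩, ⟨0, 2⟩, ⟨1, 3⟩; ⟨3, -1⟩, ⟨0, -1⟩, ⟨-3, 1⟩, ⟨-3, -3⟩, ⟨2, -3⟩, ⟨-2, -3⟩; ⟨-2, -1⟩, ⟨-1, 0⟩, ⟨3, 1⟩, ⟨0, 3⟩, ⟨-4, -1⟩, ⟨-2, 3⟩],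
  !![⟨1, 2⟩, ⟨0, -1⟩, ⟨-2, -1⟩, ⟨0, -3⟩, ⟨3, 0⟩, ⟨3, -3⟩; ⟨2, -2⟩, ⟨2, -2⟩, ⟨-4, 3⟩, ⟨-3, -3⟩, ⟨6, -3⟩, ⟨0, -3⟩; ⟨1, 0⟩, ⟨0, 2⟩, ⟨-2, -1⟩, ⟨0, 0⟩, ⟨0, 3⟩, ⟨0, 0⟩; ⟨0, 1⟩, ⟨-2, -1⟩, ⟨2, 0⟩, ⟨-1, 0⟩, ⟨-3, -3⟩, ⟨-1, -1⟩; ⟨-2, 1⟩, ⟨0, 2⟩, ⟨2, -2⟩, ⟨3, 2⟩, ⟨-3, 4⟩, ⟨1, 4⟩; ⟨2, 1⟩, ⟨1, 0⟩, ⟨-3, -1⟩, ⟨0, -3⟩, ⟨4, 1⟩, ⟨2, -3⟩],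
  !![⟨0, 3⟩, ⟨-2, 0⟩, ⟨3, -3⟩, ⟨3, 0⟩, ⟨-3, 0⟩, ⟨0, 0⟩; ⟨0, -1⟩, ⟨0, 0⟩, ⟨0, 1⟩, ⟨0, 0⟩, ⟨0, -3⟩, ⟨-3, 0⟩; ⟨1, 0⟩, ⟨0, 2⟩, ⟨-1, -1⟩, ⟨0, 0⟩, ⟨0, 3⟩, ⟨0, 0⟩; ⟨2, 2⟩, ⟨-1, 0⟩, ⟨-1, -3⟩, ⟨1, -3⟩, ⟨-1, 1⟩, ⟨1, -1⟩; ⟨-1, 1⟩, ⟨1, 0⟩, ⟨1, 0⟩, ⟨1, 1⟩, ⟨1, 2⟩, ⟨2, 0⟩; ⟨1, 1⟩, ⟨-1, 0⟩, ⟨0, -2⟩, ⟨1, -1⟩, ⟨0, 0⟩, ⟨0, -1⟩],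
  !![⟨1, -3⟩, ⟨0, 0⟩, ⟨-3, 3⟩, ⟨-3, 0⟩, ⟨3, -3⟩, ⟨-3, -3⟩; ⟨1, 0⟩, ⟨-2, 2⟩, ⟨0, -1⟩, ⟨0, 0⟩, ⟨-3, 0⟩, ⟨-3, 0⟩; ⟨-1, 0⟩, ⟨0, -2⟩, ⟨1, 1⟩, ⟨0, 0⟩, ⟨0, -3⟩, ⟨0, 0⟩; ⟨-1, -2⟩, ⟨1, 1⟩, ⟨0, 2⟩, ⟨-1, 2⟩, ⟨0, 0⟩, ⟨-2, 2⟩; ⟨0, 1⟩, ⟨0, -2⟩, ⟨0, -1⟩, ⟨0, -1⟩, ⟨1, 0⟩, ⟨3, -1⟩; ⟨0, -1⟩, ⟨-1, 0⟩, ⟨0, 2⟩, ⟨-1, 1⟩, ⟨0, -3⟩, ⟨-3, -2⟩],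
  !![⟨3, -1⟩, ⟨2, 1⟩, ⟨-4, -2⟩, ⟨0, -3⟩, ⟨3, 3⟩, ⟨0, 0⟩; ⟨3, -1⟩, ⟨0, 0⟩, ⟨-5, 0⟩, ⟨-3, -3⟩, ⟨3, 0⟩, ⟨0, -3⟩; ⟨-1, 0⟩, ⟨0, -2⟩, ⟨2, 1⟩, ⟨0, 0⟩, ⟨0, -3⟩, ⟨0, 0⟩; ⟨0, -2⟩, ⟨2, 0⟩, ⟨-3, 2⟩, ⟨-1, 0⟩, ⟨4, 1⟩, ⟨1, 0⟩; ⟨-2, 2⟩, ⟨-1, 0⟩, ⟨5, -2⟩, ⟨3, 2⟩, ⟨-4, 0⟩, ⟨0, 2⟩; ⟨2, 0⟩, ⟨1, 0⟩, ⟨-3, -2⟩, ⟨0, -3⟩, ⟨2, 2⟩, ⟨1, 0⟩],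
  !![⟨1, 0⟩, ⟨0, 0⟩, ⟨0, 0⟩, ⟨0, 0⟩, ⟨0, 0⟩, ⟨0, 0⟩; ⟨0, 0⟩, ⟨1, 0⟩, ⟨0, 0⟩, ⟨0, 0⟩, ⟨0, 0⟩, ⟨0, 0⟩; ⟨0, 0⟩, ⟨0, 0⟩, ⟨1, 0⟩, ⟨0, 0⟩, ⟨0, 0⟩, ⟨0, 0⟩; ⟨0, 0⟩, ⟨0, 0⟩, ⟨0, 0⟩, ⟨1, 0⟩, ⟨0, 0⟩, ⟨0, 0⟩; ⟨0, 0⟩, ⟨0, 0⟩, ⟨0, 0⟩, ⟨0, 0⟩, ⟨1, 0⟩, ⟨0, 0⟩; ⟨0, 0⟩, ⟨0, 0⟩, ⟨0, 0⟩, ⟨0, 0⟩, ⟨0, 0⟩, ⟨1, 0⟩]],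
  [!![⟨1, 0⟩, ⟨0, 0⟩, ⟨0, 0⟩, ⟨0, 0⟩, ⟨0, 0⟩, ⟨0, 0⟩; ⟨0, 0⟩, ⟨1, 0⟩, ⟨0, 0⟩, ⟨0, 0⟩, ⟨0, 0⟩, ⟨0, 0⟩; ⟨0, 0⟩, ⟨0, 0⟩, ⟨1, 0⟩, ⟨0, 0⟩, ⟨0, 0⟩, ⟨0, 0⟩; ⟨0, 0⟩, ⟨0, 0⟩, ⟨0, 0⟩, ⟨1, 0⟩, ⟨0, 0⟩, ⟨0, 0⟩; ⟨0, 0⟩, ⟨0, 0⟩, ⟨0, 0⟩, ⟨0, 0⟩, ⟨1, 0⟩, ⟨0, 0⟩; ⟨0, 0⟩, ⟨0, 0⟩, ⟨0, 0⟩, ⟨0, 0⟩, ⟨0, 0⟩, ⟨1, 0⟩],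
  !![⟨0, -3⟩, ⟨1, 0⟩, ⟨-3, 3⟩, ⟨-3, 0⟩, ⟨3, 0⟩, ⟨0, 0⟩; ⟨-2, 3⟩, ⟨0, 0⟩, ⟨3, -3⟩, ⟨3, 0⟩, ⟨-3, 3⟩, ⟨3, 3⟩; ⟨-3, -1⟩, ⟨0, -1⟩, ⟨2, 3⟩, ⟨0, 3⟩, ⟨0, -3⟩, ⟨0, 0⟩; ⟨1, -2⟩, ⟨0, 0⟩, ⟨-2, 2⟩, ⟨-3, 0⟩, ⟨2, -1⟩, ⟨-1, -1⟩; ⟨1, -1⟩, ⟨-1, 0⟩, ⟨-1, 1⟩, ⟨-1, 0⟩, ⟨0, -2⟩, ⟨-2, -2⟩; ⟨-2, -2⟩, ⟨1, 0⟩, ⟨1, 3⟩, ⟨-1, 2⟩, ⟨0, -1⟩, ⟨-1, 2⟩],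
  !![⟨-3, -1⟩, ⟨0, 0⟩, ⟨4, 3⟩, ⟨0, 3⟩, ⟨-3, -3⟩, ⟨-3, 3⟩; ⟨0, 2⟩, ⟨-1, -2⟩, ⟨2, 1⟩, ⟨0, 0⟩, ⟨0, -3⟩, ⟨0, -3⟩; ⟨-1, 0⟩, ⟨1, 0⟩, ⟨-1, -1⟩, ⟨0, 0⟩, ⟨0, 3⟩, ⟨3, 3⟩; ⟨-1, 1⟩, ⟨-1, 1⟩, ⟨4, -2⟩, ⟨2, 1⟩, ⟨-5, 0⟩, ⟨-2, 3⟩; ⟨0, -2⟩, ⟨1, 1⟩, ⟨-3, 1⟩, ⟨-1, 0⟩, ⟨2, 2⟩, ⟨1, 1⟩; ⟨-2, 0⟩, ⟨1, -1⟩, ⟨2, 2⟩, ⟨0, 1⟩, ⟨0, -2⟩, ⟨0, 1⟩],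
  !![⟨0, -1⟩, ⟨0, 1⟩, ⟨-1, 0⟩, ⟨0, 0⟩, ⟨0, 0⟩, ⟨0, 0⟩; ⟨0, -1⟩, ⟨1, 0⟩, ⟨-2, -1⟩, ⟨0, 0⟩, ⟨3, 3⟩, ⟨3, 0⟩; ⟨3, 1⟩, ⟨1, 1⟩, ⟨-2, -2⟩, ⟨0, -3⟩, ⟨0, 3⟩, ⟨0, 0⟩; ⟨-3, 0⟩, ⟨0, 0⟩, ⟨2, 2⟩, ⟨1, 2⟩, ⟨-1, -3⟩, ⟨-1, 0⟩; ⟨2, -1⟩, ⟨0, 0⟩, ⟨-1, 1⟩, ⟨-2, -1⟩, ⟨0, -1⟩, ⟨-2, 0⟩; ⟨-1, 0⟩, ⟨0, 1⟩, ⟨1, -1⟩, ⟨1, 1⟩, ⟨-2, 2⟩, ⟨1, 2⟩],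
  !![⟨1, 0⟩, ⟨1, 0⟩, ⟨-4, -2⟩, ⟨0, -3⟩, ⟨3, 3⟩, ⟨3, 0⟩; ⟨-2, -3⟩, ⟨-1, -1⟩, ⟨2, 3⟩, ⟨-3, 3⟩, ⟨-3, -3⟩, ⟨-3, 3⟩; ⟨4, -2⟩, ⟨1, 0⟩, ⟨-5, 3⟩, ⟨-3, -3⟩, ⟨6, -3⟩, ⟨-3, -6⟩; ⟨-1, 3⟩, ⟨0, 0⟩, ⟨-1, -3⟩, ⟨2, -1⟩, ⟨1, 4⟩, ⟨6, 0⟩; ⟨2, 0⟩, ⟨1, 1⟩, ⟨-1, -1⟩, ⟨1, -2⟩, ⟨1, 0⟩, ⟨-2, -1⟩; ⟨1, -1⟩, ⟨1, -1⟩, ⟨-3, 1⟩, ⟨-2, -2⟩, ⟨3, 0⟩, ⟨1, -1⟩],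
  !![⟨2, 1⟩, ⟨-1, 1⟩, ⟨1, -1⟩, ⟨0, 0⟩, ⟨-3, 0⟩, ⟨-3, 0⟩; ⟨2, 3⟩, ⟨1, 1⟩, ⟨-2, -3⟩, ⟨3, -3⟩, ⟨3, 3⟩, ⟨3, -3⟩; ⟨-2, -1⟩, ⟨-2, 0⟩, ⟨2, 0⟩, ⟨0, 3⟩, ⟨-3, 0⟩, ⟨0, 3⟩; ⟨2, -1⟩, ⟨1, 0⟩, ⟨0, 0⟩, ⟨-1, -1⟩, ⟨-1, 0⟩, ⟨-3, 1⟩; ⟨-3, 0⟩, ⟨-2, 0⟩, ⟨3, 1⟩, ⟨0, 3⟩, ⟨-4, -2⟩, ⟨-1, 2⟩; ⟨1, 1⟩, ⟨0, 1⟩, ⟨0, -2⟩, ⟨1, 0⟩, ⟨-1, 3⟩, ⟨1, 1⟩],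
  !![⟨4, 0⟩, ⟨1, 2⟩, ⟨-4, -2⟩, ⟨0, -3⟩, ⟨3, 3⟩, ⟨0, -3⟩; ⟨3, 0⟩, ⟨1, 0⟩, ⟨-5, -2⟩, ⟨0, -3⟩, ⟨6, 3⟩, ⟨3, -3⟩; ⟨-3, 1⟩, ⟨0, 1⟩, ⟨5, -2⟩, ⟨3, 3⟩, ⟨-6, 3⟩, ⟨0, 6⟩; ⟨2, -4⟩, ⟨1, -1⟩, ⟨-4, 6⟩, ⟨-5, -1⟩, ⟨5, -6⟩, ⟨-4, -5⟩; ⟨-2, 4⟩, ⟨-1, 1⟩, ⟨4, -4⟩, ⟨4, 1⟩, ⟨-5, 4⟩, ⟨3, 3⟩; ⟨3, -1⟩, ⟨1, 1⟩, ⟨-3, -1⟩, ⟨-1, -2⟩, ⟨2, 2⟩, ⟨-1, -1⟩],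
  !![⟨-4, 0⟩, ⟨-1, -2⟩, ⟨4, 2⟩, ⟨0, 3⟩, ⟨-3, -3⟩, ⟨0, 3⟩; ⟨2, -1⟩, ⟨-2, -1⟩, ⟨-1, 2⟩, ⟨-3, 0⟩, ⟨0, -3⟩, ⟨-3, -3⟩; ⟨1, 2⟩, ⟨1, -1⟩, ⟨-2, -1⟩, ⟨0, -3⟩, ⟨3, 0⟩, ⟨3, -3⟩; ⟨-3, 1⟩, ⟨-1, 1⟩, ⟨4, -2⟩, ⟨3, 3⟩, ⟨-4, 3⟩, ⟨2, 5⟩; ⟨0, -1⟩, ⟨2, -1⟩, ⟨-1, 1⟩, ⟨-1, -1⟩, ⟨2, -1⟩, ⟨0, 0⟩; ⟨-1, 2⟩, ⟨-1, -1⟩, ⟨1, -1⟩, ⟨1, 0⟩, ⟨-1, 0⟩, ⟨2, 0⟩],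
  !![⟨-3, 3⟩, ⟨-1, 0⟩, ⟨6, -1⟩, ⟨3, 3⟩, ⟨-6, 0⟩, ⟨0, 3⟩; ⟨-1, -2⟩, ⟨0, 2⟩, ⟨2, 2⟩, ⟨0, 3⟩, ⟨-3, 0⟩, ⟨-3, 3⟩; ⟨3, 2⟩, ⟨-2, 0⟩, ⟨-2, -3⟩, ⟨0, -3⟩, ⟨0, 0⟩, ⟨0, -3⟩; ⟨-2, 2⟩, ⟨1, -1⟩, ⟨4, -2⟩, ⟨3, 1⟩, ⟨-2, 2⟩, ⟨2, 3⟩; ⟨1, -1⟩, ⟨-1, -1⟩, ⟨-2, 2⟩, ⟨-3, -1⟩, ⟨1, -4⟩, ⟨-2, -3⟩; ⟨0, 2⟩, ⟨-1, 1⟩, ⟨2, -2⟩, ⟨2, 1⟩, ⟨-3, 2⟩, ⟨0, 1⟩],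
  !![⟨1, 0⟩, ⟨2, 0⟩, ⟨-3, -2⟩, ⟨0, -3⟩, ⟨3, 3⟩, ⟨3, 0⟩; ⟨-1, -3⟩, ⟨1, -1⟩, ⟨-2, 4⟩, ⟨-3, 0⟩, ⟨3, -3⟩, ⟨0, 0⟩; ⟨1, -1⟩, ⟨0, 1⟩, ⟨-1, 0⟩, ⟨0, 0⟩, ⟨0, 0⟩, ⟨-3, 0⟩; ⟨0, 2⟩, ⟨0, -1⟩, ⟨-1, -1⟩, ⟨0, -1⟩, ⟨2, 1⟩, ⟨4, -3⟩; ⟨0, 2⟩, ⟨0, 2⟩, ⟨2, -4⟩, ⟨4, 0⟩, ⟨-3, 4⟩, ⟨0, 3⟩; ⟨2, -1⟩, ⟨1, -1⟩, ⟨-4, 0⟩, ⟨-2, -3⟩, ⟨4, 0⟩, ⟨1, -2⟩],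
  !![⟨0, -1⟩, ⟨-2, -2⟩, ⟨0, 3⟩, ⟨-3, 0⟩, ⟨0, -6⟩, ⟨-3, -3⟩; ⟨-2, 2⟩, ⟨0, 0⟩, ⟨3, -2⟩, ⟨3, 0⟩, ⟨-3, 0⟩, ⟨0, 3⟩; ⟨-2, -1⟩, ⟨0, 1⟩, ⟨1, 2⟩, ⟨0, 3⟩, ⟨0, 0⟩, ⟨0, 0⟩; ⟨2, 0⟩, ⟨-2, 0⟩, ⟨-1, -1⟩, ⟨-2, -1⟩, ⟨-2, 0⟩, ⟨-1, 0⟩; ⟨0, 0⟩, ⟨1, -1⟩, ⟨-1, 1⟩, ⟨0, 0⟩, ⟨4, 0⟩, ⟨2, -3⟩; ⟨-1, -1⟩, ⟨-2, 0⟩, ⟨2, 2⟩, ⟨-1, 2⟩, ⟨-3, -4⟩, ⟨-4, 0⟩],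
  !![⟨1, 1⟩, ⟨0, 2⟩, ⟨0, -3⟩, ⟨3, 0⟩, ⟨0, 3⟩, ⟨0, 0⟩; ⟨1, 0⟩, ⟨-1, 2⟩, ⟨0, -1⟩, ⟨0, 0⟩, ⟨-3, 0⟩, ⟨-3, 0⟩; ⟨-1, 0⟩, ⟨0, -2⟩, ⟨2, 1⟩, ⟨0, 0⟩, ⟨0, -3⟩, ⟨0, 0⟩; ⟨2, -1⟩, ⟨2, 1⟩, ⟨-4, 0⟩, ⟨0, -2⟩, ⟨4, 2⟩, ⟨0, -1⟩; ⟨-1, 1⟩, ⟨-1, -2⟩, ⟨2, 0⟩, ⟨0, 1⟩, ⟨0, -1⟩, ⟨2, -1⟩; ⟨1, 0⟩, ⟨0, 1⟩, ⟨-1, -1⟩, ⟨1, -1⟩, ⟨1, 0⟩, ⟨-1, -1⟩],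
  !![⟨0, -1⟩, ⟨1, 0⟩, ⟨-2, -1⟩, ⟨0, 0⟩, ⟨3, 3⟩, ⟨3, 0⟩; ⟨2, 1⟩, ⟨0, 1⟩, ⟨-4, -2⟩, ⟨0, -3⟩, ⟨3, 3⟩, ⟨3, -3⟩; ⟨-1, 0⟩, ⟨0, -2⟩, ⟨1, 1⟩, ⟨0, 0⟩, ⟨0, -3⟩, ⟨0, 0⟩; ⟨0, -2⟩, ⟨1, 1⟩, ⟨-2, 2⟩, ⟨-1, 1⟩, ⟨3, 0⟩, ⟨-1, -1⟩; ⟨-1, -1⟩, ⟨-1, -1⟩, ⟨3, 1⟩, ⟨-1, 2⟩, ⟨-4, -2⟩, ⟨-2, 3⟩; ⟨-1, 1⟩, ⟨0, 0⟩, ⟨0, -2⟩, ⟨2, 0⟩, ⟨1, 2⟩, ⟨3, 0⟩],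
  !![⟨0, 2⟩, ⟨-1, -2⟩, ⟨2, 1⟩, ⟨0, 0⟩, ⟨0, -3⟩, ⟨0, -3⟩; ⟨-2, -1⟩, ⟨0, -1⟩, ⟨4, 2⟩, ⟨0, 3⟩, ⟨-3, -3⟩, ⟨-3, 3⟩; ⟨1, 0⟩, ⟨0, 2⟩, ⟨-1, -1⟩, ⟨0, 0⟩, ⟨0, 3⟩, ⟨0, 0⟩; ⟨1, 1⟩, ⟨-2, -1⟩, ⟨1, -1⟩, ⟨0, -1⟩, ⟨-2, -2⟩, ⟨-1, -1⟩; ⟨1, 0⟩, ⟨2, 1⟩, ⟨-4, 0⟩, ⟨0, -2⟩, ⟨5, 3⟩, ⟨3, -2⟩; ⟨0, 0⟩, ⟨-1, -1⟩, ⟨2, 2⟩, ⟨-1, 1⟩, ⟨-1, -4⟩, ⟨-3, -2⟩],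
  !![⟨1, 0⟩, ⟨0, 0⟩, ⟨0, 0⟩, ⟨0, 0⟩, ⟨0, 0⟩, ⟨0, 0⟩; ⟨0, 0⟩, ⟨1, 0⟩, ⟨0, 0⟩, ⟨0, 0⟩, ⟨0, 0⟩, ⟨0, 0⟩; ⟨0, 0⟩, ⟨0, 0⟩, ⟨1, 0⟩, ⟨0, 0⟩, ⟨0, 0⟩, ⟨0, 0⟩; ⟨0, 0⟩, ⟨0, 0⟩, ⟨0, 0⟩, ⟨1, 0⟩, ⟨0, 0⟩, ⟨0, 0⟩; ⟨0, 0⟩, ⟨0, 0⟩, ⟨0, 0⟩, ⟨0, 0⟩, ⟨1, 0⟩, ⟨0, 0⟩; ⟨0, 0⟩, ⟨0, 0⟩, ⟨0, 0⟩, ⟨0, 0⟩, ⟨0, 0⟩, ⟨1, 0⟩],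
  !![⟨3, -1⟩, ⟨2, 1⟩, ⟨-4, -2⟩, ⟨0, -3⟩, ⟨3, 3⟩, ⟨0, 0⟩; ⟨3, -1⟩, ⟨0, 0⟩, ⟨-5, 0⟩, ⟨-3, -3⟩, ⟨3, 0⟩, ⟨0, -3⟩; ⟨-1, 0⟩, ⟨0, -2⟩, ⟨2, 1⟩, ⟨0, 0⟩, ⟨0, -3⟩, ⟨0, 0⟩; ⟨0, -2⟩, ⟨2, 0⟩, ⟨-3, 2⟩, ⟨-1, 0⟩, ⟨4, 1⟩, ⟨1, 0⟩; ⟨-2, 2⟩, ⟨-1, 0⟩, ⟨5, -2⟩, ⟨3, 2⟩, ⟨-4, 0⟩, ⟨0, 2⟩; ⟨2, 0⟩, ⟨1, 0⟩, ⟨-3, -2⟩, ⟨0, -3⟩, ⟨2, 2⟩, ⟨1, 0⟩],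
  !![⟨1, -3⟩, ⟨0, 0⟩, ⟨-3, 3⟩, ⟨-3, 0⟩, ⟨3, -3⟩, ⟨-3, -3⟩; ⟨1, 0⟩, ⟨-2, 2⟩, ⟨0, -1⟩, ⟨0, 0⟩, ⟨-3, 0⟩, ⟨-3, 0⟩; ⟨-1, 0⟩, ⟨0, -2⟩, ⟨1, 1⟩, ⟨0, 0⟩, ⟨0, -3⟩, ⟨0, 0⟩; ⟨-1, -2⟩, ⟨1, 1⟩, ⟨0, 2⟩, ⟨-1, 2⟩, ⟨0, 0⟩, ⟨-2, 2⟩; ⟨0, 1⟩, ⟨0, -2⟩, ⟨0, -1⟩, ⟨0, -1⟩, ⟨1, 0⟩, ⟨3, -1⟩; ⟨0, -1⟩, ⟨-1, 0⟩, ⟨0, 2⟩, ⟨-1, 1⟩, ⟨0, -3⟩, ⟨-3, -2⟩],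
  !![⟨-3, -1⟩, ⟨-1, 1⟩, ⟨2, 1⟩, ⟨0, 3⟩, ⟨-3, 0⟩, ⟨0, 3⟩; ⟨-1, 2⟩, ⟨0, 1⟩, ⟨1, -2⟩, ⟨3, 0⟩, ⟨0, 3⟩, ⟨3, 0⟩; ⟨0, 0⟩, ⟨0, 0⟩, ⟨-1, 0⟩, ⟨0, 0⟩, ⟨0, 0⟩, ⟨0, 0⟩; ⟨-1, 1⟩, ⟨0, 1⟩, ⟨2, -1⟩, ⟨1, 1⟩, ⟨-2, 1⟩, ⟨0, 1⟩; ⟨1, -2⟩, ⟨-1, -1⟩, ⟨-1, 2⟩, ⟨-3, 0⟩, ⟨-1, -3⟩, ⟨-3, 0⟩; ⟨-2, 0⟩, ⟨0, 1⟩, ⟨1, 0⟩, ⟨1, 2⟩, ⟨-1, 2⟩, ⟨2, 2⟩],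
  !![⟨-2, 3⟩, ⟨0, 0⟩, ⟨3, -3⟩, ⟨3, 0⟩, ⟨-3, 3⟩, ⟨3, 3⟩; ⟨-1, 0⟩, ⟨1, -2⟩, ⟨0, 1⟩, ⟨0, 0⟩, ⟨3, 0⟩, ⟨3, 0⟩; ⟨1, 0⟩, ⟨0, 2⟩, ⟨-2, -1⟩, ⟨0, 0⟩, ⟨0, 3⟩, ⟨0, 0⟩; ⟨1, 2⟩, ⟨-1, -1⟩, ⟨0, -2⟩, ⟨0, -2⟩, ⟨0, 0⟩, ⟨2, -2⟩; ⟨0, -1⟩, ⟨0, 2⟩, ⟨0, 1⟩, ⟨0, 1⟩, ⟨-2, 0⟩, ⟨-3, 1⟩; ⟨0, 1⟩, ⟨1, 0⟩, ⟨0, -2⟩, ⟨1, -1⟩, ⟨0, 3⟩, ⟨2, 2⟩],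
  !![⟨0, 2⟩, ⟨-1, -2⟩, ⟨2, 1⟩, ⟨0, 0⟩, ⟨0, -3⟩, ⟨0, -3⟩; ⟨-2, -1⟩, ⟨0, -1⟩, ⟨4, 2⟩, ⟨0, 3⟩, ⟨-3, -3⟩, ⟨-3, 3⟩; ⟨1, 0⟩, ⟨0, 2⟩, ⟨-1, -1⟩, ⟨0, 0⟩, ⟨0, 3⟩, ⟨0, 0⟩; ⟨1, 1⟩, ⟨-2, -1⟩, ⟨1, -1⟩, ⟨0, -1⟩, ⟨-2, -2⟩, ⟨-1, -1⟩; ⟨1, 0⟩, ⟨2, 1⟩, ⟨-4, 0⟩, ⟨0, -2⟩, ⟨5, 3⟩, ⟨3, -2⟩; ⟨0, 0⟩, ⟨-1, -1⟩, ⟨2, 2⟩, ⟨-1, 1⟩, ⟨-1, -4⟩, ⟨-3, -2⟩],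
  !![⟨1, 0⟩, ⟨0, 0⟩, ⟨0, 0⟩, ⟨0, 0⟩, ⟨0, 0⟩, ⟨0, 0⟩; ⟨0, 0⟩, ⟨1, 0⟩, ⟨0, 0⟩, ⟨0, 0⟩, ⟨0, 0⟩, ⟨0, 0⟩; ⟨0, 0⟩, ⟨0, 0⟩, ⟨1, 0⟩, ⟨0, 0⟩, ⟨0, 0⟩, ⟨0, 0⟩; ⟨0, 0⟩, ⟨0, 0⟩, ⟨0, 0⟩, ⟨1, 0⟩, ⟨0, 0⟩, ⟨0, 0⟩; ⟨0, 0⟩, ⟨0, 0⟩, ⟨0, 0⟩, ⟨0, 0⟩, ⟨1, 0⟩, ⟨0, 0⟩; ⟨0, 0⟩, ⟨0, 0⟩, ⟨0, 0⟩, ⟨0, 0⟩, ⟨0, 0⟩, ⟨1, 0⟩]],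
  [!![⟨1, 0⟩, ⟨0, 0⟩, ⟨0, 0⟩, ⟨0, 0⟩, ⟨0, 0⟩, ⟨0, 0⟩; ⟨0, 0⟩, ⟨1, 0⟩, ⟨0, 0⟩, ⟨0, 0⟩, ⟨0, 0⟩, ⟨0, 0⟩; ⟨0, 0⟩, ⟨0, 0⟩, ⟨1, 0⟩, ⟨0, 0⟩, ⟨0, 0⟩, ⟨0, 0⟩; ⟨0, 0⟩, ⟨0, 0⟩, ⟨0, 0⟩, ⟨1, 0⟩, ⟨0, 0⟩, ⟨0, 0⟩; ⟨0, 0⟩, ⟨0, 0⟩, ⟨0, 0⟩, ⟨0, 0⟩, ⟨1, 0⟩, ⟨0, 0⟩; ⟨0, 0⟩, ⟨0, 0⟩, ⟨0, 0⟩, ⟨0, 0⟩, ⟨0, 0⟩, ⟨1, 0⟩],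
  !![⟨0, -3⟩, ⟨1, 0⟩, ⟨-3, 3⟩, ⟨-3, 0⟩, ⟨3, 0⟩, ⟨0, 0⟩; ⟨-2, 3⟩, ⟨0, 0⟩, ⟨3, -3⟩, ⟨3, 0⟩, ⟨-3, 3⟩, ⟨3, 3⟩; ⟨-3, -1⟩, ⟨0, -1⟩, ⟨2, 3⟩, ⟨0, 3⟩, ⟨0, -3⟩, ⟨0, 0⟩; ⟨1, -2⟩, ⟨0, 0⟩, ⟨-2, 2⟩, ⟨-3, 0⟩, ⟨2, -1⟩, ⟨-1, -1⟩; ⟨1, -1⟩, ⟨-1, 0⟩, ⟨-1, 1⟩, ⟨-1, 0⟩, ⟨0, -2⟩, ⟨-2, -2⟩; ⟨-2, -2⟩, ⟨1, 0⟩, ⟨1, 3⟩, ⟨-1, 2⟩, ⟨0, -1⟩, ⟨-1, 2⟩],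
  !![⟨-3, -1⟩, ⟨0, 0⟩, ⟨4, 3⟩, ⟨0, 3⟩, ⟨-3, -3⟩, ⟨-3, 3⟩; ⟨0, 2⟩, ⟨-1, -2⟩, ⟨2, 1⟩, ⟨0, 0⟩, ⟨0, -3⟩, ⟨0, -3⟩; ⟨-1, 0⟩, ⟨1, 0⟩, ⟨-1, -1⟩, ⟨0, 0⟩, ⟨0, 3⟩, ⟨3, 3⟩; ⟨-1, 1⟩, ⟨-1, 1⟩, ⟨4, -2⟩, ⟨2, 1⟩, ⟨-5, 0⟩, ⟨-2, 3⟩; ⟨0, -2⟩, ⟨1, 1⟩, ⟨-3, 1⟩, ⟨-1, 0⟩, ⟨2, 2⟩, ⟨1, 1⟩; ⟨-2, 0⟩, ⟨1, -1⟩, ⟨2, 2⟩, ⟨0, 1⟩, ⟨0, -2⟩, ⟨0, 1⟩],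
  !![⟨0, -1⟩, ⟨0, 1⟩, ⟨-1, 0⟩, ⟨0, 0⟩, ⟨0, 0⟩, ⟨0, 0⟩; ⟨0, -1⟩, ⟨1, 0⟩, ⟨-2, -1⟩, ⟨0, 0⟩, ⟨3, 3⟩, ⟨3, 0⟩; ⟨3, 1⟩, ⟨1, 1⟩, ⟨-2, -2⟩, ⟨0, -3⟩, ⟨0, 3⟩, ⟨0, 0⟩; ⟨-3, 0⟩, ⟨0, 0⟩, ⟨2, 2⟩, ⟨1, 2⟩, ⟨-1, -3⟩, ⟨-1, 0⟩; ⟨2, -1⟩, ⟨0, 0⟩, ⟨-1, 1⟩, ⟨-2, -1⟩, ⟨0, -1⟩, ⟨-2, 0⟩; ⟨-1, 0⟩, ⟨0, 1⟩, ⟨1, -1⟩, ⟨1, 1⟩, ⟨-2, 2⟩, ⟨1, 2⟩],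
  !![⟨1, 0⟩, ⟨1, 0⟩, ⟨-4, -2⟩, ⟨0, -3⟩, ⟨3, 3⟩, ⟨3, 0⟩; ⟨-2, -3⟩, ⟨-1, -1⟩, ⟨2, 3⟩, ⟨-3, 3⟩, ⟨-3, -3⟩, ⟨-3, 3⟩; ⟨4, -2⟩, ⟨1, 0⟩, ⟨-5, 3⟩, ⟨-3, -3⟩, ⟨6, -3⟩, ⟨-3, -6⟩; ⟨-1, 3⟩, ⟨0, 0⟩, ⟨-1, -3⟩, ⟨2, -1⟩, ⟨1, 4⟩, ⟨6, 0⟩; ⟨2, 0⟩, ⟨1, 1⟩, ⟨-1, -1⟩, ⟨1, -2⟩, ⟨1, 0⟩, ⟨-2, -1⟩; ⟨1, -1⟩, ⟨1, -1⟩, ⟨-3, 1⟩, ⟨-2, -2⟩, ⟨3, 0⟩, ⟨1, -1⟩],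
  !![⟨2, 1⟩, ⟨-1, 1⟩, ⟨1, -1⟩, ⟨0, 0⟩, ⟨-3, 0⟩, ⟨-3, 0⟩; ⟨2, 3⟩, ⟨1, 1⟩, ⟨-2, -3⟩, ⟨3, -3⟩, ⟨3, 3⟩, ⟨3, -3⟩; ⟨-2, -1⟩, ⟨-2, 0⟩, ⟨2, 0⟩, ⟨0, 3⟩, ⟨-3, 0⟩, ⟨0, 3⟩; ⟨2, -1⟩, ⟨1, 0⟩, ⟨0, 0⟩, ⟨-1, -1⟩, ⟨-1, 0⟩, ⟨-3, 1⟩; ⟨-3, 0⟩, ⟨-2, 0⟩, ⟨3, 1⟩, ⟨0, 3⟩, ⟨-4, -2⟩, ⟨-1, 2⟩; ⟨1, 1⟩, ⟨0, 1⟩, ⟨0, -2⟩, ⟨1, 0⟩, ⟨-1, 3⟩, ⟨1, 1⟩],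
  !![⟨4, 0⟩, ⟨1, 2⟩, ⟨-4, -2⟩, ⟨0, -3⟩, ⟨3, 3⟩, ⟨0, -3⟩; ⟨3, 0⟩, ⟨1, 0⟩, ⟨-5, -2⟩, ⟨0, -3⟩, ⟨6, 3⟩, ⟨3, -3⟩; ⟨-3, 1⟩, ⟨0, 1⟩, ⟨5, -2⟩, ⟨3, 3⟩, ⟨-6, 3⟩, ⟨0, 6⟩; ⟨2, -4⟩, ⟨1, -1⟩, ⟨-4, 6⟩, ⟨-5, -1⟩, ⟨5, -6⟩, ⟨-4, -5⟩; ⟨-2, 4⟩, ⟨-1, 1⟩, ⟨4, -4⟩, ⟨4, 1⟩, ⟨-5, 4⟩, ⟨3, 3⟩; ⟨3, -1⟩, ⟨1, 1⟩, ⟨-3, -1⟩, ⟨-1, -2⟩, ⟨2, 2⟩, ⟨-1, -1⟩],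
  !![⟨-4, 0⟩, ⟨-1, -2⟩, ⟨4, 2⟩, ⟨0, 3⟩, ⟨-3, -3⟩, ⟨0, 3⟩; ⟨2, -1⟩, ⟨-2, -1⟩, ⟨-1, 2⟩, ⟨-3, 0⟩, ⟨0, -3⟩, ⟨-3, -3⟩; ⟨1, 2⟩, ⟨1, -1⟩, ⟨-2, -1⟩, ⟨0, -3⟩, ⟨3, 0⟩, ⟨3, -3⟩; ⟨-3, 1⟩, ⟨-1, 1⟩, ⟨4, -2⟩, ⟨3, 3⟩, ⟨-4, 3⟩, ⟨2, 5⟩; ⟨0, -1⟩, ⟨2, -1⟩, ⟨-1, 1⟩, ⟨-1, -1⟩, ⟨2, -1⟩, ⟨0, 0⟩; ⟨-1, 2⟩, ⟨-1, -1⟩, ⟨1, -1⟩, ⟨1, 0⟩, ⟨-1, 0⟩, ⟨2, 0⟩],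
  !![⟨-3, 3⟩, ⟨-1, 0⟩, ⟨6, -1⟩, ⟨3, 3⟩, ⟨-6, 0⟩, ⟨0, 3⟩; ⟨-1, -2⟩, ⟨0, 2⟩, ⟨2, 2⟩, ⟨0, 3⟩, ⟨-3, 0⟩, ⟨-3, 3⟩; ⟨3, 2⟩, ⟨-2, 0⟩, ⟨-2, -3⟩, ⟨0, -3⟩, ⟨0, 0⟩, ⟨0, -3⟩; ⟨-2, 2⟩, ⟨1, -1⟩, ⟨4, -2⟩, ⟨3, 1⟩, ⟨-2, 2⟩, ⟨2, 3⟩; ⟨1, -1⟩, ⟨-1, -1⟩, ⟨-2, 2⟩, ⟨-3, -1⟩, ⟨1, -4⟩, ⟨-2, -3⟩; ⟨0, 2⟩, ⟨-1, 1⟩, ⟨2, -2⟩, ⟨2, 1⟩, ⟨-3, 2⟩, ⟨0, 1⟩],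
  !![⟨1, 0⟩, ⟨2, 0⟩, ⟨-3, -2⟩, ⟨0, -3⟩, ⟨3, 3⟩, ⟨3, 0⟩; ⟨-1, -3⟩, ⟨1, -1⟩, ⟨-2, 4⟩, ⟨-3, 0⟩, ⟨3, -3⟩, ⟨0, 0⟩; ⟨1, -1⟩, ⟨0, 1⟩, ⟨-1, 0⟩, ⟨0, 0⟩, ⟨0, 0⟩, ⟨-3, 0⟩; ⟨0, 2⟩, ⟨0, -1⟩, ⟨-1, -1⟩, ⟨0, -1⟩, ⟨2, 1⟩, ⟨4, -3⟩; ⟨0, 2⟩, ⟨0, 2⟩, ⟨2, -4⟩, ⟨4, 0⟩, ⟨-3, 4⟩, ⟨0, 3⟩; ⟨2, -1⟩, ⟨1, -1⟩, ⟨-4, 0⟩, ⟨-2, -3⟩, ⟨4, 0⟩, ⟨1, -2⟩],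
  !![⟨0, -1⟩, ⟨-2, -2⟩, ⟨0, 3⟩, ⟨-3, 0⟩, ⟨0, -6⟩, ⟨-3, -3⟩; ⟨-2, 2⟩, ⟨0, 0⟩, ⟨3, -2⟩, ⟨3, 0⟩, ⟨-3, 0⟩, ⟨0, 3⟩; ⟨-2, -1⟩, ⟨0, 1⟩, ⟨1, 2⟩, ⟨0, 3⟩, ⟨0, 0⟩, ⟨0, 0⟩; ⟨2, 0⟩, ⟨-2, 0⟩, ⟨-1, -1⟩, ⟨-2, -1⟩, ⟨-2, 0⟩, ⟨-1, 0⟩; ⟨0, 0⟩, ⟨1, -1⟩, ⟨-1, 1⟩, ⟨0, 0⟩, ⟨4, 0⟩, ⟨2, -3⟩; ⟨-1, -1⟩, ⟨-2, 0⟩, ⟨2, 2⟩, ⟨-1, 2⟩, ⟨-3, -4⟩, ⟨-4, 0⟩],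
  !![⟨-3, 2⟩, ⟨-2, 1⟩, ⟨5, -1⟩, ⟨3, 3⟩, ⟨-6, 0⟩, ⟨0, 3⟩; ⟨-1, 4⟩, ⟨-1, -1⟩, ⟨2, -2⟩, ⟨3, 0⟩, ⟨0, 0⟩, ⟨3, -3⟩; ⟨-1, 0⟩, ⟨1, 0⟩, ⟨0, -1⟩, ⟨0, 0⟩, ⟨0, 3⟩, ⟨3, 3⟩; ⟨1, 1⟩, ⟨-1, 2⟩, ⟨2, -2⟩, ⟨2, 0⟩, ⟨-4, 1⟩, ⟨-3, 1⟩; ⟨-1, -3⟩, ⟨0, -1⟩, ⟨0, 3⟩, ⟨-3, 2⟩, ⟨0, -2⟩, ⟨-1, 2⟩; ⟨-2, 2⟩, ⟨0, 1⟩, ⟨2, -2⟩, ⟨3, 1⟩, ⟨-2, 3⟩, ⟨3, 2⟩],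
  !![⟨0, -4⟩, ⟨2, 0⟩, ⟨-2, 4⟩, ⟨-3, 0⟩, ⟨3, -3⟩, ⟨-3, 0⟩; ⟨0, 0⟩, ⟨0, -1⟩, ⟨1, -1⟩, ⟨0, 0⟩, ⟨0, 0⟩, ⟨0, 0⟩; ⟨0, 0⟩, ⟨1, 0⟩, ⟨0, 1⟩, ⟨0, 0⟩, ⟨0, 0⟩, ⟨0, 0⟩; ⟨-2, -1⟩, ⟨0, -1⟩, ⟨0, 2⟩, ⟨-1, 1⟩, ⟨1, -3⟩, ⟨0, 0⟩; ⟨2, 0⟩, ⟨1, 1⟩, ⟨-3, 0⟩, ⟨0, -2⟩, ⟨3, 2⟩, ⟨1, -2⟩; ⟨-1, -2⟩, ⟨1, -1⟩, ⟨1, 3⟩, ⟨-2, 1⟩, ⟨0, -3⟩, ⟨-2, 1⟩],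
  !![⟨2, -4⟩, ⟨2, 1⟩, ⟨-3, 3⟩, ⟨-3, 0⟩, ⟨3, 0⟩, ⟨-3, 0⟩; ⟨0, 1⟩, ⟨1, 2⟩, ⟨0, -4⟩, ⟨3, 0⟩, ⟨0, 6⟩, ⟨3, 3⟩; ⟨-2, 0⟩, ⟨-2, -1⟩, ⟨5, 1⟩, ⟨0, 3⟩, ⟨-6, -3⟩, ⟨-3, 3⟩; ⟨0, -3⟩, ⟨3, -1⟩, ⟨-3, 4⟩, ⟨-2, -1⟩, ⟨6, -3⟩, ⟨-1, -2⟩; ⟨1, 1⟩, ⟨-2, 1⟩, ⟨1, -1⟩, ⟨0, 0⟩, ⟨-4, 0⟩, ⟨-2, 0⟩; ⟨-1, -2⟩, ⟨1, 0⟩, ⟨1, 2⟩, ⟨-1, 2⟩, ⟨0, 0⟩, ⟨-1, 2⟩],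
  !![⟨-1, 1⟩, ⟨-1, -1⟩, ⟨0, 0⟩, ⟨0, 0⟩, ⟨0, 0⟩, ⟨3, 0⟩; ⟨0, -1⟩, ⟨-1, -2⟩, ⟨0, 4⟩, ⟨-3, 0⟩, ⟨0, -6⟩, ⟨-3, -3⟩; ⟨2, 0⟩, ⟨2, 1⟩, ⟨-5, -1⟩, ⟨0, -3⟩, ⟨6, 3⟩, ⟨3, -3⟩; ⟨-2, 2⟩, ⟨-3, 1⟩, ⟨5, -2⟩, ⟨2, 3⟩, ⟨-7, 1⟩, ⟨0, 3⟩; ⟨0, -1⟩, ⟨2, 0⟩, ⟨-2, 0⟩, ⟨0, -1⟩, ⟨3, 1⟩, ⟨1, 1⟩; ⟨0, 1⟩, ⟨0, -1⟩, ⟨-1, 0⟩, ⟨0, -1⟩, ⟨2, 0⟩, ⟨3, -2⟩],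
  !![⟨0, 2⟩, ⟨0, 1⟩, ⟨2, -3⟩, ⟨3, 0⟩, ⟨-3, 3⟩, ⟨0, 3⟩; ⟨0, 0⟩, ⟨0, 1⟩, ⟨-1, 1⟩, ⟨0, 0⟩, ⟨0, 0⟩, ⟨0, 0⟩; ⟨0, 0⟩, ⟨-1, 0⟩, ⟨0, -1⟩, ⟨0, 0⟩, ⟨0, 0⟩, ⟨0, 0⟩; ⟨1, 2⟩, ⟨1, 0⟩, ⟨0, -3⟩, ⟨2, -2⟩, ⟨0, 4⟩, ⟨3, 1⟩; ⟨-1, 1⟩, ⟨-1, 0⟩, ⟨2, -1⟩, ⟨1, 1⟩, ⟨-2, -1⟩, ⟨-1, 0⟩; ⟨1, 0⟩, ⟨0, 0⟩, ⟨-1, -1⟩, ⟨0, -1⟩, ⟨0, 1⟩, ⟨0, 1⟩],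
  !![⟨3, -1⟩, ⟨0, 0⟩, ⟨-5, 0⟩, ⟨-3, -3⟩, ⟨3, 0⟩, ⟨0, -3⟩; ⟨1, -4⟩, ⟨1, 1⟩, ⟨-2, 2⟩, ⟨-3, 0⟩, ⟨0, 0⟩, ⟨-3, 3⟩; ⟨1, 0⟩, ⟨-1, 0⟩, ⟨0, 1⟩, ⟨0, 0⟩, ⟨0, -3⟩, ⟨-3, -3⟩; ⟨-1, -1⟩, ⟨1, -1⟩, ⟨-1, 2⟩, ⟨-2, 1⟩, ⟨2, 0⟩, ⟨2, 0⟩; ⟨0, 3⟩, ⟨-1, 0⟩, ⟨2, -3⟩, ⟨3, -1⟩, ⟨-2, 0⟩, ⟨0, -1⟩; ⟨3, -1⟩, ⟨0, 1⟩, ⟨-4, 0⟩, ⟨-2, -2⟩, ⟨2, 1⟩, ⟨-1, -2⟩],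
  !![⟨0, 0⟩, ⟨1, 0⟩, ⟨0, 0⟩, ⟨0, 0⟩, ⟨0, 0⟩, ⟨0, 0⟩; ⟨2, -2⟩, ⟨0, 0⟩, ⟨-3, 2⟩, ⟨-3, 0⟩, ⟨3, 0⟩, ⟨0, -3⟩; ⟨2, 1⟩, ⟨0, -1⟩, ⟨-1, -2⟩, ⟨0, -3⟩, ⟨0, 0⟩, ⟨0, 0⟩; ⟨-3, 0⟩, ⟨1, 0⟩, ⟨3, 1⟩, ⟨2, 3⟩, ⟨-1, 0⟩, ⟨0, 2⟩; ⟨0, 0⟩, ⟨0, 0⟩, ⟨0, -1⟩, ⟨0, -1⟩, ⟨-1, 0⟩, ⟨0, 2⟩; ⟨1, 1⟩, ⟨0, 0⟩, ⟨-1, -1⟩, ⟨0, -1⟩, ⟨0, 1⟩, ⟨1, -1⟩],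
  !![⟨-2, 3⟩, ⟨0, 0⟩, ⟨3, -3⟩, ⟨3, 0⟩, ⟨-3, 3⟩, ⟨3, 3⟩; ⟨-1, 0⟩, ⟨1, -2⟩, ⟨0, 1⟩, ⟨0, 0⟩, ⟨3, 0⟩, ⟨3, 0⟩; ⟨1, 0⟩, ⟨0, 2⟩, ⟨-2, -1⟩, ⟨0, 0⟩, ⟨0, 3⟩, ⟨0, 0⟩; ⟨1, 2⟩, ⟨-1, -1⟩, ⟨0, -2⟩, ⟨0, -2⟩, ⟨0, 0⟩, ⟨2, -2⟩; ⟨0, -1⟩, ⟨0, 2⟩, ⟨0, 1⟩, ⟨0, 1⟩, ⟨-2, 0⟩, ⟨-3, 1⟩; ⟨0, 1⟩, ⟨1, 0⟩, ⟨0, -2⟩, ⟨1, -1⟩, ⟨0, 3⟩, ⟨2, 2⟩],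
  !![⟨0, 2⟩, ⟨-1, -2⟩, ⟨2, 1⟩, ⟨0, 0⟩, ⟨0, -3⟩, ⟨0, -3⟩; ⟨-2, -1⟩, ⟨0, -1⟩, ⟨4, 2⟩, ⟨0, 3⟩, ⟨-3, -3⟩, ⟨-3, 3⟩; ⟨1, 0⟩, ⟨0, 2⟩, ⟨-1, -1⟩, ⟨0, 0⟩, ⟨0, 3⟩, ⟨0, 0⟩; ⟨1, 1⟩, ⟨-2, -1⟩, ⟨1, -1⟩, ⟨0, -1⟩, ⟨-2, -2⟩, ⟨-1, -1⟩; ⟨1, 0⟩, ⟨2, 1⟩, ⟨-4, 0⟩, ⟨0, -2⟩, ⟨5, 3⟩, ⟨3, -2⟩; ⟨0, 0⟩, ⟨-1, -1⟩, ⟨2, 2⟩, ⟨-1, 1⟩, ⟨-1, -4⟩, ⟨-3, -2⟩],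
  !![⟨1, 0⟩, ⟨0, 0⟩, ⟨0, 0⟩, ⟨0, 0⟩, ⟨0, 0⟩, ⟨0, 0⟩; ⟨0, 0⟩, ⟨1, 0⟩, ⟨0, 0⟩, ⟨0, 0⟩, ⟨0, 0⟩, ⟨0, 0⟩; ⟨0, 0⟩, ⟨0, 0⟩, ⟨1, 0⟩, ⟨0, 0⟩, ⟨0, 0⟩, ⟨0, 0⟩; ⟨0, 0⟩, ⟨0, 0⟩, ⟨0, 0⟩, ⟨1, 0⟩, ⟨0, 0⟩, ⟨0, 0⟩; ⟨0, 0⟩, ⟨0, 0⟩, ⟨0, 0⟩, ⟨0, 0⟩, ⟨1, 0⟩, ⟨0, 0⟩; ⟨0, 0⟩, ⟨0, 0⟩, ⟨0, 0⟩, ⟨0, 0⟩, ⟨0, 0⟩, ⟨1, 0⟩]],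
  [!![⟨1, 0⟩, ⟨0, 0⟩, ⟨0, 0⟩, ⟨0, 0⟩, ⟨0, 0⟩, ⟨0, 0⟩; ⟨0, 0⟩, ⟨1, 0⟩, ⟨0, 0⟩, ⟨0, 0⟩, ⟨0, 0⟩, ⟨0, 0⟩; ⟨0, 0⟩, ⟨0, 0⟩, ⟨1, 0⟩, ⟨0, 0⟩, ⟨0, 0⟩, ⟨0, 0⟩; ⟨0, 0⟩, ⟨0, 0⟩, ⟨0, 0⟩, ⟨1, 0⟩, ⟨0, 0⟩, ⟨0, 0⟩; ⟨0, 0⟩, ⟨0, 0⟩, ⟨0, 0⟩, ⟨0, 0⟩, ⟨1, 0⟩, ⟨0, 0⟩; ⟨0, 0⟩, ⟨0, 0⟩, ⟨0, 0⟩, ⟨0, 0⟩, ⟨0, 0⟩, ⟨1, 0⟩],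
  !![⟨0, -3⟩, ⟨1, 0⟩, ⟨-3, 3⟩, ⟨-3, 0⟩, ⟨3, 0⟩, ⟨0, 0⟩; ⟨-2, 3⟩, ⟨0, 0⟩, ⟨3, -3⟩, ⟨3, 0⟩, ⟨-3, 3⟩, ⟨3, 3⟩; ⟨-3, -1⟩, ⟨0, -1⟩, ⟨2, 3⟩, ⟨0, 3⟩, ⟨0, -3⟩, ⟨0, 0⟩; ⟨1, -2⟩, ⟨0, 0⟩, ⟨-2, 2⟩, ⟨-3, 0⟩, ⟨2, -1⟩, ⟨-1, -1⟩; ⟨1, -1⟩, ⟨-1, 0⟩, ⟨-1, 1⟩, ⟨-1, 0⟩, ⟨0, -2⟩, ⟨-2, -2⟩; ⟨-2, -2⟩, ⟨1, 0⟩, ⟨1, 3⟩, ⟨-1, 2⟩, ⟨0, -1⟩, ⟨-1, 2⟩],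
  !![⟨-3, -1⟩, ⟨0, 0⟩, ⟨4, 3⟩, ⟨0, 3⟩, ⟨-3, -3⟩, ⟨-3, 3⟩; ⟨0, 2⟩, ⟨-1, -2⟩, ⟨2, 1⟩, ⟨0, 0⟩, ⟨0, -3⟩, ⟨0, -3⟩; ⟨-1, 0⟩, ⟨1, 0⟩, ⟨-1, -1⟩, ⟨0, 0⟩, ⟨0, 3⟩, ⟨3, 3⟩; ⟨-1, 1⟩, ⟨-1, 1⟩, ⟨4, -2⟩, ⟨2, 1⟩, ⟨-5, 0⟩, ⟨-2, 3⟩; ⟨0, -2⟩, ⟨1, 1⟩, ⟨-3, 1⟩, ⟨-1, 0⟩, ⟨2, 2⟩, ⟨1, 1⟩; ⟨-2, 0⟩, ⟨1, -1⟩, ⟨2, 2⟩, ⟨0, 1⟩, ⟨0, -2⟩, ⟨0, 1⟩],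
  !![⟨0, -1⟩, ⟨0, 1⟩, ⟨-1, 0⟩, ⟨0, 0⟩, ⟨0, 0⟩, ⟨0, 0⟩; ⟨0, -1⟩, ⟨1, 0⟩, ⟨-2, -1⟩, ⟨0, 0⟩, ⟨3, 3⟩, ⟨3, 0⟩; ⟨3, 1⟩, ⟨1, 1⟩, ⟨-2, -2⟩, ⟨0, -3⟩, ⟨0, 3⟩, ⟨0, 0⟩; ⟨-3, 0⟩, ⟨0, 0⟩, ⟨2, 2⟩, ⟨1, 2⟩, ⟨-1, -3⟩, ⟨-1, 0⟩; ⟨2, -1⟩, ⟨0, 0⟩, ⟨-1, 1⟩, ⟨-2, -1⟩, ⟨0, -1⟩, ⟨-2, 0⟩; ⟨-1, 0⟩, ⟨0, 1⟩, ⟨1, -1⟩, ⟨1, 1⟩, ⟨-2, 2⟩, ⟨1, 2⟩],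
  !![⟨2, -2⟩, ⟨-1, -1⟩, ⟨0, 3⟩, ⟨-3, 0⟩, ⟨0, -6⟩, ⟨-6, -3⟩; ⟨1, 1⟩, ⟨0, 2⟩, ⟨0, -3⟩, ⟨3, 0⟩, ⟨0, 3⟩, ⟨0, 0⟩; ⟨-2, 1⟩, ⟨-2, 0⟩, ⟨4, 0⟩, ⟨0, 3⟩, ⟨-6, 0⟩, ⟨0, 3⟩; ⟨0, -4⟩, ⟨1, -1⟩, ⟨-1, 4⟩, ⟨-3, 0⟩, ⟨1, -5⟩, ⟨-5, 1⟩; ⟨0, 1⟩, ⟨0, -1⟩, ⟨0, 1⟩, ⟨-1, 0⟩, ⟨1, 0⟩, ⟨2, -2⟩; ⟨0, -1⟩, ⟨-2, 0⟩, ⟨2, 1⟩, ⟨-1, 2⟩, ⟨-3, -3⟩, ⟨-4, 0⟩],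
  !![⟨2, 1⟩, ⟨2, -1⟩, ⟨-2, -2⟩, ⟨0, -3⟩, ⟨3, 3⟩, ⟨3, 0⟩; ⟨3, 1⟩, ⟨0, 0⟩, ⟨-3, -1⟩, ⟨0, -3⟩, ⟨3, 0⟩, ⟨0, -3⟩; ⟨-3, 1⟩, ⟨-2, -2⟩, ⟨4, 1⟩, ⟨0, 3⟩, ⟨-3, -3⟩, ⟨0, 0⟩; ⟨2, -3⟩, ⟨2, -1⟩, ⟨-4, 2⟩, ⟨-3, -2⟩, ⟨5, 0⟩, ⟨1, -1⟩; ⟨-3, 2⟩, ⟨-1, 1⟩, ⟨5, -2⟩, ⟨3, 3⟩, ⟨-6, 2⟩, ⟨0, 4⟩; ⟨2, 1⟩, ⟨1, -1⟩, ⟨-3, -2⟩, ⟨0, -3⟩, ⟨4, 2⟩, ⟨3, -2⟩],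
  !![⟨-3, 2⟩, ⟨0, 1⟩, ⟨4, -1⟩, ⟨3, 3⟩, ⟨-3, 3⟩, ⟨3, 3⟩; ⟨1, 2⟩, ⟨1, -1⟩, ⟨-2, 0⟩, ⟨0, -3⟩, ⟨3, 0⟩, ⟨3, -3⟩; ⟨-2, 1⟩, ⟨1, 0⟩, ⟨1, -3⟩, ⟨3, 0⟩, ⟨0, 3⟩, ⟨3, 3⟩; ⟨1, 1⟩, ⟨-1, 1⟩, ⟨2, -1⟩, ⟨1, 1⟩, ⟨-2, 1⟩, ⟨-1, -1⟩; ⟨-2, -1⟩, ⟨-1, 0⟩, ⟨1, 0⟩, ⟨0, 2⟩, ⟨-2, 0⟩, ⟨0, 3⟩; ⟨-1, 2⟩, ⟨1, 1⟩, ⟨1, -2⟩, ⟨3, 0⟩, ⟨0, 3⟩, ⟨3, 1⟩],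
  !![⟨-2, 0⟩, ⟨-2, 0⟩, ⟨3, 2⟩, ⟨0, 3⟩, ⟨-3, -3⟩, ⟨-3, 0⟩; ⟨-3, 0⟩, ⟨-1, 0⟩, ⟨5, 2⟩, ⟨0, 3⟩, ⟨-6, -3⟩, ⟨-3, 3⟩; ⟨0, -2⟩, ⟨1, 1⟩, ⟨-2, 1⟩, ⟨0, 0⟩, ⟨3, 0⟩, ⟨0, 0⟩; ⟨1, 3⟩, ⟨-2, 1⟩, ⟨2, -4⟩, ⟨2, 0⟩, ⟨-4, 3⟩, ⟨0, 1⟩; ⟨1, -1⟩, ⟨1, -1⟩, ⟨-4, 1⟩, ⟨-1, -2⟩, ⟨6, -1⟩, ⟨2, -4⟩; ⟨-1, -1⟩, ⟨-1, 0⟩, ⟨2, 3⟩, ⟨-1, 2⟩, ⟨-2, -4⟩, ⟨-4, 0⟩],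
  !![⟨1, 0⟩, ⟨1, 0⟩, ⟨-4, -2⟩, ⟨0, -3⟩, ⟨3, 3⟩, ⟨3, 0⟩; ⟨-2, -3⟩, ⟨-1, -1⟩, ⟨2, 3⟩, ⟨-3, 3⟩, ⟨-3, -3⟩, ⟨-3, 3⟩; ⟨4, -2⟩, ⟨1, 0⟩, ⟨-5, 3⟩, ⟨-3, -3⟩, ⟨6, -3⟩, ⟨-3, -6⟩; ⟨-1, 3⟩, ⟨0, 0⟩, ⟨-1, -3⟩, ⟨2, -1⟩, ⟨1, 4⟩, ⟨6, 0⟩; ⟨2, 0⟩, ⟨1, 1⟩, ⟨-1, -1⟩, ⟨1, -2⟩, ⟨1, 0⟩, ⟨-2, -1⟩; ⟨1, -1⟩, ⟨1, -1⟩, ⟨-3, 1⟩, ⟨-2, -2⟩, ⟨3, 0⟩, ⟨1, -1⟩],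
  !![⟨0, -1⟩, ⟨0, 1⟩, ⟨-1, 0⟩, ⟨0, 0⟩, ⟨0, 0⟩, ⟨0, 0⟩; ⟨0, -1⟩, ⟨1, 0⟩, ⟨-2, -1⟩, ⟨0, 0⟩, ⟨3, 3⟩, ⟨3, 0⟩; ⟨3, 1⟩, ⟨1, 1⟩, ⟨-2, -2⟩, ⟨0, -3⟩, ⟨0, 3⟩, ⟨0, 0⟩; ⟨-3, 0⟩, ⟨0, 0⟩, ⟨2, 2⟩, ⟨1, 2⟩, ⟨-1, -3⟩, ⟨-1, 0⟩; ⟨2, -1⟩, ⟨0, 0⟩, ⟨-1, 1⟩, ⟨-2, -1⟩, ⟨0, -1⟩, ⟨-2, 0⟩; ⟨-1, 0⟩, ⟨0, 1⟩, ⟨1, -1⟩, ⟨1, 1⟩, ⟨-2, 2⟩, ⟨1, 2⟩],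
  !![⟨-3, -1⟩, ⟨0, 0⟩, ⟨4, 3⟩, ⟨0, 3⟩, ⟨-3, -3⟩, ⟨-3, 3⟩; ⟨0, 2⟩, ⟨-1, -2⟩, ⟨2, 1⟩, ⟨0, 0⟩, ⟨0, -3⟩, ⟨0, -3⟩; ⟨-1, 0⟩, ⟨1, 0⟩, ⟨-1, -1⟩, ⟨0, 0⟩, ⟨0, 3⟩, ⟨3, 3⟩; ⟨-1, 1⟩, ⟨-1, 1⟩, ⟨4, -2⟩, ⟨2, 1⟩, ⟨-5, 0⟩, ⟨-2, 3⟩; ⟨0, -2⟩, ⟨1, 1⟩, ⟨-3, 1⟩, ⟨-1, 0⟩, ⟨2, 2⟩, ⟨1, 1⟩; ⟨-2, 0⟩, ⟨1, -1⟩, ⟨2, 2⟩, ⟨0, 1⟩, ⟨0, -2⟩, ⟨0, 1⟩],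
  !![⟨0, -3⟩, ⟨1, 0⟩, ⟨-3, 3⟩, ⟨-3, 0⟩, ⟨3, 0⟩, ⟨0, 0⟩; ⟨-2, 3⟩, ⟨0, 0⟩, ⟨3, -3⟩, ⟨3, 0⟩, ⟨-3, 3⟩, ⟨3, 3⟩; ⟨-3, -1⟩, ⟨0, -1⟩, ⟨2, 3⟩, ⟨0, 3⟩, ⟨0, -3⟩, ⟨0, 0⟩; ⟨1, -2⟩, ⟨0, 0⟩, ⟨-2, 2⟩, ⟨-3, 0⟩, ⟨2, -1⟩, ⟨-1, -1⟩; ⟨1, -1⟩, ⟨-1, 0⟩, ⟨-1, 1⟩, ⟨-1, 0⟩, ⟨0, -2⟩, ⟨-2, -2⟩; ⟨-2, -2⟩, ⟨1, 0⟩, ⟨1, 3⟩, ⟨-1, 2⟩, ⟨0, -1⟩, ⟨-1, 2⟩],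
  !![⟨1, 0⟩, ⟨0, 0⟩, ⟨0, 0⟩, ⟨0, 0⟩, ⟨0, 0⟩, ⟨0, 0⟩; ⟨0, 0⟩, ⟨1, 0⟩, ⟨0, 0⟩, ⟨0, 0⟩, ⟨0, 0⟩, ⟨0, 0⟩; ⟨0, 0⟩, ⟨0, 0⟩, ⟨1, 0⟩, ⟨0, 0⟩, ⟨0, 0⟩, ⟨0, 0⟩; ⟨0, 0⟩, ⟨0, 0⟩, ⟨0, 0⟩, ⟨1, 0⟩, ⟨0, 0⟩, ⟨0, 0⟩; ⟨0, 0⟩, ⟨0, 0⟩, ⟨0, 0⟩, ⟨0, 0⟩, ⟨1, 0⟩, ⟨0, 0⟩; ⟨0, 0⟩, ⟨0, 0⟩, ⟨0, 0⟩, ⟨0, 0⟩, ⟨0, 0⟩, ⟨1, 0⟩],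
  !![⟨0, 2⟩, ⟨-1, -2⟩, ⟨2, 1⟩, ⟨0, 0⟩, ⟨0, -3⟩, ⟨0, -3⟩; ⟨-2, -1⟩, ⟨0, -1⟩, ⟨4, 2⟩, ⟨0, 3⟩, ⟨-3, -3⟩, ⟨-3, 3⟩; ⟨1, 0⟩, ⟨0, 2⟩, ⟨-1, -1⟩, ⟨0, 0⟩, ⟨0, 3⟩, ⟨0, 0⟩; ⟨1, 1⟩, ⟨-2, -1⟩, ⟨1, -1⟩, ⟨0, -1⟩, ⟨-2, -2⟩, ⟨-1, -1⟩; ⟨1, 0⟩, ⟨2, 1⟩, ⟨-4, 0⟩, ⟨0, -2⟩, ⟨5, 3⟩, ⟨3, -2⟩; ⟨0, 0⟩, ⟨-1, -1⟩, ⟨2, 2⟩, ⟨-1, 1⟩, ⟨-1, -4⟩, ⟨-3, -2⟩],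
  !![⟨-2, 3⟩, ⟨0, 0⟩, ⟨3, -3⟩, ⟨3, 0⟩, ⟨-3, 3⟩, ⟨3, 3⟩; ⟨-1, 0⟩, ⟨1, -2⟩, ⟨0, 1⟩, ⟨0, 0⟩, ⟨3, 0⟩, ⟨3, 0⟩; ⟨1, 0⟩, ⟨0, 2⟩, ⟨-2, -1⟩, ⟨0, 0⟩, ⟨0, 3⟩, ⟨0, 0⟩; ⟨1, 2⟩, ⟨-1, -1⟩, ⟨0, -2⟩, ⟨0, -2⟩, ⟨0, 0⟩, ⟨2, -2⟩; ⟨0, -1⟩, ⟨0, 2⟩, ⟨0, 1⟩, ⟨0, 1⟩, ⟨-2, 0⟩, ⟨-3, 1⟩; ⟨0, 1⟩, ⟨1, 0⟩, ⟨0, -2⟩, ⟨1, -1⟩, ⟨0, 3⟩, ⟨2, 2⟩],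
  !![⟨-3, -1⟩, ⟨-1, 1⟩, ⟨2, 1⟩, ⟨0, 3⟩, ⟨-3, 0⟩, ⟨0, 3⟩; ⟨-1, 2⟩, ⟨0, 1⟩, ⟨1, -2⟩, ⟨3, 0⟩, ⟨0, 3⟩, ⟨3, 0⟩; ⟨0, 0⟩, ⟨0, 0⟩, ⟨-1, 0⟩, ⟨0, 0⟩, ⟨0, 0⟩, ⟨0, 0⟩; ⟨-1, 1⟩, ⟨0, 1⟩, ⟨2, -1⟩, ⟨1, 1⟩, ⟨-2, 1⟩, ⟨0, 1⟩; ⟨1, -2⟩, ⟨-1, -1⟩, ⟨-1, 2⟩, ⟨-3, 0⟩, ⟨-1, -3⟩, ⟨-3, 0⟩; ⟨-2, 0⟩, ⟨0, 1⟩, ⟨1, 0⟩, ⟨1, 2⟩, ⟨-1, 2⟩, ⟨2, 2⟩],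
  !![⟨1, -3⟩, ⟨0, 0⟩, ⟨-3, 3⟩, ⟨-3, 0⟩, ⟨3, -3⟩, ⟨-3, -3⟩; ⟨1, 0⟩, ⟨-2, 2⟩, ⟨0, -1⟩, ⟨0, 0⟩, ⟨-3, 0⟩, ⟨-3, 0⟩; ⟨-1, 0⟩, ⟨0, -2⟩, ⟨1, 1⟩, ⟨0, 0⟩, ⟨0, -3⟩, ⟨0, 0⟩; ⟨-1, -2⟩, ⟨1, 1⟩, ⟨0, 2⟩, ⟨-1, 2⟩, ⟨0, 0⟩, ⟨-2, 2⟩; ⟨0, 1⟩, ⟨0, -2⟩, ⟨0, -1⟩, ⟨0, -1⟩, ⟨1, 0⟩, ⟨3, -1⟩; ⟨0, -1⟩, ⟨-1, 0⟩, ⟨0, 2⟩, ⟨-1, 1⟩, ⟨0, -3⟩, ⟨-3, -2⟩],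
  !![⟨3, -1⟩, ⟨2, 1⟩, ⟨-4, -2⟩, ⟨0, -3⟩, ⟨3, 3⟩, ⟨0, 0⟩; ⟨3, -1⟩, ⟨0, 0⟩, ⟨-5, 0⟩, ⟨-3, -3⟩, ⟨3, 0⟩, ⟨0, -3⟩; ⟨-1, 0⟩, ⟨0, -2⟩, ⟨2, 1⟩, ⟨0, 0⟩, ⟨0, -3⟩, ⟨0, 0⟩; ⟨0, -2⟩, ⟨2, 0⟩, ⟨-3, 2⟩, ⟨-1, 0⟩, ⟨4, 1⟩, ⟨1, 0⟩; ⟨-2, 2⟩, ⟨-1, 0⟩, ⟨5, -2⟩, ⟨3, 2⟩, ⟨-4, 0⟩, ⟨0, 2⟩; ⟨2, 0⟩, ⟨1, 0⟩, ⟨-3, -2⟩, ⟨0, -3⟩, ⟨2, 2⟩, ⟨1, 0⟩],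
  !![⟨1, 0⟩, ⟨0, 0⟩, ⟨0, 0⟩, ⟨0, 0⟩, ⟨0, 0⟩, ⟨0, 0⟩; ⟨0, 0⟩, ⟨1, 0⟩, ⟨0, 0⟩, ⟨0, 0⟩, ⟨0, 0⟩, ⟨0, 0⟩; ⟨0, 0⟩, ⟨0, 0⟩, ⟨1, 0⟩, ⟨0, 0⟩, ⟨0, 0⟩, ⟨0, 0⟩; ⟨0, 0⟩, ⟨0, 0⟩, ⟨0, 0⟩, ⟨1, 0⟩, ⟨0, 0⟩, ⟨0, 0⟩; ⟨0, 0⟩, ⟨0, 0⟩, ⟨0, 0⟩, ⟨0, 0⟩, ⟨1, 0⟩, ⟨0, 0⟩; ⟨0, 0⟩, ⟨0, 0⟩, ⟨0, 0⟩, ⟨0, 0⟩, ⟨0, 0⟩, ⟨1, 0⟩]],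
  [!![⟨1, 0⟩, ⟨0, 0⟩, ⟨0, 0⟩, ⟨0, 0⟩, ⟨0, 0⟩, ⟨0, 0⟩; ⟨0, 0⟩, ⟨1, 0⟩, ⟨0, 0⟩, ⟨0, 0⟩, ⟨0, 0⟩, ⟨0, 0⟩; ⟨0, 0⟩, ⟨0, 0⟩, ⟨1, 0⟩, ⟨0, 0⟩, ⟨0, 0⟩, ⟨0, 0⟩; ⟨0, 0⟩, ⟨0, 0⟩, ⟨0, 0⟩, ⟨1, 0⟩, ⟨0, 0⟩, ⟨0, 0⟩; ⟨0, 0⟩, ⟨0, 0⟩, ⟨0, 0⟩, ⟨0, 0⟩, ⟨1, 0⟩, ⟨0, 0⟩; ⟨0, 0⟩, ⟨0, 0⟩, ⟨0, 0⟩, ⟨0, 0⟩, ⟨0, 0⟩, ⟨1, 0⟩],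
  !![⟨0, -3⟩, ⟨1, 0⟩, ⟨-3, 3⟩, ⟨-3, 0⟩, ⟨3, 0⟩, ⟨0, 0⟩; ⟨-2, 3⟩, ⟨0, 0⟩, ⟨3, -3⟩, ⟨3, 0⟩, ⟨-3, 3⟩, ⟨3, 3⟩; ⟨-3, -1⟩, ⟨0, -1⟩, ⟨2, 3⟩, ⟨0, 3⟩, ⟨0, -3⟩, ⟨0, 0⟩; ⟨1, -2⟩, ⟨0, 0⟩, ⟨-2, 2⟩, ⟨-3, 0⟩, ⟨2, -1⟩, ⟨-1, -1⟩; ⟨1, -1⟩, ⟨-1, 0⟩, ⟨-1, 1⟩, ⟨-1, 0⟩, ⟨0, -2⟩, ⟨-2, -2⟩; ⟨-2, -2⟩, ⟨1, 0⟩, ⟨1, 3⟩, ⟨-1, 2⟩, ⟨0, -1⟩, ⟨-1, 2⟩],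
  !![⟨-3, -1⟩, ⟨0, 0⟩, ⟨4, 3⟩, ⟨0, 3⟩, ⟨-3, -3⟩, ⟨-3, 3⟩; ⟨0, 2⟩, ⟨-1, -2⟩, ⟨2, 1⟩, ⟨0, 0⟩, ⟨0, -3⟩, ⟨0, -3⟩; ⟨-1, 0⟩, ⟨1, 0⟩, ⟨-1, -1⟩, ⟨0, 0⟩, ⟨0, 3⟩, ⟨3, 3⟩; ⟨-1, 1⟩, ⟨-1, 1⟩, ⟨4, -2⟩, ⟨2, 1⟩, ⟨-5, 0⟩, ⟨-2, 3⟩; ⟨0, -2⟩, ⟨1, 1⟩, ⟨-3, 1⟩, ⟨-1, 0⟩, ⟨2, 2⟩, ⟨1, 1⟩; ⟨-2, 0⟩, ⟨1, -1⟩, ⟨2, 2⟩, ⟨0, 1⟩, ⟨0, -2⟩, ⟨0, 1⟩],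
  !![⟨-2, 3⟩, ⟨1, -1⟩, ⟨3, -1⟩, ⟨3, 0⟩, ⟨0, 0⟩, ⟨3, 0⟩; ⟨1, 0⟩, ⟨0, 0⟩, ⟨0, 0⟩, ⟨0, 0⟩, ⟨0, 0⟩, ⟨0, 0⟩; ⟨1, 1⟩, ⟨-1, 1⟩, ⟨1, -1⟩, ⟨0, 0⟩, ⟨-3, 0⟩, ⟨-3, 0⟩; ⟨0, 2⟩, ⟨0, -2⟩, ⟨0, -1⟩, ⟨1, -2⟩, ⟨2, -1⟩, ⟨3, -3⟩; ⟨-1, -1⟩, ⟨1, 1⟩, ⟨0, 1⟩, ⟨0, 1⟩, ⟨0, 1⟩, ⟨-1, 2⟩; ⟨0, 2⟩, ⟨0, -1⟩, ⟨1, -1⟩, ⟨1, -1⟩, ⟨0, -1⟩, ⟨1, -1⟩],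
  !![⟨-3, -1⟩, ⟨0, 0⟩, ⟨3, 1⟩, ⟨0, 3⟩, ⟨-3, 0⟩, ⟨0, 3⟩; ⟨0, -3⟩, ⟨1, 0⟩, ⟨-3, 3⟩, ⟨-3, 0⟩, ⟨3, 0⟩, ⟨0, 0⟩; ⟨1, 3⟩, ⟨0, 0⟩, ⟨-1, -5⟩, ⟨3, -3⟩, ⟨0, 3⟩, ⟨3, 0⟩; ⟨-3, 0⟩, ⟨0, 0⟩, ⟨4, 1⟩, ⟨1, 4⟩, ⟨-2, 0⟩, ⟨0, 2⟩; ⟨2, 1⟩, ⟨-1, 0⟩, ⟨-1, -2⟩, ⟨0, -2⟩, ⟨-1, 0⟩, ⟨0, -1⟩; ⟨-1, 0⟩, ⟨0, 1⟩, ⟨1, -1⟩, ⟨1, 1⟩, ⟨-2, 2⟩, ⟨0, 2⟩],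
  !![⟨-1, -1⟩, ⟨0, -2⟩, ⟨0, 3⟩, ⟨-3, 0⟩, ⟨0, -3⟩, ⟨0, 0⟩; ⟨-3, -1⟩, ⟨0, 0⟩, ⟨4, 3⟩, ⟨0, 3⟩, ⟨-3, -3⟩, ⟨-3, 3⟩; ⟨1, 1⟩, ⟨-2, 0⟩, ⟨-1, -1⟩, ⟨0, 0⟩, ⟨0, 0⟩, ⟨0, -3⟩; ⟨-1, 0⟩, ⟨0, -1⟩, ⟨2, 0⟩, ⟨-1, 1⟩, ⟨-2, 0⟩, ⟨1, 2⟩; ⟨3, 0⟩, ⟨0, 1⟩, ⟨-4, -2⟩, ⟨0, -3⟩, ⟨2, 2⟩, ⟨0, -2⟩; ⟨-1, -1⟩, ⟨0, -1⟩, ⟨0, 3⟩, ⟨-2, 1⟩, ⟨1, -2⟩, ⟨0, -1⟩],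
  !![⟨0, 1⟩, ⟨-1, 0⟩, ⟨2, 1⟩, ⟨0, 0⟩, ⟨-3, -3⟩, ⟨-3, 0⟩; ⟨-2, 3⟩, ⟨1, -1⟩, ⟨3, -1⟩, ⟨3, 0⟩, ⟨0, 0⟩, ⟨3, 0⟩; ⟨-1, -1⟩, ⟨-1, 2⟩, ⟨1, 0⟩, ⟨0, 3⟩, ⟨-3, 3⟩, ⟨0, 3⟩; ⟨2, 0⟩, ⟨-1, -1⟩, ⟨0, 0⟩, ⟨-2, -2⟩, ⟨-2, -3⟩, ⟨-3, -1⟩; ⟨0, -2⟩, ⟨0, 1⟩, ⟨-2, 2⟩, ⟨-1, 1⟩, ⟨2, 0⟩, ⟨-1, -1⟩; ⟨-1, 0⟩, ⟨0, 0⟩, ⟨2, 1⟩, ⟨0, 1⟩, ⟨-2, -1⟩, ⟨-1, 2⟩],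
  !![⟨0, -2⟩, ⟨1, 2⟩, ⟨-2, -1⟩, ⟨0, 0⟩, ⟨0, 3⟩, ⟨0, 3⟩; ⟨-3, -1⟩, ⟨0, 0⟩, ⟨3, 1⟩, ⟨0, 3⟩, ⟨-3, 0⟩, ⟨0, 3⟩; ⟨2, -2⟩, ⟨2, -2⟩, ⟨-4, 3⟩, ⟨-3, -3⟩, ⟨6, -3⟩, ⟨0, -3⟩; ⟨-2, 2⟩, ⟨1, 2⟩, ⟨1, -3⟩, ⟨4, 1⟩, ⟨-1, 5⟩, ⟨3, 3⟩; ⟨2, -1⟩, ⟨-1, -1⟩, ⟨-1, 1⟩, ⟨-2, -1⟩, ⟨1, -3⟩, ⟨-2, -2⟩; ⟨0, -2⟩, ⟨1, 1⟩, ⟨-2, 1⟩, ⟨-1, 0⟩, ⟨1, 1⟩, ⟨0, 1⟩],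
  !![⟨-1, 0⟩, ⟨0, 0⟩, ⟨0, 0⟩, ⟨0, 0⟩, ⟨0, 0⟩, ⟨0, 0⟩; ⟨-1, -1⟩, ⟨0, -2⟩, ⟨0, 3⟩, ⟨-3, 0⟩, ⟨0, -3⟩, ⟨0, 0⟩; ⟨0, -1⟩, ⟨0, 0⟩, ⟨0, 1⟩, ⟨0, 0⟩, ⟨0, -3⟩, ⟨-3, 0⟩; ⟨0, 2⟩, ⟨0, 0⟩, ⟨0, -2⟩, ⟨1, 0⟩, ⟨1, 3⟩, ⟨3, -1⟩; ⟨0, 0⟩, ⟨0, 1⟩, ⟨1, -2⟩, ⟨2, 0⟩, ⟨-2, 1⟩, ⟨-1, 2⟩; ⟨0, -1⟩, ⟨1, 0⟩, ⟨-2, 1⟩, ⟨-1, -1⟩, ⟨2, 0⟩, ⟨0, 0⟩],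
  !![⟨-3, 1⟩, ⟨-2, -1⟩, ⟨4, 2⟩, ⟨0, 3⟩, ⟨-3, -3⟩, ⟨0, 0⟩; ⟨0, 1⟩, ⟨-1, 0⟩, ⟨2, 1⟩, ⟨0, 0⟩, ⟨-3, -3⟩, ⟨-3, 0⟩; ⟨-1, 2⟩, ⟨0, 1⟩, ⟨0, -3⟩, ⟨3, 0⟩, ⟨0, 3⟩, ⟨3, 0⟩; ⟨0, 0⟩, ⟨-2, 0⟩, ⟨3, 0⟩, ⟨-1, 2⟩, ⟨-4, -1⟩, ⟨-2, 1⟩; ⟨0, -1⟩, ⟨1, -1⟩, ⟨-3, 1⟩, ⟨-1, -1⟩, ⟨4, 0⟩, ⟨2, -2⟩; ⟨-2, 1⟩, ⟨-1, 0⟩, ⟨3, 1⟩, ⟨1, 2⟩, ⟨-2, -2⟩, ⟨-1, 0⟩],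
  !![⟨0, -2⟩, ⟨2, 0⟩, ⟨-1, 1⟩, ⟨0, 0⟩, ⟨3, 0⟩, ⟨0, 0⟩; ⟨0, -2⟩, ⟨1, 2⟩, ⟨-2, -1⟩, ⟨0, 0⟩, ⟨0, 3⟩, ⟨0, 3⟩; ⟨0, 1⟩, ⟨-1, -1⟩, ⟨3, 0⟩, ⟨0, 0⟩, ⟨-3, -3⟩, ⟨-3, 0⟩; ⟨-1, 0⟩, ⟨2, -1⟩, ⟨-2, 1⟩, ⟨1, -1⟩, ⟨5, 0⟩, ⟨3, -2⟩; ⟨1, 2⟩, ⟨-1, 0⟩, ⟨2, -2⟩, ⟨1, 0⟩, ⟨-2, 1⟩, ⟨0, 0⟩; ⟨0, -1⟩, ⟨0, 0⟩, ⟨0, 0⟩, ⟨0, 0⟩, ⟨0, -1⟩, ⟨-1, 0⟩],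
  !![⟨2, -1⟩, ⟨0, 1⟩, ⟨0, 0⟩, ⟨0, 0⟩, ⟨0, 0⟩, ⟨-3, 0⟩; ⟨2, -3⟩, ⟨0, 0⟩, ⟨-3, 3⟩, ⟨-3, 0⟩, ⟨3, -3⟩, ⟨-3, -3⟩; ⟨-1, 0⟩, ⟨1, 0⟩, ⟨0, -1⟩, ⟨0, 0⟩, ⟨0, 3⟩, ⟨3, 3⟩; ⟨0, -1⟩, ⟨0, 1⟩, ⟨1, 0⟩, ⟨1, 0⟩, ⟨-2, -1⟩, ⟨-3, 2⟩; ⟨-1, 3⟩, ⟨0, 0⟩, ⟨1, -2⟩, ⟨2, 0⟩, ⟨0, 3⟩, ⟨4, 0⟩; ⟨2, -1⟩, ⟨0, 0⟩, ⟨-1, 0⟩, ⟨-1, -1⟩, ⟨1, -1⟩, ⟨-2, -1⟩],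
  !![⟨3, 2⟩, ⟨0, 0⟩, ⟨-3, -2⟩, ⟨0, -3⟩, ⟨3, 3⟩, ⟨3, -3⟩; ⟨3, 1⟩, ⟨1, -1⟩, ⟨-2, -1⟩, ⟨0, -3⟩, ⟨3, 0⟩, ⟨0, -3⟩; ⟨-2, -1⟩, ⟨0, 1⟩, ⟨1, 2⟩, ⟨0, 3⟩, ⟨0, 0⟩, ⟨0, 0⟩; ⟨3, -2⟩, ⟨-1, -1⟩, ⟨-3, 2⟩, ⟨-4, -2⟩, ⟨2, -3⟩, ⟨-2, -3⟩; ⟨-3, 1⟩, ⟨0, 1⟩, ⟨2, 0⟩, ⟨2, 2⟩, ⟨-2, 1⟩, ⟨1, 2⟩; ⟨2, 1⟩, ⟨1, 0⟩, ⟨-2, -1⟩, ⟨0, -2⟩, ⟨3, 2⟩, ⟨2, -2⟩],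
  !![⟨1, -3⟩, ⟨1, -1⟩, ⟨-3, 2⟩, ⟨-3, 0⟩, ⟨3, 0⟩, ⟨0, 0⟩; ⟨0, 1⟩, ⟨-1, 0⟩, ⟨-1, -2⟩, ⟨0, 0⟩, ⟨0, 3⟩, ⟨3, 0⟩; ⟨-1, 0⟩, ⟨0, -2⟩, ⟨2, 1⟩, ⟨0, 0⟩, ⟨0, -3⟩, ⟨0, 0⟩; ⟨-1, -2⟩, ⟨1, 1⟩, ⟨-1, 2⟩, ⟨0, 2⟩, ⟨2, 1⟩, ⟨0, 1⟩; ⟨1, 0⟩, ⟨0, 0⟩, ⟨1, -1⟩, ⟨0, -1⟩, ⟨-2, -1⟩, ⟨-2, 1⟩; ⟨-1, -1⟩, ⟨0, -1⟩, ⟨0, 1⟩, ⟨-1, 1⟩, ⟨0, 0⟩, ⟨1, 1⟩],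
  !![⟨0, 2⟩, ⟨0, 0⟩, ⟨1, -3⟩, ⟨3, 0⟩, ⟨0, 3⟩, ⟨3, 0⟩; ⟨-1, 2⟩, ⟨0, 1⟩, ⟨0, -3⟩, ⟨3, 0⟩, ⟨0, 3⟩, ⟨3, 0⟩; ⟨0, 0⟩, ⟨0, 0⟩, ⟨1, 0⟩, ⟨0, 0⟩, ⟨0, 0⟩, ⟨0, 0⟩; ⟨2, 0⟩, ⟨0, 0⟩, ⟨-3, 0⟩, ⟨0, -2⟩, ⟨3, 0⟩, ⟨0, -3⟩; ⟨0, -1⟩, ⟨0, -1⟩, ⟨1, 2⟩, ⟨-2, 1⟩, ⟨0, -2⟩, ⟨-1, 0⟩; ⟨-1, 1⟩, ⟨-1, 0⟩, ⟨2, -2⟩, ⟨2, 1⟩, ⟨-2, 1⟩, ⟨1, 1⟩],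
  !![⟨0, 3⟩, ⟨-2, 0⟩, ⟨3, -3⟩, ⟨3, 0⟩, ⟨-3, 0⟩, ⟨0, 0⟩; ⟨0, -1⟩, ⟨0, 0⟩, ⟨0, 1⟩, ⟨0, 0⟩, ⟨0, -3⟩, ⟨-3, 0⟩; ⟨1, 0⟩, ⟨0, 2⟩, ⟨-1, -1⟩, ⟨0, 0⟩, ⟨0, 3⟩, ⟨0, 0⟩; ⟨2, 2⟩, ⟨-1, 0⟩, ⟨-1, -3⟩, ⟨1, -3⟩, ⟨-1, 1⟩, ⟨1, -1⟩; ⟨-1, 1⟩, ⟨1, 0⟩, ⟨1, 0⟩, ⟨1, 1⟩, ⟨1, 2⟩, ⟨2, 0⟩; ⟨1, 1⟩, ⟨-1, 0⟩, ⟨0, -2⟩, ⟨1, -1⟩, ⟨0, 0⟩, ⟨0, -1⟩],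
  !![⟨1, -3⟩, ⟨0, 0⟩, ⟨-3, 3⟩, ⟨-3, 0⟩, ⟨3, -3⟩, ⟨-3, -3⟩; ⟨1, 0⟩, ⟨-2, 2⟩, ⟨0, -1⟩, ⟨0, 0⟩, ⟨-3, 0⟩, ⟨-3, 0⟩; ⟨-1, 0⟩, ⟨0, -2⟩, ⟨1, 1⟩, ⟨0, 0⟩, ⟨0, -3⟩, ⟨0, 0⟩; ⟨-1, -2⟩, ⟨1, 1⟩, ⟨0, 2⟩, ⟨-1, 2⟩, ⟨0, 0⟩, ⟨-2, 2⟩; ⟨0, 1⟩, ⟨0, -2⟩, ⟨0, -1⟩, ⟨0, -1⟩, ⟨1, 0⟩, ⟨3, -1⟩; ⟨0, -1⟩, ⟨-1, 0⟩, ⟨0, 2⟩, ⟨-1, 1⟩, ⟨0, -3⟩, ⟨-3, -2⟩],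
  !![⟨3, -1⟩, ⟨2, 1⟩, ⟨-4, -2⟩, ⟨0, -3⟩, ⟨3, 3⟩, ⟨0, 0⟩; ⟨3, -1⟩, ⟨0, 0⟩, ⟨-5, 0⟩, ⟨-3, -3⟩, ⟨3, 0⟩, ⟨0, -3⟩; ⟨-1, 0⟩, ⟨0, -2⟩, ⟨2, 1⟩, ⟨0, 0⟩, ⟨0, -3⟩, ⟨0, 0⟩; ⟨0, -2⟩, ⟨2, 0⟩, ⟨-3, 2⟩, ⟨-1, 0⟩, ⟨4, 1⟩, ⟨1, 0⟩; ⟨-2, 2⟩, ⟨-1, 0⟩, ⟨5, -2⟩, ⟨3, 2⟩, ⟨-4, 0⟩, ⟨0, 2⟩; ⟨2, 0⟩, ⟨1, 0⟩, ⟨-3, -2⟩, ⟨0, -3⟩, ⟨2, 2⟩, ⟨1, 0⟩],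
  !![⟨1, 0⟩, ⟨0, 0⟩, ⟨0, 0⟩, ⟨0, 0⟩, ⟨0, 0⟩, ⟨0, 0⟩; ⟨0, 0⟩, ⟨1, 0⟩, ⟨0, 0⟩, ⟨0, 0⟩, ⟨0, 0⟩, ⟨0, 0⟩; ⟨0, 0⟩, ⟨0, 0⟩, ⟨1, 0⟩, ⟨0, 0⟩, ⟨0, 0⟩, ⟨0, 0⟩; ⟨0, 0⟩, ⟨0, 0⟩, ⟨0, 0⟩, ⟨1, 0⟩, ⟨0, 0⟩, ⟨0, 0⟩; ⟨0, 0⟩, ⟨0, 0⟩, ⟨0, 0⟩, ⟨0, 0⟩, ⟨1, 0⟩, ⟨0, 0⟩; ⟨0, 0⟩, ⟨0, 0⟩, ⟨0, 0⟩, ⟨0, 0⟩, ⟨0, 0⟩, ⟨1, 0⟩]]]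

def qC6 : List (List (GM 6)) := [
  [!![⟨1, 0⟩, ⟨0, 0⟩, ⟨0, 0⟩, ⟨0, 0⟩, ⟨0, 0⟩, ⟨0, 0⟩; ⟨0, 0⟩, ⟨1, 0⟩, ⟨0, 0⟩, ⟨0, 0⟩, ⟨0, 0⟩, ⟨0, 0⟩; ⟨0, 0⟩, ⟨0, 0⟩, ⟨1, 0⟩, ⟨0, 0⟩, ⟨0, 0⟩, ⟨0, 0⟩; ⟨0, 0⟩, ⟨0, 0⟩, ⟨0, 0⟩, ⟨1, 0⟩, ⟨0, 0⟩, ⟨0, 0⟩; ⟨0, 0⟩, ⟨0, 0⟩, ⟨0, 0⟩, ⟨0, 0⟩, ⟨1, 0⟩, ⟨0, 0⟩; ⟨0, 0⟩, ⟨0, 0⟩, ⟨0, 0⟩, ⟨0, 0⟩, ⟨0, 0⟩, ⟨1, 0⟩]],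
  [!![⟨1, 0⟩, ⟨0, 0⟩, ⟨0, 0⟩, ⟨0, 0⟩, ⟨0, 0⟩, ⟨0, 0⟩; ⟨0, 0⟩, ⟨1, 0⟩, ⟨0, 0⟩, ⟨0, 0⟩, ⟨0, 0⟩, ⟨0, 0⟩; ⟨0, 0⟩, ⟨0, 0⟩, ⟨1, 0⟩, ⟨0, 0⟩, ⟨0, 0⟩, ⟨0, 0⟩; ⟨0, 0⟩, ⟨0, 0⟩, ⟨0, 0⟩, ⟨1, 0⟩, ⟨0, 0⟩, ⟨0, 0⟩; ⟨0, 0⟩, ⟨0, 0⟩, ⟨0, 0⟩, ⟨0, 0⟩, ⟨1, 0⟩, ⟨0, 0⟩; ⟨0, 0⟩, ⟨0, 0⟩, ⟨0, 0⟩, ⟨0, 0⟩, ⟨0, 0⟩, ⟨1, 0⟩],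
  !![⟨0, -3⟩, ⟨1, 0⟩, ⟨-3, 3⟩, ⟨-3, 0⟩, ⟨3, 0⟩, ⟨0, 0⟩; ⟨-2, 3⟩, ⟨0, 0⟩, ⟨3, -3⟩, ⟨3, 0⟩, ⟨-3, 3⟩, ⟨3, 3⟩; ⟨-3, -1⟩, ⟨0, -1⟩, ⟨2, 3⟩, ⟨0, 3⟩, ⟨0, -3⟩, ⟨0, 0⟩; ⟨1, -2⟩, ⟨0, 0⟩, ⟨-2, 2⟩, ⟨-3, 0⟩, ⟨2, -1⟩, ⟨-1, -1⟩; ⟨1, -1⟩, ⟨-1, 0⟩, ⟨-1, 1⟩, ⟨-1, 0⟩, ⟨0, -2⟩, ⟨-2, -2⟩; ⟨-2, -2⟩, ⟨1, 0⟩, ⟨1, 3⟩, ⟨-1, 2⟩, ⟨0, -1⟩, ⟨-1, 2⟩]],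
  [!![⟨1, 0⟩, ⟨0, 0⟩, ⟨0, 0⟩, ⟨0, 0⟩, ⟨0, 0⟩, ⟨0, 0⟩; ⟨0, 0⟩, ⟨1, 0⟩, ⟨0, 0⟩, ⟨0, 0⟩, ⟨0, 0⟩, ⟨0, 0⟩; ⟨0, 0⟩, ⟨0, 0⟩, ⟨1, 0⟩, ⟨0, 0⟩, ⟨0, 0⟩, ⟨0, 0⟩; ⟨0, 0⟩, ⟨0, 0⟩, ⟨0, 0⟩, ⟨1, 0⟩, ⟨0, 0⟩, ⟨0, 0⟩; ⟨0, 0⟩, ⟨0, 0⟩, ⟨0, 0⟩, ⟨0, 0⟩, ⟨1, 0⟩, ⟨0, 0⟩; ⟨0, 0⟩, ⟨0, 0⟩, ⟨0, 0⟩, ⟨0, 0⟩, ⟨0, 0⟩, ⟨1, 0⟩],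
  !![⟨3, -1⟩, ⟨2, 1⟩, ⟨-4, -2⟩, ⟨0, -3⟩, ⟨3, 3⟩, ⟨0, 0⟩; ⟨3, -1⟩, ⟨0, 0⟩, ⟨-5, 0⟩, ⟨-3, -3⟩, ⟨3, 0⟩, ⟨0, -3⟩; ⟨-1, 0⟩, ⟨0, -2⟩, ⟨2, 1⟩, ⟨0, 0⟩, ⟨0, -3⟩, ⟨0, 0⟩; ⟨0, -2⟩, ⟨2, 0⟩, ⟨-3, 2⟩, ⟨-1, 0⟩, ⟨4, 1⟩, ⟨1, 0⟩; ⟨-2, 2⟩, ⟨-1, 0⟩, ⟨5, -2⟩, ⟨3, 2⟩, ⟨-4, 0⟩, ⟨0, 2⟩; ⟨2, 0⟩, ⟨1, 0⟩, ⟨-3, -2⟩, ⟨0, -3⟩, ⟨2, 2⟩, ⟨1, 0⟩]],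
  [!![⟨1, 0⟩, ⟨0, 0⟩, ⟨0, 0⟩, ⟨0, 0⟩, ⟨0, 0⟩, ⟨0, 0⟩; ⟨0, 0⟩, ⟨1, 0⟩, ⟨0, 0⟩, ⟨0, 0⟩, ⟨0, 0⟩, ⟨0, 0⟩; ⟨0, 0⟩, ⟨0, 0⟩, ⟨1, 0⟩, ⟨0, 0⟩, ⟨0, 0⟩, ⟨0, 0⟩; ⟨0, 0⟩, ⟨0, 0⟩, ⟨0, 0⟩, ⟨1, 0⟩, ⟨0, 0⟩, ⟨0, 0⟩; ⟨0, 0⟩, ⟨0, 0⟩, ⟨0, 0⟩, ⟨0, 0⟩, ⟨1, 0⟩, ⟨0, 0⟩; ⟨0, 0⟩, ⟨0, 0⟩, ⟨0, 0⟩, ⟨0, 0⟩, ⟨0, 0⟩, ⟨1, 0⟩],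
  !![⟨0, -3⟩, ⟨1, 0⟩, ⟨-3, 3⟩, ⟨-3, 0⟩, ⟨3, 0⟩, ⟨0, 0⟩; ⟨-2, 3⟩, ⟨0, 0⟩, ⟨3, -3⟩, ⟨3, 0⟩, ⟨-3, 3⟩, ⟨3, 3⟩; ⟨-3, -1⟩, ⟨0, -1⟩, ⟨2, 3⟩, ⟨0, 3⟩, ⟨0, -3⟩, ⟨0, 0⟩; ⟨1, -2⟩, ⟨0, 0⟩, ⟨-2, 2⟩, ⟨-3, 0⟩, ⟨2, -1⟩, ⟨-1, -1⟩; ⟨1, -1⟩, ⟨-1, 0⟩, ⟨-1, 1⟩, ⟨-1, 0⟩, ⟨0, -2⟩, ⟨-2, -2⟩; ⟨-2, -2⟩, ⟨1, 0⟩, ⟨1, 3⟩, ⟨-1, 2⟩, ⟨0, -1⟩, ⟨-1, 2⟩],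
  !![⟨-3, -1⟩, ⟨0, 0⟩, ⟨4, 3⟩, ⟨0, 3⟩, ⟨-3, -3⟩, ⟨-3, 3⟩; ⟨0, 2⟩, ⟨-1, -2⟩, ⟨2, 1⟩, ⟨0, 0⟩, ⟨0, -3⟩, ⟨0, -3⟩; ⟨-1, 0⟩, ⟨1, 0⟩, ⟨-1, -1⟩, ⟨0, 0⟩, ⟨0, 3⟩, ⟨3, 3⟩; ⟨-1, 1⟩, ⟨-1, 1⟩, ⟨4, -2⟩, ⟨2, 1⟩, ⟨-5, 0⟩, ⟨-2, 3⟩; ⟨0, -2⟩, ⟨1, 1⟩, ⟨-3, 1⟩, ⟨-1, 0⟩, ⟨2, 2⟩, ⟨1, 1⟩; ⟨-2, 0⟩, ⟨1, -1⟩, ⟨2, 2⟩, ⟨0, 1⟩, ⟨0, -2⟩, ⟨0, 1⟩]],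
  [!![⟨1, 0⟩, ⟨0, 0⟩, ⟨0, 0⟩, ⟨0, 0⟩, ⟨0, 0⟩, ⟨0, 0⟩; ⟨0, 0⟩, ⟨1, 0⟩, ⟨0, 0⟩, ⟨0, 0⟩, ⟨0, 0⟩, ⟨0, 0⟩; ⟨0, 0⟩, ⟨0, 0⟩, ⟨1, 0⟩, ⟨0, 0⟩, ⟨0, 0⟩, ⟨0, 0⟩; ⟨0, 0⟩, ⟨0, 0⟩, ⟨0, 0⟩, ⟨1, 0⟩, ⟨0, 0⟩, ⟨0, 0⟩; ⟨0, 0⟩, ⟨0, 0⟩, ⟨0, 0⟩, ⟨0, 0⟩, ⟨1, 0⟩, ⟨0, 0⟩; ⟨0, 0⟩, ⟨0, 0⟩, ⟨0, 0⟩, ⟨0, 0⟩, ⟨0, 0⟩, ⟨1, 0⟩],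
  !![⟨0, -3⟩, ⟨1, 0⟩, ⟨-3, 3⟩, ⟨-3, 0⟩, ⟨3, 0⟩, ⟨0, 0⟩; ⟨-2, 3⟩, ⟨0, 0⟩, ⟨3, -3⟩, ⟨3, 0⟩, ⟨-3, 3⟩, ⟨3, 3⟩; ⟨-3, -1⟩, ⟨0, -1⟩, ⟨2, 3⟩, ⟨0, 3⟩, ⟨0, -3⟩, ⟨0, 0⟩; ⟨1, -2⟩, ⟨0, 0⟩, ⟨-2, 2⟩, ⟨-3, 0⟩, ⟨2, -1⟩, ⟨-1, -1⟩; ⟨1, -1⟩, ⟨-1, 0⟩, ⟨-1, 1⟩, ⟨-1, 0⟩, ⟨0, -2⟩, ⟨-2, -2⟩; ⟨-2, -2⟩, ⟨1, 0⟩, ⟨1, 3⟩, ⟨-1, 2⟩, ⟨0, -1⟩, ⟨-1, 2⟩],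
  !![⟨1, -1⟩, ⟨0, 2⟩, ⟨-2, -1⟩, ⟨0, 0⟩, ⟨0, 3⟩, ⟨0, 0⟩; ⟨-3, -1⟩, ⟨-1, 1⟩, ⟨2, 1⟩, ⟨0, 3⟩, ⟨-3, 0⟩, ⟨0, 3⟩; ⟨0, -1⟩, ⟨0, -1⟩, ⟨1, 1⟩, ⟨0, 0⟩, ⟨0, -3⟩, ⟨-3, 0⟩; ⟨1, 0⟩, ⟨2, 1⟩, ⟨-3, 0⟩, ⟨0, -1⟩, ⟨4, 3⟩, ⟨2, -2⟩; ⟨2, 1⟩, ⟨-1, -1⟩, ⟨0, -2⟩, ⟨0, -2⟩, ⟨-1, -1⟩, ⟨-1, -1⟩; ⟨0, -2⟩, ⟨0, 1⟩, ⟨-1, 1⟩, ⟨-1, 1⟩, ⟨0, 1⟩, ⟨-1, 1⟩]],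
  [!![⟨1, 0⟩, ⟨0, 0⟩, ⟨0, 0⟩, ⟨0, 0⟩, ⟨0, 0⟩, ⟨0, 0⟩; ⟨0, 0⟩, ⟨1, 0⟩, ⟨0, 0⟩, ⟨0, 0⟩, ⟨0, 0⟩, ⟨0, 0⟩; ⟨0, 0⟩, ⟨0, 0⟩, ⟨1, 0⟩, ⟨0, 0⟩, ⟨0, 0⟩, ⟨0, 0⟩; ⟨0, 0⟩, ⟨0, 0⟩, ⟨0, 0⟩, ⟨1, 0⟩, ⟨0, 0⟩, ⟨0, 0⟩; ⟨0, 0⟩, ⟨0, 0⟩, ⟨0, 0⟩, ⟨0, 0⟩, ⟨1, 0⟩, ⟨0, 0⟩; ⟨0, 0⟩, ⟨0, 0⟩, ⟨0, 0⟩, ⟨0, 0⟩, ⟨0, 0⟩, ⟨1, 0⟩],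
  !![⟨3, -1⟩, ⟨2, 1⟩, ⟨-4, -2⟩, ⟨0, -3⟩, ⟨3, 3⟩, ⟨0, 0⟩; ⟨3, -1⟩, ⟨0, 0⟩, ⟨-5, 0⟩, ⟨-3, -3⟩, ⟨3, 0⟩, ⟨0, -3⟩; ⟨-1, 0⟩, ⟨0, -2⟩, ⟨2, 1⟩, ⟨0, 0⟩, ⟨0, -3⟩, ⟨0, 0⟩; ⟨0, -2⟩, ⟨2, 0⟩, ⟨-3, 2⟩, ⟨-1, 0⟩, ⟨4, 1⟩, ⟨1, 0⟩; ⟨-2, 2⟩, ⟨-1, 0⟩, ⟨5, -2⟩, ⟨3, 2⟩, ⟨-4, 0⟩, ⟨0, 2⟩; ⟨2, 0⟩, ⟨1, 0⟩, ⟨-3, -2⟩, ⟨0, -3⟩, ⟨2, 2⟩, ⟨1, 0⟩],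
  !![⟨1, -3⟩, ⟨0, 0⟩, ⟨-3, 3⟩, ⟨-3, 0⟩, ⟨3, -3⟩, ⟨-3, -3⟩; ⟨1, 0⟩, ⟨-2, 2⟩, ⟨0, -1⟩, ⟨0, 0⟩, ⟨-3, 0⟩, ⟨-3, 0⟩; ⟨-1, 0⟩, ⟨0, -2⟩, ⟨1, 1⟩, ⟨0, 0⟩, ⟨0, -3⟩, ⟨0, 0⟩; ⟨-1, -2⟩, ⟨1, 1⟩, ⟨0, 2⟩, ⟨-1, 2⟩, ⟨0, 0⟩, ⟨-2, 2⟩; ⟨0, 1⟩, ⟨0, -2⟩, ⟨0, -1⟩, ⟨0, -1⟩, ⟨1, 0⟩, ⟨3, -1⟩; ⟨0, -1⟩, ⟨-1, 0⟩, ⟨0, 2⟩, ⟨-1, 1⟩, ⟨0, -3⟩, ⟨-3, -2⟩]],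
  [!![⟨1, 0⟩, ⟨0, 0⟩, ⟨0, 0⟩, ⟨0, 0⟩, ⟨0, 0⟩, ⟨0, 0⟩; ⟨0, 0⟩, ⟨1, 0⟩, ⟨0, 0⟩, ⟨0, 0⟩, ⟨0, 0⟩, ⟨0, 0⟩; ⟨0, 0⟩, ⟨0, 0⟩, ⟨1, 0⟩, ⟨0, 0⟩, ⟨0, 0⟩, ⟨0, 0⟩; ⟨0, 0⟩, ⟨0, 0⟩, ⟨0, 0⟩, ⟨1, 0⟩, ⟨0, 0⟩, ⟨0, 0⟩; ⟨0, 0⟩, ⟨0, 0⟩, ⟨0, 0⟩, ⟨0, 0⟩, ⟨1, 0⟩, ⟨0, 0⟩; ⟨0, 0⟩, ⟨0, 0⟩, ⟨0, 0⟩, ⟨0, 0⟩, ⟨0, 0⟩, ⟨1, 0⟩],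
  !![⟨0, -3⟩, ⟨1, 0⟩, ⟨-3, 3⟩, ⟨-3, 0⟩, ⟨3, 0⟩, ⟨0, 0⟩; ⟨-2, 3⟩, ⟨0, 0⟩, ⟨3, -3⟩, ⟨3, 0⟩, ⟨-3, 3⟩, ⟨3, 3⟩; ⟨-3, -1⟩, ⟨0, -1⟩, ⟨2, 3⟩, ⟨0, 3⟩, ⟨0, -3⟩, ⟨0, 0⟩; ⟨1, -2⟩, ⟨0, 0⟩, ⟨-2, 2⟩, ⟨-3, 0⟩, ⟨2, -1⟩, ⟨-1, -1⟩; ⟨1, -1⟩, ⟨-1, 0⟩, ⟨-1, 1⟩, ⟨-1, 0⟩, ⟨0, -2⟩, ⟨-2, -2⟩; ⟨-2, -2⟩, ⟨1, 0⟩, ⟨1, 3⟩, ⟨-1, 2⟩, ⟨0, -1⟩, ⟨-1, 2⟩],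
  !![⟨-3, -1⟩, ⟨0, 0⟩, ⟨4, 3⟩, ⟨0, 3⟩, ⟨-3, -3⟩, ⟨-3, 3⟩; ⟨0, 2⟩, ⟨-1, -2⟩, ⟨2, 1⟩, ⟨0, 0⟩, ⟨0, -3⟩, ⟨0, -3⟩; ⟨-1, 0⟩, ⟨1, 0⟩, ⟨-1, -1⟩, ⟨0, 0⟩, ⟨0, 3⟩, ⟨3, 3⟩; ⟨-1, 1⟩, ⟨-1, 1⟩, ⟨4, -2⟩, ⟨2, 1⟩, ⟨-5, 0⟩, ⟨-2, 3⟩; ⟨0, -2⟩, ⟨1, 1⟩, ⟨-3, 1⟩, ⟨-1, 0⟩, ⟨2, 2⟩, ⟨1, 1⟩; ⟨-2, 0⟩, ⟨1, -1⟩, ⟨2, 2⟩, ⟨0, 1⟩, ⟨0, -2⟩, ⟨0, 1⟩],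
  !![⟨-2, 3⟩, ⟨1, -1⟩, ⟨3, -1⟩, ⟨3, 0⟩, ⟨0, 0⟩, ⟨3, 0⟩; ⟨1, 0⟩, ⟨0, 0⟩, ⟨0, 0⟩, ⟨0, 0⟩, ⟨0, 0⟩, ⟨0, 0⟩; ⟨1, 1⟩, ⟨-1, 1⟩, ⟨1, -1⟩, ⟨0, 0⟩, ⟨-3, 0⟩, ⟨-3, 0⟩; ⟨0, 2⟩, ⟨0, -2⟩, ⟨0, -1⟩, ⟨1, -2⟩, ⟨2, -1⟩, ⟨3, -3⟩; ⟨-1, -1⟩, ⟨1, 1⟩, ⟨0, 1⟩, ⟨0, 1⟩, ⟨0, 1⟩, ⟨-1, 2⟩; ⟨0, 2⟩, ⟨0, -1⟩, ⟨1, -1⟩, ⟨1, -1⟩, ⟨0, -1⟩, ⟨1, -1⟩]],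
  [!![⟨1, 0⟩, ⟨0, 0⟩, ⟨0, 0⟩, ⟨0, 0⟩, ⟨0, 0⟩, ⟨0, 0⟩; ⟨0, 0⟩, ⟨1, 0⟩, ⟨0, 0⟩, ⟨0, 0⟩, ⟨0, 0⟩, ⟨0, 0⟩; ⟨0, 0⟩, ⟨0, 0⟩, ⟨1, 0⟩, ⟨0, 0⟩, ⟨0, 0⟩, ⟨0, 0⟩; ⟨0, 0⟩, ⟨0, 0⟩, ⟨0, 0⟩, ⟨1, 0⟩, ⟨0, 0⟩, ⟨0, 0⟩; ⟨0, 0⟩, ⟨0, 0⟩, ⟨0, 0⟩, ⟨0, 0⟩, ⟨1, 0⟩, ⟨0, 0⟩; ⟨0, 0⟩, ⟨0, 0⟩, ⟨0, 0⟩, ⟨0, 0⟩, ⟨0, 0⟩, ⟨1, 0⟩],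
  !![⟨0, -3⟩, ⟨1, 0⟩, ⟨-3, 3⟩, ⟨-3, 0⟩, ⟨3, 0⟩, ⟨0, 0⟩; ⟨-2, 3⟩, ⟨0, 0⟩, ⟨3, -3⟩, ⟨3, 0⟩, ⟨-3, 3⟩, ⟨3, 3⟩; ⟨-3, -1⟩, ⟨0, -1⟩, ⟨2, 3⟩, ⟨0, 3⟩, ⟨0, -3⟩, ⟨0, 0⟩; ⟨1, -2⟩, ⟨0, 0⟩, ⟨-2, 2⟩, ⟨-3, 0⟩, ⟨2, -1⟩, ⟨-1, -1⟩; ⟨1, -1⟩, ⟨-1, 0⟩, ⟨-1, 1⟩, ⟨-1, 0⟩, ⟨0, -2⟩, ⟨-2, -2⟩; ⟨-2, -2⟩, ⟨1, 0⟩, ⟨1, 3⟩, ⟨-1, 2⟩, ⟨0, -1⟩, ⟨-1, 2⟩],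
  !![⟨1, -1⟩, ⟨0, 2⟩, ⟨-2, -1⟩, ⟨0, 0⟩, ⟨0, 3⟩, ⟨0, 0⟩; ⟨-3, -1⟩, ⟨-1, 1⟩, ⟨2, 1⟩, ⟨0, 3⟩, ⟨-3, 0⟩, ⟨0, 3⟩; ⟨0, -1⟩, ⟨0, -1⟩, ⟨1, 1⟩, ⟨0, 0⟩, ⟨0, -3⟩, ⟨-3, 0⟩; ⟨1, 0⟩, ⟨2, 1⟩, ⟨-3, 0⟩, ⟨0, -1⟩, ⟨4, 3⟩, ⟨2, -2⟩; ⟨2, 1⟩, ⟨-1, -1⟩, ⟨0, -2⟩, ⟨0, -2⟩, ⟨-1, -1⟩, ⟨-1, -1⟩; ⟨0, -2⟩, ⟨0, 1⟩, ⟨-1, 1⟩, ⟨-1, 1⟩, ⟨0, 1⟩, ⟨-1, 1⟩],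
  !![⟨2, 0⟩, ⟨-2, 1⟩, ⟨0, -2⟩, ⟨0, 0⟩, ⟨-3, 0⟩, ⟨-3, 0⟩; ⟨1, -3⟩, ⟨0, 0⟩, ⟨-3, 3⟩, ⟨-3, 0⟩, ⟨3, -3⟩, ⟨-3, -3⟩; ⟨2, 0⟩, ⟨1, 0⟩, ⟨-3, -2⟩, ⟨0, -3⟩, ⟨3, 3⟩, ⟨3, 0⟩; ⟨-1, 0⟩, ⟨0, 2⟩, ⟨2, -1⟩, ⟨2, 2⟩, ⟨-4, 2⟩, ⟨-2, 4⟩; ⟨0, 2⟩, ⟨0, -1⟩, ⟨1, -2⟩, ⟨1, -1⟩, ⟨0, 1⟩, ⟨3, 0⟩; ⟨2, 0⟩, ⟨-1, 1⟩, ⟨-2, -2⟩, ⟨0, -1⟩, ⟨0, 2⟩, ⟨0, -1⟩]],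
  [!![⟨1, 0⟩, ⟨0, 0⟩, ⟨0, 0⟩, ⟨0, 0⟩, ⟨0, 0⟩, ⟨0, 0⟩; ⟨0, 0⟩, ⟨1, 0⟩, ⟨0, 0⟩, ⟨0, 0⟩, ⟨0, 0⟩, ⟨0, 0⟩; ⟨0, 0⟩, ⟨0, 0⟩, ⟨1, 0⟩, ⟨0, 0⟩, ⟨0, 0⟩, ⟨0, 0⟩; ⟨0, 0⟩, ⟨0, 0⟩, ⟨0, 0⟩, ⟨1, 0⟩, ⟨0, 0⟩, ⟨0, 0⟩; ⟨0, 0⟩, ⟨0, 0⟩, ⟨0, 0⟩, ⟨0, 0⟩, ⟨1, 0⟩, ⟨0, 0⟩; ⟨0, 0⟩, ⟨0, 0⟩, ⟨0, 0⟩, ⟨0, 0⟩, ⟨0, 0⟩, ⟨1, 0⟩],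
  !![⟨0, -3⟩, ⟨1, 0⟩, ⟨-3, 3⟩, ⟨-3, 0⟩, ⟨3, 0⟩, ⟨0, 0⟩; ⟨-2, 3⟩, ⟨0, 0⟩, ⟨3, -3⟩, ⟨3, 0⟩, ⟨-3, 3⟩, ⟨3, 3⟩; ⟨-3, -1⟩, ⟨0, -1⟩, ⟨2, 3⟩, ⟨0, 3⟩, ⟨0, -3⟩, ⟨0, 0⟩; ⟨1, -2⟩, ⟨0, 0⟩, ⟨-2, 2⟩, ⟨-3, 0⟩, ⟨2, -1⟩, ⟨-1, -1⟩; ⟨1, -1⟩, ⟨-1, 0⟩, ⟨-1, 1⟩, ⟨-1, 0⟩, ⟨0, -2⟩, ⟨-2, -2⟩; ⟨-2, -2⟩, ⟨1, 0⟩, ⟨1, 3⟩, ⟨-1, 2⟩, ⟨0, -1⟩, ⟨-1, 2⟩],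
  !![⟨-3, -1⟩, ⟨0, 0⟩, ⟨4, 3⟩, ⟨0, 3⟩, ⟨-3, -3⟩, ⟨-3, 3⟩; ⟨0, 2⟩, ⟨-1, -2⟩, ⟨2, 1⟩, ⟨0, 0⟩, ⟨0, -3⟩, ⟨0, -3⟩; ⟨-1, 0⟩, ⟨1, 0⟩, ⟨-1, -1⟩, ⟨0, 0⟩, ⟨0, 3⟩, ⟨3, 3⟩; ⟨-1, 1⟩, ⟨-1, 1⟩, ⟨4, -2⟩, ⟨2, 1⟩, ⟨-5, 0⟩, ⟨-2, 3⟩; ⟨0, -2⟩, ⟨1, 1⟩, ⟨-3, 1⟩, ⟨-1, 0⟩, ⟨2, 2⟩, ⟨1, 1⟩; ⟨-2, 0⟩, ⟨1, -1⟩, ⟨2, 2⟩, ⟨0, 1⟩, ⟨0, -2⟩, ⟨0, 1⟩],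
  !![⟨0, -1⟩, ⟨0, 1⟩, ⟨-1, 0⟩, ⟨0, 0⟩, ⟨0, 0⟩, ⟨0, 0⟩; ⟨0, -1⟩, ⟨1, 0⟩, ⟨-2, -1⟩, ⟨0, 0⟩, ⟨3, 3⟩, ⟨3, 0⟩; ⟨3, 1⟩, ⟨1, 1⟩, ⟨-2, -2⟩, ⟨0, -3⟩, ⟨0, 3⟩, ⟨0, 0⟩; ⟨-3, 0⟩, ⟨0, 0⟩, ⟨2, 2⟩, ⟨1, 2⟩, ⟨-1, -3⟩, ⟨-1, 0⟩; ⟨2, -1⟩, ⟨0, 0⟩, ⟨-1, 1⟩, ⟨-2, -1⟩, ⟨0, -1⟩, ⟨-2, 0⟩; ⟨-1, 0⟩, ⟨0, 1⟩, ⟨1, -1⟩, ⟨1, 1⟩, ⟨-2, 2⟩, ⟨1, 2⟩],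
  !![⟨2, -2⟩, ⟨-1, -1⟩, ⟨0, 3⟩, ⟨-3, 0⟩, ⟨0, -6⟩, ⟨-6, -3⟩; ⟨1, 1⟩, ⟨0, 2⟩, ⟨0, -3⟩, ⟨3, 0⟩, ⟨0, 3⟩, ⟨0, 0⟩; ⟨-2, 1⟩, ⟨-2, 0⟩, ⟨4, 0⟩, ⟨0, 3⟩, ⟨-6, 0⟩, ⟨0, 3⟩; ⟨0, -4⟩, ⟨1, -1⟩, ⟨-1, 4⟩, ⟨-3, 0⟩, ⟨1, -5⟩, ⟨-5, 1⟩; ⟨0, 1⟩, ⟨0, -1⟩, ⟨0, 1⟩, ⟨-1, 0⟩, ⟨1, 0⟩, ⟨2, -2⟩; ⟨0, -1⟩, ⟨-2, 0⟩, ⟨2, 1⟩, ⟨-1, 2⟩, ⟨-3, -3⟩, ⟨-4, 0⟩]],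
  [!![⟨1, 0⟩, ⟨0, 0⟩, ⟨0, 0⟩, ⟨0, 0⟩, ⟨0, 0⟩, ⟨0, 0⟩; ⟨0, 0⟩, ⟨1, 0⟩, ⟨0, 0⟩, ⟨0, 0⟩, ⟨0, 0⟩, ⟨0, 0⟩; ⟨0, 0⟩, ⟨0, 0⟩, ⟨1, 0⟩, ⟨0, 0⟩, ⟨0, 0⟩, ⟨0, 0⟩; ⟨0, 0⟩, ⟨0, 0⟩, ⟨0, 0⟩, ⟨1, 0⟩, ⟨0, 0⟩, ⟨0, 0⟩; ⟨0, 0⟩, ⟨0, 0⟩, ⟨0, 0⟩, ⟨0, 0⟩, ⟨1, 0⟩, ⟨0, 0⟩; ⟨0, 0⟩, ⟨0, 0⟩, ⟨0, 0⟩, ⟨0, 0⟩, ⟨0, 0⟩, ⟨1, 0⟩],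
  !![⟨0, -3⟩, ⟨1, 0⟩, ⟨-3, 3⟩, ⟨-3, 0⟩, ⟨3, 0⟩, ⟨0, 0⟩; ⟨-2, 3⟩, ⟨0, 0⟩, ⟨3, -3⟩, ⟨3, 0⟩, ⟨-3, 3⟩, ⟨3, 3⟩; ⟨-3, -1⟩, ⟨0, -1⟩, ⟨2, 3⟩, ⟨0, 3⟩, ⟨0, -3⟩, ⟨0, 0⟩; ⟨1, -2⟩, ⟨0, 0⟩, ⟨-2, 2⟩, ⟨-3, 0⟩, ⟨2, -1⟩, ⟨-1, -1⟩; ⟨1, -1⟩, ⟨-1, 0⟩, ⟨-1, 1⟩, ⟨-1, 0⟩, ⟨0, -2⟩, ⟨-2, -2⟩; ⟨-2, -2⟩, ⟨1, 0⟩, ⟨1, 3⟩, ⟨-1, 2⟩, ⟨0, -1⟩, ⟨-1, 2⟩],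
  !![⟨-3, -1⟩, ⟨0, 0⟩, ⟨4, 3⟩, ⟨0, 3⟩, ⟨-3, -3⟩, ⟨-3, 3⟩; ⟨0, 2⟩, ⟨-1, -2⟩, ⟨2, 1⟩, ⟨0, 0⟩, ⟨0, -3⟩, ⟨0, -3⟩; ⟨-1, 0⟩, ⟨1, 0⟩, ⟨-1, -1⟩, ⟨0, 0⟩, ⟨0, 3⟩, ⟨3, 3⟩; ⟨-1, 1⟩, ⟨-1, 1⟩, ⟨4, -2⟩, ⟨2, 1⟩, ⟨-5, 0⟩, ⟨-2, 3⟩; ⟨0, -2⟩, ⟨1, 1⟩, ⟨-3, 1⟩, ⟨-1, 0⟩, ⟨2, 2⟩, ⟨1, 1⟩; ⟨-2, 0⟩, ⟨1, -1⟩, ⟨2, 2⟩, ⟨0, 1⟩, ⟨0, -2⟩, ⟨0, 1⟩],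
  !![⟨-2, 3⟩, ⟨1, -1⟩, ⟨3, -1⟩, ⟨3, 0⟩, ⟨0, 0⟩, ⟨3, 0⟩; ⟨1, 0⟩, ⟨0, 0⟩, ⟨0, 0⟩, ⟨0, 0⟩, ⟨0, 0⟩, ⟨0, 0⟩; ⟨1, 1⟩, ⟨-1, 1⟩, ⟨1, -1⟩, ⟨0, 0⟩, ⟨-3, 0⟩, ⟨-3, 0⟩; ⟨0, 2⟩, ⟨0, -2⟩, ⟨0, -1⟩, ⟨1, -2⟩, ⟨2, -1⟩, ⟨3, -3⟩; ⟨-1, -1⟩, ⟨1, 1⟩, ⟨0, 1⟩, ⟨0, 1⟩, ⟨0, 1⟩, ⟨-1, 2⟩; ⟨0, 2⟩, ⟨0, -1⟩, ⟨1, -1⟩, ⟨1, -1⟩, ⟨0, -1⟩, ⟨1, -1⟩],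
  !![⟨2, 2⟩, ⟨0, -2⟩, ⟨-2, -2⟩, ⟨0, -3⟩, ⟨3, 0⟩, ⟨3, -3⟩; ⟨3, -1⟩, ⟨2, 1⟩, ⟨-4, -2⟩, ⟨0, -3⟩, ⟨3, 3⟩, ⟨0, 0⟩; ⟨1, 1⟩, ⟨-1, 1⟩, ⟨0, 0⟩, ⟨0, 0⟩, ⟨0, 0⟩, ⟨0, -3⟩; ⟨0, -1⟩, ⟨-1, -2⟩, ⟨-1, 2⟩, ⟨-2, 0⟩, ⟨1, -3⟩, ⟨0, -1⟩; ⟨-2, 1⟩, ⟨0, 0⟩, ⟨3, 1⟩, ⟨1, 2⟩, ⟨-1, -1⟩, ⟨0, 0⟩; ⟨2, 2⟩, ⟨-1, 0⟩, ⟨-1, -3⟩, ⟨1, -2⟩, ⟨0, 1⟩, ⟨1, -2⟩]],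
  [!![⟨1, 0⟩, ⟨0, 0⟩, ⟨0, 0⟩, ⟨0, 0⟩, ⟨0, 0⟩, ⟨0, 0⟩; ⟨0, 0⟩, ⟨1, 0⟩, ⟨0, 0⟩, ⟨0, 0⟩, ⟨0, 0⟩, ⟨0, 0⟩; ⟨0, 0⟩, ⟨0, 0⟩, ⟨1, 0⟩, ⟨0, 0⟩, ⟨0, 0⟩, ⟨0, 0⟩; ⟨0, 0⟩, ⟨0, 0⟩, ⟨0, 0⟩, ⟨1, 0⟩, ⟨0, 0⟩, ⟨0, 0⟩; ⟨0, 0⟩, ⟨0, 0⟩, ⟨0, 0⟩, ⟨0, 0⟩, ⟨1, 0⟩, ⟨0, 0⟩; ⟨0, 0⟩, ⟨0, 0⟩, ⟨0, 0⟩, ⟨0, 0⟩, ⟨0, 0⟩, ⟨1, 0⟩],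
  !![⟨0, -3⟩, ⟨1, 0⟩, ⟨-3, 3⟩, ⟨-3, 0⟩, ⟨3, 0⟩, ⟨0, 0⟩; ⟨-2, 3⟩, ⟨0, 0⟩, ⟨3, -3⟩, ⟨3, 0⟩, ⟨-3, 3⟩, ⟨3, 3⟩; ⟨-3, -1⟩, ⟨0, -1⟩, ⟨2, 3⟩, ⟨0, 3⟩, ⟨0, -3⟩, ⟨0, 0⟩; ⟨1, -2⟩, ⟨0, 0⟩, ⟨-2, 2⟩, ⟨-3, 0⟩, ⟨2, -1⟩, ⟨-1, -1⟩; ⟨1, -1⟩, ⟨-1, 0⟩, ⟨-1, 1⟩, ⟨-1, 0⟩, ⟨0, -2⟩, ⟨-2, -2⟩; ⟨-2, -2⟩, ⟨1, 0⟩, ⟨1, 3⟩, ⟨-1, 2⟩, ⟨0, -1⟩, ⟨-1, 2⟩],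
  !![⟨-3, -1⟩, ⟨0, 0⟩, ⟨4, 3⟩, ⟨0, 3⟩, ⟨-3, -3⟩, ⟨-3, 3⟩; ⟨0, 2⟩, ⟨-1, -2⟩, ⟨2, 1⟩, ⟨0, 0⟩, ⟨0, -3⟩, ⟨0, -3⟩; ⟨-1, 0⟩, ⟨1, 0⟩, ⟨-1, -1⟩, ⟨0, 0⟩, ⟨0, 3⟩, ⟨3, 3⟩; ⟨-1, 1⟩, ⟨-1, 1⟩, ⟨4, -2⟩, ⟨2, 1⟩, ⟨-5, 0⟩, ⟨-2, 3⟩; ⟨0, -2⟩, ⟨1, 1⟩, ⟨-3, 1⟩, ⟨-1, 0⟩, ⟨2, 2⟩, ⟨1, 1⟩; ⟨-2, 0⟩, ⟨1, -1⟩, ⟨2, 2⟩, ⟨0, 1⟩, ⟨0, -2⟩, ⟨0, 1⟩],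
  !![⟨0, -1⟩, ⟨0, 1⟩, ⟨-1, 0⟩, ⟨0, 0⟩, ⟨0, 0⟩, ⟨0, 0⟩; ⟨0, -1⟩, ⟨1, 0⟩, ⟨-2, -1⟩, ⟨0, 0⟩, ⟨3, 3⟩, ⟨3, 0⟩; ⟨3, 1⟩, ⟨1, 1⟩, ⟨-2, -2⟩, ⟨0, -3⟩, ⟨0, 3⟩, ⟨0, 0⟩; ⟨-3, 0⟩, ⟨0, 0⟩, ⟨2, 2⟩, ⟨1, 2⟩, ⟨-1, -3⟩, ⟨-1, 0⟩; ⟨2, -1⟩, ⟨0, 0⟩, ⟨-1, 1⟩, ⟨-2, -1⟩, ⟨0, -1⟩, ⟨-2, 0⟩; ⟨-1, 0⟩, ⟨0, 1⟩, ⟨1, -1⟩, ⟨1, 1⟩, ⟨-2, 2⟩, ⟨1, 2⟩],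
  !![⟨2, -2⟩, ⟨-1, -1⟩, ⟨0, 3⟩, ⟨-3, 0⟩, ⟨0, -6⟩, ⟨-6, -3⟩; ⟨1, 1⟩, ⟨0, 2⟩, ⟨0, -3⟩, ⟨3, 0⟩, ⟨0, 3⟩, ⟨0, 0⟩; ⟨-2, 1⟩, ⟨-2, 0⟩, ⟨4, 0⟩, ⟨0, 3⟩, ⟨-6, 0⟩, ⟨0, 3⟩; ⟨0, -4⟩, ⟨1, -1⟩, ⟨-1, 4⟩, ⟨-3, 0⟩, ⟨1, -5⟩, ⟨-5, 1⟩; ⟨0, 1⟩, ⟨0, -1⟩, ⟨0, 1⟩, ⟨-1, 0⟩, ⟨1, 0⟩, ⟨2, -2⟩; ⟨0, -1⟩, ⟨-2, 0⟩, ⟨2, 1⟩, ⟨-1, 2⟩, ⟨-3, -3⟩, ⟨-4, 0⟩],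
  !![⟨2, 1⟩, ⟨2, -1⟩, ⟨-2, -2⟩, ⟨0, -3⟩, ⟨3, 3⟩, ⟨3, 0⟩; ⟨3, 1⟩, ⟨0, 0⟩, ⟨-3, -1⟩, ⟨0, -3⟩, ⟨3, 0⟩, ⟨0, -3⟩; ⟨-3, 1⟩, ⟨-2, -2⟩, ⟨4, 1⟩, ⟨0, 3⟩, ⟨-3, -3⟩, ⟨0, 0⟩; ⟨2, -3⟩, ⟨2, -1⟩, ⟨-4, 2⟩, ⟨-3, -2⟩, ⟨5, 0⟩, ⟨1, -1⟩; ⟨-3, 2⟩, ⟨-1, 1⟩, ⟨5, -2⟩, ⟨3, 3⟩, ⟨-6, 2⟩, ⟨0, 4⟩; ⟨2, 1⟩, ⟨1, -1⟩, ⟨-3, -2⟩, ⟨0, -3⟩, ⟨4, 2⟩, ⟨3, -2⟩]],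
  [!![⟨1, 0⟩, ⟨0, 0⟩, ⟨0, 0⟩, ⟨0, 0⟩, ⟨0, 0⟩, ⟨0, 0⟩; ⟨0, 0⟩, ⟨1, 0⟩, ⟨0, 0⟩, ⟨0, 0⟩, ⟨0, 0⟩, ⟨0, 0⟩; ⟨0, 0⟩, ⟨0, 0⟩, ⟨1, 0⟩, ⟨0, 0⟩, ⟨0, 0⟩, ⟨0, 0⟩; ⟨0, 0⟩, ⟨0, 0⟩, ⟨0, 0⟩, ⟨1, 0⟩, ⟨0, 0⟩, ⟨0, 0⟩; ⟨0, 0⟩, ⟨0, 0⟩, ⟨0, 0⟩, ⟨0, 0⟩, ⟨1, 0⟩, ⟨0, 0⟩; ⟨0, 0⟩, ⟨0, 0⟩, ⟨0, 0⟩, ⟨0, 0⟩, ⟨0, 0⟩, ⟨1, 0⟩],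
  !![⟨0, -3⟩, ⟨1, 0⟩, ⟨-3, 3⟩, ⟨-3, 0⟩, ⟨3, 0⟩, ⟨0, 0⟩; ⟨-2, 3⟩, ⟨0, 0⟩, ⟨3, -3⟩, ⟨3, 0⟩, ⟨-3, 3⟩, ⟨3, 3⟩; ⟨-3, -1⟩, ⟨0, -1⟩, ⟨2, 3⟩, ⟨0, 3⟩, ⟨0, -3⟩, ⟨0, 0⟩; ⟨1, -2⟩, ⟨0, 0⟩, ⟨-2, 2⟩, ⟨-3, 0⟩, ⟨2, -1⟩, ⟨-1, -1⟩; ⟨1, -1⟩, ⟨-1, 0⟩, ⟨-1, 1⟩, ⟨-1, 0⟩, ⟨0, -2⟩, ⟨-2, -2⟩; ⟨-2, -2⟩, ⟨1, 0⟩, ⟨1, 3⟩, ⟨-1, 2⟩, ⟨0, -1⟩, ⟨-1, 2⟩],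
  !![⟨-3, -1⟩, ⟨0, 0⟩, ⟨4, 3⟩, ⟨0, 3⟩, ⟨-3, -3⟩, ⟨-3, 3⟩; ⟨0, 2⟩, ⟨-1, -2⟩, ⟨2, 1⟩, ⟨0, 0⟩, ⟨0, -3⟩, ⟨0, -3⟩; ⟨-1, 0⟩, ⟨1, 0⟩, ⟨-1, -1⟩, ⟨0, 0⟩, ⟨0, 3⟩, ⟨3, 3⟩; ⟨-1, 1⟩, ⟨-1, 1⟩, ⟨4, -2⟩, ⟨2, 1⟩, ⟨-5, 0⟩, ⟨-2, 3⟩; ⟨0, -2⟩, ⟨1, 1⟩, ⟨-3, 1⟩, ⟨-1, 0⟩, ⟨2, 2⟩, ⟨1, 1⟩; ⟨-2, 0⟩, ⟨1, -1⟩, ⟨2, 2⟩, ⟨0, 1⟩, ⟨0, -2⟩, ⟨0, 1⟩],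
  !![⟨-2, 3⟩, ⟨1, -1⟩, ⟨3, -1⟩, ⟨3, 0⟩, ⟨0, 0⟩, ⟨3, 0⟩; ⟨1, 0⟩, ⟨0, 0⟩, ⟨0, 0⟩, ⟨0, 0⟩, ⟨0, 0⟩, ⟨0, 0⟩; ⟨1, 1⟩, ⟨-1, 1⟩, ⟨1, -1⟩, ⟨0, 0⟩, ⟨-3, 0⟩, ⟨-3, 0⟩; ⟨0, 2⟩, ⟨0, -2⟩, ⟨0, -1⟩, ⟨1, -2⟩, ⟨2, -1⟩, ⟨3, -3⟩; ⟨-1, -1⟩, ⟨1, 1⟩, ⟨0, 1⟩, ⟨0, 1⟩, ⟨0, 1⟩, ⟨-1, 2⟩; ⟨0, 2⟩, ⟨0, -1⟩, ⟨1, -1⟩, ⟨1, -1⟩, ⟨0, -1⟩, ⟨1, -1⟩],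
  !![⟨-3, -1⟩, ⟨0, 0⟩, ⟨3, 1⟩, ⟨0, 3⟩, ⟨-3, 0⟩, ⟨0, 3⟩; ⟨0, -3⟩, ⟨1, 0⟩, ⟨-3, 3⟩, ⟨-3, 0⟩, ⟨3, 0⟩, ⟨0, 0⟩; ⟨1, 3⟩, ⟨0, 0⟩, ⟨-1, -5⟩, ⟨3, -3⟩, ⟨0, 3⟩, ⟨3, 0⟩; ⟨-3, 0⟩, ⟨0, 0⟩, ⟨4, 1⟩, ⟨1, 4⟩, ⟨-2, 0⟩, ⟨0, 2⟩; ⟨2, 1⟩, ⟨-1, 0⟩, ⟨-1, -2⟩, ⟨0, -2⟩, ⟨-1, 0⟩, ⟨0, -1⟩; ⟨-1, 0⟩, ⟨0, 1⟩, ⟨1, -1⟩, ⟨1, 1⟩, ⟨-2, 2⟩, ⟨0, 2⟩],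
  !![⟨-1, -2⟩, ⟨-1, 1⟩, ⟨2, 0⟩, ⟨0, 3⟩, ⟨-3, 0⟩, ⟨-3, 3⟩; ⟨1, -1⟩, ⟨0, 2⟩, ⟨-2, -1⟩, ⟨0, 0⟩, ⟨0, 3⟩, ⟨0, 0⟩; ⟨-1, 0⟩, ⟨0, -1⟩, ⟨1, 1⟩, ⟨0, 0⟩, ⟨0, -3⟩, ⟨0, 0⟩; ⟨-1, 0⟩, ⟨1, 1⟩, ⟨0, -1⟩, ⟨2, 1⟩, ⟨1, 3⟩, ⟨1, 2⟩; ⟨0, 1⟩, ⟨-1, -2⟩, ⟨2, 1⟩, ⟨-1, 0⟩, ⟨-1, -4⟩, ⟨-1, -2⟩; ⟨0, -1⟩, ⟨-1, 1⟩, ⟨0, -1⟩, ⟨0, 1⟩, ⟨-2, 1⟩, ⟨-1, 2⟩]],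
  [!![⟨1, 0⟩, ⟨0, 0⟩, ⟨0, 0⟩, ⟨0, 0⟩, ⟨0, 0⟩, ⟨0, 0⟩; ⟨0, 0⟩, ⟨1, 0⟩, ⟨0, 0⟩, ⟨0, 0⟩, ⟨0, 0⟩, ⟨0, 0⟩; ⟨0, 0⟩, ⟨0, 0⟩, ⟨1, 0⟩, ⟨0, 0⟩, ⟨0, 0⟩, ⟨0, 0⟩; ⟨0, 0⟩, ⟨0, 0⟩, ⟨0, 0⟩, ⟨1, 0⟩, ⟨0, 0⟩, ⟨0, 0⟩; ⟨0, 0⟩, ⟨0, 0⟩, ⟨0, 0⟩, ⟨0, 0⟩, ⟨1, 0⟩, ⟨0, 0⟩; ⟨0, 0⟩, ⟨0, 0⟩, ⟨0, 0⟩, ⟨0, 0⟩, ⟨0, 0⟩, ⟨1, 0⟩],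
  !![⟨0, -3⟩, ⟨1, 0⟩, ⟨-3, 3⟩, ⟨-3, 0⟩, ⟨3, 0⟩, ⟨0, 0⟩; ⟨-2, 3⟩, ⟨0, 0⟩, ⟨3, -3⟩, ⟨3, 0⟩, ⟨-3, 3⟩, ⟨3, 3⟩; ⟨-3, -1⟩, ⟨0, -1⟩, ⟨2, 3⟩, ⟨0, 3⟩, ⟨0, -3⟩, ⟨0, 0⟩; ⟨1, -2⟩, ⟨0, 0⟩, ⟨-2, 2⟩, ⟨-3, 0⟩, ⟨2, -1⟩, ⟨-1, -1⟩; ⟨1, -1⟩, ⟨-1, 0⟩, ⟨-1, 1⟩, ⟨-1, 0⟩, ⟨0, -2⟩, ⟨-2, -2⟩; ⟨-2, -2⟩, ⟨1, 0⟩, ⟨1, 3⟩, ⟨-1, 2⟩, ⟨0, -1⟩, ⟨-1, 2⟩],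
  !![⟨-3, -1⟩, ⟨0, 0⟩, ⟨4, 3⟩, ⟨0, 3⟩, ⟨-3, -3⟩, ⟨-3, 3⟩; ⟨0, 2⟩, ⟨-1, -2⟩, ⟨2, 1⟩, ⟨0, 0⟩, ⟨0, -3⟩, ⟨0, -3⟩; ⟨-1, 0⟩, ⟨1, 0⟩, ⟨-1, -1⟩, ⟨0, 0⟩, ⟨0, 3⟩, ⟨3, 3⟩; ⟨-1, 1⟩, ⟨-1, 1⟩, ⟨4, -2⟩, ⟨2, 1⟩, ⟨-5, 0⟩, ⟨-2, 3⟩; ⟨0, -2⟩, ⟨1, 1⟩, ⟨-3, 1⟩, ⟨-1, 0⟩, ⟨2, 2⟩, ⟨1, 1⟩; ⟨-2, 0⟩, ⟨1, -1⟩, ⟨2, 2⟩, ⟨0, 1⟩, ⟨0, -2⟩, ⟨0, 1⟩],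
  !![⟨0, -1⟩, ⟨0, 1⟩, ⟨-1, 0⟩, ⟨0, 0⟩, ⟨0, 0⟩, ⟨0, 0⟩; ⟨0, -1⟩, ⟨1, 0⟩, ⟨-2, -1⟩, ⟨0, 0⟩, ⟨3, 3⟩, ⟨3, 0⟩; ⟨3, 1⟩, ⟨1, 1⟩, ⟨-2, -2⟩, ⟨0, -3⟩, ⟨0, 3⟩, ⟨0, 0⟩; ⟨-3, 0⟩, ⟨0, 0⟩, ⟨2, 2⟩, ⟨1, 2⟩, ⟨-1, -3⟩, ⟨-1, 0⟩; ⟨2, -1⟩, ⟨0, 0⟩, ⟨-1, 1⟩, ⟨-2, -1⟩, ⟨0, -1⟩, ⟨-2, 0⟩; ⟨-1, 0⟩, ⟨0, 1⟩, ⟨1, -1⟩, ⟨1, 1⟩, ⟨-2, 2⟩, ⟨1, 2⟩],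
  !![⟨1, 0⟩, ⟨1, 0⟩, ⟨-4, -2⟩, ⟨0, -3⟩, ⟨3, 3⟩, ⟨3, 0⟩; ⟨-2, -3⟩, ⟨-1, -1⟩, ⟨2, 3⟩, ⟨-3, 3⟩, ⟨-3, -3⟩, ⟨-3, 3⟩; ⟨4, -2⟩, ⟨1, 0⟩, ⟨-5, 3⟩, ⟨-3, -3⟩, ⟨6, -3⟩, ⟨-3, -6⟩; ⟨-1, 3⟩, ⟨0, 0⟩, ⟨-1, -3⟩, ⟨2, -1⟩, ⟨1, 4⟩, ⟨6, 0⟩; ⟨2, 0⟩, ⟨1, 1⟩, ⟨-1, -1⟩, ⟨1, -2⟩, ⟨1, 0⟩, ⟨-2, -1⟩; ⟨1, -1⟩, ⟨1, -1⟩, ⟨-3, 1⟩, ⟨-2, -2⟩, ⟨3, 0⟩, ⟨1, -1⟩],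
  !![⟨-2, 0⟩, ⟨-2, 0⟩, ⟨3, 2⟩, ⟨0, 3⟩, ⟨-3, -3⟩, ⟨-3, 0⟩; ⟨-3, 0⟩, ⟨-1, 0⟩, ⟨5, 2⟩, ⟨0, 3⟩, ⟨-6, -3⟩, ⟨-3, 3⟩; ⟨0, -2⟩, ⟨1, 1⟩, ⟨-2, 1⟩, ⟨0, 0⟩, ⟨3, 0⟩, ⟨0, 0⟩; ⟨1, 3⟩, ⟨-2, 1⟩, ⟨2, -4⟩, ⟨2, 0⟩, ⟨-4, 3⟩, ⟨0, 1⟩; ⟨1, -1⟩, ⟨1, -1⟩, ⟨-4, 1⟩, ⟨-1, -2⟩, ⟨6, -1⟩, ⟨2, -4⟩; ⟨-1, -1⟩, ⟨-1, 0⟩, ⟨2, 3⟩, ⟨-1, 2⟩, ⟨-2, -4⟩, ⟨-4, 0⟩],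
  !![⟨3, 0⟩, ⟨0, 0⟩, ⟨-3, -2⟩, ⟨0, -3⟩, ⟨3, 0⟩, ⟨0, -3⟩; ⟨-2, 1⟩, ⟨2, 1⟩, ⟨1, -2⟩, ⟨3, 0⟩, ⟨0, 3⟩, ⟨3, 3⟩; ⟨-1, -3⟩, ⟨-2, 0⟩, ⟨2, 5⟩, ⟨-3, 3⟩, ⟨-3, -6⟩, ⟨-6, 0⟩; ⟨3, 0⟩, ⟨1, -1⟩, ⟨-5, -1⟩, ⟨-1, -4⟩, ⟨5, 0⟩, ⟨1, -4⟩; ⟨-1, 0⟩, ⟨-2, 0⟩, ⟨4, 1⟩, ⟨0, 3⟩, ⟨-4, -2⟩, ⟨-3, 1⟩; ⟨1, -1⟩, ⟨0, 1⟩, ⟨-2, -1⟩, ⟨0, -1⟩, ⟨1, 1⟩, ⟨0, 0⟩],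
  !![⟨0, -1⟩, ⟨-1, 0⟩, ⟨-1, -1⟩, ⟨0, 0⟩, ⟨0, 0⟩, ⟨0, 0⟩; ⟨1, 2⟩, ⟨0, -2⟩, ⟨-2, -2⟩, ⟨0, -3⟩, ⟨3, 0⟩, ⟨3, -3⟩; ⟨-2, 1⟩, ⟨2, 1⟩, ⟨1, -1⟩, ⟨3, 0⟩, ⟨0, 3⟩, ⟨3, 3⟩; ⟨0, -2⟩, ⟨-2, 1⟩, ⟨-1, 2⟩, ⟨-2, 2⟩, ⟨-1, -2⟩, ⟨-3, -1⟩; ⟨-1, 0⟩, ⟨1, 0⟩, ⟨2, 0⟩, ⟨1, 1⟩, ⟨-1, 1⟩, ⟨1, 2⟩; ⟨-1, 0⟩, ⟨0, 0⟩, ⟨0, -1⟩, ⟨1, 0⟩, ⟨0, 1⟩, ⟨1, 1⟩],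
  !![⟨-3, -1⟩, ⟨-1, 0⟩, ⟨2, 1⟩, ⟨0, 3⟩, ⟨-3, 0⟩, ⟨0, 3⟩; ⟨-1, 1⟩, ⟨-4, 0⟩, ⟨4, 0⟩, ⟨0, 3⟩, ⟨-6, -3⟩, ⟨-3, 0⟩; ⟨1, 1⟩, ⟨2, -2⟩, ⟨-3, 0⟩, ⟨0, -3⟩, ⟨6, 0⟩, ⟨3, -3⟩; ⟨-2, 1⟩, ⟨0, 3⟩, ⟨2, -3⟩, ⟨3, 2⟩, ⟨-4, 6⟩, ⟨2, 5⟩; ⟨2, -2⟩, ⟨2, -2⟩, ⟨-4, 2⟩, ⟨-3, -3⟩, ⟨5, -2⟩, ⟨0, -2⟩; ⟨-3, 0⟩, ⟨-1, -1⟩, ⟨3, 2⟩, ⟨0, 3⟩, ⟨-2, -2⟩, ⟨0, 1⟩]],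
  [!![⟨1, 0⟩, ⟨0, 0⟩, ⟨0, 0⟩, ⟨0, 0⟩, ⟨0, 0⟩, ⟨0, 0⟩; ⟨0, 0⟩, ⟨1, 0⟩, ⟨0, 0⟩, ⟨0, 0⟩, ⟨0, 0⟩, ⟨0, 0⟩; ⟨0, 0⟩, ⟨0, 0⟩, ⟨1, 0⟩, ⟨0, 0⟩, ⟨0, 0⟩, ⟨0, 0⟩; ⟨0, 0⟩, ⟨0, 0⟩, ⟨0, 0⟩, ⟨1, 0⟩, ⟨0, 0⟩, ⟨0, 0⟩; ⟨0, 0⟩, ⟨0, 0⟩, ⟨0, 0⟩, ⟨0, 0⟩, ⟨1, 0⟩, ⟨0, 0⟩; ⟨0, 0⟩, ⟨0, 0⟩, ⟨0, 0⟩, ⟨0, 0⟩, ⟨0, 0⟩, ⟨1, 0⟩],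
  !![⟨0, -3⟩, ⟨1, 0⟩, ⟨-3, 3⟩, ⟨-3, 0⟩, ⟨3, 0⟩, ⟨0, 0⟩; ⟨-2, 3⟩, ⟨0, 0⟩, ⟨3, -3⟩, ⟨3, 0⟩, ⟨-3, 3⟩, ⟨3, 3⟩; ⟨-3, -1⟩, ⟨0, -1⟩, ⟨2, 3⟩, ⟨0, 3⟩, ⟨0, -3⟩, ⟨0, 0⟩; ⟨1, -2⟩, ⟨0, 0⟩, ⟨-2, 2⟩, ⟨-3, 0⟩, ⟨2, -1⟩, ⟨-1, -1⟩; ⟨1, -1⟩, ⟨-1, 0⟩, ⟨-1, 1⟩, ⟨-1, 0⟩, ⟨0, -2⟩, ⟨-2, -2⟩; ⟨-2, -2⟩, ⟨1, 0⟩, ⟨1, 3⟩, ⟨-1, 2⟩, ⟨0, -1⟩, ⟨-1, 2⟩],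
  !![⟨1, -1⟩, ⟨0, 2⟩, ⟨-2, -1⟩, ⟨0, 0⟩, ⟨0, 3⟩, ⟨0, 0⟩; ⟨-3, -1⟩, ⟨-1, 1⟩, ⟨2, 1⟩, ⟨0, 3⟩, ⟨-3, 0⟩, ⟨0, 3⟩; ⟨0, -1⟩, ⟨0, -1⟩, ⟨1, 1⟩, ⟨0, 0⟩, ⟨0, -3⟩, ⟨-3, 0⟩; ⟨1, 0⟩, ⟨2, 1⟩, ⟨-3, 0⟩, ⟨0, -1⟩, ⟨4, 3⟩, ⟨2, -2⟩; ⟨2, 1⟩, ⟨-1, -1⟩, ⟨0, -2⟩, ⟨0, -2⟩, ⟨-1, -1⟩, ⟨-1, -1⟩; ⟨0, -2⟩, ⟨0, 1⟩, ⟨-1, 1⟩, ⟨-1, 1⟩, ⟨0, 1⟩, ⟨-1, 1⟩],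
  !![⟨-1, 1⟩, ⟨0, -2⟩, ⟨2, 1⟩, ⟨0, 0⟩, ⟨0, -3⟩, ⟨0, 0⟩; ⟨0, -1⟩, ⟨1, 0⟩, ⟨1, 2⟩, ⟨0, 0⟩, ⟨0, -3⟩, ⟨-3, 0⟩; ⟨1, 1⟩, ⟨-2, 1⟩, ⟨-1, -1⟩, ⟨0, 0⟩, ⟨0, 0⟩, ⟨0, -3⟩; ⟨-1, 2⟩, ⟨-1, -2⟩, ⟨3, -2⟩, ⟨1, 0⟩, ⟨-3, 0⟩, ⟨2, 2⟩; ⟨0, 1⟩, ⟨0, 1⟩, ⟨-1, -1⟩, ⟨1, 0⟩, ⟨1, 2⟩, ⟨1, -1⟩; ⟨1, 0⟩, ⟨0, -1⟩, ⟨-1, 1⟩, ⟨-1, -1⟩, ⟨2, -2⟩, ⟨0, -2⟩],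
  !![⟨-2, 0⟩, ⟨2, -1⟩, ⟨0, 2⟩, ⟨0, 0⟩, ⟨3, 0⟩, ⟨3, 0⟩; ⟨1, -2⟩, ⟨0, -1⟩, ⟨0, 3⟩, ⟨-3, 0⟩, ⟨0, -3⟩, ⟨-3, 0⟩; ⟨2, 1⟩, ⟨1, 0⟩, ⟨-3, -1⟩, ⟨0, -3⟩, ⟨3, 0⟩, ⟨0, -3⟩; ⟨-3, 2⟩, ⟨-1, -1⟩, ⟨4, -1⟩, ⟨2, 2⟩, ⟨-2, 0⟩, ⟨3, 1⟩; ⟨0, 0⟩, ⟨1, 1⟩, ⟨-2, -1⟩, ⟨1, -1⟩, ⟨1, 2⟩, ⟨1, 1⟩; ⟨0, 1⟩, ⟨1, -1⟩, ⟨0, 1⟩, ⟨0, -1⟩, ⟨2, -1⟩, ⟨1, -2⟩],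
  !![⟨-2, -2⟩, ⟨0, 2⟩, ⟨2, 2⟩, ⟨0, 3⟩, ⟨-3, 0⟩, ⟨-3, 3⟩; ⟨0, 1⟩, ⟨0, 0⟩, ⟨0, -1⟩, ⟨0, 0⟩, ⟨0, 3⟩, ⟨3, 0⟩; ⟨-1, -1⟩, ⟨2, 0⟩, ⟨0, 1⟩, ⟨0, 0⟩, ⟨0, 0⟩, ⟨0, 3⟩; ⟨-1, 0⟩, ⟨0, 1⟩, ⟨1, 0⟩, ⟨1, 1⟩, ⟨0, 0⟩, ⟨-1, 0⟩; ⟨0, -2⟩, ⟨0, -1⟩, ⟨-1, 3⟩, ⟨-2, 0⟩, ⟨1, -4⟩, ⟨-2, -1⟩; ⟨-2, 0⟩, ⟨0, 1⟩, ⟨3, 0⟩, ⟨1, 2⟩, ⟨-4, 1⟩, ⟨-1, 4⟩],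
  !![⟨-1, 0⟩, ⟨0, -1⟩, ⟨1, 1⟩, ⟨0, 0⟩, ⟨0, -3⟩, ⟨0, 0⟩; ⟨-1, 0⟩, ⟨2, -2⟩, ⟨0, 1⟩, ⟨0, 0⟩, ⟨3, 0⟩, ⟨3, 0⟩; ⟨0, 0⟩, ⟨0, 2⟩, ⟨0, -1⟩, ⟨0, 0⟩, ⟨-3, 3⟩, ⟨0, 3⟩; ⟨-1, 1⟩, ⟨-2, -1⟩, ⟨3, 0⟩, ⟨1, 1⟩, ⟨-3, -4⟩, ⟨-2, -1⟩; ⟨0, -1⟩, ⟨0, 2⟩, ⟨0, 0⟩, ⟨0, 1⟩, ⟨-1, 2⟩, ⟨-1, 2⟩; ⟨0, 0⟩, ⟨1, 0⟩, ⟨-1, 0⟩, ⟨0, -1⟩, ⟨1, 0⟩, ⟨1, 0⟩],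
  !![⟨0, -2⟩, ⟨1, -2⟩, ⟨0, 5⟩, ⟨-3, 0⟩, ⟨3, -6⟩, ⟨-3, -3⟩; ⟨-3, 1⟩, ⟨0, 0⟩, ⟨5, 0⟩, ⟨3, 3⟩, ⟨-3, 0⟩, ⟨0, 3⟩; ⟨-1, -2⟩, ⟨-2, 0⟩, ⟨1, 3⟩, ⟨-3, 3⟩, ⟨-3, -3⟩, ⟨-3, 0⟩; ⟨1, 0⟩, ⟨0, -2⟩, ⟨0, 0⟩, ⟨-1, -2⟩, ⟨1, -3⟩, ⟨-1, -1⟩; ⟨2, -1⟩, ⟨0, 1⟩, ⟨-4, 1⟩, ⟨-2, -1⟩, ⟨3, 1⟩, ⟨0, -3⟩; ⟨-1, -2⟩, ⟨0, -1⟩, ⟨2, 4⟩, ⟨-2, 2⟩, ⟨-1, -5⟩, ⟨-4, 0⟩],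
  !![⟨0, -1⟩, ⟨2, 1⟩, ⟨0, 0⟩, ⟨0, 0⟩, ⟨0, 3⟩, ⟨0, 3⟩; ⟨0, 0⟩, ⟨-1, 0⟩, ⟨0, 0⟩, ⟨0, 0⟩, ⟨0, 0⟩, ⟨0, 0⟩; ⟨0, 0⟩, ⟨0, -1⟩, ⟨0, -1⟩, ⟨0, 0⟩, ⟨0, 0⟩, ⟨0, 0⟩; ⟨0, 0⟩, ⟨2, 0⟩, ⟨-1, 0⟩, ⟨0, -1⟩, ⟨3, 2⟩, ⟨3, 0⟩; ⟨1, 1⟩, ⟨0, 1⟩, ⟨-1, -2⟩, ⟨1, -1⟩, ⟨-1, 2⟩, ⟨0, 0⟩; ⟨0, -1⟩, ⟨1, -1⟩, ⟨0, 1⟩, ⟨-1, 0⟩, ⟨1, 0⟩, ⟨0, 1⟩]]]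

/-- The character values at the class representatives. -/
def tv6 : List GaussianInt := [⟨6, 0⟩, ⟨-2, 0⟩, ⟨1, 0⟩, ⟨-1, 0⟩, ⟨-1, 0⟩, ⟨-3, 0⟩, ⟨1, 0⟩, ⟨1, 0⟩, ⟨0, 0⟩, ⟨2, 0⟩, ⟨0, 0⟩, ⟨0, 0⟩, ⟨-2, 0⟩, ⟨-2, 0⟩]

set_option maxRecDepth 1000000 in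
theorem hA6 : mA6 * mA6 = 1 := by decide +kernel
set_option maxRecDepth 1000000 in
theorem hB6 : mB6 * mBi6 = 1 := by decide +kernel
set_option maxRecDepth 1000000 in
theorem hBi6 : mBi6 * mB6 = 1 := by decide +kernel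

set_option maxRecDepth 1000000 in
theorem relOK6 : allBelow (fun r => relB mA6 mB6 mBi6 (relsL.getD r []) (qR6.getD r [])) 8 = true := by
  decide +kernel

set_option maxRecDepth 1000000 in
theorem clsOK6 : allBelow (fun c => clsB mA6 mB6 mBi6 (cwL.getD c []) (qC6.getD c [])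
    (tv6.getD c 0)) 14 = true := by
  decide +kernel

/-- The data of the representation. -/
def D6 : Dat 6 where
  A := mA6
  B := mB6
  Bi := mBi6
  hA := hA6
  hB := hB6
  hBi := hBi6
  hrel := hrel_of_relOK _ _ _ _ relOK6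

theorem val6 (c : ℕ) (hc : c < 14) :
    (rep D6).character (rp (crep c)) = GaussianInt.toComplex (tv6.getD c 0) :=
  val_of_clsOK D6 _ _ clsOK6 c hc

/-! ### The representation of degree 7 -/

def mA7 : GM 7 := !![⟨-1, 0⟩, ⟨0, 0⟩, ⟨2, 0⟩, ⟨0, 0⟩, ⟨0, 0⟩, ⟨0, 0⟩, ⟨0, 0⟩; ⟨-2, 0⟩, ⟨0, 0⟩, ⟨2, 0⟩, ⟨0, 0⟩, ⟨1, 0⟩, ⟨-1, 0⟩, ⟨1, 0⟩; ⟨0, 0⟩, ⟨0, 0⟩, ⟨1, 0⟩, ⟨0, 0⟩, ⟨0, 0⟩, ⟨0, 0⟩, ⟨0, 0⟩; ⟨0, 0⟩, ⟨0, 0⟩, ⟨0, 0⟩, ⟨-1, 0⟩, ⟨0, 0⟩, ⟨0,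 0⟩, ⟨0, 0⟩; ⟨-2, 0⟩, ⟨1, 0⟩, ⟨2, 0⟩, ⟨0, 0⟩, ⟨0, 0⟩, ⟨-1, 0⟩, ⟨1, 0⟩; ⟨-1, 0⟩, ⟨1, 0⟩, ⟨1, 0⟩, ⟨0, 0⟩, ⟨-1, 0⟩, ⟨0, 0⟩, ⟨1, 0⟩; ⟨-1, 0⟩, ⟨1, 0⟩, ⟨1, 0⟩, ⟨0, 0⟩, ⟨-1, 0⟩, ⟨1, 0⟩, ⟨0, 0⟩]
def mB7 : GM 7 := !![⟨-1, 0⟩, ⟨0, 0⟩, ⟨0, 0⟩, ⟨-2, 0⟩, ⟨2, 0⟩, ⟨-2, 0⟩, ⟨2, 0⟩; ⟨-2, 0⟩, ⟨1, 0⟩, ⟨1, 0⟩, ⟨-1, 0⟩, ⟨1, 0⟩, ⟨-2, 0⟩, ⟨2, 0⟩; ⟨1, 0⟩, ⟨-1, 0⟩, ⟨0, 0⟩, ⟨-1, 0⟩, ⟨1, 0⟩, ⟨-1, 0⟩, ⟨0, 0⟩; ⟨-1, 0⟩, ⟨1, 0⟩, ⟨0, 0⟩, ⟨0, 0⟩, ⟨0, 0⟩, ⟨0, 0⟩,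 ⟨1, 0⟩; ⟨-1, 0⟩, ⟨1, 0⟩, ⟨0, 0⟩, ⟨-1, 0⟩, ⟨1, 0⟩, ⟨-1, 0⟩, ⟨1, 0⟩; ⟨0, 0⟩, ⟨0, 0⟩, ⟨0, 0⟩, ⟨-1, 0⟩, ⟨1, 0⟩, ⟨0, 0⟩, ⟨0, 0⟩; ⟨-1, 0⟩, ⟨0, 0⟩, ⟨0, 0⟩, ⟨-1, 0⟩, ⟨2, 0⟩, ⟨-1, 0⟩, ⟨1, 0⟩]
def mBi7 : GM 7 := !![⟨-1, 0⟩, ⟨0, 0⟩, ⟨2, 0⟩, ⟨2, 0⟩, ⟨0, 0⟩, ⟨0, 0⟩, ⟨0, 0⟩; ⟨-1, 0⟩, ⟨0, 0⟩, ⟨1, 0⟩, ⟨1, 0⟩, ⟨1, 0⟩, ⟨0, 0⟩, ⟨0, 0⟩; ⟨-1, 0⟩, ⟨1, 0⟩, ⟨1, 0⟩, ⟨1, 0⟩, ⟨-1, 0⟩, ⟨1, 0⟩, ⟨0, 0⟩; ⟨-1, 0⟩, ⟨0, 0⟩, ⟨1, 0⟩, ⟨1, 0⟩, ⟨0, 0⟩, ⟨-1, 0⟩, ⟨1,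 0⟩; ⟨-1, 0⟩, ⟨0, 0⟩, ⟨1, 0⟩, ⟨1, 0⟩, ⟨0, 0⟩, ⟨0, 0⟩, ⟨1, 0⟩; ⟨0, 0⟩, ⟨0, 0⟩, ⟨0, 0⟩, ⟨1, 0⟩, ⟨-1, 0⟩, ⟨1, 0⟩, ⟨0, 0⟩; ⟨0, 0⟩, ⟨0, 0⟩, ⟨1, 0⟩, ⟨2, 0⟩, ⟨-1, 0⟩, ⟨0, 0⟩, ⟨0, 0⟩]

def qR7 : List (List (GM 7)) := [
  [!![⟨1, 0⟩, ⟨0, 0⟩, ⟨0, 0⟩, ⟨0, 0⟩, ⟨0, 0⟩, ⟨0, 0⟩, ⟨0, 0⟩; ⟨0, 0⟩, ⟨1, 0⟩, ⟨0, 0⟩, ⟨0, 0⟩, ⟨0, 0⟩, ⟨0, 0⟩, ⟨0, 0⟩; ⟨0, 0⟩, ⟨0, 0⟩, ⟨1, 0⟩, ⟨0, 0⟩, ⟨0, 0⟩, ⟨0, 0⟩, ⟨0, 0⟩; ⟨0, 0⟩, ⟨0, 0⟩, ⟨0, 0⟩, ⟨1, 0⟩, ⟨0, 0⟩, ⟨0, 0⟩,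 ⟨0, 0⟩; ⟨0, 0⟩, ⟨0, 0⟩, ⟨0, 0⟩, ⟨0, 0⟩, ⟨1, 0⟩, ⟨0, 0⟩, ⟨0, 0⟩; ⟨0, 0⟩, ⟨0, 0⟩, ⟨0, 0⟩, ⟨0, 0⟩, ⟨0, 0⟩, ⟨1, 0⟩, ⟨0, 0⟩; ⟨0, 0⟩, ⟨0, 0⟩, ⟨0, 0⟩, ⟨0, 0⟩, ⟨0, 0⟩, ⟨0, 0⟩, ⟨1, 0⟩],
  !![⟨-1, 0⟩, ⟨0, 0⟩, ⟨2, 0⟩, ⟨0, 0⟩, ⟨0, 0⟩, ⟨0, 0⟩, ⟨0, 0⟩; ⟨-2, 0⟩, ⟨0, 0⟩, ⟨2, 0⟩, ⟨0, 0⟩, ⟨1, 0⟩, ⟨-1, 0⟩, ⟨1, 0⟩; ⟨0, 0⟩, ⟨0, 0⟩, ⟨1, 0⟩, ⟨0, 0⟩, ⟨0, 0⟩, ⟨0, 0⟩, ⟨0, 0⟩; ⟨0, 0⟩, ⟨0, 0⟩, ⟨0, 0⟩, ⟨-1, 0⟩, ⟨0, 0⟩, ⟨0, 0⟩, ⟨0, 0⟩; ⟨-2, 0⟩, ⟨1, 0⟩, ⟨2,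 0⟩, ⟨0, 0⟩, ⟨0, 0⟩, ⟨-1, 0⟩, ⟨1, 0⟩; ⟨-1, 0⟩, ⟨1, 0⟩, ⟨1, 0⟩, ⟨0, 0⟩, ⟨-1, 0⟩, ⟨0, 0⟩, ⟨1, 0⟩; ⟨-1, 0⟩, ⟨1, 0⟩, ⟨1, 0⟩, ⟨0, 0⟩, ⟨-1, 0⟩, ⟨1, 0⟩, ⟨0, 0⟩],
  !![⟨1, 0⟩, ⟨0, 0⟩, ⟨0, 0⟩, ⟨0, 0⟩, ⟨0, 0⟩, ⟨0, 0⟩, ⟨0, 0⟩; ⟨0, 0⟩, ⟨1, 0⟩, ⟨0, 0⟩, ⟨0, 0⟩, ⟨0, 0⟩, ⟨0, 0⟩, ⟨0, 0⟩; ⟨0, 0⟩, ⟨0, 0⟩, ⟨1, 0⟩, ⟨0, 0⟩, ⟨0, 0⟩, ⟨0, 0⟩, ⟨0, 0⟩; ⟨0, 0⟩, ⟨0, 0⟩, ⟨0, 0⟩, ⟨1, 0⟩, ⟨0, 0⟩, ⟨0, 0⟩, ⟨0, 0⟩; ⟨0, 0⟩, ⟨0, 0⟩, ⟨0, 0⟩, ⟨0, 0⟩, ⟨1, 0⟩, ⟨0, 0⟩,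 ⟨0, 0⟩; ⟨0, 0⟩, ⟨0, 0⟩, ⟨0, 0⟩, ⟨0, 0⟩, ⟨0, 0⟩, ⟨1, 0⟩, ⟨0, 0⟩; ⟨0, 0⟩, ⟨0, 0⟩, ⟨0, 0⟩, ⟨0, 0⟩, ⟨0, 0⟩, ⟨0, 0⟩, ⟨1, 0⟩]],
  [!![⟨1, 0⟩, ⟨0, 0⟩, ⟨0, 0⟩, ⟨0, 0⟩, ⟨0, 0⟩, ⟨0, 0⟩, ⟨0, 0⟩; ⟨0, 0⟩, ⟨1, 0⟩, ⟨0, 0⟩, ⟨0, 0⟩, ⟨0, 0⟩, ⟨0, 0⟩, ⟨0, 0⟩; ⟨0, 0⟩, ⟨0, 0⟩, ⟨1, 0⟩, ⟨0, 0⟩, ⟨0, 0⟩, ⟨0, 0⟩, ⟨0, 0⟩; ⟨0, 0⟩, ⟨0, 0⟩, ⟨0, 0⟩, ⟨1, 0⟩, ⟨0, 0⟩, ⟨0, 0⟩, ⟨0, 0⟩; ⟨0, 0⟩, ⟨0, 0⟩, ⟨0, 0⟩, ⟨0, 0⟩, ⟨1, 0⟩, ⟨0, 0⟩, ⟨0, 0⟩; ⟨0, 0⟩, ⟨0, 0⟩, ⟨0, 0⟩,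 ⟨0, 0⟩, ⟨0, 0⟩, ⟨1, 0⟩, ⟨0, 0⟩; ⟨0, 0⟩, ⟨0, 0⟩, ⟨0, 0⟩, ⟨0, 0⟩, ⟨0, 0⟩, ⟨0, 0⟩, ⟨1, 0⟩],
  !![⟨-1, 0⟩, ⟨0, 0⟩, ⟨0, 0⟩, ⟨-2, 0⟩, ⟨2, 0⟩, ⟨-2, 0⟩, ⟨2, 0⟩; ⟨-2, 0⟩, ⟨1, 0⟩, ⟨1, 0⟩, ⟨-1, 0⟩, ⟨1, 0⟩, ⟨-2, 0⟩, ⟨2, 0⟩; ⟨1, 0⟩, ⟨-1, 0⟩, ⟨0, 0⟩, ⟨-1, 0⟩, ⟨1, 0⟩, ⟨-1, 0⟩, ⟨0, 0⟩; ⟨-1, 0⟩, ⟨1, 0⟩, ⟨0, 0⟩, ⟨0, 0⟩, ⟨0, 0⟩, ⟨0, 0⟩, ⟨1, 0⟩; ⟨-1, 0⟩, ⟨1, 0⟩, ⟨0, 0⟩, ⟨-1, 0⟩, ⟨1, 0⟩, ⟨-1, 0⟩, ⟨1, 0⟩; ⟨0, 0⟩, ⟨0, 0⟩, ⟨0, 0⟩, ⟨-1, 0⟩, ⟨1, 0⟩, ⟨0,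 0⟩, ⟨0, 0⟩; ⟨-1, 0⟩, ⟨0, 0⟩, ⟨0, 0⟩, ⟨-1, 0⟩, ⟨2, 0⟩, ⟨-1, 0⟩, ⟨1, 0⟩],
  !![⟨1, 0⟩, ⟨0, 0⟩, ⟨0, 0⟩, ⟨0, 0⟩, ⟨0, 0⟩, ⟨0, 0⟩, ⟨0, 0⟩; ⟨0, 0⟩, ⟨1, 0⟩, ⟨0, 0⟩, ⟨0, 0⟩, ⟨0, 0⟩, ⟨0, 0⟩, ⟨0, 0⟩; ⟨0, 0⟩, ⟨0, 0⟩, ⟨1, 0⟩, ⟨0, 0⟩, ⟨0, 0⟩, ⟨0, 0⟩, ⟨0, 0⟩; ⟨0, 0⟩, ⟨0, 0⟩, ⟨0, 0⟩, ⟨1, 0⟩, ⟨0, 0⟩, ⟨0, 0⟩, ⟨0, 0⟩; ⟨0, 0⟩, ⟨0, 0⟩, ⟨0, 0⟩, ⟨0, 0⟩, ⟨1, 0⟩, ⟨0, 0⟩, ⟨0, 0⟩; ⟨0, 0⟩, ⟨0, 0⟩, ⟨0, 0⟩, ⟨0, 0⟩, ⟨0, 0⟩, ⟨1, 0⟩, ⟨0, 0⟩; ⟨0, 0⟩, ⟨0, 0⟩, ⟨0,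 0⟩, ⟨0, 0⟩, ⟨0, 0⟩, ⟨0, 0⟩, ⟨1, 0⟩]],
  [!![⟨1, 0⟩, ⟨0, 0⟩, ⟨0, 0⟩, ⟨0, 0⟩, ⟨0, 0⟩, ⟨0, 0⟩, ⟨0, 0⟩; ⟨0, 0⟩, ⟨1, 0⟩, ⟨0, 0⟩, ⟨0, 0⟩, ⟨0, 0⟩, ⟨0, 0⟩, ⟨0, 0⟩; ⟨0, 0⟩, ⟨0, 0⟩, ⟨1, 0⟩, ⟨0, 0⟩, ⟨0, 0⟩, ⟨0, 0⟩, ⟨0, 0⟩; ⟨0, 0⟩, ⟨0, 0⟩, ⟨0, 0⟩, ⟨1, 0⟩, ⟨0, 0⟩, ⟨0, 0⟩, ⟨0, 0⟩; ⟨0, 0⟩, ⟨0, 0⟩, ⟨0, 0⟩, ⟨0, 0⟩, ⟨1, 0⟩, ⟨0, 0⟩, ⟨0, 0⟩; ⟨0, 0⟩, ⟨0, 0⟩, ⟨0, 0⟩, ⟨0, 0⟩, ⟨0, 0⟩, ⟨1, 0⟩, ⟨0, 0⟩; ⟨0, 0⟩, ⟨0, 0⟩, ⟨0, 0⟩, ⟨0, 0⟩, ⟨0, 0⟩, ⟨0, 0⟩, ⟨1,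 0⟩],
  !![⟨-1, 0⟩, ⟨0, 0⟩, ⟨2, 0⟩, ⟨2, 0⟩, ⟨0, 0⟩, ⟨0, 0⟩, ⟨0, 0⟩; ⟨-1, 0⟩, ⟨0, 0⟩, ⟨1, 0⟩, ⟨1, 0⟩, ⟨1, 0⟩, ⟨0, 0⟩, ⟨0, 0⟩; ⟨-1, 0⟩, ⟨1, 0⟩, ⟨1, 0⟩, ⟨1, 0⟩, ⟨-1, 0⟩, ⟨1, 0⟩, ⟨0, 0⟩; ⟨-1, 0⟩, ⟨0, 0⟩, ⟨1, 0⟩, ⟨1, 0⟩, ⟨0, 0⟩, ⟨-1, 0⟩, ⟨1, 0⟩; ⟨-1, 0⟩, ⟨0, 0⟩, ⟨1, 0⟩, ⟨1, 0⟩, ⟨0, 0⟩, ⟨0, 0⟩, ⟨1, 0⟩; ⟨0, 0⟩, ⟨0, 0⟩, ⟨0, 0⟩, ⟨1, 0⟩, ⟨-1, 0⟩, ⟨1, 0⟩, ⟨0, 0⟩; ⟨0, 0⟩, ⟨0, 0⟩, ⟨1, 0⟩, ⟨2, 0⟩, ⟨-1, 0⟩, ⟨0, 0⟩, ⟨0, 0⟩],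
  !![⟨1, 0⟩, ⟨0, 0⟩, ⟨0, 0⟩, ⟨0, 0⟩, ⟨0, 0⟩, ⟨0, 0⟩, ⟨0, 0⟩; ⟨0, 0⟩, ⟨1, 0⟩, ⟨0, 0⟩, ⟨0, 0⟩, ⟨0, 0⟩, ⟨0, 0⟩, ⟨0, 0⟩; ⟨0, 0⟩, ⟨0, 0⟩, ⟨1, 0⟩, ⟨0, 0⟩, ⟨0, 0⟩, ⟨0, 0⟩, ⟨0, 0⟩; ⟨0, 0⟩, ⟨0, 0⟩, ⟨0, 0⟩, ⟨1, 0⟩, ⟨0, 0⟩, ⟨0, 0⟩, ⟨0, 0⟩; ⟨0, 0⟩, ⟨0, 0⟩, ⟨0, 0⟩, ⟨0, 0⟩, ⟨1, 0⟩, ⟨0, 0⟩, ⟨0, 0⟩; ⟨0, 0⟩, ⟨0, 0⟩, ⟨0, 0⟩, ⟨0, 0⟩, ⟨0, 0⟩, ⟨1, 0⟩, ⟨0, 0⟩; ⟨0, 0⟩, ⟨0, 0⟩, ⟨0, 0⟩, ⟨0, 0⟩, ⟨0, 0⟩, ⟨0, 0⟩, ⟨1, 0⟩]],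
  [!![⟨1, 0⟩, ⟨0, 0⟩, ⟨0, 0⟩, ⟨0, 0⟩, ⟨0, 0⟩, ⟨0, 0⟩, ⟨0, 0⟩; ⟨0, 0⟩, ⟨1, 0⟩, ⟨0, 0⟩, ⟨0, 0⟩, ⟨0, 0⟩, ⟨0, 0⟩, ⟨0, 0⟩; ⟨0, 0⟩, ⟨0, 0⟩, ⟨1, 0⟩, ⟨0, 0⟩, ⟨0, 0⟩, ⟨0, 0⟩, ⟨0, 0⟩; ⟨0, 0⟩, ⟨0, 0⟩, ⟨0, 0⟩, ⟨1, 0⟩, ⟨0, 0⟩, ⟨0, 0⟩, ⟨0, 0⟩; ⟨0, 0⟩, ⟨0, 0⟩, ⟨0, 0⟩, ⟨0, 0⟩, ⟨1, 0⟩, ⟨0, 0⟩, ⟨0, 0⟩; ⟨0, 0⟩, ⟨0, 0⟩, ⟨0, 0⟩, ⟨0, 0⟩, ⟨0, 0⟩, ⟨1, 0⟩, ⟨0, 0⟩; ⟨0, 0⟩, ⟨0, 0⟩, ⟨0, 0⟩, ⟨0, 0⟩, ⟨0, 0⟩, ⟨0, 0⟩, ⟨1, 0⟩],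
  !![⟨-1, 0⟩, ⟨0, 0⟩, ⟨2, 0⟩, ⟨0, 0⟩, ⟨0, 0⟩, ⟨0, 0⟩, ⟨0, 0⟩; ⟨-2, 0⟩, ⟨0, 0⟩, ⟨2, 0⟩, ⟨0, 0⟩, ⟨1, 0⟩, ⟨-1, 0⟩, ⟨1, 0⟩; ⟨0, 0⟩, ⟨0, 0⟩, ⟨1, 0⟩, ⟨0, 0⟩, ⟨0, 0⟩, ⟨0, 0⟩, ⟨0, 0⟩; ⟨0, 0⟩, ⟨0, 0⟩, ⟨0, 0⟩, ⟨-1, 0⟩, ⟨0, 0⟩, ⟨0, 0⟩, ⟨0, 0⟩; ⟨-2, 0⟩, ⟨1, 0⟩, ⟨2, 0⟩, ⟨0, 0⟩, ⟨0, 0⟩, ⟨-1, 0⟩, ⟨1, 0⟩; ⟨-1, 0⟩, ⟨1, 0⟩, ⟨1, 0⟩, ⟨0, 0⟩, ⟨-1, 0⟩, ⟨0, 0⟩, ⟨1, 0⟩; ⟨-1, 0⟩, ⟨1, 0⟩, ⟨1, 0⟩, ⟨0, 0⟩, ⟨-1, 0⟩, ⟨1, 0⟩, ⟨0, 0⟩],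
  !![⟨3, 0⟩, ⟨-2, 0⟩, ⟨0, 0⟩, ⟨0, 0⟩, ⟨0, 0⟩, ⟨0, 0⟩, ⟨-2, 0⟩; ⟨2, 0⟩, ⟨-1, 0⟩, ⟨0, 0⟩, ⟨1, 0⟩, ⟨0, 0⟩, ⟨0, 0⟩, ⟨-2, 0⟩; ⟨1, 0⟩, ⟨-1, 0⟩, ⟨0, 0⟩, ⟨-1, 0⟩, ⟨1, 0⟩, ⟨-1, 0⟩, ⟨0, 0⟩; ⟨1, 0⟩, ⟨-1, 0⟩, ⟨0, 0⟩, ⟨0, 0⟩, ⟨0, 0⟩, ⟨0, 0⟩, ⟨-1, 0⟩; ⟨1, 0⟩, ⟨-1, 0⟩, ⟨1, 0⟩, ⟨1, 0⟩, ⟨0, 0⟩, ⟨-1, 0⟩, ⟨-1, 0⟩; ⟨0, 0⟩, ⟨-1, 0⟩, ⟨1, 0⟩, ⟨0, 0⟩, ⟨1, 0⟩, ⟨-1, 0⟩, ⟨0, 0⟩; ⟨1, 0⟩, ⟨-1, 0⟩, ⟨1, 0⟩, ⟨0, 0⟩, ⟨0, 0⟩, ⟨0, 0⟩, ⟨-1, 0⟩],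
  !![⟨3, 0⟩, ⟨-2, 0⟩, ⟨0, 0⟩, ⟨0, 0⟩, ⟨0, 0⟩, ⟨0, 0⟩, ⟨-2, 0⟩; ⟨2, 0⟩, ⟨-2, 0⟩, ⟨0, 0⟩, ⟨-1, 0⟩, ⟨1, 0⟩, ⟨-1, 0⟩, ⟨-1, 0⟩; ⟨0, 0⟩, ⟨0, 0⟩, ⟨1, 0⟩, ⟨1, 0⟩, ⟨0, 0⟩, ⟨0, 0⟩, ⟨-1, 0⟩; ⟨2, 0⟩, ⟨-1, 0⟩, ⟨-1, 0⟩, ⟨0, 0⟩, ⟨0, 0⟩, ⟨0, 0⟩, ⟨-1, 0⟩; ⟨3, 0⟩, ⟨-2, 0⟩, ⟨-1, 0⟩, ⟨-1, 0⟩, ⟨1, 0⟩, ⟨0, 0⟩, ⟨-2, 0⟩; ⟨1, 0⟩, ⟨0, 0⟩, ⟨0, 0⟩, ⟨0, 0⟩, ⟨0, 0⟩, ⟨0, 0⟩, ⟨-1, 0⟩; ⟨2, 0⟩, ⟨-1, 0⟩, ⟨0, 0⟩, ⟨0, 0⟩, ⟨0, 0⟩, ⟨0, 0⟩, ⟨-1, 0⟩],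
  !![⟨-1, 0⟩, ⟨0, 0⟩, ⟨2, 0⟩, ⟨0, 0⟩, ⟨0, 0⟩, ⟨0, 0⟩, ⟨0, 0⟩; ⟨0, 0⟩, ⟨0, 0⟩, ⟨1, 0⟩, ⟨-1, 0⟩, ⟨0, 0⟩, ⟨0, 0⟩, ⟨0, 0⟩; ⟨-2, 0⟩, ⟨1, 0⟩, ⟨1, 0⟩, ⟨0, 0⟩, ⟨0, 0⟩, ⟨0, 0⟩, ⟨1, 0⟩; ⟨0, 0⟩, ⟨-1, 0⟩, ⟨1, 0⟩, ⟨0, 0⟩, ⟨1, 0⟩, ⟨-1, 0⟩, ⟨0, 0⟩; ⟨0, 0⟩, ⟨-1, 0⟩, ⟨1, 0⟩, ⟨-1, 0⟩, ⟨1, 0⟩, ⟨0, 0⟩, ⟨0, 0⟩; ⟨-1, 0⟩, ⟨0, 0⟩, ⟨1, 0⟩, ⟨0, 0⟩, ⟨1, 0⟩, ⟨0, 0⟩, ⟨0, 0⟩; ⟨-1, 0⟩, ⟨0, 0⟩, ⟨2, 0⟩, ⟨1, 0⟩, ⟨0, 0⟩, ⟨0, 0⟩, ⟨0, 0⟩],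
  !![⟨1, 0⟩, ⟨0, 0⟩, ⟨0, 0⟩, ⟨0, 0⟩, ⟨0, 0⟩, ⟨0, 0⟩, ⟨0, 0⟩; ⟨0, 0⟩, ⟨0, 0⟩, ⟨1, 0⟩, ⟨1, 0⟩, ⟨0, 0⟩, ⟨0, 0⟩, ⟨0, 0⟩; ⟨-1, 0⟩, ⟨1, 0⟩, ⟨0, 0⟩, ⟨0, 0⟩, ⟨0, 0⟩, ⟨0, 0⟩, ⟨1, 0⟩; ⟨1, 0⟩, ⟨0, 0⟩, ⟨0, 0⟩, ⟨0, 0⟩, ⟨0, 0⟩, ⟨0, 0⟩, ⟨-1, 0⟩; ⟨0, 0⟩, ⟨1, 0⟩, ⟨1, 0⟩, ⟨1, 0⟩, ⟨-1, 0⟩, ⟨0, 0⟩, ⟨0, 0⟩; ⟨-1, 0⟩, ⟨1, 0⟩, ⟨1, 0⟩, ⟨0, 0⟩, ⟨0, 0⟩, ⟨-1, 0⟩, ⟨1, 0⟩; ⟨1, 0⟩, ⟨0, 0⟩, ⟨0, 0⟩, ⟨-1, 0⟩, ⟨0, 0⟩, ⟨0, 0⟩, ⟨0, 0⟩],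
  !![⟨-1, 0⟩, ⟨0, 0⟩, ⟨2, 0⟩, ⟨2, 0⟩, ⟨0, 0⟩, ⟨0, 0⟩, ⟨0, 0⟩; ⟨-2, 0⟩, ⟨1, 0⟩, ⟨2, 0⟩, ⟨2, 0⟩, ⟨-1, 0⟩, ⟨0, 0⟩, ⟨1, 0⟩; ⟨0, 0⟩, ⟨0, 0⟩, ⟨0, 0⟩, ⟨1, 0⟩, ⟨0, 0⟩, ⟨0, 0⟩, ⟨0, 0⟩; ⟨-1, 0⟩, ⟨0, 0⟩, ⟨1, 0⟩, ⟨0, 0⟩, ⟨1, 0⟩, ⟨0, 0⟩, ⟨0, 0⟩; ⟨-2, 0⟩, ⟨1, 0⟩, ⟨2, 0⟩, ⟨2, 0⟩, ⟨0, 0⟩, ⟨0, 0⟩, ⟨0, 0⟩; ⟨-1, 0⟩, ⟨1, 0⟩, ⟨1, 0⟩, ⟨1, 0⟩, ⟨0, 0⟩, ⟨0, 0⟩, ⟨0, 0⟩; ⟨0, 0⟩, ⟨0, 0⟩, ⟨1, 0⟩, ⟨1, 0⟩, ⟨0, 0⟩, ⟨1, 0⟩, ⟨-1, 0⟩],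
  !![⟨1, 0⟩, ⟨0, 0⟩, ⟨0, 0⟩, ⟨-2, 0⟩, ⟨0, 0⟩, ⟨0, 0⟩, ⟨0, 0⟩; ⟨1, 0⟩, ⟨0, 0⟩, ⟨-1, 0⟩, ⟨-2, 0⟩, ⟨0, 0⟩, ⟨1, 0⟩, ⟨0, 0⟩; ⟨0, 0⟩, ⟨0, 0⟩, ⟨0, 0⟩, ⟨-1, 0⟩, ⟨0, 0⟩, ⟨0, 0⟩, ⟨0, 0⟩; ⟨-1, 0⟩, ⟨1, 0⟩, ⟨1, 0⟩, ⟨0, 0⟩, ⟨0, 0⟩, ⟨-1, 0⟩, ⟨1, 0⟩; ⟨0, 0⟩, ⟨0, 0⟩, ⟨0, 0⟩, ⟨-2, 0⟩, ⟨1, 0⟩, ⟨-1, 0⟩, ⟨1, 0⟩; ⟨-1, 0⟩, ⟨0, 0⟩, ⟨1, 0⟩, ⟨-1, 0⟩, ⟨1, 0⟩, ⟨-1, 0⟩, ⟨1, 0⟩; ⟨0, 0⟩, ⟨0, 0⟩, ⟨1, 0⟩, ⟨-1, 0⟩, ⟨0, 0⟩, ⟨-1, 0⟩, ⟨1, 0⟩],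
  !![⟨1, 0⟩, ⟨-2, 0⟩, ⟨0, 0⟩, ⟨-2, 0⟩, ⟨2, 0⟩, ⟨-2, 0⟩, ⟨0, 0⟩; ⟨0, 0⟩, ⟨-1, 0⟩, ⟨0, 0⟩, ⟨-2, 0⟩, ⟨2, 0⟩, ⟨-1, 0⟩, ⟨0, 0⟩; ⟨1, 0⟩, ⟨-1, 0⟩, ⟨0, 0⟩, ⟨0, 0⟩, ⟨0, 0⟩, ⟨0, 0⟩, ⟨-1, 0⟩; ⟨-1, 0⟩, ⟨0, 0⟩, ⟨1, 0⟩, ⟨0, 0⟩, ⟨1, 0⟩, ⟨-2, 0⟩, ⟨1, 0⟩; ⟨0, 0⟩, ⟨-1, 0⟩, ⟨0, 0⟩, ⟨-1, 0⟩, ⟨2, 0⟩, ⟨-2, 0⟩, ⟨0, 0⟩; ⟨1, 0⟩, ⟨-1, 0⟩, ⟨0, 0⟩, ⟨0, 0⟩, ⟨1, 0⟩, ⟨-1, 0⟩, ⟨-1, 0⟩; ⟨1, 0⟩, ⟨-2, 0⟩, ⟨0, 0⟩, ⟨-1, 0⟩, ⟨2, 0⟩, ⟨-2, 0⟩, ⟨0, 0⟩],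
  !![⟨1, 0⟩, ⟨0, 0⟩, ⟨0, 0⟩, ⟨2, 0⟩, ⟨0, 0⟩, ⟨0, 0⟩, ⟨-2, 0⟩; ⟨-1, 0⟩, ⟨1, 0⟩, ⟨1, 0⟩, ⟨2, 0⟩, ⟨0, 0⟩, ⟨-1, 0⟩, ⟨0, 0⟩; ⟨2, 0⟩, ⟨-1, 0⟩, ⟨-1, 0⟩, ⟨0, 0⟩, ⟨0, 0⟩, ⟨0, 0⟩, ⟨-1, 0⟩; ⟨0, 0⟩, ⟨0, 0⟩, ⟨0, 0⟩, ⟨0, 0⟩, ⟨1, 0⟩, ⟨0, 0⟩, ⟨-1, 0⟩; ⟨0, 0⟩, ⟨0, 0⟩, ⟨0, 0⟩, ⟨1, 0⟩, ⟨1, 0⟩, ⟨-1, 0⟩, ⟨-1, 0⟩; ⟨1, 0⟩, ⟨-1, 0⟩, ⟨0, 0⟩, ⟨0, 0⟩, ⟨1, 0⟩, ⟨-1, 0⟩, ⟨-1, 0⟩; ⟨1, 0⟩, ⟨0, 0⟩, ⟨0, 0⟩, ⟨1, 0⟩, ⟨0, 0⟩, ⟨0, 0⟩, ⟨-2, 0⟩],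
  !![⟨-3, 0⟩, ⟨0, 0⟩, ⟨2, 0⟩, ⟨0, 0⟩, ⟨2, 0⟩, ⟨-2, 0⟩, ⟨2, 0⟩; ⟨-3, 0⟩, ⟨1, 0⟩, ⟨2, 0⟩, ⟨1, 0⟩, ⟨1, 0⟩, ⟨-2, 0⟩, ⟨2, 0⟩; ⟨0, 0⟩, ⟨-1, 0⟩, ⟨1, 0⟩, ⟨0, 0⟩, ⟨1, 0⟩, ⟨-1, 0⟩, ⟨0, 0⟩; ⟨-1, 0⟩, ⟨0, 0⟩, ⟨0, 0⟩, ⟨-1, 0⟩, ⟨1, 0⟩, ⟨0, 0⟩, ⟨1, 0⟩; ⟨-2, 0⟩, ⟨0, 0⟩, ⟨1, 0⟩, ⟨-1, 0⟩, ⟨2, 0⟩, ⟨-2, 0⟩, ⟨2, 0⟩; ⟨-1, 0⟩, ⟨0, 0⟩, ⟨1, 0⟩, ⟨-1, 0⟩, ⟨1, 0⟩, ⟨-1, 0⟩, ⟨1, 0⟩; ⟨-2, 0⟩, ⟨0, 0⟩, ⟨1, 0⟩, ⟨-1, 0⟩, ⟨2, 0⟩, ⟨-1, 0⟩, ⟨1, 0⟩],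
  !![⟨-1, 0⟩, ⟨2, 0⟩, ⟨0, 0⟩, ⟨0, 0⟩, ⟨-2, 0⟩, ⟨0, 0⟩, ⟨2, 0⟩; ⟨-2, 0⟩, ⟨2, 0⟩, ⟨1, 0⟩, ⟨1, 0⟩, ⟨-1, 0⟩, ⟨-1, 0⟩, ⟨2, 0⟩; ⟨-1, 0⟩, ⟨1, 0⟩, ⟨1, 0⟩, ⟨0, 0⟩, ⟨-1, 0⟩, ⟨0, 0⟩, ⟨1, 0⟩; ⟨1, 0⟩, ⟨0, 0⟩, ⟨-1, 0⟩, ⟨0, 0⟩, ⟨-1, 0⟩, ⟨1, 0⟩, ⟨0, 0⟩; ⟨0, 0⟩, ⟨1, 0⟩, ⟨0, 0⟩, ⟨0, 0⟩, ⟨-1, 0⟩, ⟨0, 0⟩, ⟨1, 0⟩; ⟨0, 0⟩, ⟨1, 0⟩, ⟨0, 0⟩, ⟨0, 0⟩, ⟨-1, 0⟩, ⟨1, 0⟩, ⟨0, 0⟩; ⟨0, 0⟩, ⟨1, 0⟩, ⟨-1, 0⟩, ⟨-1, 0⟩, ⟨-1, 0⟩, ⟨1, 0⟩, ⟨1, 0⟩],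
  !![⟨-1, 0⟩, ⟨0, 0⟩, ⟨0, 0⟩, ⟨0, 0⟩, ⟨0, 0⟩, ⟨2, 0⟩, ⟨0, 0⟩; ⟨-1, 0⟩, ⟨0, 0⟩, ⟨0, 0⟩, ⟨-1, 0⟩, ⟨1, 0⟩, ⟨1, 0⟩, ⟨0, 0⟩; ⟨0, 0⟩, ⟨0, 0⟩, ⟨0, 0⟩, ⟨0, 0⟩, ⟨0, 0⟩, ⟨1, 0⟩, ⟨0, 0⟩; ⟨0, 0⟩, ⟨0, 0⟩, ⟨0, 0⟩, ⟨0, 0⟩, ⟨-1, 0⟩, ⟨1, 0⟩, ⟨0, 0⟩; ⟨-1, 0⟩, ⟨0, 0⟩, ⟨1, 0⟩, ⟨0, 0⟩, ⟨0, 0⟩, ⟨1, 0⟩, ⟨0, 0⟩; ⟨-1, 0⟩, ⟨0, 0⟩, ⟨1, 0⟩, ⟨0, 0⟩, ⟨0, 0⟩, ⟨0, 0⟩, ⟨1, 0⟩; ⟨-2, 0⟩, ⟨1, 0⟩, ⟨1, 0⟩, ⟨1, 0⟩, ⟨-1, 0⟩, ⟨1, 0⟩, ⟨1, 0⟩],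
  !![⟨1, 0⟩, ⟨0, 0⟩, ⟨0, 0⟩, ⟨0, 0⟩, ⟨0, 0⟩, ⟨2, 0⟩, ⟨-2, 0⟩; ⟨1, 0⟩, ⟨0, 0⟩, ⟨0, 0⟩, ⟨0, 0⟩, ⟨0, 0⟩, ⟨1, 0⟩, ⟨-2, 0⟩; ⟨0, 0⟩, ⟨0, 0⟩, ⟨0, 0⟩, ⟨-1, 0⟩, ⟨1, 0⟩, ⟨0, 0⟩, ⟨0, 0⟩; ⟨1, 0⟩, ⟨-1, 0⟩, ⟨0, 0⟩, ⟨0, 0⟩, ⟨0, 0⟩, ⟨1, 0⟩, ⟨-1, 0⟩; ⟨2, 0⟩, ⟨-1, 0⟩, ⟨0, 0⟩, ⟨0, 0⟩, ⟨0, 0⟩, ⟨1, 0⟩, ⟨-2, 0⟩; ⟨1, 0⟩, ⟨-1, 0⟩, ⟨0, 0⟩, ⟨0, 0⟩, ⟨1, 0⟩, ⟨0, 0⟩, ⟨-1, 0⟩; ⟨0, 0⟩, ⟨0, 0⟩, ⟨1, 0⟩, ⟨1, 0⟩, ⟨0, 0⟩, ⟨1, 0⟩, ⟨-1, 0⟩],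
  !![⟨-1, 0⟩, ⟨0, 0⟩, ⟨2, 0⟩, ⟨0, 0⟩, ⟨0, 0⟩, ⟨-2, 0⟩, ⟨2, 0⟩; ⟨0, 0⟩, ⟨-1, 0⟩, ⟨1, 0⟩, ⟨0, 0⟩, ⟨1, 0⟩, ⟨-2, 0⟩, ⟨1, 0⟩; ⟨-2, 0⟩, ⟨1, 0⟩, ⟨2, 0⟩, ⟨1, 0⟩, ⟨0, 0⟩, ⟨-1, 0⟩, ⟨1, 0⟩; ⟨1, 0⟩, ⟨0, 0⟩, ⟨0, 0⟩, ⟨0, 0⟩, ⟨-1, 0⟩, ⟨0, 0⟩, ⟨0, 0⟩; ⟨1, 0⟩, ⟨-1, 0⟩, ⟨1, 0⟩, ⟨0, 0⟩, ⟨0, 0⟩, ⟨-1, 0⟩, ⟨0, 0⟩; ⟨0, 0⟩, ⟨0, 0⟩, ⟨1, 0⟩, ⟨0, 0⟩, ⟨0, 0⟩, ⟨-1, 0⟩, ⟨0, 0⟩; ⟨0, 0⟩, ⟨0, 0⟩, ⟨1, 0⟩, ⟨-1, 0⟩, ⟨0, 0⟩, ⟨-1, 0⟩, ⟨1, 0⟩],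
  !![⟨-1, 0⟩, ⟨2, 0⟩, ⟨2, 0⟩, ⟨2, 0⟩, ⟨-2, 0⟩, ⟨0, 0⟩, ⟨0, 0⟩; ⟨-1, 0⟩, ⟨1, 0⟩, ⟨2, 0⟩, ⟨1, 0⟩, ⟨-1, 0⟩, ⟨-1, 0⟩, ⟨1, 0⟩; ⟨-2, 0⟩, ⟨2, 0⟩, ⟨1, 0⟩, ⟨1, 0⟩, ⟨-1, 0⟩, ⟨0, 0⟩, ⟨1, 0⟩; ⟨0, 0⟩, ⟨0, 0⟩, ⟨1, 0⟩, ⟨1, 0⟩, ⟨0, 0⟩, ⟨0, 0⟩, ⟨-1, 0⟩; ⟨-1, 0⟩, ⟨1, 0⟩, ⟨2, 0⟩, ⟨1, 0⟩, ⟨-1, 0⟩, ⟨0, 0⟩, ⟨0, 0⟩; ⟨-1, 0⟩, ⟨1, 0⟩, ⟨1, 0⟩, ⟨0, 0⟩, ⟨0, 0⟩, ⟨0, 0⟩, ⟨0, 0⟩; ⟨0, 0⟩, ⟨1, 0⟩, ⟨1, 0⟩, ⟨1, 0⟩, ⟨-1, 0⟩, ⟨1, 0⟩, ⟨-1, 0⟩],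
  !![⟨-3, 0⟩, ⟨2, 0⟩, ⟨2, 0⟩, ⟨2, 0⟩, ⟨0, 0⟩, ⟨0, 0⟩, ⟨0, 0⟩; ⟨-2, 0⟩, ⟨2, 0⟩, ⟨2, 0⟩, ⟨2, 0⟩, ⟨-1, 0⟩, ⟨0, 0⟩, ⟨0, 0⟩; ⟨-1, 0⟩, ⟨1, 0⟩, ⟨0, 0⟩, ⟨1, 0⟩, ⟨0, 0⟩, ⟨0, 0⟩, ⟨0, 0⟩; ⟨-2, 0⟩, ⟨1, 0⟩, ⟨1, 0⟩, ⟨0, 0⟩, ⟨0, 0⟩, ⟨0, 0⟩, ⟨1, 0⟩; ⟨-2, 0⟩, ⟨2, 0⟩, ⟨1, 0⟩, ⟨1, 0⟩, ⟨-1, 0⟩, ⟨1, 0⟩, ⟨0, 0⟩; ⟨-1, 0⟩, ⟨1, 0⟩, ⟨0, 0⟩, ⟨0, 0⟩, ⟨0, 0⟩, ⟨1, 0⟩, ⟨0, 0⟩; ⟨-2, 0⟩, ⟨1, 0⟩, ⟨1, 0⟩, ⟨1, 0⟩, ⟨0, 0⟩, ⟨1, 0⟩, ⟨0, 0⟩],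
  !![⟨-1, 0⟩, ⟨0, 0⟩, ⟨0, 0⟩, ⟨-2, 0⟩, ⟨2, 0⟩, ⟨-2, 0⟩, ⟨2, 0⟩; ⟨0, 0⟩, ⟨-1, 0⟩, ⟨0, 0⟩, ⟨-2, 0⟩, ⟨2, 0⟩, ⟨-1, 0⟩, ⟨1, 0⟩; ⟨-1, 0⟩, ⟨0, 0⟩, ⟨0, 0⟩, ⟨-1, 0⟩, ⟨1, 0⟩, ⟨-1, 0⟩, ⟨1, 0⟩; ⟨-1, 0⟩, ⟨1, 0⟩, ⟨0, 0⟩, ⟨0, 0⟩, ⟨0, 0⟩, ⟨0, 0⟩, ⟨1, 0⟩; ⟨-1, 0⟩, ⟨0, 0⟩, ⟨0, 0⟩, ⟨-1, 0⟩, ⟨1, 0⟩, ⟨-1, 0⟩, ⟨2, 0⟩; ⟨-2, 0⟩, ⟨1, 0⟩, ⟨1, 0⟩, ⟨0, 0⟩, ⟨0, 0⟩, ⟨-1, 0⟩, ⟨2, 0⟩; ⟨-1, 0⟩, ⟨1, 0⟩, ⟨0, 0⟩, ⟨-1, 0⟩, ⟨0, 0⟩, ⟨-1, 0⟩, ⟨2, 0⟩],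
  !![⟨-1, 0⟩, ⟨0, 0⟩, ⟨0, 0⟩, ⟨0, 0⟩, ⟨2, 0⟩, ⟨-2, 0⟩, ⟨0, 0⟩; ⟨1, 0⟩, ⟨-1, 0⟩, ⟨-1, 0⟩, ⟨-1, 0⟩, ⟨2, 0⟩, ⟨-1, 0⟩, ⟨-1, 0⟩; ⟨0, 0⟩, ⟨0, 0⟩, ⟨0, 0⟩, ⟨1, 0⟩, ⟨0, 0⟩, ⟨0, 0⟩, ⟨-1, 0⟩; ⟨-2, 0⟩, ⟨1, 0⟩, ⟨1, 0⟩, ⟨0, 0⟩, ⟨1, 0⟩, ⟨-1, 0⟩, ⟨1, 0⟩; ⟨-1, 0⟩, ⟨0, 0⟩, ⟨0, 0⟩, ⟨0, 0⟩, ⟨2, 0⟩, ⟨-1, 0⟩, ⟨0, 0⟩; ⟨-1, 0⟩, ⟨0, 0⟩, ⟨1, 0⟩, ⟨1, 0⟩, ⟨1, 0⟩, ⟨-1, 0⟩, ⟨0, 0⟩; ⟨-2, 0⟩, ⟨0, 0⟩, ⟨1, 0⟩, ⟨0, 0⟩, ⟨2, 0⟩, ⟨-2, 0⟩, ⟨1, 0⟩],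
  !![⟨-1, 0⟩, ⟨0, 0⟩, ⟨0, 0⟩, ⟨0, 0⟩, ⟨2, 0⟩, ⟨-2, 0⟩, ⟨0, 0⟩; ⟨-1, 0⟩, ⟨0, 0⟩, ⟨1, 0⟩, ⟨1, 0⟩, ⟨1, 0⟩, ⟨-2, 0⟩, ⟨0, 0⟩; ⟨1, 0⟩, ⟨-1, 0⟩, ⟨-1, 0⟩, ⟨-1, 0⟩, ⟨1, 0⟩, ⟨-1, 0⟩, ⟨0, 0⟩; ⟨-2, 0⟩, ⟨1, 0⟩, ⟨1, 0⟩, ⟨0, 0⟩, ⟨1, 0⟩, ⟨-1, 0⟩, ⟨1, 0⟩; ⟨-2, 0⟩, ⟨1, 0⟩, ⟨1, 0⟩, ⟨0, 0⟩, ⟨1, 0⟩, ⟨-2, 0⟩, ⟨1, 0⟩; ⟨0, 0⟩, ⟨0, 0⟩, ⟨0, 0⟩, ⟨-1, 0⟩, ⟨1, 0⟩, ⟨-1, 0⟩, ⟨0, 0⟩; ⟨-1, 0⟩, ⟨1, 0⟩, ⟨0, 0⟩, ⟨0, 0⟩, ⟨1, 0⟩, ⟨-1, 0⟩, ⟨0, 0⟩],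
  !![⟨-1, 0⟩, ⟨0, 0⟩, ⟨0, 0⟩, ⟨-2, 0⟩, ⟨2, 0⟩, ⟨-2, 0⟩, ⟨2, 0⟩; ⟨-2, 0⟩, ⟨1, 0⟩, ⟨1, 0⟩, ⟨-1, 0⟩, ⟨1, 0⟩, ⟨-2, 0⟩, ⟨2, 0⟩; ⟨1, 0⟩, ⟨-1, 0⟩, ⟨0, 0⟩, ⟨-1, 0⟩, ⟨1, 0⟩, ⟨-1, 0⟩, ⟨0, 0⟩; ⟨-1, 0⟩, ⟨1, 0⟩, ⟨0, 0⟩, ⟨0, 0⟩, ⟨0, 0⟩, ⟨0, 0⟩, ⟨1, 0⟩; ⟨-1, 0⟩, ⟨1, 0⟩, ⟨0, 0⟩, ⟨-1, 0⟩, ⟨1, 0⟩, ⟨-1, 0⟩, ⟨1, 0⟩; ⟨0, 0⟩, ⟨0, 0⟩, ⟨0, 0⟩, ⟨-1, 0⟩, ⟨1, 0⟩, ⟨0, 0⟩, ⟨0, 0⟩; ⟨-1, 0⟩, ⟨0, 0⟩, ⟨0, 0⟩, ⟨-1, 0⟩, ⟨2, 0⟩, ⟨-1, 0⟩, ⟨1, 0⟩],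
  !![⟨1, 0⟩, ⟨0, 0⟩, ⟨0, 0⟩, ⟨0, 0⟩, ⟨0, 0⟩, ⟨0, 0⟩, ⟨0, 0⟩; ⟨0, 0⟩, ⟨1, 0⟩, ⟨0, 0⟩, ⟨0, 0⟩, ⟨0, 0⟩, ⟨0, 0⟩, ⟨0, 0⟩; ⟨0, 0⟩, ⟨0, 0⟩, ⟨1, 0⟩, ⟨0, 0⟩, ⟨0, 0⟩, ⟨0, 0⟩, ⟨0, 0⟩; ⟨0, 0⟩, ⟨0, 0⟩, ⟨0, 0⟩, ⟨1, 0⟩, ⟨0, 0⟩, ⟨0, 0⟩, ⟨0, 0⟩; ⟨0, 0⟩, ⟨0, 0⟩, ⟨0, 0⟩, ⟨0, 0⟩, ⟨1, 0⟩, ⟨0, 0⟩, ⟨0, 0⟩; ⟨0, 0⟩, ⟨0, 0⟩, ⟨0, 0⟩, ⟨0, 0⟩, ⟨0, 0⟩, ⟨1, 0⟩, ⟨0, 0⟩; ⟨0, 0⟩, ⟨0, 0⟩, ⟨0, 0⟩, ⟨0, 0⟩, ⟨0, 0⟩, ⟨0, 0⟩, ⟨1, 0⟩]],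
  [!![⟨1, 0⟩, ⟨0, 0⟩, ⟨0, 0⟩, ⟨0, 0⟩, ⟨0, 0⟩, ⟨0, 0⟩, ⟨0, 0⟩; ⟨0, 0⟩, ⟨1, 0⟩, ⟨0, 0⟩, ⟨0, 0⟩, ⟨0, 0⟩, ⟨0, 0⟩, ⟨0, 0⟩; ⟨0, 0⟩, ⟨0, 0⟩, ⟨1, 0⟩, ⟨0, 0⟩, ⟨0, 0⟩, ⟨0, 0⟩, ⟨0, 0⟩; ⟨0, 0⟩, ⟨0, 0⟩, ⟨0, 0⟩, ⟨1, 0⟩, ⟨0, 0⟩, ⟨0, 0⟩, ⟨0, 0⟩; ⟨0, 0⟩, ⟨0, 0⟩, ⟨0, 0⟩, ⟨0, 0⟩, ⟨1, 0⟩, ⟨0, 0⟩, ⟨0, 0⟩; ⟨0, 0⟩, ⟨0, 0⟩, ⟨0, 0⟩, ⟨0, 0⟩, ⟨0, 0⟩, ⟨1, 0⟩, ⟨0, 0⟩; ⟨0, 0⟩, ⟨0, 0⟩, ⟨0, 0⟩, ⟨0, 0⟩, ⟨0, 0⟩, ⟨0, 0⟩, ⟨1, 0⟩],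
  !![⟨-1, 0⟩, ⟨0, 0⟩, ⟨2, 0⟩, ⟨0, 0⟩, ⟨0, 0⟩, ⟨0, 0⟩, ⟨0, 0⟩; ⟨-2, 0⟩, ⟨0, 0⟩, ⟨2, 0⟩, ⟨0, 0⟩, ⟨1, 0⟩, ⟨-1, 0⟩, ⟨1, 0⟩; ⟨0, 0⟩, ⟨0, 0⟩, ⟨1, 0⟩, ⟨0, 0⟩, ⟨0, 0⟩, ⟨0, 0⟩, ⟨0, 0⟩; ⟨0, 0⟩, ⟨0, 0⟩, ⟨0, 0⟩, ⟨-1, 0⟩, ⟨0, 0⟩, ⟨0, 0⟩, ⟨0, 0⟩; ⟨-2, 0⟩, ⟨1, 0⟩, ⟨2, 0⟩, ⟨0, 0⟩, ⟨0, 0⟩, ⟨-1, 0⟩, ⟨1, 0⟩; ⟨-1, 0⟩, ⟨1, 0⟩, ⟨1, 0⟩, ⟨0, 0⟩, ⟨-1, 0⟩, ⟨0, 0⟩, ⟨1, 0⟩; ⟨-1, 0⟩, ⟨1, 0⟩, ⟨1, 0⟩, ⟨0, 0⟩, ⟨-1, 0⟩, ⟨1, 0⟩, ⟨0, 0⟩],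
  !![⟨3, 0⟩, ⟨-2, 0⟩, ⟨0, 0⟩, ⟨0, 0⟩, ⟨0, 0⟩, ⟨0, 0⟩, ⟨-2, 0⟩; ⟨2, 0⟩, ⟨-1, 0⟩, ⟨0, 0⟩, ⟨1, 0⟩, ⟨0, 0⟩, ⟨0, 0⟩, ⟨-2, 0⟩; ⟨1, 0⟩, ⟨-1, 0⟩, ⟨0, 0⟩, ⟨-1, 0⟩, ⟨1, 0⟩, ⟨-1, 0⟩, ⟨0, 0⟩; ⟨1, 0⟩, ⟨-1, 0⟩, ⟨0, 0⟩, ⟨0, 0⟩, ⟨0, 0⟩, ⟨0, 0⟩, ⟨-1, 0⟩; ⟨1, 0⟩, ⟨-1, 0⟩, ⟨1, 0⟩, ⟨1, 0⟩, ⟨0, 0⟩, ⟨-1, 0⟩, ⟨-1, 0⟩; ⟨0, 0⟩, ⟨-1, 0⟩, ⟨1, 0⟩, ⟨0, 0⟩, ⟨1, 0⟩, ⟨-1, 0⟩, ⟨0, 0⟩; ⟨1, 0⟩, ⟨-1, 0⟩, ⟨1, 0⟩, ⟨0, 0⟩, ⟨0, 0⟩, ⟨0, 0⟩, ⟨-1, 0⟩],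
  !![⟨3, 0⟩, ⟨-2, 0⟩, ⟨0, 0⟩, ⟨0, 0⟩, ⟨0, 0⟩, ⟨0, 0⟩, ⟨-2, 0⟩; ⟨2, 0⟩, ⟨-2, 0⟩, ⟨0, 0⟩, ⟨-1, 0⟩, ⟨1, 0⟩, ⟨-1, 0⟩, ⟨-1, 0⟩; ⟨0, 0⟩, ⟨0, 0⟩, ⟨1, 0⟩, ⟨1, 0⟩, ⟨0, 0⟩, ⟨0, 0⟩, ⟨-1, 0⟩; ⟨2, 0⟩, ⟨-1, 0⟩, ⟨-1, 0⟩, ⟨0, 0⟩, ⟨0, 0⟩, ⟨0, 0⟩, ⟨-1, 0⟩; ⟨3, 0⟩, ⟨-2, 0⟩, ⟨-1, 0⟩, ⟨-1, 0⟩, ⟨1, 0⟩, ⟨0, 0⟩, ⟨-2, 0⟩; ⟨1, 0⟩, ⟨0, 0⟩, ⟨0, 0⟩, ⟨0, 0⟩, ⟨0, 0⟩, ⟨0, 0⟩, ⟨-1, 0⟩; ⟨2, 0⟩, ⟨-1, 0⟩, ⟨0, 0⟩, ⟨0, 0⟩, ⟨0, 0⟩, ⟨0, 0⟩, ⟨-1, 0⟩],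
  !![⟨3, 0⟩, ⟨-2, 0⟩, ⟨-2, 0⟩, ⟨-2, 0⟩, ⟨0, 0⟩, ⟨0, 0⟩, ⟨0, 0⟩; ⟨3, 0⟩, ⟨-2, 0⟩, ⟨-2, 0⟩, ⟨-1, 0⟩, ⟨0, 0⟩, ⟨0, 0⟩, ⟨-1, 0⟩; ⟨1, 0⟩, ⟨0, 0⟩, ⟨0, 0⟩, ⟨0, 0⟩, ⟨-1, 0⟩, ⟨0, 0⟩, ⟨0, 0⟩; ⟨0, 0⟩, ⟨0, 0⟩, ⟨-1, 0⟩, ⟨-1, 0⟩, ⟨0, 0⟩, ⟨0, 0⟩, ⟨1, 0⟩; ⟨2, 0⟩, ⟨-1, 0⟩, ⟨-2, 0⟩, ⟨-2, 0⟩, ⟨0, 0⟩, ⟨0, 0⟩, ⟨0, 0⟩; ⟨0, 0⟩, ⟨0, 0⟩, ⟨0, 0⟩, ⟨-1, 0⟩, ⟨0, 0⟩, ⟨-1, 0⟩, ⟨1, 0⟩; ⟨1, 0⟩, ⟨-1, 0⟩, ⟨-1, 0⟩, ⟨-2, 0⟩, ⟨1, 0⟩, ⟨-1, 0⟩, ⟨1, 0⟩],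
  !![⟨1, 0⟩, ⟨0, 0⟩, ⟨0, 0⟩, ⟨2, 0⟩, ⟨-2, 0⟩, ⟨2, 0⟩, ⟨-2, 0⟩; ⟨2, 0⟩, ⟨-1, 0⟩, ⟨-1, 0⟩, ⟨1, 0⟩, ⟨-1, 0⟩, ⟨1, 0⟩, ⟨-2, 0⟩; ⟨1, 0⟩, ⟨-1, 0⟩, ⟨0, 0⟩, ⟨0, 0⟩, ⟨0, 0⟩, ⟨1, 0⟩, ⟨-1, 0⟩; ⟨-1, 0⟩, ⟨1, 0⟩, ⟨0, 0⟩, ⟨1, 0⟩, ⟨-1, 0⟩, ⟨1, 0⟩, ⟨0, 0⟩; ⟨0, 0⟩, ⟨0, 0⟩, ⟨0, 0⟩, ⟨2, 0⟩, ⟨-1, 0⟩, ⟨1, 0⟩, ⟨-1, 0⟩; ⟨0, 0⟩, ⟨0, 0⟩, ⟨0, 0⟩, ⟨1, 0⟩, ⟨0, 0⟩, ⟨1, 0⟩, ⟨-1, 0⟩; ⟨-1, 0⟩, ⟨1, 0⟩, ⟨1, 0⟩, ⟨2, 0⟩, ⟨-1, 0⟩, ⟨1, 0⟩, ⟨-1, 0⟩],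
  !![⟨1, 0⟩, ⟨0, 0⟩, ⟨0, 0⟩, ⟨0, 0⟩, ⟨-2, 0⟩, ⟨2, 0⟩, ⟨0, 0⟩; ⟨1, 0⟩, ⟨0, 0⟩, ⟨-1, 0⟩, ⟨0, 0⟩, ⟨-2, 0⟩, ⟨2, 0⟩, ⟨0, 0⟩; ⟨2, 0⟩, ⟨-1, 0⟩, ⟨-1, 0⟩, ⟨-1, 0⟩, ⟨0, 0⟩, ⟨1, 0⟩, ⟨-1, 0⟩; ⟨-1, 0⟩, ⟨1, 0⟩, ⟨1, 0⟩, ⟨1, 0⟩, ⟨-1, 0⟩, ⟨1, 0⟩, ⟨0, 0⟩; ⟨0, 0⟩, ⟨1, 0⟩, ⟨0, 0⟩, ⟨1, 0⟩, ⟨-2, 0⟩, ⟨2, 0⟩, ⟨0, 0⟩; ⟨0, 0⟩, ⟨1, 0⟩, ⟨0, 0⟩, ⟨0, 0⟩, ⟨-1, 0⟩, ⟨1, 0⟩, ⟨0, 0⟩; ⟨0, 0⟩, ⟨1, 0⟩, ⟨1, 0⟩, ⟨1, 0⟩, ⟨-2, 0⟩, ⟨1, 0⟩, ⟨0, 0⟩],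
  !![⟨1, 0⟩, ⟨0, 0⟩, ⟨0, 0⟩, ⟨0, 0⟩, ⟨-2, 0⟩, ⟨2, 0⟩, ⟨0, 0⟩; ⟨1, 0⟩, ⟨0, 0⟩, ⟨-1, 0⟩, ⟨0, 0⟩, ⟨-2, 0⟩, ⟨2, 0⟩, ⟨0, 0⟩; ⟨0, 0⟩, ⟨0, 0⟩, ⟨1, 0⟩, ⟨1, 0⟩, ⟨-1, 0⟩, ⟨0, 0⟩, ⟨0, 0⟩; ⟨0, 0⟩, ⟨0, 0⟩, ⟨0, 0⟩, ⟨-1, 0⟩, ⟨0, 0⟩, ⟨0, 0⟩, ⟨1, 0⟩; ⟨0, 0⟩, ⟨0, 0⟩, ⟨0, 0⟩, ⟨-1, 0⟩, ⟨-1, 0⟩, ⟨1, 0⟩, ⟨1, 0⟩; ⟨-1, 0⟩, ⟨0, 0⟩, ⟨1, 0⟩, ⟨0, 0⟩, ⟨0, 0⟩, ⟨0, 0⟩, ⟨1, 0⟩; ⟨1, 0⟩, ⟨-1, 0⟩, ⟨0, 0⟩, ⟨-1, 0⟩, ⟨0, 0⟩, ⟨1, 0⟩, ⟨0, 0⟩],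
  !![⟨1, 0⟩, ⟨-2, 0⟩, ⟨0, 0⟩, ⟨-2, 0⟩, ⟨2, 0⟩, ⟨0, 0⟩, ⟨0, 0⟩; ⟨0, 0⟩, ⟨-1, 0⟩, ⟨0, 0⟩, ⟨-1, 0⟩, ⟨1, 0⟩, ⟨1, 0⟩, ⟨0, 0⟩; ⟨1, 0⟩, ⟨-1, 0⟩, ⟨0, 0⟩, ⟨0, 0⟩, ⟨0, 0⟩, ⟨0, 0⟩, ⟨0, 0⟩; ⟨0, 0⟩, ⟨-1, 0⟩, ⟨0, 0⟩, ⟨-1, 0⟩, ⟨2, 0⟩, ⟨-1, 0⟩, ⟨0, 0⟩; ⟨1, 0⟩, ⟨-2, 0⟩, ⟨0, 0⟩, ⟨-1, 0⟩, ⟨2, 0⟩, ⟨0, 0⟩, ⟨-1, 0⟩; ⟨1, 0⟩, ⟨-1, 0⟩, ⟨0, 0⟩, ⟨0, 0⟩, ⟨1, 0⟩, ⟨0, 0⟩, ⟨-1, 0⟩; ⟨2, 0⟩, ⟨-2, 0⟩, ⟨-1, 0⟩, ⟨-2, 0⟩, ⟨2, 0⟩, ⟨0, 0⟩, ⟨-1, 0⟩],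
  !![⟨-1, 0⟩, ⟨2, 0⟩, ⟨2, 0⟩, ⟨2, 0⟩, ⟨-2, 0⟩, ⟨0, 0⟩, ⟨0, 0⟩; ⟨-1, 0⟩, ⟨2, 0⟩, ⟨1, 0⟩, ⟨1, 0⟩, ⟨-2, 0⟩, ⟨0, 0⟩, ⟨1, 0⟩; ⟨1, 0⟩, ⟨0, 0⟩, ⟨0, 0⟩, ⟨0, 0⟩, ⟨-1, 0⟩, ⟨1, 0⟩, ⟨-1, 0⟩; ⟨-1, 0⟩, ⟨1, 0⟩, ⟨1, 0⟩, ⟨1, 0⟩, ⟨0, 0⟩, ⟨-1, 0⟩, ⟨0, 0⟩; ⟨0, 0⟩, ⟨1, 0⟩, ⟨1, 0⟩, ⟨1, 0⟩, ⟨-1, 0⟩, ⟨-1, 0⟩, ⟨0, 0⟩; ⟨0, 0⟩, ⟨0, 0⟩, ⟨1, 0⟩, ⟨0, 0⟩, ⟨0, 0⟩, ⟨-1, 0⟩, ⟨0, 0⟩; ⟨-1, 0⟩, ⟨1, 0⟩, ⟨2, 0⟩, ⟨2, 0⟩, ⟨-1, 0⟩, ⟨-1, 0⟩, ⟨0, 0⟩],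
  !![⟨-1, 0⟩, ⟨0, 0⟩, ⟨2, 0⟩, ⟨0, 0⟩, ⟨0, 0⟩, ⟨-2, 0⟩, ⟨2, 0⟩; ⟨-2, 0⟩, ⟨0, 0⟩, ⟨2, 0⟩, ⟨0, 0⟩, ⟨1, 0⟩, ⟨-2, 0⟩, ⟨2, 0⟩; ⟨1, 0⟩, ⟨-1, 0⟩, ⟨0, 0⟩, ⟨-1, 0⟩, ⟨0, 0⟩, ⟨0, 0⟩, ⟨0, 0⟩; ⟨-1, 0⟩, ⟨1, 0⟩, ⟨1, 0⟩, ⟨1, 0⟩, ⟨-1, 0⟩, ⟨-1, 0⟩, ⟨1, 0⟩; ⟨-1, 0⟩, ⟨0, 0⟩, ⟨1, 0⟩, ⟨0, 0⟩, ⟨0, 0⟩, ⟨-2, 0⟩, ⟨2, 0⟩; ⟨1, 0⟩, ⟨-1, 0⟩, ⟨0, 0⟩, ⟨0, 0⟩, ⟨0, 0⟩, ⟨-1, 0⟩, ⟨0, 0⟩; ⟨0, 0⟩, ⟨0, 0⟩, ⟨1, 0⟩, ⟨1, 0⟩, ⟨-1, 0⟩, ⟨-1, 0⟩, ⟨1, 0⟩],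
  !![⟨1, 0⟩, ⟨0, 0⟩, ⟨0, 0⟩, ⟨0, 0⟩, ⟨0, 0⟩, ⟨2, 0⟩, ⟨-2, 0⟩; ⟨0, 0⟩, ⟨1, 0⟩, ⟨0, 0⟩, ⟨0, 0⟩, ⟨0, 0⟩, ⟨1, 0⟩, ⟨-1, 0⟩; ⟨1, 0⟩, ⟨0, 0⟩, ⟨0, 0⟩, ⟨1, 0⟩, ⟨-1, 0⟩, ⟨1, 0⟩, ⟨-1, 0⟩; ⟨1, 0⟩, ⟨-1, 0⟩, ⟨-1, 0⟩, ⟨-1, 0⟩, ⟨1, 0⟩, ⟨1, 0⟩, ⟨-1, 0⟩; ⟨1, 0⟩, ⟨0, 0⟩, ⟨-1, 0⟩, ⟨0, 0⟩, ⟨0, 0⟩, ⟨2, 0⟩, ⟨-2, 0⟩; ⟨2, 0⟩, ⟨-1, 0⟩, ⟨-1, 0⟩, ⟨0, 0⟩, ⟨0, 0⟩, ⟨1, 0⟩, ⟨-2, 0⟩; ⟨2, 0⟩, ⟨-1, 0⟩, ⟨-1, 0⟩, ⟨-1, 0⟩, ⟨0, 0⟩, ⟨2, 0⟩, ⟨-2, 0⟩],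
  !![⟨1, 0⟩, ⟨0, 0⟩, ⟨0, 0⟩, ⟨-2, 0⟩, ⟨0, 0⟩, ⟨0, 0⟩, ⟨0, 0⟩; ⟨-1, 0⟩, ⟨1, 0⟩, ⟨1, 0⟩, ⟨-1, 0⟩, ⟨0, 0⟩, ⟨-1, 0⟩, ⟨1, 0⟩; ⟨0, 0⟩, ⟨0, 0⟩, ⟨0, 0⟩, ⟨-1, 0⟩, ⟨0, 0⟩, ⟨0, 0⟩, ⟨1, 0⟩; ⟨1, 0⟩, ⟨0, 0⟩, ⟨-1, 0⟩, ⟨-1, 0⟩, ⟨0, 0⟩, ⟨1, 0⟩, ⟨-1, 0⟩; ⟨0, 0⟩, ⟨1, 0⟩, ⟨0, 0⟩, ⟨-1, 0⟩, ⟨-1, 0⟩, ⟨1, 0⟩, ⟨0, 0⟩; ⟨1, 0⟩, ⟨0, 0⟩, ⟨-1, 0⟩, ⟨-1, 0⟩, ⟨-1, 0⟩, ⟨1, 0⟩, ⟨0, 0⟩; ⟨2, 0⟩, ⟨-1, 0⟩, ⟨-1, 0⟩, ⟨-2, 0⟩, ⟨0, 0⟩, ⟨1, 0⟩, ⟨-1, 0⟩],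
  !![⟨-1, 0⟩, ⟨0, 0⟩, ⟨2, 0⟩, ⟨2, 0⟩, ⟨0, 0⟩, ⟨0, 0⟩, ⟨0, 0⟩; ⟨-1, 0⟩, ⟨0, 0⟩, ⟨1, 0⟩, ⟨1, 0⟩, ⟨1, 0⟩, ⟨0, 0⟩, ⟨0, 0⟩; ⟨-1, 0⟩, ⟨1, 0⟩, ⟨1, 0⟩, ⟨1, 0⟩, ⟨-1, 0⟩, ⟨1, 0⟩, ⟨0, 0⟩; ⟨-1, 0⟩, ⟨0, 0⟩, ⟨1, 0⟩, ⟨1, 0⟩, ⟨0, 0⟩, ⟨-1, 0⟩, ⟨1, 0⟩; ⟨-1, 0⟩, ⟨0, 0⟩, ⟨1, 0⟩, ⟨1, 0⟩, ⟨0, 0⟩, ⟨0, 0⟩, ⟨1, 0⟩; ⟨0, 0⟩, ⟨0, 0⟩, ⟨0, 0⟩, ⟨1, 0⟩, ⟨-1, 0⟩, ⟨1, 0⟩, ⟨0, 0⟩; ⟨0, 0⟩, ⟨0, 0⟩, ⟨1, 0⟩, ⟨2, 0⟩, ⟨-1, 0⟩, ⟨0, 0⟩, ⟨0, 0⟩],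
  !![⟨1, 0⟩, ⟨0, 0⟩, ⟨0, 0⟩, ⟨0, 0⟩, ⟨0, 0⟩, ⟨0, 0⟩, ⟨0, 0⟩; ⟨0, 0⟩, ⟨1, 0⟩, ⟨0, 0⟩, ⟨0, 0⟩, ⟨0, 0⟩, ⟨0, 0⟩, ⟨0, 0⟩; ⟨0, 0⟩, ⟨0, 0⟩, ⟨1, 0⟩, ⟨0, 0⟩, ⟨0, 0⟩, ⟨0, 0⟩, ⟨0, 0⟩; ⟨0, 0⟩, ⟨0, 0⟩, ⟨0, 0⟩, ⟨1, 0⟩, ⟨0, 0⟩, ⟨0, 0⟩, ⟨0, 0⟩; ⟨0, 0⟩, ⟨0, 0⟩, ⟨0, 0⟩, ⟨0, 0⟩, ⟨1, 0⟩, ⟨0, 0⟩, ⟨0, 0⟩; ⟨0, 0⟩, ⟨0, 0⟩, ⟨0, 0⟩, ⟨0, 0⟩, ⟨0, 0⟩, ⟨1, 0⟩, ⟨0, 0⟩; ⟨0, 0⟩, ⟨0, 0⟩, ⟨0, 0⟩, ⟨0, 0⟩, ⟨0, 0⟩, ⟨0, 0⟩, ⟨1, 0⟩],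
  !![⟨-1, 0⟩, ⟨0, 0⟩, ⟨0, 0⟩, ⟨-2, 0⟩, ⟨2, 0⟩, ⟨-2, 0⟩, ⟨2, 0⟩; ⟨-2, 0⟩, ⟨1, 0⟩, ⟨1, 0⟩, ⟨-1, 0⟩, ⟨1, 0⟩, ⟨-2, 0⟩, ⟨2, 0⟩; ⟨1, 0⟩, ⟨-1, 0⟩, ⟨0, 0⟩, ⟨-1, 0⟩, ⟨1, 0⟩, ⟨-1, 0⟩, ⟨0, 0⟩; ⟨-1, 0⟩, ⟨1, 0⟩, ⟨0, 0⟩, ⟨0, 0⟩, ⟨0, 0⟩, ⟨0, 0⟩, ⟨1, 0⟩; ⟨-1, 0⟩, ⟨1, 0⟩, ⟨0, 0⟩, ⟨-1, 0⟩, ⟨1, 0⟩, ⟨-1, 0⟩, ⟨1, 0⟩; ⟨0, 0⟩, ⟨0, 0⟩, ⟨0, 0⟩, ⟨-1, 0⟩, ⟨1, 0⟩, ⟨0, 0⟩, ⟨0, 0⟩; ⟨-1, 0⟩, ⟨0, 0⟩, ⟨0, 0⟩, ⟨-1, 0⟩, ⟨2, 0⟩, ⟨-1, 0⟩, ⟨1, 0⟩],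
  !![⟨-1, 0⟩, ⟨0, 0⟩, ⟨0, 0⟩, ⟨0, 0⟩, ⟨2, 0⟩, ⟨-2, 0⟩, ⟨0, 0⟩; ⟨-1, 0⟩, ⟨0, 0⟩, ⟨1, 0⟩, ⟨1, 0⟩, ⟨1, 0⟩, ⟨-2, 0⟩, ⟨0, 0⟩; ⟨1, 0⟩, ⟨-1, 0⟩, ⟨-1, 0⟩, ⟨-1, 0⟩, ⟨1, 0⟩, ⟨-1, 0⟩, ⟨0, 0⟩; ⟨-2, 0⟩, ⟨1, 0⟩, ⟨1, 0⟩, ⟨0, 0⟩, ⟨1, 0⟩, ⟨-1, 0⟩, ⟨1, 0⟩; ⟨-2, 0⟩, ⟨1, 0⟩, ⟨1, 0⟩, ⟨0, 0⟩, ⟨1, 0⟩, ⟨-2, 0⟩, ⟨1, 0⟩; ⟨0, 0⟩, ⟨0, 0⟩, ⟨0, 0⟩, ⟨-1, 0⟩, ⟨1, 0⟩, ⟨-1, 0⟩, ⟨0, 0⟩; ⟨-1, 0⟩, ⟨1, 0⟩, ⟨0, 0⟩, ⟨0, 0⟩, ⟨1, 0⟩, ⟨-1, 0⟩, ⟨0, 0⟩],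
  !![⟨-1, 0⟩, ⟨2, 0⟩, ⟨0, 0⟩, ⟨2, 0⟩, ⟨-2, 0⟩, ⟨0, 0⟩, ⟨0, 0⟩; ⟨0, 0⟩, ⟨1, 0⟩, ⟨0, 0⟩, ⟨2, 0⟩, ⟨-2, 0⟩, ⟨0, 0⟩, ⟨0, 0⟩; ⟨0, 0⟩, ⟨0, 0⟩, ⟨-1, 0⟩, ⟨0, 0⟩, ⟨0, 0⟩, ⟨0, 0⟩, ⟨0, 0⟩; ⟨-1, 0⟩, ⟨1, 0⟩, ⟨1, 0⟩, ⟨1, 0⟩, ⟨0, 0⟩, ⟨-1, 0⟩, ⟨0, 0⟩; ⟨-1, 0⟩, ⟨1, 0⟩, ⟨1, 0⟩, ⟨2, 0⟩, ⟨-1, 0⟩, ⟨-1, 0⟩, ⟨0, 0⟩; ⟨0, 0⟩, ⟨0, 0⟩, ⟨0, 0⟩, ⟨0, 0⟩, ⟨0, 0⟩, ⟨-1, 0⟩, ⟨0, 0⟩; ⟨-2, 0⟩, ⟨2, 0⟩, ⟨1, 0⟩, ⟨1, 0⟩, ⟨-1, 0⟩, ⟨-1, 0⟩, ⟨1, 0⟩],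
  !![⟨-3, 0⟩, ⟨2, 0⟩, ⟨2, 0⟩, ⟨2, 0⟩, ⟨-2, 0⟩, ⟨0, 0⟩, ⟨2, 0⟩; ⟨-2, 0⟩, ⟨1, 0⟩, ⟨1, 0⟩, ⟨1, 0⟩, ⟨-1, 0⟩, ⟨0, 0⟩, ⟨2, 0⟩; ⟨-1, 0⟩, ⟨1, 0⟩, ⟨0, 0⟩, ⟨1, 0⟩, ⟨-1, 0⟩, ⟨1, 0⟩, ⟨0, 0⟩; ⟨-1, 0⟩, ⟨1, 0⟩, ⟨1, 0⟩, ⟨1, 0⟩, ⟨-1, 0⟩, ⟨-1, 0⟩, ⟨1, 0⟩; ⟨-1, 0⟩, ⟨1, 0⟩, ⟨1, 0⟩, ⟨2, 0⟩, ⟨-2, 0⟩, ⟨0, 0⟩, ⟨1, 0⟩; ⟨0, 0⟩, ⟨0, 0⟩, ⟨0, 0⟩, ⟨1, 0⟩, ⟨-1, 0⟩, ⟨0, 0⟩, ⟨0, 0⟩; ⟨-2, 0⟩, ⟨1, 0⟩, ⟨2, 0⟩, ⟨2, 0⟩, ⟨-1, 0⟩, ⟨-1, 0⟩, ⟨1, 0⟩],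
  !![⟨-1, 0⟩, ⟨0, 0⟩, ⟨2, 0⟩, ⟨2, 0⟩, ⟨0, 0⟩, ⟨0, 0⟩, ⟨0, 0⟩; ⟨-1, 0⟩, ⟨0, 0⟩, ⟨1, 0⟩, ⟨1, 0⟩, ⟨1, 0⟩, ⟨0, 0⟩, ⟨0, 0⟩; ⟨-1, 0⟩, ⟨1, 0⟩, ⟨1, 0⟩, ⟨1, 0⟩, ⟨-1, 0⟩, ⟨1, 0⟩, ⟨0, 0⟩; ⟨-1, 0⟩, ⟨0, 0⟩, ⟨1, 0⟩, ⟨1, 0⟩, ⟨0, 0⟩, ⟨-1, 0⟩, ⟨1, 0⟩; ⟨-1, 0⟩, ⟨0, 0⟩, ⟨1, 0⟩, ⟨1, 0⟩, ⟨0, 0⟩, ⟨0, 0⟩, ⟨1, 0⟩; ⟨0, 0⟩, ⟨0, 0⟩, ⟨0, 0⟩, ⟨1, 0⟩, ⟨-1, 0⟩, ⟨1, 0⟩, ⟨0, 0⟩; ⟨0, 0⟩, ⟨0, 0⟩, ⟨1, 0⟩, ⟨2, 0⟩, ⟨-1, 0⟩, ⟨0, 0⟩, ⟨0, 0⟩],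
  !![⟨1, 0⟩, ⟨0, 0⟩, ⟨0, 0⟩, ⟨0, 0⟩, ⟨0, 0⟩, ⟨0, 0⟩, ⟨0, 0⟩; ⟨0, 0⟩, ⟨1, 0⟩, ⟨0, 0⟩, ⟨0, 0⟩, ⟨0, 0⟩, ⟨0, 0⟩, ⟨0, 0⟩; ⟨0, 0⟩, ⟨0, 0⟩, ⟨1, 0⟩, ⟨0, 0⟩, ⟨0, 0⟩, ⟨0, 0⟩, ⟨0, 0⟩; ⟨0, 0⟩, ⟨0, 0⟩, ⟨0, 0⟩, ⟨1, 0⟩, ⟨0, 0⟩, ⟨0, 0⟩, ⟨0, 0⟩; ⟨0, 0⟩, ⟨0, 0⟩, ⟨0, 0⟩, ⟨0, 0⟩, ⟨1, 0⟩, ⟨0, 0⟩, ⟨0, 0⟩; ⟨0, 0⟩, ⟨0, 0⟩, ⟨0, 0⟩, ⟨0, 0⟩, ⟨0, 0⟩, ⟨1, 0⟩, ⟨0, 0⟩; ⟨0, 0⟩, ⟨0, 0⟩, ⟨0, 0⟩, ⟨0, 0⟩, ⟨0, 0⟩, ⟨0, 0⟩, ⟨1, 0⟩]],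
  [!![⟨1, 0⟩, ⟨0, 0⟩, ⟨0, 0⟩, ⟨0, 0⟩, ⟨0, 0⟩, ⟨0, 0⟩, ⟨0, 0⟩; ⟨0, 0⟩, ⟨1, 0⟩, ⟨0, 0⟩, ⟨0, 0⟩, ⟨0, 0⟩, ⟨0, 0⟩, ⟨0, 0⟩; ⟨0, 0⟩, ⟨0, 0⟩, ⟨1, 0⟩, ⟨0, 0⟩, ⟨0, 0⟩, ⟨0, 0⟩, ⟨0, 0⟩; ⟨0, 0⟩, ⟨0, 0⟩, ⟨0, 0⟩, ⟨1, 0⟩, ⟨0, 0⟩, ⟨0, 0⟩, ⟨0, 0⟩; ⟨0, 0⟩, ⟨0, 0⟩, ⟨0, 0⟩, ⟨0, 0⟩, ⟨1, 0⟩, ⟨0, 0⟩, ⟨0, 0⟩; ⟨0, 0⟩, ⟨0, 0⟩, ⟨0, 0⟩, ⟨0, 0⟩, ⟨0, 0⟩, ⟨1, 0⟩, ⟨0, 0⟩; ⟨0, 0⟩, ⟨0, 0⟩, ⟨0, 0⟩, ⟨0, 0⟩, ⟨0, 0⟩, ⟨0, 0⟩, ⟨1, 0⟩],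
  !![⟨-1, 0⟩, ⟨0, 0⟩, ⟨2, 0⟩, ⟨0, 0⟩, ⟨0, 0⟩, ⟨0, 0⟩, ⟨0, 0⟩; ⟨-2, 0⟩, ⟨0, 0⟩, ⟨2, 0⟩, ⟨0, 0⟩, ⟨1, 0⟩, ⟨-1, 0⟩, ⟨1, 0⟩; ⟨0, 0⟩, ⟨0, 0⟩, ⟨1, 0⟩, ⟨0, 0⟩, ⟨0, 0⟩, ⟨0, 0⟩, ⟨0, 0⟩; ⟨0, 0⟩, ⟨0, 0⟩, ⟨0, 0⟩, ⟨-1, 0⟩, ⟨0, 0⟩, ⟨0, 0⟩, ⟨0, 0⟩; ⟨-2, 0⟩, ⟨1, 0⟩, ⟨2, 0⟩, ⟨0, 0⟩, ⟨0, 0⟩, ⟨-1, 0⟩, ⟨1, 0⟩; ⟨-1, 0⟩, ⟨1, 0⟩, ⟨1, 0⟩, ⟨0, 0⟩, ⟨-1, 0⟩, ⟨0, 0⟩, ⟨1, 0⟩; ⟨-1, 0⟩, ⟨1, 0⟩, ⟨1, 0⟩, ⟨0, 0⟩, ⟨-1, 0⟩, ⟨1, 0⟩, ⟨0, 0⟩],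
  !![⟨3, 0⟩, ⟨-2, 0⟩, ⟨0, 0⟩, ⟨0, 0⟩, ⟨0, 0⟩, ⟨0, 0⟩, ⟨-2, 0⟩; ⟨2, 0⟩, ⟨-1, 0⟩, ⟨0, 0⟩, ⟨1, 0⟩, ⟨0, 0⟩, ⟨0, 0⟩, ⟨-2, 0⟩; ⟨1, 0⟩, ⟨-1, 0⟩, ⟨0, 0⟩, ⟨-1, 0⟩, ⟨1, 0⟩, ⟨-1, 0⟩, ⟨0, 0⟩; ⟨1, 0⟩, ⟨-1, 0⟩, ⟨0, 0⟩, ⟨0, 0⟩, ⟨0, 0⟩, ⟨0, 0⟩, ⟨-1, 0⟩; ⟨1, 0⟩, ⟨-1, 0⟩, ⟨1, 0⟩, ⟨1, 0⟩, ⟨0, 0⟩, ⟨-1, 0⟩, ⟨-1, 0⟩; ⟨0, 0⟩, ⟨-1, 0⟩, ⟨1, 0⟩, ⟨0, 0⟩, ⟨1, 0⟩, ⟨-1, 0⟩, ⟨0, 0⟩; ⟨1, 0⟩, ⟨-1, 0⟩, ⟨1, 0⟩, ⟨0, 0⟩, ⟨0, 0⟩, ⟨0, 0⟩, ⟨-1, 0⟩],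
  !![⟨3, 0⟩, ⟨-2, 0⟩, ⟨0, 0⟩, ⟨0, 0⟩, ⟨0, 0⟩, ⟨0, 0⟩, ⟨-2, 0⟩; ⟨2, 0⟩, ⟨-2, 0⟩, ⟨0, 0⟩, ⟨-1, 0⟩, ⟨1, 0⟩, ⟨-1, 0⟩, ⟨-1, 0⟩; ⟨0, 0⟩, ⟨0, 0⟩, ⟨1, 0⟩, ⟨1, 0⟩, ⟨0, 0⟩, ⟨0, 0⟩, ⟨-1, 0⟩; ⟨2, 0⟩, ⟨-1, 0⟩, ⟨-1, 0⟩, ⟨0, 0⟩, ⟨0, 0⟩, ⟨0, 0⟩, ⟨-1, 0⟩; ⟨3, 0⟩, ⟨-2, 0⟩, ⟨-1, 0⟩, ⟨-1, 0⟩, ⟨1, 0⟩, ⟨0, 0⟩, ⟨-2, 0⟩; ⟨1, 0⟩, ⟨0, 0⟩, ⟨0, 0⟩, ⟨0, 0⟩, ⟨0, 0⟩, ⟨0, 0⟩, ⟨-1, 0⟩; ⟨2, 0⟩, ⟨-1, 0⟩, ⟨0, 0⟩, ⟨0, 0⟩, ⟨0, 0⟩, ⟨0, 0⟩, ⟨-1, 0⟩],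
  !![⟨3, 0⟩, ⟨-2, 0⟩, ⟨-2, 0⟩, ⟨-2, 0⟩, ⟨0, 0⟩, ⟨0, 0⟩, ⟨0, 0⟩; ⟨3, 0⟩, ⟨-2, 0⟩, ⟨-2, 0⟩, ⟨-1, 0⟩, ⟨0, 0⟩, ⟨0, 0⟩, ⟨-1, 0⟩; ⟨1, 0⟩, ⟨0, 0⟩, ⟨0, 0⟩, ⟨0, 0⟩, ⟨-1, 0⟩, ⟨0, 0⟩, ⟨0, 0⟩; ⟨0, 0⟩, ⟨0, 0⟩, ⟨-1, 0⟩, ⟨-1, 0⟩, ⟨0, 0⟩, ⟨0, 0⟩, ⟨1, 0⟩; ⟨2, 0⟩, ⟨-1, 0⟩, ⟨-2, 0⟩, ⟨-2, 0⟩, ⟨0, 0⟩, ⟨0, 0⟩, ⟨0, 0⟩; ⟨0, 0⟩, ⟨0, 0⟩, ⟨0, 0⟩, ⟨-1, 0⟩, ⟨0, 0⟩, ⟨-1, 0⟩, ⟨1, 0⟩; ⟨1, 0⟩, ⟨-1, 0⟩, ⟨-1, 0⟩, ⟨-2, 0⟩, ⟨1, 0⟩, ⟨-1, 0⟩, ⟨1, 0⟩],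
  !![⟨1, 0⟩, ⟨0, 0⟩, ⟨0, 0⟩, ⟨2, 0⟩, ⟨-2, 0⟩, ⟨2, 0⟩, ⟨-2, 0⟩; ⟨2, 0⟩, ⟨-1, 0⟩, ⟨-1, 0⟩, ⟨1, 0⟩, ⟨-1, 0⟩, ⟨1, 0⟩, ⟨-2, 0⟩; ⟨1, 0⟩, ⟨-1, 0⟩, ⟨0, 0⟩, ⟨0, 0⟩, ⟨0, 0⟩, ⟨1, 0⟩, ⟨-1, 0⟩; ⟨-1, 0⟩, ⟨1, 0⟩, ⟨0, 0⟩, ⟨1, 0⟩, ⟨-1, 0⟩, ⟨1, 0⟩, ⟨0, 0⟩; ⟨0, 0⟩, ⟨0, 0⟩, ⟨0, 0⟩, ⟨2, 0⟩, ⟨-1, 0⟩, ⟨1, 0⟩, ⟨-1, 0⟩; ⟨0, 0⟩, ⟨0, 0⟩, ⟨0, 0⟩, ⟨1, 0⟩, ⟨0, 0⟩, ⟨1, 0⟩, ⟨-1, 0⟩; ⟨-1, 0⟩, ⟨1, 0⟩, ⟨1, 0⟩, ⟨2, 0⟩, ⟨-1, 0⟩, ⟨1, 0⟩, ⟨-1, 0⟩],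
  !![⟨1, 0⟩, ⟨0, 0⟩, ⟨0, 0⟩, ⟨0, 0⟩, ⟨-2, 0⟩, ⟨2, 0⟩, ⟨0, 0⟩; ⟨1, 0⟩, ⟨0, 0⟩, ⟨-1, 0⟩, ⟨0, 0⟩, ⟨-2, 0⟩, ⟨2, 0⟩, ⟨0, 0⟩; ⟨2, 0⟩, ⟨-1, 0⟩, ⟨-1, 0⟩, ⟨-1, 0⟩, ⟨0, 0⟩, ⟨1, 0⟩, ⟨-1, 0⟩; ⟨-1, 0⟩, ⟨1, 0⟩, ⟨1, 0⟩, ⟨1, 0⟩, ⟨-1, 0⟩, ⟨1, 0⟩, ⟨0, 0⟩; ⟨0, 0⟩, ⟨1, 0⟩, ⟨0, 0⟩, ⟨1, 0⟩, ⟨-2, 0⟩, ⟨2, 0⟩, ⟨0, 0⟩; ⟨0, 0⟩, ⟨1, 0⟩, ⟨0, 0⟩, ⟨0, 0⟩, ⟨-1, 0⟩, ⟨1, 0⟩, ⟨0, 0⟩; ⟨0, 0⟩, ⟨1, 0⟩, ⟨1, 0⟩, ⟨1, 0⟩, ⟨-2, 0⟩, ⟨1, 0⟩, ⟨0, 0⟩],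
  !![⟨1, 0⟩, ⟨0, 0⟩, ⟨0, 0⟩, ⟨0, 0⟩, ⟨-2, 0⟩, ⟨2, 0⟩, ⟨0, 0⟩; ⟨1, 0⟩, ⟨0, 0⟩, ⟨-1, 0⟩, ⟨0, 0⟩, ⟨-2, 0⟩, ⟨2, 0⟩, ⟨0, 0⟩; ⟨0, 0⟩, ⟨0, 0⟩, ⟨1, 0⟩, ⟨1, 0⟩, ⟨-1, 0⟩, ⟨0, 0⟩, ⟨0, 0⟩; ⟨0, 0⟩, ⟨0, 0⟩, ⟨0, 0⟩, ⟨-1, 0⟩, ⟨0, 0⟩, ⟨0, 0⟩, ⟨1, 0⟩; ⟨0, 0⟩, ⟨0, 0⟩, ⟨0, 0⟩, ⟨-1, 0⟩, ⟨-1, 0⟩, ⟨1, 0⟩, ⟨1, 0⟩; ⟨-1, 0⟩, ⟨0, 0⟩, ⟨1, 0⟩, ⟨0, 0⟩, ⟨0, 0⟩, ⟨0, 0⟩, ⟨1, 0⟩; ⟨1, 0⟩, ⟨-1, 0⟩, ⟨0, 0⟩, ⟨-1, 0⟩, ⟨0, 0⟩, ⟨1, 0⟩, ⟨0, 0⟩],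
  !![⟨1, 0⟩, ⟨-2, 0⟩, ⟨0, 0⟩, ⟨-2, 0⟩, ⟨2, 0⟩, ⟨0, 0⟩, ⟨0, 0⟩; ⟨0, 0⟩, ⟨-1, 0⟩, ⟨0, 0⟩, ⟨-1, 0⟩, ⟨1, 0⟩, ⟨1, 0⟩, ⟨0, 0⟩; ⟨1, 0⟩, ⟨-1, 0⟩, ⟨0, 0⟩, ⟨0, 0⟩, ⟨0, 0⟩, ⟨0, 0⟩, ⟨0, 0⟩; ⟨0, 0⟩, ⟨-1, 0⟩, ⟨0, 0⟩, ⟨-1, 0⟩, ⟨2, 0⟩, ⟨-1, 0⟩, ⟨0, 0⟩; ⟨1, 0⟩, ⟨-2, 0⟩, ⟨0, 0⟩, ⟨-1, 0⟩, ⟨2, 0⟩, ⟨0, 0⟩, ⟨-1, 0⟩; ⟨1, 0⟩, ⟨-1, 0⟩, ⟨0, 0⟩, ⟨0, 0⟩, ⟨1, 0⟩, ⟨0, 0⟩, ⟨-1, 0⟩; ⟨2, 0⟩, ⟨-2, 0⟩, ⟨-1, 0⟩, ⟨-2, 0⟩, ⟨2, 0⟩, ⟨0, 0⟩, ⟨-1, 0⟩],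
  !![⟨-1, 0⟩, ⟨2, 0⟩, ⟨2, 0⟩, ⟨2, 0⟩, ⟨-2, 0⟩, ⟨0, 0⟩, ⟨0, 0⟩; ⟨-1, 0⟩, ⟨2, 0⟩, ⟨1, 0⟩, ⟨1, 0⟩, ⟨-2, 0⟩, ⟨0, 0⟩, ⟨1, 0⟩; ⟨1, 0⟩, ⟨0, 0⟩, ⟨0, 0⟩, ⟨0, 0⟩, ⟨-1, 0⟩, ⟨1, 0⟩, ⟨-1, 0⟩; ⟨-1, 0⟩, ⟨1, 0⟩, ⟨1, 0⟩, ⟨1, 0⟩, ⟨0, 0⟩, ⟨-1, 0⟩, ⟨0, 0⟩; ⟨0, 0⟩, ⟨1, 0⟩, ⟨1, 0⟩, ⟨1, 0⟩, ⟨-1, 0⟩, ⟨-1, 0⟩, ⟨0, 0⟩; ⟨0, 0⟩, ⟨0, 0⟩, ⟨1, 0⟩, ⟨0, 0⟩, ⟨0, 0⟩, ⟨-1, 0⟩, ⟨0, 0⟩; ⟨-1, 0⟩, ⟨1, 0⟩, ⟨2, 0⟩, ⟨2, 0⟩, ⟨-1, 0⟩, ⟨-1, 0⟩, ⟨0, 0⟩],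
  !![⟨-1, 0⟩, ⟨0, 0⟩, ⟨2, 0⟩, ⟨0, 0⟩, ⟨0, 0⟩, ⟨-2, 0⟩, ⟨2, 0⟩; ⟨-2, 0⟩, ⟨0, 0⟩, ⟨2, 0⟩, ⟨0, 0⟩, ⟨1, 0⟩, ⟨-2, 0⟩, ⟨2, 0⟩; ⟨1, 0⟩, ⟨-1, 0⟩, ⟨0, 0⟩, ⟨-1, 0⟩, ⟨0, 0⟩, ⟨0, 0⟩, ⟨0, 0⟩; ⟨-1, 0⟩, ⟨1, 0⟩, ⟨1, 0⟩, ⟨1, 0⟩, ⟨-1, 0⟩, ⟨-1, 0⟩, ⟨1, 0⟩; ⟨-1, 0⟩, ⟨0, 0⟩, ⟨1, 0⟩, ⟨0, 0⟩, ⟨0, 0⟩, ⟨-2, 0⟩, ⟨2, 0⟩; ⟨1, 0⟩, ⟨-1, 0⟩, ⟨0, 0⟩, ⟨0, 0⟩, ⟨0, 0⟩, ⟨-1, 0⟩, ⟨0, 0⟩; ⟨0, 0⟩, ⟨0, 0⟩, ⟨1, 0⟩, ⟨1, 0⟩, ⟨-1, 0⟩, ⟨-1, 0⟩, ⟨1, 0⟩],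
  !![⟨1, 0⟩, ⟨-2, 0⟩, ⟨0, 0⟩, ⟨0, 0⟩, ⟨2, 0⟩, ⟨-2, 0⟩, ⟨0, 0⟩; ⟨1, 0⟩, ⟨-1, 0⟩, ⟨0, 0⟩, ⟨1, 0⟩, ⟨1, 0⟩, ⟨-1, 0⟩, ⟨-1, 0⟩; ⟨2, 0⟩, ⟨-2, 0⟩, ⟨-1, 0⟩, ⟨-1, 0⟩, ⟨1, 0⟩, ⟨0, 0⟩, ⟨-1, 0⟩; ⟨-1, 0⟩, ⟨0, 0⟩, ⟨1, 0⟩, ⟨1, 0⟩, ⟨0, 0⟩, ⟨-1, 0⟩, ⟨1, 0⟩; ⟨0, 0⟩, ⟨-1, 0⟩, ⟨0, 0⟩, ⟨1, 0⟩, ⟨1, 0⟩, ⟨-1, 0⟩, ⟨0, 0⟩; ⟨1, 0⟩, ⟨-1, 0⟩, ⟨-1, 0⟩, ⟨0, 0⟩, ⟨0, 0⟩, ⟨0, 0⟩, ⟨0, 0⟩; ⟨0, 0⟩, ⟨-1, 0⟩, ⟨0, 0⟩, ⟨0, 0⟩, ⟨1, 0⟩, ⟨-1, 0⟩, ⟨1, 0⟩],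
  !![⟨1, 0⟩, ⟨0, 0⟩, ⟨0, 0⟩, ⟨0, 0⟩, ⟨0, 0⟩, ⟨0, 0⟩, ⟨-2, 0⟩; ⟨1, 0⟩, ⟨-1, 0⟩, ⟨0, 0⟩, ⟨-1, 0⟩, ⟨1, 0⟩, ⟨-1, 0⟩, ⟨-1, 0⟩; ⟨1, 0⟩, ⟨0, 0⟩, ⟨0, 0⟩, ⟨1, 0⟩, ⟨-1, 0⟩, ⟨0, 0⟩, ⟨-1, 0⟩; ⟨1, 0⟩, ⟨0, 0⟩, ⟨-1, 0⟩, ⟨-1, 0⟩, ⟨0, 0⟩, ⟨1, 0⟩, ⟨-1, 0⟩; ⟨1, 0⟩, ⟨0, 0⟩, ⟨-1, 0⟩, ⟨-1, 0⟩, ⟨0, 0⟩, ⟨0, 0⟩, ⟨-1, 0⟩; ⟨1, 0⟩, ⟨0, 0⟩, ⟨-1, 0⟩, ⟨0, 0⟩, ⟨-1, 0⟩, ⟨1, 0⟩, ⟨-1, 0⟩; ⟨0, 0⟩, ⟨1, 0⟩, ⟨0, 0⟩, ⟨0, 0⟩, ⟨-1, 0⟩, ⟨1, 0⟩, ⟨-1, 0⟩],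
  !![⟨-1, 0⟩, ⟨0, 0⟩, ⟨0, 0⟩, ⟨-2, 0⟩, ⟨2, 0⟩, ⟨0, 0⟩, ⟨0, 0⟩; ⟨0, 0⟩, ⟨0, 0⟩, ⟨0, 0⟩, ⟨-2, 0⟩, ⟨1, 0⟩, ⟨0, 0⟩, ⟨0, 0⟩; ⟨-1, 0⟩, ⟨0, 0⟩, ⟨1, 0⟩, ⟨0, 0⟩, ⟨1, 0⟩, ⟨-1, 0⟩, ⟨0, 0⟩; ⟨1, 0⟩, ⟨-1, 0⟩, ⟨-1, 0⟩, ⟨-1, 0⟩, ⟨1, 0⟩, ⟨1, 0⟩, ⟨-1, 0⟩; ⟨1, 0⟩, ⟨-1, 0⟩, ⟨-1, 0⟩, ⟨-2, 0⟩, ⟨2, 0⟩, ⟨0, 0⟩, ⟨-1, 0⟩; ⟨1, 0⟩, ⟨-1, 0⟩, ⟨-1, 0⟩, ⟨-1, 0⟩, ⟨1, 0⟩, ⟨0, 0⟩, ⟨-1, 0⟩; ⟨0, 0⟩, ⟨0, 0⟩, ⟨-1, 0⟩, ⟨-1, 0⟩, ⟨1, 0⟩, ⟨1, 0⟩, ⟨-1, 0⟩],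
  !![⟨-3, 0⟩, ⟨2, 0⟩, ⟨2, 0⟩, ⟨2, 0⟩, ⟨0, 0⟩, ⟨-2, 0⟩, ⟨2, 0⟩; ⟨-2, 0⟩, ⟨1, 0⟩, ⟨2, 0⟩, ⟨2, 0⟩, ⟨0, 0⟩, ⟨-1, 0⟩, ⟨1, 0⟩; ⟨0, 0⟩, ⟨0, 0⟩, ⟨0, 0⟩, ⟨0, 0⟩, ⟨1, 0⟩, ⟨-1, 0⟩, ⟨0, 0⟩; ⟨-1, 0⟩, ⟨1, 0⟩, ⟨1, 0⟩, ⟨1, 0⟩, ⟨-1, 0⟩, ⟨-1, 0⟩, ⟨1, 0⟩; ⟨-2, 0⟩, ⟨1, 0⟩, ⟨2, 0⟩, ⟨2, 0⟩, ⟨0, 0⟩, ⟨-2, 0⟩, ⟨1, 0⟩; ⟨0, 0⟩, ⟨0, 0⟩, ⟨0, 0⟩, ⟨1, 0⟩, ⟨0, 0⟩, ⟨-1, 0⟩, ⟨0, 0⟩; ⟨-2, 0⟩, ⟨1, 0⟩, ⟨1, 0⟩, ⟨1, 0⟩, ⟨0, 0⟩, ⟨-2, 0⟩, ⟨2, 0⟩],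
  !![⟨-3, 0⟩, ⟨2, 0⟩, ⟨2, 0⟩, ⟨2, 0⟩, ⟨0, 0⟩, ⟨-2, 0⟩, ⟨2, 0⟩; ⟨-1, 0⟩, ⟨1, 0⟩, ⟨1, 0⟩, ⟨1, 0⟩, ⟨0, 0⟩, ⟨-1, 0⟩, ⟨1, 0⟩; ⟨-1, 0⟩, ⟨1, 0⟩, ⟨0, 0⟩, ⟨0, 0⟩, ⟨0, 0⟩, ⟨-1, 0⟩, ⟨1, 0⟩; ⟨-1, 0⟩, ⟨0, 0⟩, ⟨1, 0⟩, ⟨1, 0⟩, ⟨0, 0⟩, ⟨-1, 0⟩, ⟨1, 0⟩; ⟨-1, 0⟩, ⟨1, 0⟩, ⟨1, 0⟩, ⟨2, 0⟩, ⟨-1, 0⟩, ⟨-1, 0⟩, ⟨1, 0⟩; ⟨-1, 0⟩, ⟨1, 0⟩, ⟨0, 0⟩, ⟨1, 0⟩, ⟨-1, 0⟩, ⟨0, 0⟩, ⟨1, 0⟩; ⟨-2, 0⟩, ⟨1, 0⟩, ⟨1, 0⟩, ⟨2, 0⟩, ⟨0, 0⟩, ⟨-1, 0⟩, ⟨1, 0⟩],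
  !![⟨-1, 0⟩, ⟨0, 0⟩, ⟨0, 0⟩, ⟨-2, 0⟩, ⟨2, 0⟩, ⟨0, 0⟩, ⟨0, 0⟩; ⟨-1, 0⟩, ⟨0, 0⟩, ⟨1, 0⟩, ⟨-1, 0⟩, ⟨1, 0⟩, ⟨0, 0⟩, ⟨0, 0⟩; ⟨-1, 0⟩, ⟨0, 0⟩, ⟨0, 0⟩, ⟨0, 0⟩, ⟨1, 0⟩, ⟨0, 0⟩, ⟨0, 0⟩; ⟨1, 0⟩, ⟨0, 0⟩, ⟨-1, 0⟩, ⟨-1, 0⟩, ⟨0, 0⟩, ⟨1, 0⟩, ⟨-1, 0⟩; ⟨1, 0⟩, ⟨-1, 0⟩, ⟨-1, 0⟩, ⟨-2, 0⟩, ⟨1, 0⟩, ⟨1, 0⟩, ⟨-1, 0⟩; ⟨0, 0⟩, ⟨0, 0⟩, ⟨-1, 0⟩, ⟨-1, 0⟩, ⟨0, 0⟩, ⟨1, 0⟩, ⟨0, 0⟩; ⟨0, 0⟩, ⟨0, 0⟩, ⟨-1, 0⟩, ⟨-2, 0⟩, ⟨1, 0⟩, ⟨0, 0⟩, ⟨0, 0⟩],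
  !![⟨1, 0⟩, ⟨0, 0⟩, ⟨-2, 0⟩, ⟨-2, 0⟩, ⟨0, 0⟩, ⟨2, 0⟩, ⟨0, 0⟩; ⟨0, 0⟩, ⟨1, 0⟩, ⟨-1, 0⟩, ⟨-1, 0⟩, ⟨-1, 0⟩, ⟨2, 0⟩, ⟨0, 0⟩; ⟨0, 0⟩, ⟨0, 0⟩, ⟨-1, 0⟩, ⟨-1, 0⟩, ⟨0, 0⟩, ⟨0, 0⟩, ⟨1, 0⟩; ⟨1, 0⟩, ⟨-1, 0⟩, ⟨-1, 0⟩, ⟨-1, 0⟩, ⟨1, 0⟩, ⟨1, 0⟩, ⟨-1, 0⟩; ⟨2, 0⟩, ⟨-1, 0⟩, ⟨-2, 0⟩, ⟨-2, 0⟩, ⟨0, 0⟩, ⟨2, 0⟩, ⟨-1, 0⟩; ⟨2, 0⟩, ⟨-1, 0⟩, ⟨-2, 0⟩, ⟨-1, 0⟩, ⟨0, 0⟩, ⟨1, 0⟩, ⟨-1, 0⟩; ⟨2, 0⟩, ⟨-1, 0⟩, ⟨-2, 0⟩, ⟨-2, 0⟩, ⟨1, 0⟩, ⟨1, 0⟩, ⟨-1, 0⟩],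
  !![⟨-3, 0⟩, ⟨2, 0⟩, ⟨2, 0⟩, ⟨2, 0⟩, ⟨-2, 0⟩, ⟨0, 0⟩, ⟨2, 0⟩; ⟨-2, 0⟩, ⟨1, 0⟩, ⟨1, 0⟩, ⟨1, 0⟩, ⟨-1, 0⟩, ⟨0, 0⟩, ⟨2, 0⟩; ⟨-1, 0⟩, ⟨1, 0⟩, ⟨0, 0⟩, ⟨1, 0⟩, ⟨-1, 0⟩, ⟨1, 0⟩, ⟨0, 0⟩; ⟨-1, 0⟩, ⟨1, 0⟩, ⟨1, 0⟩, ⟨1, 0⟩, ⟨-1, 0⟩, ⟨-1, 0⟩, ⟨1, 0⟩; ⟨-1, 0⟩, ⟨1, 0⟩, ⟨1, 0⟩, ⟨2, 0⟩, ⟨-2, 0⟩, ⟨0, 0⟩, ⟨1, 0⟩; ⟨0, 0⟩, ⟨0, 0⟩, ⟨0, 0⟩, ⟨1, 0⟩, ⟨-1, 0⟩, ⟨0, 0⟩, ⟨0, 0⟩; ⟨-2, 0⟩, ⟨1, 0⟩, ⟨2, 0⟩, ⟨2, 0⟩, ⟨-1, 0⟩, ⟨-1, 0⟩, ⟨1, 0⟩],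
  !![⟨-1, 0⟩, ⟨0, 0⟩, ⟨2, 0⟩, ⟨2, 0⟩, ⟨0, 0⟩, ⟨0, 0⟩, ⟨0, 0⟩; ⟨-1, 0⟩, ⟨0, 0⟩, ⟨1, 0⟩, ⟨1, 0⟩, ⟨1, 0⟩, ⟨0, 0⟩, ⟨0, 0⟩; ⟨-1, 0⟩, ⟨1, 0⟩, ⟨1, 0⟩, ⟨1, 0⟩, ⟨-1, 0⟩, ⟨1, 0⟩, ⟨0, 0⟩; ⟨-1, 0⟩, ⟨0, 0⟩, ⟨1, 0⟩, ⟨1, 0⟩, ⟨0, 0⟩, ⟨-1, 0⟩, ⟨1, 0⟩; ⟨-1, 0⟩, ⟨0, 0⟩, ⟨1, 0⟩, ⟨1, 0⟩, ⟨0, 0⟩, ⟨0, 0⟩, ⟨1, 0⟩; ⟨0, 0⟩, ⟨0, 0⟩, ⟨0, 0⟩, ⟨1, 0⟩, ⟨-1, 0⟩, ⟨1, 0⟩, ⟨0, 0⟩; ⟨0, 0⟩, ⟨0, 0⟩, ⟨1, 0⟩, ⟨2, 0⟩, ⟨-1, 0⟩, ⟨0, 0⟩, ⟨0, 0⟩],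
  !![⟨1, 0⟩, ⟨0, 0⟩, ⟨0, 0⟩, ⟨0, 0⟩, ⟨0, 0⟩, ⟨0, 0⟩, ⟨0, 0⟩; ⟨0, 0⟩, ⟨1, 0⟩, ⟨0, 0⟩, ⟨0, 0⟩, ⟨0, 0⟩, ⟨0, 0⟩, ⟨0, 0⟩; ⟨0, 0⟩, ⟨0, 0⟩, ⟨1, 0⟩, ⟨0, 0⟩, ⟨0, 0⟩, ⟨0, 0⟩, ⟨0, 0⟩; ⟨0, 0⟩, ⟨0, 0⟩, ⟨0, 0⟩, ⟨1, 0⟩, ⟨0, 0⟩, ⟨0, 0⟩, ⟨0, 0⟩; ⟨0, 0⟩, ⟨0, 0⟩, ⟨0, 0⟩, ⟨0, 0⟩, ⟨1, 0⟩, ⟨0, 0⟩, ⟨0, 0⟩; ⟨0, 0⟩, ⟨0, 0⟩, ⟨0, 0⟩, ⟨0, 0⟩, ⟨0, 0⟩, ⟨1, 0⟩, ⟨0, 0⟩; ⟨0, 0⟩, ⟨0, 0⟩, ⟨0, 0⟩, ⟨0, 0⟩, ⟨0, 0⟩, ⟨0, 0⟩, ⟨1, 0⟩]],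
  [!![⟨1, 0⟩, ⟨0, 0⟩, ⟨0, 0⟩, ⟨0, 0⟩, ⟨0, 0⟩, ⟨0, 0⟩, ⟨0, 0⟩; ⟨0, 0⟩, ⟨1, 0⟩, ⟨0, 0⟩, ⟨0, 0⟩, ⟨0, 0⟩, ⟨0, 0⟩, ⟨0, 0⟩; ⟨0, 0⟩, ⟨0, 0⟩, ⟨1, 0⟩, ⟨0, 0⟩, ⟨0, 0⟩, ⟨0, 0⟩, ⟨0, 0⟩; ⟨0, 0⟩, ⟨0, 0⟩, ⟨0, 0⟩, ⟨1, 0⟩, ⟨0, 0⟩, ⟨0, 0⟩, ⟨0, 0⟩; ⟨0, 0⟩, ⟨0, 0⟩, ⟨0, 0⟩, ⟨0, 0⟩, ⟨1, 0⟩, ⟨0, 0⟩, ⟨0, 0⟩; ⟨0, 0⟩, ⟨0, 0⟩, ⟨0, 0⟩, ⟨0, 0⟩, ⟨0, 0⟩, ⟨1, 0⟩, ⟨0, 0⟩; ⟨0, 0⟩, ⟨0, 0⟩, ⟨0, 0⟩, ⟨0, 0⟩, ⟨0, 0⟩, ⟨0, 0⟩, ⟨1, 0⟩],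
  !![⟨-1, 0⟩, ⟨0, 0⟩, ⟨2, 0⟩, ⟨0, 0⟩, ⟨0, 0⟩, ⟨0, 0⟩, ⟨0, 0⟩; ⟨-2, 0⟩, ⟨0, 0⟩, ⟨2, 0⟩, ⟨0, 0⟩, ⟨1, 0⟩, ⟨-1, 0⟩, ⟨1, 0⟩; ⟨0, 0⟩, ⟨0, 0⟩, ⟨1, 0⟩, ⟨0, 0⟩, ⟨0, 0⟩, ⟨0, 0⟩, ⟨0, 0⟩; ⟨0, 0⟩, ⟨0, 0⟩, ⟨0, 0⟩, ⟨-1, 0⟩, ⟨0, 0⟩, ⟨0, 0⟩, ⟨0, 0⟩; ⟨-2, 0⟩, ⟨1, 0⟩, ⟨2, 0⟩, ⟨0, 0⟩, ⟨0, 0⟩, ⟨-1, 0⟩, ⟨1, 0⟩; ⟨-1, 0⟩, ⟨1, 0⟩, ⟨1, 0⟩, ⟨0, 0⟩, ⟨-1, 0⟩, ⟨0, 0⟩, ⟨1, 0⟩; ⟨-1, 0⟩, ⟨1, 0⟩, ⟨1, 0⟩, ⟨0, 0⟩, ⟨-1, 0⟩, ⟨1, 0⟩, ⟨0, 0⟩],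
  !![⟨3, 0⟩, ⟨-2, 0⟩, ⟨0, 0⟩, ⟨0, 0⟩, ⟨0, 0⟩, ⟨0, 0⟩, ⟨-2, 0⟩; ⟨2, 0⟩, ⟨-1, 0⟩, ⟨0, 0⟩, ⟨1, 0⟩, ⟨0, 0⟩, ⟨0, 0⟩, ⟨-2, 0⟩; ⟨1, 0⟩, ⟨-1, 0⟩, ⟨0, 0⟩, ⟨-1, 0⟩, ⟨1, 0⟩, ⟨-1, 0⟩, ⟨0, 0⟩; ⟨1, 0⟩, ⟨-1, 0⟩, ⟨0, 0⟩, ⟨0, 0⟩, ⟨0, 0⟩, ⟨0, 0⟩, ⟨-1, 0⟩; ⟨1, 0⟩, ⟨-1, 0⟩, ⟨1, 0⟩, ⟨1, 0⟩, ⟨0, 0⟩, ⟨-1, 0⟩, ⟨-1, 0⟩; ⟨0, 0⟩, ⟨-1, 0⟩, ⟨1, 0⟩, ⟨0, 0⟩, ⟨1, 0⟩, ⟨-1, 0⟩, ⟨0, 0⟩; ⟨1, 0⟩, ⟨-1, 0⟩, ⟨1, 0⟩, ⟨0, 0⟩, ⟨0, 0⟩, ⟨0, 0⟩, ⟨-1, 0⟩],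
  !![⟨3, 0⟩, ⟨-2, 0⟩, ⟨0, 0⟩, ⟨0, 0⟩, ⟨0, 0⟩, ⟨0, 0⟩, ⟨-2, 0⟩; ⟨2, 0⟩, ⟨-2, 0⟩, ⟨0, 0⟩, ⟨-1, 0⟩, ⟨1, 0⟩, ⟨-1, 0⟩, ⟨-1, 0⟩; ⟨0, 0⟩, ⟨0, 0⟩, ⟨1, 0⟩, ⟨1, 0⟩, ⟨0, 0⟩, ⟨0, 0⟩, ⟨-1, 0⟩; ⟨2, 0⟩, ⟨-1, 0⟩, ⟨-1, 0⟩, ⟨0, 0⟩, ⟨0, 0⟩, ⟨0, 0⟩, ⟨-1, 0⟩; ⟨3, 0⟩, ⟨-2, 0⟩, ⟨-1, 0⟩, ⟨-1, 0⟩, ⟨1, 0⟩, ⟨0, 0⟩, ⟨-2, 0⟩; ⟨1, 0⟩, ⟨0, 0⟩, ⟨0, 0⟩, ⟨0, 0⟩, ⟨0, 0⟩, ⟨0, 0⟩, ⟨-1, 0⟩; ⟨2, 0⟩, ⟨-1, 0⟩, ⟨0, 0⟩, ⟨0, 0⟩, ⟨0, 0⟩, ⟨0, 0⟩, ⟨-1, 0⟩],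
  !![⟨-1, 0⟩, ⟨0, 0⟩, ⟨2, 0⟩, ⟨0, 0⟩, ⟨0, 0⟩, ⟨0, 0⟩, ⟨0, 0⟩; ⟨0, 0⟩, ⟨0, 0⟩, ⟨1, 0⟩, ⟨-1, 0⟩, ⟨0, 0⟩, ⟨0, 0⟩, ⟨0, 0⟩; ⟨-2, 0⟩, ⟨1, 0⟩, ⟨1, 0⟩, ⟨0, 0⟩, ⟨0, 0⟩, ⟨0, 0⟩, ⟨1, 0⟩; ⟨0, 0⟩, ⟨-1, 0⟩, ⟨1, 0⟩, ⟨0, 0⟩, ⟨1, 0⟩, ⟨-1, 0⟩, ⟨0, 0⟩; ⟨0, 0⟩, ⟨-1, 0⟩, ⟨1, 0⟩, ⟨-1, 0⟩, ⟨1, 0⟩, ⟨0, 0⟩, ⟨0, 0⟩; ⟨-1, 0⟩, ⟨0, 0⟩, ⟨1, 0⟩, ⟨0, 0⟩, ⟨1, 0⟩, ⟨0, 0⟩, ⟨0, 0⟩; ⟨-1, 0⟩, ⟨0, 0⟩, ⟨2, 0⟩, ⟨1, 0⟩, ⟨0, 0⟩, ⟨0, 0⟩, ⟨0, 0⟩],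
  !![⟨-1, 0⟩, ⟨2, 0⟩, ⟨0, 0⟩, ⟨0, 0⟩, ⟨-2, 0⟩, ⟨2, 0⟩, ⟨0, 0⟩; ⟨0, 0⟩, ⟨1, 0⟩, ⟨0, 0⟩, ⟨0, 0⟩, ⟨-1, 0⟩, ⟨2, 0⟩, ⟨-1, 0⟩; ⟨0, 0⟩, ⟨1, 0⟩, ⟨-1, 0⟩, ⟨0, 0⟩, ⟨-1, 0⟩, ⟨1, 0⟩, ⟨0, 0⟩; ⟨-1, 0⟩, ⟨1, 0⟩, ⟨1, 0⟩, ⟨0, 0⟩, ⟨-1, 0⟩, ⟨0, 0⟩, ⟨1, 0⟩; ⟨0, 0⟩, ⟨1, 0⟩, ⟨0, 0⟩, ⟨0, 0⟩, ⟨-2, 0⟩, ⟨2, 0⟩, ⟨0, 0⟩; ⟨-1, 0⟩, ⟨1, 0⟩, ⟨0, 0⟩, ⟨0, 0⟩, ⟨-1, 0⟩, ⟨1, 0⟩, ⟨1, 0⟩; ⟨-2, 0⟩, ⟨2, 0⟩, ⟨1, 0⟩, ⟨1, 0⟩, ⟨-2, 0⟩, ⟨1, 0⟩, ⟨1, 0⟩],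
  !![⟨1, 0⟩, ⟨0, 0⟩, ⟨-2, 0⟩, ⟨0, 0⟩, ⟨0, 0⟩, ⟨2, 0⟩, ⟨-2, 0⟩; ⟨0, 0⟩, ⟨0, 0⟩, ⟨-1, 0⟩, ⟨0, 0⟩, ⟨0, 0⟩, ⟨2, 0⟩, ⟨-1, 0⟩; ⟨1, 0⟩, ⟨-1, 0⟩, ⟨-1, 0⟩, ⟨0, 0⟩, ⟨1, 0⟩, ⟨0, 0⟩, ⟨-1, 0⟩; ⟨0, 0⟩, ⟨1, 0⟩, ⟨0, 0⟩, ⟨1, 0⟩, ⟨-1, 0⟩, ⟨1, 0⟩, ⟨-1, 0⟩; ⟨1, 0⟩, ⟨0, 0⟩, ⟨-1, 0⟩, ⟨1, 0⟩, ⟨-1, 0⟩, ⟨2, 0⟩, ⟨-2, 0⟩; ⟨1, 0⟩, ⟨0, 0⟩, ⟨-1, 0⟩, ⟨1, 0⟩, ⟨-1, 0⟩, ⟨1, 0⟩, ⟨-1, 0⟩; ⟨0, 0⟩, ⟨1, 0⟩, ⟨-1, 0⟩, ⟨1, 0⟩, ⟨-1, 0⟩, ⟨1, 0⟩, ⟨-1, 0⟩],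
  !![⟨1, 0⟩, ⟨-2, 0⟩, ⟨-2, 0⟩, ⟨-2, 0⟩, ⟨2, 0⟩, ⟨0, 0⟩, ⟨0, 0⟩; ⟨1, 0⟩, ⟨-1, 0⟩, ⟨-2, 0⟩, ⟨-1, 0⟩, ⟨0, 0⟩, ⟨1, 0⟩, ⟨0, 0⟩; ⟨0, 0⟩, ⟨-1, 0⟩, ⟨0, 0⟩, ⟨-1, 0⟩, ⟨1, 0⟩, ⟨-1, 0⟩, ⟨1, 0⟩; ⟨-1, 0⟩, ⟨0, 0⟩, ⟨0, 0⟩, ⟨0, 0⟩, ⟨1, 0⟩, ⟨0, 0⟩, ⟨0, 0⟩; ⟨0, 0⟩, ⟨-1, 0⟩, ⟨-1, 0⟩, ⟨-1, 0⟩, ⟨1, 0⟩, ⟨0, 0⟩, ⟨0, 0⟩; ⟨0, 0⟩, ⟨-1, 0⟩, ⟨0, 0⟩, ⟨0, 0⟩, ⟨1, 0⟩, ⟨-1, 0⟩, ⟨0, 0⟩; ⟨0, 0⟩, ⟨-1, 0⟩, ⟨-1, 0⟩, ⟨-1, 0⟩, ⟨2, 0⟩, ⟨-1, 0⟩, ⟨0, 0⟩],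
  !![⟨3, 0⟩, ⟨-2, 0⟩, ⟨-2, 0⟩, ⟨-2, 0⟩, ⟨0, 0⟩, ⟨0, 0⟩, ⟨0, 0⟩; ⟨3, 0⟩, ⟨-2, 0⟩, ⟨-2, 0⟩, ⟨-1, 0⟩, ⟨0, 0⟩, ⟨0, 0⟩, ⟨-1, 0⟩; ⟨1, 0⟩, ⟨0, 0⟩, ⟨0, 0⟩, ⟨0, 0⟩, ⟨-1, 0⟩, ⟨0, 0⟩, ⟨0, 0⟩; ⟨0, 0⟩, ⟨0, 0⟩, ⟨-1, 0⟩, ⟨-1, 0⟩, ⟨0, 0⟩, ⟨0, 0⟩, ⟨1, 0⟩; ⟨2, 0⟩, ⟨-1, 0⟩, ⟨-2, 0⟩, ⟨-2, 0⟩, ⟨0, 0⟩, ⟨0, 0⟩, ⟨0, 0⟩; ⟨0, 0⟩, ⟨0, 0⟩, ⟨0, 0⟩, ⟨-1, 0⟩, ⟨0, 0⟩, ⟨-1, 0⟩, ⟨1, 0⟩; ⟨1, 0⟩, ⟨-1, 0⟩, ⟨-1, 0⟩, ⟨-2, 0⟩, ⟨1, 0⟩, ⟨-1, 0⟩, ⟨1, 0⟩],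
  !![⟨3, 0⟩, ⟨-2, 0⟩, ⟨0, 0⟩, ⟨0, 0⟩, ⟨0, 0⟩, ⟨0, 0⟩, ⟨-2, 0⟩; ⟨2, 0⟩, ⟨-2, 0⟩, ⟨0, 0⟩, ⟨-1, 0⟩, ⟨1, 0⟩, ⟨-1, 0⟩, ⟨-1, 0⟩; ⟨0, 0⟩, ⟨0, 0⟩, ⟨1, 0⟩, ⟨1, 0⟩, ⟨0, 0⟩, ⟨0, 0⟩, ⟨-1, 0⟩; ⟨2, 0⟩, ⟨-1, 0⟩, ⟨-1, 0⟩, ⟨0, 0⟩, ⟨0, 0⟩, ⟨0, 0⟩, ⟨-1, 0⟩; ⟨3, 0⟩, ⟨-2, 0⟩, ⟨-1, 0⟩, ⟨-1, 0⟩, ⟨1, 0⟩, ⟨0, 0⟩, ⟨-2, 0⟩; ⟨1, 0⟩, ⟨0, 0⟩, ⟨0, 0⟩, ⟨0, 0⟩, ⟨0, 0⟩, ⟨0, 0⟩, ⟨-1, 0⟩; ⟨2, 0⟩, ⟨-1, 0⟩, ⟨0, 0⟩, ⟨0, 0⟩, ⟨0, 0⟩, ⟨0, 0⟩, ⟨-1, 0⟩],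
  !![⟨3, 0⟩, ⟨-2, 0⟩, ⟨0, 0⟩, ⟨0, 0⟩, ⟨0, 0⟩, ⟨0, 0⟩, ⟨-2, 0⟩; ⟨2, 0⟩, ⟨-1, 0⟩, ⟨0, 0⟩, ⟨1, 0⟩, ⟨0, 0⟩, ⟨0, 0⟩, ⟨-2, 0⟩; ⟨1, 0⟩, ⟨-1, 0⟩, ⟨0, 0⟩, ⟨-1, 0⟩, ⟨1, 0⟩, ⟨-1, 0⟩, ⟨0, 0⟩; ⟨1, 0⟩, ⟨-1, 0⟩, ⟨0, 0⟩, ⟨0, 0⟩, ⟨0, 0⟩, ⟨0, 0⟩, ⟨-1, 0⟩; ⟨1, 0⟩, ⟨-1, 0⟩, ⟨1, 0⟩, ⟨1, 0⟩, ⟨0, 0⟩, ⟨-1, 0⟩, ⟨-1, 0⟩; ⟨0, 0⟩, ⟨-1, 0⟩, ⟨1, 0⟩, ⟨0, 0⟩, ⟨1, 0⟩, ⟨-1, 0⟩, ⟨0, 0⟩; ⟨1, 0⟩, ⟨-1, 0⟩, ⟨1, 0⟩, ⟨0, 0⟩, ⟨0, 0⟩, ⟨0, 0⟩, ⟨-1, 0⟩],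
  !![⟨-1, 0⟩, ⟨0, 0⟩, ⟨2, 0⟩, ⟨0, 0⟩, ⟨0, 0⟩, ⟨0, 0⟩, ⟨0, 0⟩; ⟨-2, 0⟩, ⟨0, 0⟩, ⟨2, 0⟩, ⟨0, 0⟩, ⟨1, 0⟩, ⟨-1, 0⟩, ⟨1, 0⟩; ⟨0, 0⟩, ⟨0, 0⟩, ⟨1, 0⟩, ⟨0, 0⟩, ⟨0, 0⟩, ⟨0, 0⟩, ⟨0, 0⟩; ⟨0, 0⟩, ⟨0, 0⟩, ⟨0, 0⟩, ⟨-1, 0⟩, ⟨0, 0⟩, ⟨0, 0⟩, ⟨0, 0⟩; ⟨-2, 0⟩, ⟨1, 0⟩, ⟨2, 0⟩, ⟨0, 0⟩, ⟨0, 0⟩, ⟨-1, 0⟩, ⟨1, 0⟩; ⟨-1, 0⟩, ⟨1, 0⟩, ⟨1, 0⟩, ⟨0, 0⟩, ⟨-1, 0⟩, ⟨0, 0⟩, ⟨1, 0⟩; ⟨-1, 0⟩, ⟨1, 0⟩, ⟨1, 0⟩, ⟨0, 0⟩, ⟨-1, 0⟩, ⟨1, 0⟩, ⟨0, 0⟩],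
  !![⟨1, 0⟩, ⟨0, 0⟩, ⟨0, 0⟩, ⟨0, 0⟩, ⟨0, 0⟩, ⟨0, 0⟩, ⟨0, 0⟩; ⟨0, 0⟩, ⟨1, 0⟩, ⟨0, 0⟩, ⟨0, 0⟩, ⟨0, 0⟩, ⟨0, 0⟩, ⟨0, 0⟩; ⟨0, 0⟩, ⟨0, 0⟩, ⟨1, 0⟩, ⟨0, 0⟩, ⟨0, 0⟩, ⟨0, 0⟩, ⟨0, 0⟩; ⟨0, 0⟩, ⟨0, 0⟩, ⟨0, 0⟩, ⟨1, 0⟩, ⟨0, 0⟩, ⟨0, 0⟩, ⟨0, 0⟩; ⟨0, 0⟩, ⟨0, 0⟩, ⟨0, 0⟩, ⟨0, 0⟩, ⟨1, 0⟩, ⟨0, 0⟩, ⟨0, 0⟩; ⟨0, 0⟩, ⟨0, 0⟩, ⟨0, 0⟩, ⟨0, 0⟩, ⟨0, 0⟩, ⟨1, 0⟩, ⟨0, 0⟩; ⟨0, 0⟩, ⟨0, 0⟩, ⟨0, 0⟩, ⟨0, 0⟩, ⟨0, 0⟩, ⟨0, 0⟩, ⟨1, 0⟩],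
  !![⟨-1, 0⟩, ⟨0, 0⟩, ⟨2, 0⟩, ⟨2, 0⟩, ⟨0, 0⟩, ⟨0, 0⟩, ⟨0, 0⟩; ⟨-1, 0⟩, ⟨0, 0⟩, ⟨1, 0⟩, ⟨1, 0⟩, ⟨1, 0⟩, ⟨0, 0⟩, ⟨0, 0⟩; ⟨-1, 0⟩, ⟨1, 0⟩, ⟨1, 0⟩, ⟨1, 0⟩, ⟨-1, 0⟩, ⟨1, 0⟩, ⟨0, 0⟩; ⟨-1, 0⟩, ⟨0, 0⟩, ⟨1, 0⟩, ⟨1, 0⟩, ⟨0, 0⟩, ⟨-1, 0⟩, ⟨1, 0⟩; ⟨-1, 0⟩, ⟨0, 0⟩, ⟨1, 0⟩, ⟨1, 0⟩, ⟨0, 0⟩, ⟨0, 0⟩, ⟨1, 0⟩; ⟨0, 0⟩, ⟨0, 0⟩, ⟨0, 0⟩, ⟨1, 0⟩, ⟨-1, 0⟩, ⟨1, 0⟩, ⟨0, 0⟩; ⟨0, 0⟩, ⟨0, 0⟩, ⟨1, 0⟩, ⟨2, 0⟩, ⟨-1, 0⟩, ⟨0, 0⟩, ⟨0, 0⟩],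
  !![⟨-3, 0⟩, ⟨2, 0⟩, ⟨2, 0⟩, ⟨2, 0⟩, ⟨-2, 0⟩, ⟨0, 0⟩, ⟨2, 0⟩; ⟨-2, 0⟩, ⟨1, 0⟩, ⟨1, 0⟩, ⟨1, 0⟩, ⟨-1, 0⟩, ⟨0, 0⟩, ⟨2, 0⟩; ⟨-1, 0⟩, ⟨1, 0⟩, ⟨0, 0⟩, ⟨1, 0⟩, ⟨-1, 0⟩, ⟨1, 0⟩, ⟨0, 0⟩; ⟨-1, 0⟩, ⟨1, 0⟩, ⟨1, 0⟩, ⟨1, 0⟩, ⟨-1, 0⟩, ⟨-1, 0⟩, ⟨1, 0⟩; ⟨-1, 0⟩, ⟨1, 0⟩, ⟨1, 0⟩, ⟨2, 0⟩, ⟨-2, 0⟩, ⟨0, 0⟩, ⟨1, 0⟩; ⟨0, 0⟩, ⟨0, 0⟩, ⟨0, 0⟩, ⟨1, 0⟩, ⟨-1, 0⟩, ⟨0, 0⟩, ⟨0, 0⟩; ⟨-2, 0⟩, ⟨1, 0⟩, ⟨2, 0⟩, ⟨2, 0⟩, ⟨-1, 0⟩, ⟨-1, 0⟩, ⟨1, 0⟩],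
  !![⟨-1, 0⟩, ⟨2, 0⟩, ⟨0, 0⟩, ⟨2, 0⟩, ⟨-2, 0⟩, ⟨0, 0⟩, ⟨0, 0⟩; ⟨0, 0⟩, ⟨1, 0⟩, ⟨0, 0⟩, ⟨2, 0⟩, ⟨-2, 0⟩, ⟨0, 0⟩, ⟨0, 0⟩; ⟨0, 0⟩, ⟨0, 0⟩, ⟨-1, 0⟩, ⟨0, 0⟩, ⟨0, 0⟩, ⟨0, 0⟩, ⟨0, 0⟩; ⟨-1, 0⟩, ⟨1, 0⟩, ⟨1, 0⟩, ⟨1, 0⟩, ⟨0, 0⟩, ⟨-1, 0⟩, ⟨0, 0⟩; ⟨-1, 0⟩, ⟨1, 0⟩, ⟨1, 0⟩, ⟨2, 0⟩, ⟨-1, 0⟩, ⟨-1, 0⟩, ⟨0, 0⟩; ⟨0, 0⟩, ⟨0, 0⟩, ⟨0, 0⟩, ⟨0, 0⟩, ⟨0, 0⟩, ⟨-1, 0⟩, ⟨0, 0⟩; ⟨-2, 0⟩, ⟨2, 0⟩, ⟨1, 0⟩, ⟨1, 0⟩, ⟨-1, 0⟩, ⟨-1, 0⟩, ⟨1, 0⟩],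
  !![⟨-1, 0⟩, ⟨0, 0⟩, ⟨0, 0⟩, ⟨0, 0⟩, ⟨2, 0⟩, ⟨-2, 0⟩, ⟨0, 0⟩; ⟨-1, 0⟩, ⟨0, 0⟩, ⟨1, 0⟩, ⟨1, 0⟩, ⟨1, 0⟩, ⟨-2, 0⟩, ⟨0, 0⟩; ⟨1, 0⟩, ⟨-1, 0⟩, ⟨-1, 0⟩, ⟨-1, 0⟩, ⟨1, 0⟩, ⟨-1, 0⟩, ⟨0, 0⟩; ⟨-2, 0⟩, ⟨1, 0⟩, ⟨1, 0⟩, ⟨0, 0⟩, ⟨1, 0⟩, ⟨-1, 0⟩, ⟨1, 0⟩; ⟨-2, 0⟩, ⟨1, 0⟩, ⟨1, 0⟩, ⟨0, 0⟩, ⟨1, 0⟩, ⟨-2, 0⟩, ⟨1, 0⟩; ⟨0, 0⟩, ⟨0, 0⟩, ⟨0, 0⟩, ⟨-1, 0⟩, ⟨1, 0⟩, ⟨-1, 0⟩, ⟨0, 0⟩; ⟨-1, 0⟩, ⟨1, 0⟩, ⟨0, 0⟩, ⟨0, 0⟩, ⟨1, 0⟩, ⟨-1, 0⟩, ⟨0, 0⟩],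
  !![⟨-1, 0⟩, ⟨0, 0⟩, ⟨0, 0⟩, ⟨-2, 0⟩, ⟨2, 0⟩, ⟨-2, 0⟩, ⟨2, 0⟩; ⟨-2, 0⟩, ⟨1, 0⟩, ⟨1, 0⟩, ⟨-1, 0⟩, ⟨1, 0⟩, ⟨-2, 0⟩, ⟨2, 0⟩; ⟨1, 0⟩, ⟨-1, 0⟩, ⟨0, 0⟩, ⟨-1, 0⟩, ⟨1, 0⟩, ⟨-1, 0⟩, ⟨0, 0⟩; ⟨-1, 0⟩, ⟨1, 0⟩, ⟨0, 0⟩, ⟨0, 0⟩, ⟨0, 0⟩, ⟨0, 0⟩, ⟨1, 0⟩; ⟨-1, 0⟩, ⟨1, 0⟩, ⟨0, 0⟩, ⟨-1, 0⟩, ⟨1, 0⟩, ⟨-1, 0⟩, ⟨1, 0⟩; ⟨0, 0⟩, ⟨0, 0⟩, ⟨0, 0⟩, ⟨-1, 0⟩, ⟨1, 0⟩, ⟨0, 0⟩, ⟨0, 0⟩; ⟨-1, 0⟩, ⟨0, 0⟩, ⟨0, 0⟩, ⟨-1, 0⟩, ⟨2, 0⟩, ⟨-1, 0⟩, ⟨1, 0⟩],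
  !![⟨1, 0⟩, ⟨0, 0⟩, ⟨0, 0⟩, ⟨0, 0⟩, ⟨0, 0⟩, ⟨0, 0⟩, ⟨0, 0⟩; ⟨0, 0⟩, ⟨1, 0⟩, ⟨0, 0⟩, ⟨0, 0⟩, ⟨0, 0⟩, ⟨0, 0⟩, ⟨0, 0⟩; ⟨0, 0⟩, ⟨0, 0⟩, ⟨1, 0⟩, ⟨0, 0⟩, ⟨0, 0⟩, ⟨0, 0⟩, ⟨0, 0⟩; ⟨0, 0⟩, ⟨0, 0⟩, ⟨0, 0⟩, ⟨1, 0⟩, ⟨0, 0⟩, ⟨0, 0⟩, ⟨0, 0⟩; ⟨0, 0⟩, ⟨0, 0⟩, ⟨0, 0⟩, ⟨0, 0⟩, ⟨1, 0⟩, ⟨0, 0⟩, ⟨0, 0⟩; ⟨0, 0⟩, ⟨0, 0⟩, ⟨0, 0⟩, ⟨0, 0⟩, ⟨0, 0⟩, ⟨1, 0⟩, ⟨0, 0⟩; ⟨0, 0⟩, ⟨0, 0⟩, ⟨0, 0⟩, ⟨0, 0⟩, ⟨0, 0⟩, ⟨0, 0⟩, ⟨1, 0⟩]],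
  [!![⟨1, 0⟩, ⟨0, 0⟩, ⟨0, 0⟩, ⟨0, 0⟩, ⟨0, 0⟩, ⟨0, 0⟩, ⟨0, 0⟩; ⟨0, 0⟩, ⟨1, 0⟩, ⟨0, 0⟩, ⟨0, 0⟩, ⟨0, 0⟩, ⟨0, 0⟩, ⟨0, 0⟩; ⟨0, 0⟩, ⟨0, 0⟩, ⟨1, 0⟩, ⟨0, 0⟩, ⟨0, 0⟩, ⟨0, 0⟩, ⟨0, 0⟩; ⟨0, 0⟩, ⟨0, 0⟩, ⟨0, 0⟩, ⟨1, 0⟩, ⟨0, 0⟩, ⟨0, 0⟩, ⟨0, 0⟩; ⟨0, 0⟩, ⟨0, 0⟩, ⟨0, 0⟩, ⟨0, 0⟩, ⟨1, 0⟩, ⟨0, 0⟩, ⟨0, 0⟩; ⟨0, 0⟩, ⟨0, 0⟩, ⟨0, 0⟩, ⟨0, 0⟩, ⟨0, 0⟩, ⟨1, 0⟩, ⟨0, 0⟩; ⟨0, 0⟩, ⟨0, 0⟩, ⟨0, 0⟩, ⟨0, 0⟩, ⟨0, 0⟩, ⟨0, 0⟩, ⟨1, 0⟩],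
  !![⟨-1, 0⟩, ⟨0, 0⟩, ⟨2, 0⟩, ⟨0, 0⟩, ⟨0, 0⟩, ⟨0, 0⟩, ⟨0, 0⟩; ⟨-2, 0⟩, ⟨0, 0⟩, ⟨2, 0⟩, ⟨0, 0⟩, ⟨1, 0⟩, ⟨-1, 0⟩, ⟨1, 0⟩; ⟨0, 0⟩, ⟨0, 0⟩, ⟨1, 0⟩, ⟨0, 0⟩, ⟨0, 0⟩, ⟨0, 0⟩, ⟨0, 0⟩; ⟨0, 0⟩, ⟨0, 0⟩, ⟨0, 0⟩, ⟨-1, 0⟩, ⟨0, 0⟩, ⟨0, 0⟩, ⟨0, 0⟩; ⟨-2, 0⟩, ⟨1, 0⟩, ⟨2, 0⟩, ⟨0, 0⟩, ⟨0, 0⟩, ⟨-1, 0⟩, ⟨1, 0⟩; ⟨-1, 0⟩, ⟨1, 0⟩, ⟨1, 0⟩, ⟨0, 0⟩, ⟨-1, 0⟩, ⟨0, 0⟩, ⟨1, 0⟩; ⟨-1, 0⟩, ⟨1, 0⟩, ⟨1, 0⟩, ⟨0, 0⟩, ⟨-1, 0⟩, ⟨1, 0⟩, ⟨0, 0⟩],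
  !![⟨3, 0⟩, ⟨-2, 0⟩, ⟨0, 0⟩, ⟨0, 0⟩, ⟨0, 0⟩, ⟨0, 0⟩, ⟨-2, 0⟩; ⟨2, 0⟩, ⟨-1, 0⟩, ⟨0, 0⟩, ⟨1, 0⟩, ⟨0, 0⟩, ⟨0, 0⟩, ⟨-2, 0⟩; ⟨1, 0⟩, ⟨-1, 0⟩, ⟨0, 0⟩, ⟨-1, 0⟩, ⟨1, 0⟩, ⟨-1, 0⟩, ⟨0, 0⟩; ⟨1, 0⟩, ⟨-1, 0⟩, ⟨0, 0⟩, ⟨0, 0⟩, ⟨0, 0⟩, ⟨0, 0⟩, ⟨-1, 0⟩; ⟨1, 0⟩, ⟨-1, 0⟩, ⟨1, 0⟩, ⟨1, 0⟩, ⟨0, 0⟩, ⟨-1, 0⟩, ⟨-1, 0⟩; ⟨0, 0⟩, ⟨-1, 0⟩, ⟨1, 0⟩, ⟨0, 0⟩, ⟨1, 0⟩, ⟨-1, 0⟩, ⟨0, 0⟩; ⟨1, 0⟩, ⟨-1, 0⟩, ⟨1, 0⟩, ⟨0, 0⟩, ⟨0, 0⟩, ⟨0, 0⟩, ⟨-1, 0⟩],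
  !![⟨3, 0⟩, ⟨-2, 0⟩, ⟨-2, 0⟩, ⟨-2, 0⟩, ⟨0, 0⟩, ⟨0, 0⟩, ⟨0, 0⟩; ⟨1, 0⟩, ⟨0, 0⟩, ⟨-1, 0⟩, ⟨-1, 0⟩, ⟨-1, 0⟩, ⟨0, 0⟩, ⟨1, 0⟩; ⟨1, 0⟩, ⟨-1, 0⟩, ⟨-1, 0⟩, ⟨-1, 0⟩, ⟨1, 0⟩, ⟨-1, 0⟩, ⟨0, 0⟩; ⟨2, 0⟩, ⟨-1, 0⟩, ⟨-1, 0⟩, ⟨0, 0⟩, ⟨-1, 0⟩, ⟨1, 0⟩, ⟨-1, 0⟩; ⟨2, 0⟩, ⟨-1, 0⟩, ⟨-1, 0⟩, ⟨0, 0⟩, ⟨-1, 0⟩, ⟨0, 0⟩, ⟨0, 0⟩; ⟨2, 0⟩, ⟨-1, 0⟩, ⟨-1, 0⟩, ⟨0, 0⟩, ⟨0, 0⟩, ⟨0, 0⟩, ⟨-1, 0⟩; ⟨3, 0⟩, ⟨-2, 0⟩, ⟨-1, 0⟩, ⟨-1, 0⟩, ⟨0, 0⟩, ⟨0, 0⟩, ⟨-1, 0⟩],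
  !![⟨1, 0⟩, ⟨0, 0⟩, ⟨0, 0⟩, ⟨2, 0⟩, ⟨-2, 0⟩, ⟨2, 0⟩, ⟨-2, 0⟩; ⟨0, 0⟩, ⟨0, 0⟩, ⟨0, 0⟩, ⟨1, 0⟩, ⟨-1, 0⟩, ⟨2, 0⟩, ⟨-1, 0⟩; ⟨0, 0⟩, ⟨0, 0⟩, ⟨0, 0⟩, ⟨1, 0⟩, ⟨0, 0⟩, ⟨0, 0⟩, ⟨-1, 0⟩; ⟨2, 0⟩, ⟨-1, 0⟩, ⟨-1, 0⟩, ⟨0, 0⟩, ⟨-1, 0⟩, ⟨1, 0⟩, ⟨-1, 0⟩; ⟨2, 0⟩, ⟨-1, 0⟩, ⟨-1, 0⟩, ⟨0, 0⟩, ⟨-1, 0⟩, ⟨2, 0⟩, ⟨-2, 0⟩; ⟨1, 0⟩, ⟨-1, 0⟩, ⟨0, 0⟩, ⟨0, 0⟩, ⟨0, 0⟩, ⟨0, 0⟩, ⟨-1, 0⟩; ⟨2, 0⟩, ⟨-1, 0⟩, ⟨0, 0⟩, ⟨1, 0⟩, ⟨-1, 0⟩, ⟨1, 0⟩, ⟨-2, 0⟩],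
  !![⟨1, 0⟩, ⟨0, 0⟩, ⟨0, 0⟩, ⟨0, 0⟩, ⟨-2, 0⟩, ⟨2, 0⟩, ⟨0, 0⟩; ⟨1, 0⟩, ⟨0, 0⟩, ⟨0, 0⟩, ⟨0, 0⟩, ⟨-1, 0⟩, ⟨2, 0⟩, ⟨-1, 0⟩; ⟨0, 0⟩, ⟨1, 0⟩, ⟨0, 0⟩, ⟨1, 0⟩, ⟨-2, 0⟩, ⟨1, 0⟩, ⟨0, 0⟩; ⟨1, 0⟩, ⟨-1, 0⟩, ⟨-1, 0⟩, ⟨-1, 0⟩, ⟨0, 0⟩, ⟨1, 0⟩, ⟨0, 0⟩; ⟨2, 0⟩, ⟨-1, 0⟩, ⟨-1, 0⟩, ⟨-1, 0⟩, ⟨-1, 0⟩, ⟨2, 0⟩, ⟨-1, 0⟩; ⟨2, 0⟩, ⟨-1, 0⟩, ⟨-1, 0⟩, ⟨0, 0⟩, ⟨-1, 0⟩, ⟨1, 0⟩, ⟨-1, 0⟩; ⟨2, 0⟩, ⟨-1, 0⟩, ⟨-1, 0⟩, ⟨-1, 0⟩, ⟨-1, 0⟩, ⟨1, 0⟩, ⟨0, 0⟩],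
  !![⟨1, 0⟩, ⟨-2, 0⟩, ⟨0, 0⟩, ⟨-2, 0⟩, ⟨2, 0⟩, ⟨0, 0⟩, ⟨0, 0⟩; ⟨1, 0⟩, ⟨-1, 0⟩, ⟨0, 0⟩, ⟨-2, 0⟩, ⟨1, 0⟩, ⟨0, 0⟩, ⟨0, 0⟩; ⟨-1, 0⟩, ⟨0, 0⟩, ⟨1, 0⟩, ⟨0, 0⟩, ⟨0, 0⟩, ⟨0, 0⟩, ⟨1, 0⟩; ⟨1, 0⟩, ⟨-1, 0⟩, ⟨-1, 0⟩, ⟨-1, 0⟩, ⟨1, 0⟩, ⟨1, 0⟩, ⟨-1, 0⟩; ⟨2, 0⟩, ⟨-2, 0⟩, ⟨-1, 0⟩, ⟨-2, 0⟩, ⟨1, 0⟩, ⟨1, 0⟩, ⟨-1, 0⟩; ⟨1, 0⟩, ⟨-1, 0⟩, ⟨-1, 0⟩, ⟨-1, 0⟩, ⟨0, 0⟩, ⟨1, 0⟩, ⟨0, 0⟩; ⟨1, 0⟩, ⟨-2, 0⟩, ⟨-1, 0⟩, ⟨-2, 0⟩, ⟨2, 0⟩, ⟨0, 0⟩, ⟨0, 0⟩],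
  !![⟨-1, 0⟩, ⟨2, 0⟩, ⟨2, 0⟩, ⟨2, 0⟩, ⟨-2, 0⟩, ⟨0, 0⟩, ⟨0, 0⟩; ⟨-1, 0⟩, ⟨1, 0⟩, ⟨2, 0⟩, ⟨2, 0⟩, ⟨-1, 0⟩, ⟨0, 0⟩, ⟨0, 0⟩; ⟨0, 0⟩, ⟨1, 0⟩, ⟨0, 0⟩, ⟨0, 0⟩, ⟨-1, 0⟩, ⟨1, 0⟩, ⟨0, 0⟩; ⟨-1, 0⟩, ⟨1, 0⟩, ⟨1, 0⟩, ⟨1, 0⟩, ⟨-1, 0⟩, ⟨-1, 0⟩, ⟨1, 0⟩; ⟨0, 0⟩, ⟨1, 0⟩, ⟨1, 0⟩, ⟨2, 0⟩, ⟨-2, 0⟩, ⟨0, 0⟩, ⟨0, 0⟩; ⟨0, 0⟩, ⟨1, 0⟩, ⟨0, 0⟩, ⟨1, 0⟩, ⟨-2, 0⟩, ⟨1, 0⟩, ⟨0, 0⟩; ⟨-1, 0⟩, ⟨2, 0⟩, ⟨1, 0⟩, ⟨2, 0⟩, ⟨-2, 0⟩, ⟨0, 0⟩, ⟨0, 0⟩],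
  !![⟨-1, 0⟩, ⟨0, 0⟩, ⟨2, 0⟩, ⟨0, 0⟩, ⟨0, 0⟩, ⟨-2, 0⟩, ⟨2, 0⟩; ⟨0, 0⟩, ⟨0, 0⟩, ⟨1, 0⟩, ⟨0, 0⟩, ⟨0, 0⟩, ⟨-1, 0⟩, ⟨1, 0⟩; ⟨-1, 0⟩, ⟨0, 0⟩, ⟨1, 0⟩, ⟨-1, 0⟩, ⟨1, 0⟩, ⟨-1, 0⟩, ⟨1, 0⟩; ⟨-1, 0⟩, ⟨0, 0⟩, ⟨1, 0⟩, ⟨1, 0⟩, ⟨0, 0⟩, ⟨-1, 0⟩, ⟨1, 0⟩; ⟨-1, 0⟩, ⟨0, 0⟩, ⟨1, 0⟩, ⟨0, 0⟩, ⟨0, 0⟩, ⟨-1, 0⟩, ⟨2, 0⟩; ⟨-1, 0⟩, ⟨0, 0⟩, ⟨1, 0⟩, ⟨0, 0⟩, ⟨0, 0⟩, ⟨0, 0⟩, ⟨1, 0⟩; ⟨-2, 0⟩, ⟨1, 0⟩, ⟨2, 0⟩, ⟨1, 0⟩, ⟨-1, 0⟩, ⟨-1, 0⟩, ⟨2, 0⟩],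
  !![⟨1, 0⟩, ⟨-2, 0⟩, ⟨0, 0⟩, ⟨0, 0⟩, ⟨2, 0⟩, ⟨-2, 0⟩, ⟨0, 0⟩; ⟨0, 0⟩, ⟨-1, 0⟩, ⟨0, 0⟩, ⟨-1, 0⟩, ⟨2, 0⟩, ⟨-2, 0⟩, ⟨1, 0⟩; ⟨1, 0⟩, ⟨-1, 0⟩, ⟨0, 0⟩, ⟨0, 0⟩, ⟨1, 0⟩, ⟨-1, 0⟩, ⟨-1, 0⟩; ⟨0, 0⟩, ⟨0, 0⟩, ⟨0, 0⟩, ⟨1, 0⟩, ⟨0, 0⟩, ⟨0, 0⟩, ⟨0, 0⟩; ⟨0, 0⟩, ⟨-1, 0⟩, ⟨0, 0⟩, ⟨0, 0⟩, ⟨2, 0⟩, ⟨-1, 0⟩, ⟨0, 0⟩; ⟨1, 0⟩, ⟨-1, 0⟩, ⟨0, 0⟩, ⟨0, 0⟩, ⟨1, 0⟩, ⟨0, 0⟩, ⟨-1, 0⟩; ⟨0, 0⟩, ⟨-1, 0⟩, ⟨1, 0⟩, ⟨1, 0⟩, ⟨1, 0⟩, ⟨-1, 0⟩, ⟨0, 0⟩],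
  !![⟨1, 0⟩, ⟨0, 0⟩, ⟨0, 0⟩, ⟨0, 0⟩, ⟨0, 0⟩, ⟨0, 0⟩, ⟨-2, 0⟩; ⟨-1, 0⟩, ⟨1, 0⟩, ⟨1, 0⟩, ⟨1, 0⟩, ⟨0, 0⟩, ⟨0, 0⟩, ⟨-1, 0⟩; ⟨1, 0⟩, ⟨-1, 0⟩, ⟨0, 0⟩, ⟨0, 0⟩, ⟨1, 0⟩, ⟨-1, 0⟩, ⟨-1, 0⟩; ⟨0, 0⟩, ⟨0, 0⟩, ⟨0, 0⟩, ⟨-1, 0⟩, ⟨0, 0⟩, ⟨0, 0⟩, ⟨0, 0⟩; ⟨-1, 0⟩, ⟨1, 0⟩, ⟨1, 0⟩, ⟨0, 0⟩, ⟨0, 0⟩, ⟨-1, 0⟩, ⟨0, 0⟩; ⟨0, 0⟩, ⟨0, 0⟩, ⟨1, 0⟩, ⟨0, 0⟩, ⟨0, 0⟩, ⟨-1, 0⟩, ⟨0, 0⟩; ⟨1, 0⟩, ⟨0, 0⟩, ⟨0, 0⟩, ⟨-1, 0⟩, ⟨0, 0⟩, ⟨0, 0⟩, ⟨-1, 0⟩],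
  !![⟨-1, 0⟩, ⟨0, 0⟩, ⟨0, 0⟩, ⟨-2, 0⟩, ⟨2, 0⟩, ⟨0, 0⟩, ⟨0, 0⟩; ⟨-2, 0⟩, ⟨1, 0⟩, ⟨0, 0⟩, ⟨-1, 0⟩, ⟨1, 0⟩, ⟨0, 0⟩, ⟨1, 0⟩; ⟨-1, 0⟩, ⟨0, 0⟩, ⟨1, 0⟩, ⟨-1, 0⟩, ⟨1, 0⟩, ⟨-1, 0⟩, ⟨1, 0⟩; ⟨1, 0⟩, ⟨0, 0⟩, ⟨-1, 0⟩, ⟨-1, 0⟩, ⟨0, 0⟩, ⟨1, 0⟩, ⟨-1, 0⟩; ⟨-1, 0⟩, ⟨1, 0⟩, ⟨0, 0⟩, ⟨-1, 0⟩, ⟨1, 0⟩, ⟨0, 0⟩, ⟨0, 0⟩; ⟨-1, 0⟩, ⟨1, 0⟩, ⟨1, 0⟩, ⟨0, 0⟩, ⟨0, 0⟩, ⟨0, 0⟩, ⟨0, 0⟩; ⟨0, 0⟩, ⟨0, 0⟩, ⟨0, 0⟩, ⟨-1, 0⟩, ⟨1, 0⟩, ⟨1, 0⟩, ⟨-1, 0⟩],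
  !![⟨1, 0⟩, ⟨0, 0⟩, ⟨-2, 0⟩, ⟨-2, 0⟩, ⟨0, 0⟩, ⟨2, 0⟩, ⟨0, 0⟩; ⟨1, 0⟩, ⟨0, 0⟩, ⟨-2, 0⟩, ⟨-1, 0⟩, ⟨0, 0⟩, ⟨1, 0⟩, ⟨0, 0⟩; ⟨0, 0⟩, ⟨1, 0⟩, ⟨0, 0⟩, ⟨0, 0⟩, ⟨-1, 0⟩, ⟨1, 0⟩, ⟨0, 0⟩; ⟨1, 0⟩, ⟨-1, 0⟩, ⟨-1, 0⟩, ⟨-1, 0⟩, ⟨1, 0⟩, ⟨1, 0⟩, ⟨-1, 0⟩; ⟨0, 0⟩, ⟨0, 0⟩, ⟨-1, 0⟩, ⟨-1, 0⟩, ⟨1, 0⟩, ⟨1, 0⟩, ⟨0, 0⟩; ⟨-1, 0⟩, ⟨1, 0⟩, ⟨0, 0⟩, ⟨0, 0⟩, ⟨0, 0⟩, ⟨1, 0⟩, ⟨0, 0⟩; ⟨0, 0⟩, ⟨0, 0⟩, ⟨-1, 0⟩, ⟨-1, 0⟩, ⟨0, 0⟩, ⟨2, 0⟩, ⟨0, 0⟩],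
  !![⟨-3, 0⟩, ⟨2, 0⟩, ⟨2, 0⟩, ⟨2, 0⟩, ⟨-2, 0⟩, ⟨0, 0⟩, ⟨2, 0⟩; ⟨-2, 0⟩, ⟨1, 0⟩, ⟨1, 0⟩, ⟨1, 0⟩, ⟨-1, 0⟩, ⟨0, 0⟩, ⟨1, 0⟩; ⟨-1, 0⟩, ⟨0, 0⟩, ⟨1, 0⟩, ⟨0, 0⟩, ⟨0, 0⟩, ⟨0, 0⟩, ⟨1, 0⟩; ⟨-1, 0⟩, ⟨1, 0⟩, ⟨1, 0⟩, ⟨1, 0⟩, ⟨-1, 0⟩, ⟨-1, 0⟩, ⟨1, 0⟩; ⟨-3, 0⟩, ⟨2, 0⟩, ⟨2, 0⟩, ⟨1, 0⟩, ⟨-1, 0⟩, ⟨-1, 0⟩, ⟨2, 0⟩; ⟨-2, 0⟩, ⟨1, 0⟩, ⟨1, 0⟩, ⟨0, 0⟩, ⟨0, 0⟩, ⟨-1, 0⟩, ⟨2, 0⟩; ⟨-2, 0⟩, ⟨2, 0⟩, ⟨1, 0⟩, ⟨1, 0⟩, ⟨-2, 0⟩, ⟨0, 0⟩, ⟨2, 0⟩],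
  !![⟨-1, 0⟩, ⟨2, 0⟩, ⟨0, 0⟩, ⟨2, 0⟩, ⟨-2, 0⟩, ⟨0, 0⟩, ⟨0, 0⟩; ⟨0, 0⟩, ⟨1, 0⟩, ⟨-1, 0⟩, ⟨0, 0⟩, ⟨-1, 0⟩, ⟨0, 0⟩, ⟨0, 0⟩; ⟨0, 0⟩, ⟨1, 0⟩, ⟨0, 0⟩, ⟨1, 0⟩, ⟨-2, 0⟩, ⟨1, 0⟩, ⟨0, 0⟩; ⟨-1, 0⟩, ⟨1, 0⟩, ⟨1, 0⟩, ⟨1, 0⟩, ⟨0, 0⟩, ⟨-1, 0⟩, ⟨0, 0⟩; ⟨-1, 0⟩, ⟨2, 0⟩, ⟨0, 0⟩, ⟨1, 0⟩, ⟨-1, 0⟩, ⟨0, 0⟩, ⟨0, 0⟩; ⟨0, 0⟩, ⟨1, 0⟩, ⟨0, 0⟩, ⟨1, 0⟩, ⟨-1, 0⟩, ⟨0, 0⟩, ⟨0, 0⟩; ⟨0, 0⟩, ⟨1, 0⟩, ⟨0, 0⟩, ⟨2, 0⟩, ⟨-1, 0⟩, ⟨0, 0⟩, ⟨-1, 0⟩],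
  !![⟨-1, 0⟩, ⟨0, 0⟩, ⟨0, 0⟩, ⟨0, 0⟩, ⟨2, 0⟩, ⟨-2, 0⟩, ⟨0, 0⟩; ⟨1, 0⟩, ⟨-1, 0⟩, ⟨-1, 0⟩, ⟨-1, 0⟩, ⟨2, 0⟩, ⟨-1, 0⟩, ⟨-1, 0⟩; ⟨0, 0⟩, ⟨0, 0⟩, ⟨0, 0⟩, ⟨1, 0⟩, ⟨0, 0⟩, ⟨0, 0⟩, ⟨-1, 0⟩; ⟨-2, 0⟩, ⟨1, 0⟩, ⟨1, 0⟩, ⟨0, 0⟩, ⟨1, 0⟩, ⟨-1, 0⟩, ⟨1, 0⟩; ⟨-1, 0⟩, ⟨0, 0⟩, ⟨0, 0⟩, ⟨0, 0⟩, ⟨2, 0⟩, ⟨-1, 0⟩, ⟨0, 0⟩; ⟨-1, 0⟩, ⟨0, 0⟩, ⟨1, 0⟩, ⟨1, 0⟩, ⟨1, 0⟩, ⟨-1, 0⟩, ⟨0, 0⟩; ⟨-2, 0⟩, ⟨0, 0⟩, ⟨1, 0⟩, ⟨0, 0⟩, ⟨2, 0⟩, ⟨-2, 0⟩, ⟨1, 0⟩],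
  !![⟨-1, 0⟩, ⟨0, 0⟩, ⟨0, 0⟩, ⟨0, 0⟩, ⟨2, 0⟩, ⟨-2, 0⟩, ⟨0, 0⟩; ⟨-1, 0⟩, ⟨0, 0⟩, ⟨1, 0⟩, ⟨1, 0⟩, ⟨1, 0⟩, ⟨-2, 0⟩, ⟨0, 0⟩; ⟨1, 0⟩, ⟨-1, 0⟩, ⟨-1, 0⟩, ⟨-1, 0⟩, ⟨1, 0⟩, ⟨-1, 0⟩, ⟨0, 0⟩; ⟨-2, 0⟩, ⟨1, 0⟩, ⟨1, 0⟩, ⟨0, 0⟩, ⟨1, 0⟩, ⟨-1, 0⟩, ⟨1, 0⟩; ⟨-2, 0⟩, ⟨1, 0⟩, ⟨1, 0⟩, ⟨0, 0⟩, ⟨1, 0⟩, ⟨-2, 0⟩, ⟨1, 0⟩; ⟨0, 0⟩, ⟨0, 0⟩, ⟨0, 0⟩, ⟨-1, 0⟩, ⟨1, 0⟩, ⟨-1, 0⟩, ⟨0, 0⟩; ⟨-1, 0⟩, ⟨1, 0⟩, ⟨0, 0⟩, ⟨0, 0⟩, ⟨1, 0⟩, ⟨-1, 0⟩, ⟨0, 0⟩],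
  !![⟨-1, 0⟩, ⟨0, 0⟩, ⟨0, 0⟩, ⟨-2, 0⟩, ⟨2, 0⟩, ⟨-2, 0⟩, ⟨2, 0⟩; ⟨-2, 0⟩, ⟨1, 0⟩, ⟨1, 0⟩, ⟨-1, 0⟩, ⟨1, 0⟩, ⟨-2, 0⟩, ⟨2, 0⟩; ⟨1, 0⟩, ⟨-1, 0⟩, ⟨0, 0⟩, ⟨-1, 0⟩, ⟨1, 0⟩, ⟨-1, 0⟩, ⟨0, 0⟩; ⟨-1, 0⟩, ⟨1, 0⟩, ⟨0, 0⟩, ⟨0, 0⟩, ⟨0, 0⟩, ⟨0, 0⟩, ⟨1, 0⟩; ⟨-1, 0⟩, ⟨1, 0⟩, ⟨0, 0⟩, ⟨-1, 0⟩, ⟨1, 0⟩, ⟨-1, 0⟩, ⟨1, 0⟩; ⟨0, 0⟩, ⟨0, 0⟩, ⟨0, 0⟩, ⟨-1, 0⟩, ⟨1, 0⟩, ⟨0, 0⟩, ⟨0, 0⟩; ⟨-1, 0⟩, ⟨0, 0⟩, ⟨0, 0⟩, ⟨-1, 0⟩, ⟨2, 0⟩, ⟨-1, 0⟩, ⟨1, 0⟩],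
  !![⟨1, 0⟩, ⟨0, 0⟩, ⟨0, 0⟩, ⟨0, 0⟩, ⟨0, 0⟩, ⟨0, 0⟩, ⟨0, 0⟩; ⟨0, 0⟩, ⟨1, 0⟩, ⟨0, 0⟩, ⟨0, 0⟩, ⟨0, 0⟩, ⟨0, 0⟩, ⟨0, 0⟩; ⟨0, 0⟩, ⟨0, 0⟩, ⟨1, 0⟩, ⟨0, 0⟩, ⟨0, 0⟩, ⟨0, 0⟩, ⟨0, 0⟩; ⟨0, 0⟩, ⟨0, 0⟩, ⟨0, 0⟩, ⟨1, 0⟩, ⟨0, 0⟩, ⟨0, 0⟩, ⟨0, 0⟩; ⟨0, 0⟩, ⟨0, 0⟩, ⟨0, 0⟩, ⟨0, 0⟩, ⟨1, 0⟩, ⟨0, 0⟩, ⟨0, 0⟩; ⟨0, 0⟩, ⟨0, 0⟩, ⟨0, 0⟩, ⟨0, 0⟩, ⟨0, 0⟩, ⟨1, 0⟩, ⟨0, 0⟩; ⟨0, 0⟩, ⟨0, 0⟩, ⟨0, 0⟩, ⟨0, 0⟩, ⟨0, 0⟩, ⟨0, 0⟩, ⟨1, 0⟩]]]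

def qC7 : List (List (GM 7)) := [
  [!![⟨1, 0⟩, ⟨0, 0⟩, ⟨0, 0⟩, ⟨0, 0⟩, ⟨0, 0⟩, ⟨0, 0⟩, ⟨0, 0⟩; ⟨0, 0⟩, ⟨1, 0⟩, ⟨0, 0⟩, ⟨0, 0⟩, ⟨0, 0⟩, ⟨0, 0⟩, ⟨0, 0⟩; ⟨0, 0⟩, ⟨0, 0⟩, ⟨1, 0⟩, ⟨0, 0⟩, ⟨0, 0⟩, ⟨0, 0⟩, ⟨0, 0⟩; ⟨0, 0⟩, ⟨0, 0⟩, ⟨0, 0⟩, ⟨1, 0⟩, ⟨0, 0⟩, ⟨0, 0⟩, ⟨0, 0⟩; ⟨0, 0⟩, ⟨0, 0⟩, ⟨0, 0⟩, ⟨0, 0⟩, ⟨1, 0⟩, ⟨0, 0⟩, ⟨0, 0⟩; ⟨0, 0⟩, ⟨0, 0⟩, ⟨0, 0⟩, ⟨0, 0⟩, ⟨0, 0⟩, ⟨1, 0⟩, ⟨0, 0⟩; ⟨0, 0⟩, ⟨0, 0⟩, ⟨0, 0⟩, ⟨0, 0⟩, ⟨0, 0⟩, ⟨0, 0⟩, ⟨1, 0⟩]],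
  [!![⟨1, 0⟩, ⟨0, 0⟩, ⟨0, 0⟩, ⟨0, 0⟩, ⟨0, 0⟩, ⟨0, 0⟩, ⟨0, 0⟩; ⟨0, 0⟩, ⟨1, 0⟩, ⟨0, 0⟩, ⟨0, 0⟩, ⟨0, 0⟩, ⟨0, 0⟩, ⟨0, 0⟩; ⟨0, 0⟩, ⟨0, 0⟩, ⟨1, 0⟩, ⟨0, 0⟩, ⟨0, 0⟩, ⟨0, 0⟩, ⟨0, 0⟩; ⟨0, 0⟩, ⟨0, 0⟩, ⟨0, 0⟩, ⟨1, 0⟩, ⟨0, 0⟩, ⟨0, 0⟩, ⟨0, 0⟩; ⟨0, 0⟩, ⟨0, 0⟩, ⟨0, 0⟩, ⟨0, 0⟩, ⟨1, 0⟩, ⟨0, 0⟩, ⟨0, 0⟩; ⟨0, 0⟩, ⟨0, 0⟩, ⟨0, 0⟩, ⟨0, 0⟩, ⟨0, 0⟩, ⟨1, 0⟩, ⟨0, 0⟩; ⟨0, 0⟩, ⟨0, 0⟩, ⟨0, 0⟩, ⟨0, 0⟩, ⟨0, 0⟩, ⟨0, 0⟩, ⟨1, 0⟩],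
  !![⟨-1, 0⟩, ⟨0, 0⟩, ⟨2, 0⟩, ⟨0, 0⟩, ⟨0, 0⟩, ⟨0, 0⟩, ⟨0, 0⟩; ⟨-2, 0⟩, ⟨0, 0⟩, ⟨2, 0⟩, ⟨0, 0⟩, ⟨1, 0⟩, ⟨-1, 0⟩, ⟨1, 0⟩; ⟨0, 0⟩, ⟨0, 0⟩, ⟨1, 0⟩, ⟨0, 0⟩, ⟨0, 0⟩, ⟨0, 0⟩, ⟨0, 0⟩; ⟨0, 0⟩, ⟨0, 0⟩, ⟨0, 0⟩, ⟨-1, 0⟩, ⟨0, 0⟩, ⟨0, 0⟩, ⟨0, 0⟩; ⟨-2, 0⟩, ⟨1, 0⟩, ⟨2, 0⟩, ⟨0, 0⟩, ⟨0, 0⟩, ⟨-1, 0⟩, ⟨1, 0⟩; ⟨-1, 0⟩, ⟨1, 0⟩, ⟨1, 0⟩, ⟨0, 0⟩, ⟨-1, 0⟩, ⟨0, 0⟩, ⟨1, 0⟩; ⟨-1, 0⟩, ⟨1, 0⟩, ⟨1, 0⟩, ⟨0, 0⟩, ⟨-1, 0⟩, ⟨1, 0⟩, ⟨0, 0⟩]],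
  [!![⟨1, 0⟩, ⟨0, 0⟩, ⟨0, 0⟩, ⟨0, 0⟩, ⟨0, 0⟩, ⟨0, 0⟩, ⟨0, 0⟩; ⟨0, 0⟩, ⟨1, 0⟩, ⟨0, 0⟩, ⟨0, 0⟩, ⟨0, 0⟩, ⟨0, 0⟩, ⟨0, 0⟩; ⟨0, 0⟩, ⟨0, 0⟩, ⟨1, 0⟩, ⟨0, 0⟩, ⟨0, 0⟩, ⟨0, 0⟩, ⟨0, 0⟩; ⟨0, 0⟩, ⟨0, 0⟩, ⟨0, 0⟩, ⟨1, 0⟩, ⟨0, 0⟩, ⟨0, 0⟩, ⟨0, 0⟩; ⟨0, 0⟩, ⟨0, 0⟩, ⟨0, 0⟩, ⟨0, 0⟩, ⟨1, 0⟩, ⟨0, 0⟩, ⟨0, 0⟩; ⟨0, 0⟩, ⟨0, 0⟩, ⟨0, 0⟩, ⟨0, 0⟩, ⟨0, 0⟩, ⟨1, 0⟩, ⟨0, 0⟩; ⟨0, 0⟩, ⟨0, 0⟩, ⟨0, 0⟩, ⟨0, 0⟩, ⟨0, 0⟩, ⟨0, 0⟩, ⟨1, 0⟩],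
  !![⟨-1, 0⟩, ⟨0, 0⟩, ⟨0, 0⟩, ⟨-2, 0⟩, ⟨2, 0⟩, ⟨-2, 0⟩, ⟨2, 0⟩; ⟨-2, 0⟩, ⟨1, 0⟩, ⟨1, 0⟩, ⟨-1, 0⟩, ⟨1, 0⟩, ⟨-2, 0⟩, ⟨2, 0⟩; ⟨1, 0⟩, ⟨-1, 0⟩, ⟨0, 0⟩, ⟨-1, 0⟩, ⟨1, 0⟩, ⟨-1, 0⟩, ⟨0, 0⟩; ⟨-1, 0⟩, ⟨1, 0⟩, ⟨0, 0⟩, ⟨0, 0⟩, ⟨0, 0⟩, ⟨0, 0⟩, ⟨1, 0⟩; ⟨-1, 0⟩, ⟨1, 0⟩, ⟨0, 0⟩, ⟨-1, 0⟩, ⟨1, 0⟩, ⟨-1, 0⟩, ⟨1, 0⟩; ⟨0, 0⟩, ⟨0, 0⟩, ⟨0, 0⟩, ⟨-1, 0⟩, ⟨1, 0⟩, ⟨0, 0⟩, ⟨0, 0⟩; ⟨-1, 0⟩, ⟨0, 0⟩, ⟨0, 0⟩, ⟨-1, 0⟩, ⟨2, 0⟩, ⟨-1, 0⟩, ⟨1, 0⟩]],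
  [!![⟨1, 0⟩, ⟨0, 0⟩, ⟨0, 0⟩, ⟨0, 0⟩, ⟨0, 0⟩, ⟨0, 0⟩, ⟨0, 0⟩; ⟨0, 0⟩, ⟨1, 0⟩, ⟨0, 0⟩, ⟨0, 0⟩, ⟨0, 0⟩, ⟨0, 0⟩, ⟨0, 0⟩; ⟨0, 0⟩, ⟨0, 0⟩, ⟨1, 0⟩, ⟨0, 0⟩, ⟨0, 0⟩, ⟨0, 0⟩, ⟨0, 0⟩; ⟨0, 0⟩, ⟨0, 0⟩, ⟨0, 0⟩, ⟨1, 0⟩, ⟨0, 0⟩, ⟨0, 0⟩, ⟨0, 0⟩; ⟨0, 0⟩, ⟨0, 0⟩, ⟨0, 0⟩, ⟨0, 0⟩, ⟨1, 0⟩, ⟨0, 0⟩, ⟨0, 0⟩; ⟨0, 0⟩, ⟨0, 0⟩, ⟨0, 0⟩, ⟨0, 0⟩, ⟨0, 0⟩, ⟨1, 0⟩, ⟨0, 0⟩; ⟨0, 0⟩, ⟨0, 0⟩, ⟨0, 0⟩, ⟨0, 0⟩, ⟨0, 0⟩, ⟨0, 0⟩, ⟨1, 0⟩],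
  !![⟨-1, 0⟩, ⟨0, 0⟩, ⟨2, 0⟩, ⟨0, 0⟩, ⟨0, 0⟩, ⟨0, 0⟩, ⟨0, 0⟩; ⟨-2, 0⟩, ⟨0, 0⟩, ⟨2, 0⟩, ⟨0, 0⟩, ⟨1, 0⟩, ⟨-1, 0⟩, ⟨1, 0⟩; ⟨0, 0⟩, ⟨0, 0⟩, ⟨1, 0⟩, ⟨0, 0⟩, ⟨0, 0⟩, ⟨0, 0⟩, ⟨0, 0⟩; ⟨0, 0⟩, ⟨0, 0⟩, ⟨0, 0⟩, ⟨-1, 0⟩, ⟨0, 0⟩, ⟨0, 0⟩, ⟨0, 0⟩; ⟨-2, 0⟩, ⟨1, 0⟩, ⟨2, 0⟩, ⟨0, 0⟩, ⟨0, 0⟩, ⟨-1, 0⟩, ⟨1, 0⟩; ⟨-1, 0⟩, ⟨1, 0⟩, ⟨1, 0⟩, ⟨0, 0⟩, ⟨-1, 0⟩, ⟨0, 0⟩, ⟨1, 0⟩; ⟨-1, 0⟩, ⟨1, 0⟩, ⟨1, 0⟩, ⟨0, 0⟩, ⟨-1, 0⟩, ⟨1, 0⟩, ⟨0, 0⟩],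
  !![⟨3, 0⟩, ⟨-2, 0⟩, ⟨0, 0⟩, ⟨0, 0⟩, ⟨0, 0⟩, ⟨0, 0⟩, ⟨-2, 0⟩; ⟨2, 0⟩, ⟨-1, 0⟩, ⟨0, 0⟩, ⟨1, 0⟩, ⟨0, 0⟩, ⟨0, 0⟩, ⟨-2, 0⟩; ⟨1, 0⟩, ⟨-1, 0⟩, ⟨0, 0⟩, ⟨-1, 0⟩, ⟨1, 0⟩, ⟨-1, 0⟩, ⟨0, 0⟩; ⟨1, 0⟩, ⟨-1, 0⟩, ⟨0, 0⟩, ⟨0, 0⟩, ⟨0, 0⟩, ⟨0, 0⟩, ⟨-1, 0⟩; ⟨1, 0⟩, ⟨-1, 0⟩, ⟨1, 0⟩, ⟨1, 0⟩, ⟨0, 0⟩, ⟨-1, 0⟩, ⟨-1, 0⟩; ⟨0, 0⟩, ⟨-1, 0⟩, ⟨1, 0⟩, ⟨0, 0⟩, ⟨1, 0⟩, ⟨-1, 0⟩, ⟨0, 0⟩; ⟨1, 0⟩, ⟨-1, 0⟩, ⟨1, 0⟩, ⟨0, 0⟩, ⟨0, 0⟩, ⟨0, 0⟩, ⟨-1, 0⟩]],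
  [!![⟨1, 0⟩, ⟨0, 0⟩, ⟨0, 0⟩, ⟨0, 0⟩, ⟨0, 0⟩, ⟨0, 0⟩, ⟨0, 0⟩; ⟨0, 0⟩, ⟨1, 0⟩, ⟨0, 0⟩, ⟨0, 0⟩, ⟨0, 0⟩, ⟨0, 0⟩, ⟨0, 0⟩; ⟨0, 0⟩, ⟨0, 0⟩, ⟨1, 0⟩, ⟨0, 0⟩, ⟨0, 0⟩, ⟨0, 0⟩, ⟨0, 0⟩; ⟨0, 0⟩, ⟨0, 0⟩, ⟨0, 0⟩, ⟨1, 0⟩, ⟨0, 0⟩, ⟨0, 0⟩, ⟨0, 0⟩; ⟨0, 0⟩, ⟨0, 0⟩, ⟨0, 0⟩, ⟨0, 0⟩, ⟨1, 0⟩, ⟨0, 0⟩, ⟨0, 0⟩; ⟨0, 0⟩, ⟨0, 0⟩, ⟨0, 0⟩, ⟨0, 0⟩, ⟨0, 0⟩, ⟨1, 0⟩, ⟨0, 0⟩; ⟨0, 0⟩, ⟨0, 0⟩, ⟨0, 0⟩, ⟨0, 0⟩, ⟨0, 0⟩, ⟨0, 0⟩, ⟨1, 0⟩],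
  !![⟨-1, 0⟩, ⟨0, 0⟩, ⟨2, 0⟩, ⟨0, 0⟩, ⟨0, 0⟩, ⟨0, 0⟩, ⟨0, 0⟩; ⟨-2, 0⟩, ⟨0, 0⟩, ⟨2, 0⟩, ⟨0, 0⟩, ⟨1, 0⟩, ⟨-1, 0⟩, ⟨1, 0⟩; ⟨0, 0⟩, ⟨0, 0⟩, ⟨1, 0⟩, ⟨0, 0⟩, ⟨0, 0⟩, ⟨0, 0⟩, ⟨0, 0⟩; ⟨0, 0⟩, ⟨0, 0⟩, ⟨0, 0⟩, ⟨-1, 0⟩, ⟨0, 0⟩, ⟨0, 0⟩, ⟨0, 0⟩; ⟨-2, 0⟩, ⟨1, 0⟩, ⟨2, 0⟩, ⟨0, 0⟩, ⟨0, 0⟩, ⟨-1, 0⟩, ⟨1, 0⟩; ⟨-1, 0⟩, ⟨1, 0⟩, ⟨1, 0⟩, ⟨0, 0⟩, ⟨-1, 0⟩, ⟨0, 0⟩, ⟨1, 0⟩; ⟨-1, 0⟩, ⟨1, 0⟩, ⟨1, 0⟩, ⟨0, 0⟩, ⟨-1, 0⟩, ⟨1, 0⟩, ⟨0, 0⟩],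
  !![⟨-1, 0⟩, ⟨2, 0⟩, ⟨0, 0⟩, ⟨0, 0⟩, ⟨-2, 0⟩, ⟨2, 0⟩, ⟨0, 0⟩; ⟨-1, 0⟩, ⟨2, 0⟩, ⟨0, 0⟩, ⟨0, 0⟩, ⟨-2, 0⟩, ⟨1, 0⟩, ⟨1, 0⟩; ⟨-1, 0⟩, ⟨1, 0⟩, ⟨1, 0⟩, ⟨1, 0⟩, ⟨-1, 0⟩, ⟨1, 0⟩, ⟨0, 0⟩; ⟨1, 0⟩, ⟨0, 0⟩, ⟨-1, 0⟩, ⟨-1, 0⟩, ⟨0, 0⟩, ⟨1, 0⟩, ⟨-1, 0⟩; ⟨-1, 0⟩, ⟨2, 0⟩, ⟨0, 0⟩, ⟨0, 0⟩, ⟨-1, 0⟩, ⟨1, 0⟩, ⟨0, 0⟩; ⟨0, 0⟩, ⟨1, 0⟩, ⟨0, 0⟩, ⟨1, 0⟩, ⟨-1, 0⟩, ⟨1, 0⟩, ⟨-1, 0⟩; ⟨0, 0⟩, ⟨1, 0⟩, ⟨-1, 0⟩, ⟨0, 0⟩, ⟨-1, 0⟩, ⟨2, 0⟩, ⟨-1, 0⟩]],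
  [!![⟨1, 0⟩, ⟨0, 0⟩, ⟨0, 0⟩, ⟨0, 0⟩, ⟨0, 0⟩, ⟨0, 0⟩, ⟨0, 0⟩; ⟨0, 0⟩, ⟨1, 0⟩, ⟨0, 0⟩, ⟨0, 0⟩, ⟨0, 0⟩, ⟨0, 0⟩, ⟨0, 0⟩; ⟨0, 0⟩, ⟨0, 0⟩, ⟨1, 0⟩, ⟨0, 0⟩, ⟨0, 0⟩, ⟨0, 0⟩, ⟨0, 0⟩; ⟨0, 0⟩, ⟨0, 0⟩, ⟨0, 0⟩, ⟨1, 0⟩, ⟨0, 0⟩, ⟨0, 0⟩, ⟨0, 0⟩; ⟨0, 0⟩, ⟨0, 0⟩, ⟨0, 0⟩, ⟨0, 0⟩, ⟨1, 0⟩, ⟨0, 0⟩, ⟨0, 0⟩; ⟨0, 0⟩, ⟨0, 0⟩, ⟨0, 0⟩, ⟨0, 0⟩, ⟨0, 0⟩, ⟨1, 0⟩, ⟨0, 0⟩; ⟨0, 0⟩, ⟨0, 0⟩, ⟨0, 0⟩, ⟨0, 0⟩, ⟨0, 0⟩, ⟨0, 0⟩, ⟨1, 0⟩],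
  !![⟨-1, 0⟩, ⟨0, 0⟩, ⟨0, 0⟩, ⟨-2, 0⟩, ⟨2, 0⟩, ⟨-2, 0⟩, ⟨2, 0⟩; ⟨-2, 0⟩, ⟨1, 0⟩, ⟨1, 0⟩, ⟨-1, 0⟩, ⟨1, 0⟩, ⟨-2, 0⟩, ⟨2, 0⟩; ⟨1, 0⟩, ⟨-1, 0⟩, ⟨0, 0⟩, ⟨-1, 0⟩, ⟨1, 0⟩, ⟨-1, 0⟩, ⟨0, 0⟩; ⟨-1, 0⟩, ⟨1, 0⟩, ⟨0, 0⟩, ⟨0, 0⟩, ⟨0, 0⟩, ⟨0, 0⟩, ⟨1, 0⟩; ⟨-1, 0⟩, ⟨1, 0⟩, ⟨0, 0⟩, ⟨-1, 0⟩, ⟨1, 0⟩, ⟨-1, 0⟩, ⟨1, 0⟩; ⟨0, 0⟩, ⟨0, 0⟩, ⟨0, 0⟩, ⟨-1, 0⟩, ⟨1, 0⟩, ⟨0, 0⟩, ⟨0, 0⟩; ⟨-1, 0⟩, ⟨0, 0⟩, ⟨0, 0⟩, ⟨-1, 0⟩, ⟨2, 0⟩, ⟨-1, 0⟩, ⟨1, 0⟩],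
  !![⟨-1, 0⟩, ⟨0, 0⟩, ⟨0, 0⟩, ⟨0, 0⟩, ⟨2, 0⟩, ⟨-2, 0⟩, ⟨0, 0⟩; ⟨-1, 0⟩, ⟨0, 0⟩, ⟨1, 0⟩, ⟨1, 0⟩, ⟨1, 0⟩, ⟨-2, 0⟩, ⟨0, 0⟩; ⟨1, 0⟩, ⟨-1, 0⟩, ⟨-1, 0⟩, ⟨-1, 0⟩, ⟨1, 0⟩, ⟨-1, 0⟩, ⟨0, 0⟩; ⟨-2, 0⟩, ⟨1, 0⟩, ⟨1, 0⟩, ⟨0, 0⟩, ⟨1, 0⟩, ⟨-1, 0⟩, ⟨1, 0⟩; ⟨-2, 0⟩, ⟨1, 0⟩, ⟨1, 0⟩, ⟨0, 0⟩, ⟨1, 0⟩, ⟨-2, 0⟩, ⟨1, 0⟩; ⟨0, 0⟩, ⟨0, 0⟩, ⟨0, 0⟩, ⟨-1, 0⟩, ⟨1, 0⟩, ⟨-1, 0⟩, ⟨0, 0⟩; ⟨-1, 0⟩, ⟨1, 0⟩, ⟨0, 0⟩, ⟨0, 0⟩, ⟨1, 0⟩, ⟨-1, 0⟩, ⟨0, 0⟩]],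
  [!![⟨1, 0⟩, ⟨0, 0⟩, ⟨0, 0⟩, ⟨0, 0⟩, ⟨0, 0⟩, ⟨0, 0⟩, ⟨0, 0⟩; ⟨0, 0⟩, ⟨1, 0⟩, ⟨0, 0⟩, ⟨0, 0⟩, ⟨0, 0⟩, ⟨0, 0⟩, ⟨0, 0⟩; ⟨0, 0⟩, ⟨0, 0⟩, ⟨1, 0⟩, ⟨0, 0⟩, ⟨0, 0⟩, ⟨0, 0⟩, ⟨0, 0⟩; ⟨0, 0⟩, ⟨0, 0⟩, ⟨0, 0⟩, ⟨1, 0⟩, ⟨0, 0⟩, ⟨0, 0⟩, ⟨0, 0⟩; ⟨0, 0⟩, ⟨0, 0⟩, ⟨0, 0⟩, ⟨0, 0⟩, ⟨1, 0⟩, ⟨0, 0⟩, ⟨0, 0⟩; ⟨0, 0⟩, ⟨0, 0⟩, ⟨0, 0⟩, ⟨0, 0⟩, ⟨0, 0⟩, ⟨1, 0⟩, ⟨0, 0⟩; ⟨0, 0⟩, ⟨0, 0⟩, ⟨0, 0⟩, ⟨0, 0⟩, ⟨0, 0⟩, ⟨0, 0⟩, ⟨1, 0⟩],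
  !![⟨-1, 0⟩, ⟨0, 0⟩, ⟨2, 0⟩, ⟨0, 0⟩, ⟨0, 0⟩, ⟨0, 0⟩, ⟨0, 0⟩; ⟨-2, 0⟩, ⟨0, 0⟩, ⟨2, 0⟩, ⟨0, 0⟩, ⟨1, 0⟩, ⟨-1, 0⟩, ⟨1, 0⟩; ⟨0, 0⟩, ⟨0, 0⟩, ⟨1, 0⟩, ⟨0, 0⟩, ⟨0, 0⟩, ⟨0, 0⟩, ⟨0, 0⟩; ⟨0, 0⟩, ⟨0, 0⟩, ⟨0, 0⟩, ⟨-1, 0⟩, ⟨0, 0⟩, ⟨0, 0⟩, ⟨0, 0⟩; ⟨-2, 0⟩, ⟨1, 0⟩, ⟨2, 0⟩, ⟨0, 0⟩, ⟨0, 0⟩, ⟨-1, 0⟩, ⟨1, 0⟩; ⟨-1, 0⟩, ⟨1, 0⟩, ⟨1, 0⟩, ⟨0, 0⟩, ⟨-1, 0⟩, ⟨0, 0⟩, ⟨1, 0⟩; ⟨-1, 0⟩, ⟨1, 0⟩, ⟨1, 0⟩, ⟨0, 0⟩, ⟨-1, 0⟩, ⟨1, 0⟩, ⟨0, 0⟩],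
  !![⟨3, 0⟩, ⟨-2, 0⟩, ⟨0, 0⟩, ⟨0, 0⟩, ⟨0, 0⟩, ⟨0, 0⟩, ⟨-2, 0⟩; ⟨2, 0⟩, ⟨-1, 0⟩, ⟨0, 0⟩, ⟨1, 0⟩, ⟨0, 0⟩, ⟨0, 0⟩, ⟨-2, 0⟩; ⟨1, 0⟩, ⟨-1, 0⟩, ⟨0, 0⟩, ⟨-1, 0⟩, ⟨1, 0⟩, ⟨-1, 0⟩, ⟨0, 0⟩; ⟨1, 0⟩, ⟨-1, 0⟩, ⟨0, 0⟩, ⟨0, 0⟩, ⟨0, 0⟩, ⟨0, 0⟩, ⟨-1, 0⟩; ⟨1, 0⟩, ⟨-1, 0⟩, ⟨1, 0⟩, ⟨1, 0⟩, ⟨0, 0⟩, ⟨-1, 0⟩, ⟨-1, 0⟩; ⟨0, 0⟩, ⟨-1, 0⟩, ⟨1, 0⟩, ⟨0, 0⟩, ⟨1, 0⟩, ⟨-1, 0⟩, ⟨0, 0⟩; ⟨1, 0⟩, ⟨-1, 0⟩, ⟨1, 0⟩, ⟨0, 0⟩, ⟨0, 0⟩, ⟨0, 0⟩, ⟨-1, 0⟩],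
  !![⟨3, 0⟩, ⟨-2, 0⟩, ⟨-2, 0⟩, ⟨-2, 0⟩, ⟨0, 0⟩, ⟨0, 0⟩, ⟨0, 0⟩; ⟨1, 0⟩, ⟨0, 0⟩, ⟨-1, 0⟩, ⟨-1, 0⟩, ⟨-1, 0⟩, ⟨0, 0⟩, ⟨1, 0⟩; ⟨1, 0⟩, ⟨-1, 0⟩, ⟨-1, 0⟩, ⟨-1, 0⟩, ⟨1, 0⟩, ⟨-1, 0⟩, ⟨0, 0⟩; ⟨2, 0⟩, ⟨-1, 0⟩, ⟨-1, 0⟩, ⟨0, 0⟩, ⟨-1, 0⟩, ⟨1, 0⟩, ⟨-1, 0⟩; ⟨2, 0⟩, ⟨-1, 0⟩, ⟨-1, 0⟩, ⟨0, 0⟩, ⟨-1, 0⟩, ⟨0, 0⟩, ⟨0, 0⟩; ⟨2, 0⟩, ⟨-1, 0⟩, ⟨-1, 0⟩, ⟨0, 0⟩, ⟨0, 0⟩, ⟨0, 0⟩, ⟨-1, 0⟩; ⟨3, 0⟩, ⟨-2, 0⟩, ⟨-1, 0⟩, ⟨-1, 0⟩, ⟨0, 0⟩, ⟨0, 0⟩, ⟨-1, 0⟩]],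
  [!![⟨1, 0⟩, ⟨0, 0⟩, ⟨0, 0⟩, ⟨0, 0⟩, ⟨0, 0⟩, ⟨0, 0⟩, ⟨0, 0⟩; ⟨0, 0⟩, ⟨1, 0⟩, ⟨0, 0⟩, ⟨0, 0⟩, ⟨0, 0⟩, ⟨0, 0⟩, ⟨0, 0⟩; ⟨0, 0⟩, ⟨0, 0⟩, ⟨1, 0⟩, ⟨0, 0⟩, ⟨0, 0⟩, ⟨0, 0⟩, ⟨0, 0⟩; ⟨0, 0⟩, ⟨0, 0⟩, ⟨0, 0⟩, ⟨1, 0⟩, ⟨0, 0⟩, ⟨0, 0⟩, ⟨0, 0⟩; ⟨0, 0⟩, ⟨0, 0⟩, ⟨0, 0⟩, ⟨0, 0⟩, ⟨1, 0⟩, ⟨0, 0⟩, ⟨0, 0⟩; ⟨0, 0⟩, ⟨0, 0⟩, ⟨0, 0⟩, ⟨0, 0⟩, ⟨0, 0⟩, ⟨1, 0⟩, ⟨0, 0⟩; ⟨0, 0⟩, ⟨0, 0⟩, ⟨0, 0⟩, ⟨0, 0⟩, ⟨0, 0⟩, ⟨0, 0⟩, ⟨1, 0⟩],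
  !![⟨-1, 0⟩, ⟨0, 0⟩, ⟨2, 0⟩, ⟨0, 0⟩, ⟨0, 0⟩, ⟨0, 0⟩, ⟨0, 0⟩; ⟨-2, 0⟩, ⟨0, 0⟩, ⟨2, 0⟩, ⟨0, 0⟩, ⟨1, 0⟩, ⟨-1, 0⟩, ⟨1, 0⟩; ⟨0, 0⟩, ⟨0, 0⟩, ⟨1, 0⟩, ⟨0, 0⟩, ⟨0, 0⟩, ⟨0, 0⟩, ⟨0, 0⟩; ⟨0, 0⟩, ⟨0, 0⟩, ⟨0, 0⟩, ⟨-1, 0⟩, ⟨0, 0⟩, ⟨0, 0⟩, ⟨0, 0⟩; ⟨-2, 0⟩, ⟨1, 0⟩, ⟨2, 0⟩, ⟨0, 0⟩, ⟨0, 0⟩, ⟨-1, 0⟩, ⟨1, 0⟩; ⟨-1, 0⟩, ⟨1, 0⟩, ⟨1, 0⟩, ⟨0, 0⟩, ⟨-1, 0⟩, ⟨0, 0⟩, ⟨1, 0⟩; ⟨-1, 0⟩, ⟨1, 0⟩, ⟨1, 0⟩, ⟨0, 0⟩, ⟨-1, 0⟩, ⟨1, 0⟩, ⟨0, 0⟩],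
  !![⟨-1, 0⟩, ⟨2, 0⟩, ⟨0, 0⟩, ⟨0, 0⟩, ⟨-2, 0⟩, ⟨2, 0⟩, ⟨0, 0⟩; ⟨-1, 0⟩, ⟨2, 0⟩, ⟨0, 0⟩, ⟨0, 0⟩, ⟨-2, 0⟩, ⟨1, 0⟩, ⟨1, 0⟩; ⟨-1, 0⟩, ⟨1, 0⟩, ⟨1, 0⟩, ⟨1, 0⟩, ⟨-1, 0⟩, ⟨1, 0⟩, ⟨0, 0⟩; ⟨1, 0⟩, ⟨0, 0⟩, ⟨-1, 0⟩, ⟨-1, 0⟩, ⟨0, 0⟩, ⟨1, 0⟩, ⟨-1, 0⟩; ⟨-1, 0⟩, ⟨2, 0⟩, ⟨0, 0⟩, ⟨0, 0⟩, ⟨-1, 0⟩, ⟨1, 0⟩, ⟨0, 0⟩; ⟨0, 0⟩, ⟨1, 0⟩, ⟨0, 0⟩, ⟨1, 0⟩, ⟨-1, 0⟩, ⟨1, 0⟩, ⟨-1, 0⟩; ⟨0, 0⟩, ⟨1, 0⟩, ⟨-1, 0⟩, ⟨0, 0⟩, ⟨-1, 0⟩, ⟨2, 0⟩, ⟨-1, 0⟩],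
  !![⟨1, 0⟩, ⟨0, 0⟩, ⟨-2, 0⟩, ⟨0, 0⟩, ⟨0, 0⟩, ⟨2, 0⟩, ⟨-2, 0⟩; ⟨1, 0⟩, ⟨0, 0⟩, ⟨-1, 0⟩, ⟨1, 0⟩, ⟨0, 0⟩, ⟨1, 0⟩, ⟨-2, 0⟩; ⟨-1, 0⟩, ⟨1, 0⟩, ⟨0, 0⟩, ⟨1, 0⟩, ⟨-1, 0⟩, ⟨1, 0⟩, ⟨0, 0⟩; ⟨1, 0⟩, ⟨-1, 0⟩, ⟨-1, 0⟩, ⟨-1, 0⟩, ⟨1, 0⟩, ⟨1, 0⟩, ⟨-1, 0⟩; ⟨0, 0⟩, ⟨0, 0⟩, ⟨-1, 0⟩, ⟨0, 0⟩, ⟨1, 0⟩, ⟨1, 0⟩, ⟨-1, 0⟩; ⟨-1, 0⟩, ⟨0, 0⟩, ⟨0, 0⟩, ⟨0, 0⟩, ⟨1, 0⟩, ⟨0, 0⟩, ⟨0, 0⟩; ⟨1, 0⟩, ⟨-1, 0⟩, ⟨-2, 0⟩, ⟨-1, 0⟩, ⟨1, 0⟩, ⟨1, 0⟩, ⟨-1, 0⟩]],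
  [!![⟨1, 0⟩, ⟨0, 0⟩, ⟨0, 0⟩, ⟨0, 0⟩, ⟨0, 0⟩, ⟨0, 0⟩, ⟨0, 0⟩; ⟨0, 0⟩, ⟨1, 0⟩, ⟨0, 0⟩, ⟨0, 0⟩, ⟨0, 0⟩, ⟨0, 0⟩, ⟨0, 0⟩; ⟨0, 0⟩, ⟨0, 0⟩, ⟨1, 0⟩, ⟨0, 0⟩, ⟨0, 0⟩, ⟨0, 0⟩, ⟨0, 0⟩; ⟨0, 0⟩, ⟨0, 0⟩, ⟨0, 0⟩, ⟨1, 0⟩, ⟨0, 0⟩, ⟨0, 0⟩, ⟨0, 0⟩; ⟨0, 0⟩, ⟨0, 0⟩, ⟨0, 0⟩, ⟨0, 0⟩, ⟨1, 0⟩, ⟨0, 0⟩, ⟨0, 0⟩; ⟨0, 0⟩, ⟨0, 0⟩, ⟨0, 0⟩, ⟨0, 0⟩, ⟨0, 0⟩, ⟨1, 0⟩, ⟨0, 0⟩; ⟨0, 0⟩, ⟨0, 0⟩, ⟨0, 0⟩, ⟨0, 0⟩, ⟨0, 0⟩, ⟨0, 0⟩, ⟨1, 0⟩],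
  !![⟨-1, 0⟩, ⟨0, 0⟩, ⟨2, 0⟩, ⟨0, 0⟩, ⟨0, 0⟩, ⟨0, 0⟩, ⟨0, 0⟩; ⟨-2, 0⟩, ⟨0, 0⟩, ⟨2, 0⟩, ⟨0, 0⟩, ⟨1, 0⟩, ⟨-1, 0⟩, ⟨1, 0⟩; ⟨0, 0⟩, ⟨0, 0⟩, ⟨1, 0⟩, ⟨0, 0⟩, ⟨0, 0⟩, ⟨0, 0⟩, ⟨0, 0⟩; ⟨0, 0⟩, ⟨0, 0⟩, ⟨0, 0⟩, ⟨-1, 0⟩, ⟨0, 0⟩, ⟨0, 0⟩, ⟨0, 0⟩; ⟨-2, 0⟩, ⟨1, 0⟩, ⟨2, 0⟩, ⟨0, 0⟩, ⟨0, 0⟩, ⟨-1, 0⟩, ⟨1, 0⟩; ⟨-1, 0⟩, ⟨1, 0⟩, ⟨1, 0⟩, ⟨0, 0⟩, ⟨-1, 0⟩, ⟨0, 0⟩, ⟨1, 0⟩; ⟨-1, 0⟩, ⟨1, 0⟩, ⟨1, 0⟩, ⟨0, 0⟩, ⟨-1, 0⟩, ⟨1, 0⟩, ⟨0, 0⟩],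
  !![⟨3, 0⟩, ⟨-2, 0⟩, ⟨0, 0⟩, ⟨0, 0⟩, ⟨0, 0⟩, ⟨0, 0⟩, ⟨-2, 0⟩; ⟨2, 0⟩, ⟨-1, 0⟩, ⟨0, 0⟩, ⟨1, 0⟩, ⟨0, 0⟩, ⟨0, 0⟩, ⟨-2, 0⟩; ⟨1, 0⟩, ⟨-1, 0⟩, ⟨0, 0⟩, ⟨-1, 0⟩, ⟨1, 0⟩, ⟨-1, 0⟩, ⟨0, 0⟩; ⟨1, 0⟩, ⟨-1, 0⟩, ⟨0, 0⟩, ⟨0, 0⟩, ⟨0, 0⟩, ⟨0, 0⟩, ⟨-1, 0⟩; ⟨1, 0⟩, ⟨-1, 0⟩, ⟨1, 0⟩, ⟨1, 0⟩, ⟨0, 0⟩, ⟨-1, 0⟩, ⟨-1, 0⟩; ⟨0, 0⟩, ⟨-1, 0⟩, ⟨1, 0⟩, ⟨0, 0⟩, ⟨1, 0⟩, ⟨-1, 0⟩, ⟨0, 0⟩; ⟨1, 0⟩, ⟨-1, 0⟩, ⟨1, 0⟩, ⟨0, 0⟩, ⟨0, 0⟩, ⟨0, 0⟩, ⟨-1, 0⟩],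
  !![⟨3, 0⟩, ⟨-2, 0⟩, ⟨0, 0⟩, ⟨0, 0⟩, ⟨0, 0⟩, ⟨0, 0⟩, ⟨-2, 0⟩; ⟨2, 0⟩, ⟨-2, 0⟩, ⟨0, 0⟩, ⟨-1, 0⟩, ⟨1, 0⟩, ⟨-1, 0⟩, ⟨-1, 0⟩; ⟨0, 0⟩, ⟨0, 0⟩, ⟨1, 0⟩, ⟨1, 0⟩, ⟨0, 0⟩, ⟨0, 0⟩, ⟨-1, 0⟩; ⟨2, 0⟩, ⟨-1, 0⟩, ⟨-1, 0⟩, ⟨0, 0⟩, ⟨0, 0⟩, ⟨0, 0⟩, ⟨-1, 0⟩; ⟨3, 0⟩, ⟨-2, 0⟩, ⟨-1, 0⟩, ⟨-1, 0⟩, ⟨1, 0⟩, ⟨0, 0⟩, ⟨-2, 0⟩; ⟨1, 0⟩, ⟨0, 0⟩, ⟨0, 0⟩, ⟨0, 0⟩, ⟨0, 0⟩, ⟨0, 0⟩, ⟨-1, 0⟩; ⟨2, 0⟩, ⟨-1, 0⟩, ⟨0, 0⟩, ⟨0, 0⟩, ⟨0, 0⟩, ⟨0, 0⟩, ⟨-1, 0⟩],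
  !![⟨-1, 0⟩, ⟨0, 0⟩, ⟨2, 0⟩, ⟨0, 0⟩, ⟨0, 0⟩, ⟨0, 0⟩, ⟨0, 0⟩; ⟨0, 0⟩, ⟨0, 0⟩, ⟨1, 0⟩, ⟨-1, 0⟩, ⟨0, 0⟩, ⟨0, 0⟩, ⟨0, 0⟩; ⟨-2, 0⟩, ⟨1, 0⟩, ⟨1, 0⟩, ⟨0, 0⟩, ⟨0, 0⟩, ⟨0, 0⟩, ⟨1, 0⟩; ⟨0, 0⟩, ⟨-1, 0⟩, ⟨1, 0⟩, ⟨0, 0⟩, ⟨1, 0⟩, ⟨-1, 0⟩, ⟨0, 0⟩; ⟨0, 0⟩, ⟨-1, 0⟩, ⟨1, 0⟩, ⟨-1, 0⟩, ⟨1, 0⟩, ⟨0, 0⟩, ⟨0, 0⟩; ⟨-1, 0⟩, ⟨0, 0⟩, ⟨1, 0⟩, ⟨0, 0⟩, ⟨1, 0⟩, ⟨0, 0⟩, ⟨0, 0⟩; ⟨-1, 0⟩, ⟨0, 0⟩, ⟨2, 0⟩, ⟨1, 0⟩, ⟨0, 0⟩, ⟨0, 0⟩, ⟨0, 0⟩]],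
  [!![⟨1, 0⟩, ⟨0, 0⟩, ⟨0, 0⟩, ⟨0, 0⟩, ⟨0, 0⟩, ⟨0, 0⟩, ⟨0, 0⟩; ⟨0, 0⟩, ⟨1, 0⟩, ⟨0, 0⟩, ⟨0, 0⟩, ⟨0, 0⟩, ⟨0, 0⟩, ⟨0, 0⟩; ⟨0, 0⟩, ⟨0, 0⟩, ⟨1, 0⟩, ⟨0, 0⟩, ⟨0, 0⟩, ⟨0, 0⟩, ⟨0, 0⟩; ⟨0, 0⟩, ⟨0, 0⟩, ⟨0, 0⟩, ⟨1, 0⟩, ⟨0, 0⟩, ⟨0, 0⟩, ⟨0, 0⟩; ⟨0, 0⟩, ⟨0, 0⟩, ⟨0, 0⟩, ⟨0, 0⟩, ⟨1, 0⟩, ⟨0, 0⟩, ⟨0, 0⟩; ⟨0, 0⟩, ⟨0, 0⟩, ⟨0, 0⟩, ⟨0, 0⟩, ⟨0, 0⟩, ⟨1, 0⟩, ⟨0, 0⟩; ⟨0, 0⟩, ⟨0, 0⟩, ⟨0, 0⟩, ⟨0, 0⟩, ⟨0, 0⟩, ⟨0, 0⟩, ⟨1, 0⟩],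
  !![⟨-1, 0⟩, ⟨0, 0⟩, ⟨2, 0⟩, ⟨0, 0⟩, ⟨0, 0⟩, ⟨0, 0⟩, ⟨0, 0⟩; ⟨-2, 0⟩, ⟨0, 0⟩, ⟨2, 0⟩, ⟨0, 0⟩, ⟨1, 0⟩, ⟨-1, 0⟩, ⟨1, 0⟩; ⟨0, 0⟩, ⟨0, 0⟩, ⟨1, 0⟩, ⟨0, 0⟩, ⟨0, 0⟩, ⟨0, 0⟩, ⟨0, 0⟩; ⟨0, 0⟩, ⟨0, 0⟩, ⟨0, 0⟩, ⟨-1, 0⟩, ⟨0, 0⟩, ⟨0, 0⟩, ⟨0, 0⟩; ⟨-2, 0⟩, ⟨1, 0⟩, ⟨2, 0⟩, ⟨0, 0⟩, ⟨0, 0⟩, ⟨-1, 0⟩, ⟨1, 0⟩; ⟨-1, 0⟩, ⟨1, 0⟩, ⟨1, 0⟩, ⟨0, 0⟩, ⟨-1, 0⟩, ⟨0, 0⟩, ⟨1, 0⟩; ⟨-1, 0⟩, ⟨1, 0⟩, ⟨1, 0⟩, ⟨0, 0⟩, ⟨-1, 0⟩, ⟨1, 0⟩, ⟨0, 0⟩],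
  !![⟨3, 0⟩, ⟨-2, 0⟩, ⟨0, 0⟩, ⟨0, 0⟩, ⟨0, 0⟩, ⟨0, 0⟩, ⟨-2, 0⟩; ⟨2, 0⟩, ⟨-1, 0⟩, ⟨0, 0⟩, ⟨1, 0⟩, ⟨0, 0⟩, ⟨0, 0⟩, ⟨-2, 0⟩; ⟨1, 0⟩, ⟨-1, 0⟩, ⟨0, 0⟩, ⟨-1, 0⟩, ⟨1, 0⟩, ⟨-1, 0⟩, ⟨0, 0⟩; ⟨1, 0⟩, ⟨-1, 0⟩, ⟨0, 0⟩, ⟨0, 0⟩, ⟨0, 0⟩, ⟨0, 0⟩, ⟨-1, 0⟩; ⟨1, 0⟩, ⟨-1, 0⟩, ⟨1, 0⟩, ⟨1, 0⟩, ⟨0, 0⟩, ⟨-1, 0⟩, ⟨-1, 0⟩; ⟨0, 0⟩, ⟨-1, 0⟩, ⟨1, 0⟩, ⟨0, 0⟩, ⟨1, 0⟩, ⟨-1, 0⟩, ⟨0, 0⟩; ⟨1, 0⟩, ⟨-1, 0⟩, ⟨1, 0⟩, ⟨0, 0⟩, ⟨0, 0⟩, ⟨0, 0⟩, ⟨-1, 0⟩],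
  !![⟨3, 0⟩, ⟨-2, 0⟩, ⟨-2, 0⟩, ⟨-2, 0⟩, ⟨0, 0⟩, ⟨0, 0⟩, ⟨0, 0⟩; ⟨1, 0⟩, ⟨0, 0⟩, ⟨-1, 0⟩, ⟨-1, 0⟩, ⟨-1, 0⟩, ⟨0, 0⟩, ⟨1, 0⟩; ⟨1, 0⟩, ⟨-1, 0⟩, ⟨-1, 0⟩, ⟨-1, 0⟩, ⟨1, 0⟩, ⟨-1, 0⟩, ⟨0, 0⟩; ⟨2, 0⟩, ⟨-1, 0⟩, ⟨-1, 0⟩, ⟨0, 0⟩, ⟨-1, 0⟩, ⟨1, 0⟩, ⟨-1, 0⟩; ⟨2, 0⟩, ⟨-1, 0⟩, ⟨-1, 0⟩, ⟨0, 0⟩, ⟨-1, 0⟩, ⟨0, 0⟩, ⟨0, 0⟩; ⟨2, 0⟩, ⟨-1, 0⟩, ⟨-1, 0⟩, ⟨0, 0⟩, ⟨0, 0⟩, ⟨0, 0⟩, ⟨-1, 0⟩; ⟨3, 0⟩, ⟨-2, 0⟩, ⟨-1, 0⟩, ⟨-1, 0⟩, ⟨0, 0⟩, ⟨0, 0⟩, ⟨-1, 0⟩],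
  !![⟨1, 0⟩, ⟨-2, 0⟩, ⟨-2, 0⟩, ⟨-2, 0⟩, ⟨2, 0⟩, ⟨0, 0⟩, ⟨0, 0⟩; ⟨-1, 0⟩, ⟨-1, 0⟩, ⟨0, 0⟩, ⟨-1, 0⟩, ⟨2, 0⟩, ⟨-1, 0⟩, ⟨1, 0⟩; ⟨0, 0⟩, ⟨0, 0⟩, ⟨-1, 0⟩, ⟨0, 0⟩, ⟨0, 0⟩, ⟨0, 0⟩, ⟨0, 0⟩; ⟨1, 0⟩, ⟨-1, 0⟩, ⟨-1, 0⟩, ⟨-1, 0⟩, ⟨0, 0⟩, ⟨1, 0⟩, ⟨0, 0⟩; ⟨0, 0⟩, ⟨-1, 0⟩, ⟨-1, 0⟩, ⟨-1, 0⟩, ⟨1, 0⟩, ⟨0, 0⟩, ⟨1, 0⟩; ⟨0, 0⟩, ⟨0, 0⟩, ⟨-1, 0⟩, ⟨-1, 0⟩, ⟨0, 0⟩, ⟨0, 0⟩, ⟨1, 0⟩; ⟨2, 0⟩, ⟨-2, 0⟩, ⟨-2, 0⟩, ⟨-2, 0⟩, ⟨1, 0⟩, ⟨0, 0⟩, ⟨0, 0⟩]],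
  [!![⟨1, 0⟩, ⟨0, 0⟩, ⟨0, 0⟩, ⟨0, 0⟩, ⟨0, 0⟩, ⟨0, 0⟩, ⟨0, 0⟩; ⟨0, 0⟩, ⟨1, 0⟩, ⟨0, 0⟩, ⟨0, 0⟩, ⟨0, 0⟩, ⟨0, 0⟩, ⟨0, 0⟩; ⟨0, 0⟩, ⟨0, 0⟩, ⟨1, 0⟩, ⟨0, 0⟩, ⟨0, 0⟩, ⟨0, 0⟩, ⟨0, 0⟩; ⟨0, 0⟩, ⟨0, 0⟩, ⟨0, 0⟩, ⟨1, 0⟩, ⟨0, 0⟩, ⟨0, 0⟩, ⟨0, 0⟩; ⟨0, 0⟩, ⟨0, 0⟩, ⟨0, 0⟩, ⟨0, 0⟩, ⟨1, 0⟩, ⟨0, 0⟩, ⟨0, 0⟩; ⟨0, 0⟩, ⟨0, 0⟩, ⟨0, 0⟩, ⟨0, 0⟩, ⟨0, 0⟩, ⟨1, 0⟩, ⟨0, 0⟩; ⟨0, 0⟩, ⟨0, 0⟩, ⟨0, 0⟩, ⟨0, 0⟩, ⟨0, 0⟩, ⟨0, 0⟩, ⟨1, 0⟩],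
  !![⟨-1, 0⟩, ⟨0, 0⟩, ⟨2, 0⟩, ⟨0, 0⟩, ⟨0, 0⟩, ⟨0, 0⟩, ⟨0, 0⟩; ⟨-2, 0⟩, ⟨0, 0⟩, ⟨2, 0⟩, ⟨0, 0⟩, ⟨1, 0⟩, ⟨-1, 0⟩, ⟨1, 0⟩; ⟨0, 0⟩, ⟨0, 0⟩, ⟨1, 0⟩, ⟨0, 0⟩, ⟨0, 0⟩, ⟨0, 0⟩, ⟨0, 0⟩; ⟨0, 0⟩, ⟨0, 0⟩, ⟨0, 0⟩, ⟨-1, 0⟩, ⟨0, 0⟩, ⟨0, 0⟩, ⟨0, 0⟩; ⟨-2, 0⟩, ⟨1, 0⟩, ⟨2, 0⟩, ⟨0, 0⟩, ⟨0, 0⟩, ⟨-1, 0⟩, ⟨1, 0⟩; ⟨-1, 0⟩, ⟨1, 0⟩, ⟨1, 0⟩, ⟨0, 0⟩, ⟨-1, 0⟩, ⟨0, 0⟩, ⟨1, 0⟩; ⟨-1, 0⟩, ⟨1, 0⟩, ⟨1, 0⟩, ⟨0, 0⟩, ⟨-1, 0⟩, ⟨1, 0⟩, ⟨0, 0⟩],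
  !![⟨3, 0⟩, ⟨-2, 0⟩, ⟨0, 0⟩, ⟨0, 0⟩, ⟨0, 0⟩, ⟨0, 0⟩, ⟨-2, 0⟩; ⟨2, 0⟩, ⟨-1, 0⟩, ⟨0, 0⟩, ⟨1, 0⟩, ⟨0, 0⟩, ⟨0, 0⟩, ⟨-2, 0⟩; ⟨1, 0⟩, ⟨-1, 0⟩, ⟨0, 0⟩, ⟨-1, 0⟩, ⟨1, 0⟩, ⟨-1, 0⟩, ⟨0, 0⟩; ⟨1, 0⟩, ⟨-1, 0⟩, ⟨0, 0⟩, ⟨0, 0⟩, ⟨0, 0⟩, ⟨0, 0⟩, ⟨-1, 0⟩; ⟨1, 0⟩, ⟨-1, 0⟩, ⟨1, 0⟩, ⟨1, 0⟩, ⟨0, 0⟩, ⟨-1, 0⟩, ⟨-1, 0⟩; ⟨0, 0⟩, ⟨-1, 0⟩, ⟨1, 0⟩, ⟨0, 0⟩, ⟨1, 0⟩, ⟨-1, 0⟩, ⟨0, 0⟩; ⟨1, 0⟩, ⟨-1, 0⟩, ⟨1, 0⟩, ⟨0, 0⟩, ⟨0, 0⟩, ⟨0, 0⟩, ⟨-1, 0⟩],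
  !![⟨3, 0⟩, ⟨-2, 0⟩, ⟨0, 0⟩, ⟨0, 0⟩, ⟨0, 0⟩, ⟨0, 0⟩, ⟨-2, 0⟩; ⟨2, 0⟩, ⟨-2, 0⟩, ⟨0, 0⟩, ⟨-1, 0⟩, ⟨1, 0⟩, ⟨-1, 0⟩, ⟨-1, 0⟩; ⟨0, 0⟩, ⟨0, 0⟩, ⟨1, 0⟩, ⟨1, 0⟩, ⟨0, 0⟩, ⟨0, 0⟩, ⟨-1, 0⟩; ⟨2, 0⟩, ⟨-1, 0⟩, ⟨-1, 0⟩, ⟨0, 0⟩, ⟨0, 0⟩, ⟨0, 0⟩, ⟨-1, 0⟩; ⟨3, 0⟩, ⟨-2, 0⟩, ⟨-1, 0⟩, ⟨-1, 0⟩, ⟨1, 0⟩, ⟨0, 0⟩, ⟨-2, 0⟩; ⟨1, 0⟩, ⟨0, 0⟩, ⟨0, 0⟩, ⟨0, 0⟩, ⟨0, 0⟩, ⟨0, 0⟩, ⟨-1, 0⟩; ⟨2, 0⟩, ⟨-1, 0⟩, ⟨0, 0⟩, ⟨0, 0⟩, ⟨0, 0⟩, ⟨0, 0⟩, ⟨-1, 0⟩],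
  !![⟨-1, 0⟩, ⟨0, 0⟩, ⟨2, 0⟩, ⟨0, 0⟩, ⟨0, 0⟩, ⟨0, 0⟩, ⟨0, 0⟩; ⟨0, 0⟩, ⟨0, 0⟩, ⟨1, 0⟩, ⟨-1, 0⟩, ⟨0, 0⟩, ⟨0, 0⟩, ⟨0, 0⟩; ⟨-2, 0⟩, ⟨1, 0⟩, ⟨1, 0⟩, ⟨0, 0⟩, ⟨0, 0⟩, ⟨0, 0⟩, ⟨1, 0⟩; ⟨0, 0⟩, ⟨-1, 0⟩, ⟨1, 0⟩, ⟨0, 0⟩, ⟨1, 0⟩, ⟨-1, 0⟩, ⟨0, 0⟩; ⟨0, 0⟩, ⟨-1, 0⟩, ⟨1, 0⟩, ⟨-1, 0⟩, ⟨1, 0⟩, ⟨0, 0⟩, ⟨0, 0⟩; ⟨-1, 0⟩, ⟨0, 0⟩, ⟨1, 0⟩, ⟨0, 0⟩, ⟨1, 0⟩, ⟨0, 0⟩, ⟨0, 0⟩; ⟨-1, 0⟩, ⟨0, 0⟩, ⟨2, 0⟩, ⟨1, 0⟩, ⟨0, 0⟩, ⟨0, 0⟩, ⟨0, 0⟩],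
  !![⟨-1, 0⟩, ⟨2, 0⟩, ⟨0, 0⟩, ⟨0, 0⟩, ⟨-2, 0⟩, ⟨2, 0⟩, ⟨0, 0⟩; ⟨0, 0⟩, ⟨1, 0⟩, ⟨0, 0⟩, ⟨0, 0⟩, ⟨-1, 0⟩, ⟨2, 0⟩, ⟨-1, 0⟩; ⟨0, 0⟩, ⟨1, 0⟩, ⟨-1, 0⟩, ⟨0, 0⟩, ⟨-1, 0⟩, ⟨1, 0⟩, ⟨0, 0⟩; ⟨-1, 0⟩, ⟨1, 0⟩, ⟨1, 0⟩, ⟨0, 0⟩, ⟨-1, 0⟩, ⟨0, 0⟩, ⟨1, 0⟩; ⟨0, 0⟩, ⟨1, 0⟩, ⟨0, 0⟩, ⟨0, 0⟩, ⟨-2, 0⟩, ⟨2, 0⟩, ⟨0, 0⟩; ⟨-1, 0⟩, ⟨1, 0⟩, ⟨0, 0⟩, ⟨0, 0⟩, ⟨-1, 0⟩, ⟨1, 0⟩, ⟨1, 0⟩; ⟨-2, 0⟩, ⟨2, 0⟩, ⟨1, 0⟩, ⟨1, 0⟩, ⟨-2, 0⟩, ⟨1, 0⟩, ⟨1, 0⟩]],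
  [!![⟨1, 0⟩, ⟨0, 0⟩, ⟨0, 0⟩, ⟨0, 0⟩, ⟨0, 0⟩, ⟨0, 0⟩, ⟨0, 0⟩; ⟨0, 0⟩, ⟨1, 0⟩, ⟨0, 0⟩, ⟨0, 0⟩, ⟨0, 0⟩, ⟨0, 0⟩, ⟨0, 0⟩; ⟨0, 0⟩, ⟨0, 0⟩, ⟨1, 0⟩, ⟨0, 0⟩, ⟨0, 0⟩, ⟨0, 0⟩, ⟨0, 0⟩; ⟨0, 0⟩, ⟨0, 0⟩, ⟨0, 0⟩, ⟨1, 0⟩, ⟨0, 0⟩, ⟨0, 0⟩, ⟨0, 0⟩; ⟨0, 0⟩, ⟨0, 0⟩, ⟨0, 0⟩, ⟨0, 0⟩, ⟨1, 0⟩, ⟨0, 0⟩, ⟨0, 0⟩; ⟨0, 0⟩, ⟨0, 0⟩, ⟨0, 0⟩, ⟨0, 0⟩, ⟨0, 0⟩, ⟨1, 0⟩, ⟨0, 0⟩; ⟨0, 0⟩, ⟨0, 0⟩, ⟨0, 0⟩, ⟨0, 0⟩, ⟨0, 0⟩, ⟨0, 0⟩, ⟨1, 0⟩],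
  !![⟨-1, 0⟩, ⟨0, 0⟩, ⟨2, 0⟩, ⟨0, 0⟩, ⟨0, 0⟩, ⟨0, 0⟩, ⟨0, 0⟩; ⟨-2, 0⟩, ⟨0, 0⟩, ⟨2, 0⟩, ⟨0, 0⟩, ⟨1, 0⟩, ⟨-1, 0⟩, ⟨1, 0⟩; ⟨0, 0⟩, ⟨0, 0⟩, ⟨1, 0⟩, ⟨0, 0⟩, ⟨0, 0⟩, ⟨0, 0⟩, ⟨0, 0⟩; ⟨0, 0⟩, ⟨0, 0⟩, ⟨0, 0⟩, ⟨-1, 0⟩, ⟨0, 0⟩, ⟨0, 0⟩, ⟨0, 0⟩; ⟨-2, 0⟩, ⟨1, 0⟩, ⟨2, 0⟩, ⟨0, 0⟩, ⟨0, 0⟩, ⟨-1, 0⟩, ⟨1, 0⟩; ⟨-1, 0⟩, ⟨1, 0⟩, ⟨1, 0⟩, ⟨0, 0⟩, ⟨-1, 0⟩, ⟨0, 0⟩, ⟨1, 0⟩; ⟨-1, 0⟩, ⟨1, 0⟩, ⟨1, 0⟩, ⟨0, 0⟩, ⟨-1, 0⟩, ⟨1, 0⟩, ⟨0, 0⟩],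
  !![⟨3, 0⟩, ⟨-2, 0⟩, ⟨0, 0⟩, ⟨0, 0⟩, ⟨0, 0⟩, ⟨0, 0⟩, ⟨-2, 0⟩; ⟨2, 0⟩, ⟨-1, 0⟩, ⟨0, 0⟩, ⟨1, 0⟩, ⟨0, 0⟩, ⟨0, 0⟩, ⟨-2, 0⟩; ⟨1, 0⟩, ⟨-1, 0⟩, ⟨0, 0⟩, ⟨-1, 0⟩, ⟨1, 0⟩, ⟨-1, 0⟩, ⟨0, 0⟩; ⟨1, 0⟩, ⟨-1, 0⟩, ⟨0, 0⟩, ⟨0, 0⟩, ⟨0, 0⟩, ⟨0, 0⟩, ⟨-1, 0⟩; ⟨1, 0⟩, ⟨-1, 0⟩, ⟨1, 0⟩, ⟨1, 0⟩, ⟨0, 0⟩, ⟨-1, 0⟩, ⟨-1, 0⟩; ⟨0, 0⟩, ⟨-1, 0⟩, ⟨1, 0⟩, ⟨0, 0⟩, ⟨1, 0⟩, ⟨-1, 0⟩, ⟨0, 0⟩; ⟨1, 0⟩, ⟨-1, 0⟩, ⟨1, 0⟩, ⟨0, 0⟩, ⟨0, 0⟩, ⟨0, 0⟩, ⟨-1, 0⟩],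
  !![⟨3, 0⟩, ⟨-2, 0⟩, ⟨-2, 0⟩, ⟨-2, 0⟩, ⟨0, 0⟩, ⟨0, 0⟩, ⟨0, 0⟩; ⟨1, 0⟩, ⟨0, 0⟩, ⟨-1, 0⟩, ⟨-1, 0⟩, ⟨-1, 0⟩, ⟨0, 0⟩, ⟨1, 0⟩; ⟨1, 0⟩, ⟨-1, 0⟩, ⟨-1, 0⟩, ⟨-1, 0⟩, ⟨1, 0⟩, ⟨-1, 0⟩, ⟨0, 0⟩; ⟨2, 0⟩, ⟨-1, 0⟩, ⟨-1, 0⟩, ⟨0, 0⟩, ⟨-1, 0⟩, ⟨1, 0⟩, ⟨-1, 0⟩; ⟨2, 0⟩, ⟨-1, 0⟩, ⟨-1, 0⟩, ⟨0, 0⟩, ⟨-1, 0⟩, ⟨0, 0⟩, ⟨0, 0⟩; ⟨2, 0⟩, ⟨-1, 0⟩, ⟨-1, 0⟩, ⟨0, 0⟩, ⟨0, 0⟩, ⟨0, 0⟩, ⟨-1, 0⟩; ⟨3, 0⟩, ⟨-2, 0⟩, ⟨-1, 0⟩, ⟨-1, 0⟩, ⟨0, 0⟩, ⟨0, 0⟩, ⟨-1, 0⟩],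
  !![⟨1, 0⟩, ⟨0, 0⟩, ⟨0, 0⟩, ⟨2, 0⟩, ⟨-2, 0⟩, ⟨2, 0⟩, ⟨-2, 0⟩; ⟨0, 0⟩, ⟨0, 0⟩, ⟨0, 0⟩, ⟨1, 0⟩, ⟨-1, 0⟩, ⟨2, 0⟩, ⟨-1, 0⟩; ⟨0, 0⟩, ⟨0, 0⟩, ⟨0, 0⟩, ⟨1, 0⟩, ⟨0, 0⟩, ⟨0, 0⟩, ⟨-1, 0⟩; ⟨2, 0⟩, ⟨-1, 0⟩, ⟨-1, 0⟩, ⟨0, 0⟩, ⟨-1, 0⟩, ⟨1, 0⟩, ⟨-1, 0⟩; ⟨2, 0⟩, ⟨-1, 0⟩, ⟨-1, 0⟩, ⟨0, 0⟩, ⟨-1, 0⟩, ⟨2, 0⟩, ⟨-2, 0⟩; ⟨1, 0⟩, ⟨-1, 0⟩, ⟨0, 0⟩, ⟨0, 0⟩, ⟨0, 0⟩, ⟨0, 0⟩, ⟨-1, 0⟩; ⟨2, 0⟩, ⟨-1, 0⟩, ⟨0, 0⟩, ⟨1, 0⟩, ⟨-1, 0⟩, ⟨1, 0⟩, ⟨-2, 0⟩],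
  !![⟨-1, 0⟩, ⟨0, 0⟩, ⟨0, 0⟩, ⟨0, 0⟩, ⟨0, 0⟩, ⟨0, 0⟩, ⟨0, 0⟩; ⟨0, 0⟩, ⟨0, 0⟩, ⟨-1, 0⟩, ⟨0, 0⟩, ⟨-1, 0⟩, ⟨1, 0⟩, ⟨0, 0⟩; ⟨-1, 0⟩, ⟨0, 0⟩, ⟨0, 0⟩, ⟨-1, 0⟩, ⟨1, 0⟩, ⟨-1, 0⟩, ⟨1, 0⟩; ⟨1, 0⟩, ⟨-1, 0⟩, ⟨0, 0⟩, ⟨0, 0⟩, ⟨0, 0⟩, ⟨0, 0⟩, ⟨-1, 0⟩; ⟨1, 0⟩, ⟨-1, 0⟩, ⟨-1, 0⟩, ⟨-1, 0⟩, ⟨0, 0⟩, ⟨1, 0⟩, ⟨-1, 0⟩; ⟨0, 0⟩, ⟨0, 0⟩, ⟨0, 0⟩, ⟨-1, 0⟩, ⟨0, 0⟩, ⟨0, 0⟩, ⟨0, 0⟩; ⟨-1, 0⟩, ⟨0, 0⟩, ⟨1, 0⟩, ⟨0, 0⟩, ⟨0, 0⟩, ⟨0, 0⟩, ⟨0, 0⟩]],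
  [!![⟨1, 0⟩, ⟨0, 0⟩, ⟨0, 0⟩, ⟨0, 0⟩, ⟨0, 0⟩, ⟨0, 0⟩, ⟨0, 0⟩; ⟨0, 0⟩, ⟨1, 0⟩, ⟨0, 0⟩, ⟨0, 0⟩, ⟨0, 0⟩, ⟨0, 0⟩, ⟨0, 0⟩; ⟨0, 0⟩, ⟨0, 0⟩, ⟨1, 0⟩, ⟨0, 0⟩, ⟨0, 0⟩, ⟨0, 0⟩, ⟨0, 0⟩; ⟨0, 0⟩, ⟨0, 0⟩, ⟨0, 0⟩, ⟨1, 0⟩, ⟨0, 0⟩, ⟨0, 0⟩, ⟨0, 0⟩; ⟨0, 0⟩, ⟨0, 0⟩, ⟨0, 0⟩, ⟨0, 0⟩, ⟨1, 0⟩, ⟨0, 0⟩, ⟨0, 0⟩; ⟨0, 0⟩, ⟨0, 0⟩, ⟨0, 0⟩, ⟨0, 0⟩, ⟨0, 0⟩, ⟨1, 0⟩, ⟨0, 0⟩; ⟨0, 0⟩, ⟨0, 0⟩, ⟨0, 0⟩, ⟨0, 0⟩, ⟨0, 0⟩, ⟨0, 0⟩, ⟨1, 0⟩],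
  !![⟨-1, 0⟩, ⟨0, 0⟩, ⟨2, 0⟩, ⟨0, 0⟩, ⟨0, 0⟩, ⟨0, 0⟩, ⟨0, 0⟩; ⟨-2, 0⟩, ⟨0, 0⟩, ⟨2, 0⟩, ⟨0, 0⟩, ⟨1, 0⟩, ⟨-1, 0⟩, ⟨1, 0⟩; ⟨0, 0⟩, ⟨0, 0⟩, ⟨1, 0⟩, ⟨0, 0⟩, ⟨0, 0⟩, ⟨0, 0⟩, ⟨0, 0⟩; ⟨0, 0⟩, ⟨0, 0⟩, ⟨0, 0⟩, ⟨-1, 0⟩, ⟨0, 0⟩, ⟨0, 0⟩, ⟨0, 0⟩; ⟨-2, 0⟩, ⟨1, 0⟩, ⟨2, 0⟩, ⟨0, 0⟩, ⟨0, 0⟩, ⟨-1, 0⟩, ⟨1, 0⟩; ⟨-1, 0⟩, ⟨1, 0⟩, ⟨1, 0⟩, ⟨0, 0⟩, ⟨-1, 0⟩, ⟨0, 0⟩, ⟨1, 0⟩; ⟨-1, 0⟩, ⟨1, 0⟩, ⟨1, 0⟩, ⟨0, 0⟩, ⟨-1, 0⟩, ⟨1, 0⟩, ⟨0, 0⟩],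
  !![⟨3, 0⟩, ⟨-2, 0⟩, ⟨0, 0⟩, ⟨0, 0⟩, ⟨0, 0⟩, ⟨0, 0⟩, ⟨-2, 0⟩; ⟨2, 0⟩, ⟨-1, 0⟩, ⟨0, 0⟩, ⟨1, 0⟩, ⟨0, 0⟩, ⟨0, 0⟩, ⟨-2, 0⟩; ⟨1, 0⟩, ⟨-1, 0⟩, ⟨0, 0⟩, ⟨-1, 0⟩, ⟨1, 0⟩, ⟨-1, 0⟩, ⟨0, 0⟩; ⟨1, 0⟩, ⟨-1, 0⟩, ⟨0, 0⟩, ⟨0, 0⟩, ⟨0, 0⟩, ⟨0, 0⟩, ⟨-1, 0⟩; ⟨1, 0⟩, ⟨-1, 0⟩, ⟨1, 0⟩, ⟨1, 0⟩, ⟨0, 0⟩, ⟨-1, 0⟩, ⟨-1, 0⟩; ⟨0, 0⟩, ⟨-1, 0⟩, ⟨1, 0⟩, ⟨0, 0⟩, ⟨1, 0⟩, ⟨-1, 0⟩, ⟨0, 0⟩; ⟨1, 0⟩, ⟨-1, 0⟩, ⟨1, 0⟩, ⟨0, 0⟩, ⟨0, 0⟩, ⟨0, 0⟩, ⟨-1, 0⟩],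
  !![⟨3, 0⟩, ⟨-2, 0⟩, ⟨0, 0⟩, ⟨0, 0⟩, ⟨0, 0⟩, ⟨0, 0⟩, ⟨-2, 0⟩; ⟨2, 0⟩, ⟨-2, 0⟩, ⟨0, 0⟩, ⟨-1, 0⟩, ⟨1, 0⟩, ⟨-1, 0⟩, ⟨-1, 0⟩; ⟨0, 0⟩, ⟨0, 0⟩, ⟨1, 0⟩, ⟨1, 0⟩, ⟨0, 0⟩, ⟨0, 0⟩, ⟨-1, 0⟩; ⟨2, 0⟩, ⟨-1, 0⟩, ⟨-1, 0⟩, ⟨0, 0⟩, ⟨0, 0⟩, ⟨0, 0⟩, ⟨-1, 0⟩; ⟨3, 0⟩, ⟨-2, 0⟩, ⟨-1, 0⟩, ⟨-1, 0⟩, ⟨1, 0⟩, ⟨0, 0⟩, ⟨-2, 0⟩; ⟨1, 0⟩, ⟨0, 0⟩, ⟨0, 0⟩, ⟨0, 0⟩, ⟨0, 0⟩, ⟨0, 0⟩, ⟨-1, 0⟩; ⟨2, 0⟩, ⟨-1, 0⟩, ⟨0, 0⟩, ⟨0, 0⟩, ⟨0, 0⟩, ⟨0, 0⟩, ⟨-1, 0⟩],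
  !![⟨3, 0⟩, ⟨-2, 0⟩, ⟨-2, 0⟩, ⟨-2, 0⟩, ⟨0, 0⟩, ⟨0, 0⟩, ⟨0, 0⟩; ⟨3, 0⟩, ⟨-2, 0⟩, ⟨-2, 0⟩, ⟨-1, 0⟩, ⟨0, 0⟩, ⟨0, 0⟩, ⟨-1, 0⟩; ⟨1, 0⟩, ⟨0, 0⟩, ⟨0, 0⟩, ⟨0, 0⟩, ⟨-1, 0⟩, ⟨0, 0⟩, ⟨0, 0⟩; ⟨0, 0⟩, ⟨0, 0⟩, ⟨-1, 0⟩, ⟨-1, 0⟩, ⟨0, 0⟩, ⟨0, 0⟩, ⟨1, 0⟩; ⟨2, 0⟩, ⟨-1, 0⟩, ⟨-2, 0⟩, ⟨-2, 0⟩, ⟨0, 0⟩, ⟨0, 0⟩, ⟨0, 0⟩; ⟨0, 0⟩, ⟨0, 0⟩, ⟨0, 0⟩, ⟨-1, 0⟩, ⟨0, 0⟩, ⟨-1, 0⟩, ⟨1, 0⟩; ⟨1, 0⟩, ⟨-1, 0⟩, ⟨-1, 0⟩, ⟨-2, 0⟩, ⟨1, 0⟩, ⟨-1, 0⟩, ⟨1, 0⟩],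
  !![⟨1, 0⟩, ⟨-2, 0⟩, ⟨-2, 0⟩, ⟨-2, 0⟩, ⟨2, 0⟩, ⟨0, 0⟩, ⟨0, 0⟩; ⟨1, 0⟩, ⟨-1, 0⟩, ⟨-2, 0⟩, ⟨-1, 0⟩, ⟨0, 0⟩, ⟨1, 0⟩, ⟨0, 0⟩; ⟨0, 0⟩, ⟨-1, 0⟩, ⟨0, 0⟩, ⟨-1, 0⟩, ⟨1, 0⟩, ⟨-1, 0⟩, ⟨1, 0⟩; ⟨-1, 0⟩, ⟨0, 0⟩, ⟨0, 0⟩, ⟨0, 0⟩, ⟨1, 0⟩, ⟨0, 0⟩, ⟨0, 0⟩; ⟨0, 0⟩, ⟨-1, 0⟩, ⟨-1, 0⟩, ⟨-1, 0⟩, ⟨1, 0⟩, ⟨0, 0⟩, ⟨0, 0⟩; ⟨0, 0⟩, ⟨-1, 0⟩, ⟨0, 0⟩, ⟨0, 0⟩, ⟨1, 0⟩, ⟨-1, 0⟩, ⟨0, 0⟩; ⟨0, 0⟩, ⟨-1, 0⟩, ⟨-1, 0⟩, ⟨-1, 0⟩, ⟨2, 0⟩, ⟨-1, 0⟩, ⟨0, 0⟩],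
  !![⟨-1, 0⟩, ⟨2, 0⟩, ⟨0, 0⟩, ⟨2, 0⟩, ⟨-2, 0⟩, ⟨0, 0⟩, ⟨0, 0⟩; ⟨0, 0⟩, ⟨1, 0⟩, ⟨-1, 0⟩, ⟨1, 0⟩, ⟨-2, 0⟩, ⟨1, 0⟩, ⟨0, 0⟩; ⟨0, 0⟩, ⟨1, 0⟩, ⟨0, 0⟩, ⟨1, 0⟩, ⟨-1, 0⟩, ⟨1, 0⟩, ⟨-1, 0⟩; ⟨-1, 0⟩, ⟨1, 0⟩, ⟨0, 0⟩, ⟨0, 0⟩, ⟨0, 0⟩, ⟨-1, 0⟩, ⟨1, 0⟩; ⟨0, 0⟩, ⟨1, 0⟩, ⟨-1, 0⟩, ⟨1, 0⟩, ⟨-1, 0⟩, ⟨0, 0⟩, ⟨0, 0⟩; ⟨1, 0⟩, ⟨0, 0⟩, ⟨-1, 0⟩, ⟨0, 0⟩, ⟨0, 0⟩, ⟨0, 0⟩, ⟨-1, 0⟩; ⟨-1, 0⟩, ⟨1, 0⟩, ⟨0, 0⟩, ⟨1, 0⟩, ⟨0, 0⟩, ⟨-1, 0⟩, ⟨0, 0⟩],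
  !![⟨-3, 0⟩, ⟨2, 0⟩, ⟨2, 0⟩, ⟨2, 0⟩, ⟨-2, 0⟩, ⟨0, 0⟩, ⟨2, 0⟩; ⟨-2, 0⟩, ⟨1, 0⟩, ⟨1, 0⟩, ⟨1, 0⟩, ⟨-1, 0⟩, ⟨1, 0⟩, ⟨1, 0⟩; ⟨-1, 0⟩, ⟨1, 0⟩, ⟨1, 0⟩, ⟨0, 0⟩, ⟨-1, 0⟩, ⟨0, 0⟩, ⟨1, 0⟩; ⟨-2, 0⟩, ⟨1, 0⟩, ⟨1, 0⟩, ⟨1, 0⟩, ⟨0, 0⟩, ⟨-1, 0⟩, ⟨1, 0⟩; ⟨-3, 0⟩, ⟨2, 0⟩, ⟨1, 0⟩, ⟨1, 0⟩, ⟨-1, 0⟩, ⟨0, 0⟩, ⟨2, 0⟩; ⟨-1, 0⟩, ⟨1, 0⟩, ⟨0, 0⟩, ⟨0, 0⟩, ⟨-1, 0⟩, ⟨0, 0⟩, ⟨1, 0⟩; ⟨-2, 0⟩, ⟨2, 0⟩, ⟨1, 0⟩, ⟨2, 0⟩, ⟨-2, 0⟩, ⟨0, 0⟩, ⟨1, 0⟩],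
  !![⟨-1, 0⟩, ⟨0, 0⟩, ⟨2, 0⟩, ⟨2, 0⟩, ⟨0, 0⟩, ⟨0, 0⟩, ⟨0, 0⟩; ⟨0, 0⟩, ⟨0, 0⟩, ⟨1, 0⟩, ⟨1, 0⟩, ⟨0, 0⟩, ⟨1, 0⟩, ⟨-1, 0⟩; ⟨0, 0⟩, ⟨-1, 0⟩, ⟨1, 0⟩, ⟨0, 0⟩, ⟨1, 0⟩, ⟨-1, 0⟩, ⟨0, 0⟩; ⟨-1, 0⟩, ⟨1, 0⟩, ⟨1, 0⟩, ⟨2, 0⟩, ⟨-1, 0⟩, ⟨0, 0⟩, ⟨0, 0⟩; ⟨-2, 0⟩, ⟨1, 0⟩, ⟨2, 0⟩, ⟨2, 0⟩, ⟨0, 0⟩, ⟨0, 0⟩, ⟨0, 0⟩; ⟨-1, 0⟩, ⟨0, 0⟩, ⟨1, 0⟩, ⟨1, 0⟩, ⟨0, 0⟩, ⟨0, 0⟩, ⟨0, 0⟩; ⟨-2, 0⟩, ⟨1, 0⟩, ⟨2, 0⟩, ⟨2, 0⟩, ⟨-1, 0⟩, ⟨0, 0⟩, ⟨1, 0⟩]],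
  [!![⟨1, 0⟩, ⟨0, 0⟩, ⟨0, 0⟩, ⟨0, 0⟩, ⟨0, 0⟩, ⟨0, 0⟩, ⟨0, 0⟩; ⟨0, 0⟩, ⟨1, 0⟩, ⟨0, 0⟩, ⟨0, 0⟩, ⟨0, 0⟩, ⟨0, 0⟩, ⟨0, 0⟩; ⟨0, 0⟩, ⟨0, 0⟩, ⟨1, 0⟩, ⟨0, 0⟩, ⟨0, 0⟩, ⟨0, 0⟩, ⟨0, 0⟩; ⟨0, 0⟩, ⟨0, 0⟩, ⟨0, 0⟩, ⟨1, 0⟩, ⟨0, 0⟩, ⟨0, 0⟩, ⟨0, 0⟩; ⟨0, 0⟩, ⟨0, 0⟩, ⟨0, 0⟩, ⟨0, 0⟩, ⟨1, 0⟩, ⟨0, 0⟩, ⟨0, 0⟩; ⟨0, 0⟩, ⟨0, 0⟩, ⟨0, 0⟩, ⟨0, 0⟩, ⟨0, 0⟩, ⟨1, 0⟩, ⟨0, 0⟩; ⟨0, 0⟩, ⟨0, 0⟩, ⟨0, 0⟩, ⟨0, 0⟩, ⟨0, 0⟩, ⟨0, 0⟩, ⟨1, 0⟩],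
  !![⟨-1, 0⟩, ⟨0, 0⟩, ⟨2, 0⟩, ⟨0, 0⟩, ⟨0, 0⟩, ⟨0, 0⟩, ⟨0, 0⟩; ⟨-2, 0⟩, ⟨0, 0⟩, ⟨2, 0⟩, ⟨0, 0⟩, ⟨1, 0⟩, ⟨-1, 0⟩, ⟨1, 0⟩; ⟨0, 0⟩, ⟨0, 0⟩, ⟨1, 0⟩, ⟨0, 0⟩, ⟨0, 0⟩, ⟨0, 0⟩, ⟨0, 0⟩; ⟨0, 0⟩, ⟨0, 0⟩, ⟨0, 0⟩, ⟨-1, 0⟩, ⟨0, 0⟩, ⟨0, 0⟩, ⟨0, 0⟩; ⟨-2, 0⟩, ⟨1, 0⟩, ⟨2, 0⟩, ⟨0, 0⟩, ⟨0, 0⟩, ⟨-1, 0⟩, ⟨1, 0⟩; ⟨-1, 0⟩, ⟨1, 0⟩, ⟨1, 0⟩, ⟨0, 0⟩, ⟨-1, 0⟩, ⟨0, 0⟩, ⟨1, 0⟩; ⟨-1, 0⟩, ⟨1, 0⟩, ⟨1, 0⟩, ⟨0, 0⟩, ⟨-1, 0⟩, ⟨1, 0⟩, ⟨0, 0⟩],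
  !![⟨-1, 0⟩, ⟨2, 0⟩, ⟨0, 0⟩, ⟨0, 0⟩, ⟨-2, 0⟩, ⟨2, 0⟩, ⟨0, 0⟩; ⟨-1, 0⟩, ⟨2, 0⟩, ⟨0, 0⟩, ⟨0, 0⟩, ⟨-2, 0⟩, ⟨1, 0⟩, ⟨1, 0⟩; ⟨-1, 0⟩, ⟨1, 0⟩, ⟨1, 0⟩, ⟨1, 0⟩, ⟨-1, 0⟩, ⟨1, 0⟩, ⟨0, 0⟩; ⟨1, 0⟩, ⟨0, 0⟩, ⟨-1, 0⟩, ⟨-1, 0⟩, ⟨0, 0⟩, ⟨1, 0⟩, ⟨-1, 0⟩; ⟨-1, 0⟩, ⟨2, 0⟩, ⟨0, 0⟩, ⟨0, 0⟩, ⟨-1, 0⟩, ⟨1, 0⟩, ⟨0, 0⟩; ⟨0, 0⟩, ⟨1, 0⟩, ⟨0, 0⟩, ⟨1, 0⟩, ⟨-1, 0⟩, ⟨1, 0⟩, ⟨-1, 0⟩; ⟨0, 0⟩, ⟨1, 0⟩, ⟨-1, 0⟩, ⟨0, 0⟩, ⟨-1, 0⟩, ⟨2, 0⟩, ⟨-1, 0⟩],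
  !![⟨-1, 0⟩, ⟨0, 0⟩, ⟨0, 0⟩, ⟨0, 0⟩, ⟨0, 0⟩, ⟨0, 0⟩, ⟨2, 0⟩; ⟨-1, 0⟩, ⟨0, 0⟩, ⟨0, 0⟩, ⟨0, 0⟩, ⟨0, 0⟩, ⟨1, 0⟩, ⟨1, 0⟩; ⟨0, 0⟩, ⟨0, 0⟩, ⟨0, 0⟩, ⟨-1, 0⟩, ⟨0, 0⟩, ⟨0, 0⟩, ⟨1, 0⟩; ⟨-1, 0⟩, ⟨0, 0⟩, ⟨1, 0⟩, ⟨1, 0⟩, ⟨0, 0⟩, ⟨-1, 0⟩, ⟨1, 0⟩; ⟨-2, 0⟩, ⟨0, 0⟩, ⟨1, 0⟩, ⟨0, 0⟩, ⟨1, 0⟩, ⟨-1, 0⟩, ⟨2, 0⟩; ⟨0, 0⟩, ⟨-1, 0⟩, ⟨0, 0⟩, ⟨-1, 0⟩, ⟨1, 0⟩, ⟨-1, 0⟩, ⟨1, 0⟩; ⟨-1, 0⟩, ⟨0, 0⟩, ⟨0, 0⟩, ⟨0, 0⟩, ⟨0, 0⟩, ⟨-1, 0⟩, ⟨2, 0⟩],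
  !![⟨1, 0⟩, ⟨0, 0⟩, ⟨0, 0⟩, ⟨2, 0⟩, ⟨-2, 0⟩, ⟨0, 0⟩, ⟨0, 0⟩; ⟨1, 0⟩, ⟨0, 0⟩, ⟨-1, 0⟩, ⟨1, 0⟩, ⟨-2, 0⟩, ⟨1, 0⟩, ⟨0, 0⟩; ⟨1, 0⟩, ⟨0, 0⟩, ⟨0, 0⟩, ⟨1, 0⟩, ⟨-1, 0⟩, ⟨1, 0⟩, ⟨-1, 0⟩; ⟨-1, 0⟩, ⟨1, 0⟩, ⟨1, 0⟩, ⟨1, 0⟩, ⟨-1, 0⟩, ⟨-1, 0⟩, ⟨1, 0⟩; ⟨0, 0⟩, ⟨1, 0⟩, ⟨0, 0⟩, ⟨1, 0⟩, ⟨-2, 0⟩, ⟨0, 0⟩, ⟨1, 0⟩; ⟨1, 0⟩, ⟨0, 0⟩, ⟨0, 0⟩, ⟨0, 0⟩, ⟨-1, 0⟩, ⟨0, 0⟩, ⟨0, 0⟩; ⟨1, 0⟩, ⟨0, 0⟩, ⟨0, 0⟩, ⟨1, 0⟩, ⟨-1, 0⟩, ⟨-1, 0⟩, ⟨0, 0⟩],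
  !![⟨-1, 0⟩, ⟨0, 0⟩, ⟨2, 0⟩, ⟨2, 0⟩, ⟨0, 0⟩, ⟨-2, 0⟩, ⟨0, 0⟩; ⟨1, 0⟩, ⟨-1, 0⟩, ⟨0, 0⟩, ⟨1, 0⟩, ⟨0, 0⟩, ⟨-1, 0⟩, ⟨-1, 0⟩; ⟨-1, 0⟩, ⟨0, 0⟩, ⟨1, 0⟩, ⟨1, 0⟩, ⟨0, 0⟩, ⟨0, 0⟩, ⟨0, 0⟩; ⟨-1, 0⟩, ⟨1, 0⟩, ⟨1, 0⟩, ⟨1, 0⟩, ⟨0, 0⟩, ⟨-1, 0⟩, ⟨0, 0⟩; ⟨0, 0⟩, ⟨0, 0⟩, ⟨1, 0⟩, ⟨2, 0⟩, ⟨0, 0⟩, ⟨-1, 0⟩, ⟨-1, 0⟩; ⟨0, 0⟩, ⟨0, 0⟩, ⟨1, 0⟩, ⟨1, 0⟩, ⟨0, 0⟩, ⟨0, 0⟩, ⟨-1, 0⟩; ⟨-1, 0⟩, ⟨0, 0⟩, ⟨2, 0⟩, ⟨1, 0⟩, ⟨1, 0⟩, ⟨-2, 0⟩, ⟨0, 0⟩],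
  !![⟨3, 0⟩, ⟨-2, 0⟩, ⟨-2, 0⟩, ⟨-2, 0⟩, ⟨2, 0⟩, ⟨0, 0⟩, ⟨-2, 0⟩; ⟨3, 0⟩, ⟨-2, 0⟩, ⟨-2, 0⟩, ⟨-1, 0⟩, ⟨1, 0⟩, ⟨0, 0⟩, ⟨-2, 0⟩; ⟨1, 0⟩, ⟨0, 0⟩, ⟨-1, 0⟩, ⟨-1, 0⟩, ⟨0, 0⟩, ⟨0, 0⟩, ⟨0, 0⟩; ⟨0, 0⟩, ⟨-1, 0⟩, ⟨0, 0⟩, ⟨-1, 0⟩, ⟨2, 0⟩, ⟨-1, 0⟩, ⟨0, 0⟩; ⟨2, 0⟩, ⟨-2, 0⟩, ⟨-1, 0⟩, ⟨-2, 0⟩, ⟨2, 0⟩, ⟨-1, 0⟩, ⟨-1, 0⟩; ⟨1, 0⟩, ⟨-1, 0⟩, ⟨0, 0⟩, ⟨-1, 0⟩, ⟨1, 0⟩, ⟨-1, 0⟩, ⟨0, 0⟩; ⟨1, 0⟩, ⟨-1, 0⟩, ⟨0, 0⟩, ⟨-1, 0⟩, ⟨2, 0⟩, ⟨-1, 0⟩, ⟨-1, 0⟩],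
  !![⟨1, 0⟩, ⟨-2, 0⟩, ⟨0, 0⟩, ⟨-2, 0⟩, ⟨2, 0⟩, ⟨0, 0⟩, ⟨0, 0⟩; ⟨1, 0⟩, ⟨-2, 0⟩, ⟨0, 0⟩, ⟨-2, 0⟩, ⟨2, 0⟩, ⟨-1, 0⟩, ⟨0, 0⟩; ⟨1, 0⟩, ⟨-1, 0⟩, ⟨0, 0⟩, ⟨0, 0⟩, ⟨1, 0⟩, ⟨0, 0⟩, ⟨-1, 0⟩; ⟨0, 0⟩, ⟨0, 0⟩, ⟨0, 0⟩, ⟨-1, 0⟩, ⟨0, 0⟩, ⟨0, 0⟩, ⟨1, 0⟩; ⟨1, 0⟩, ⟨-1, 0⟩, ⟨0, 0⟩, ⟨-2, 0⟩, ⟨1, 0⟩, ⟨0, 0⟩, ⟨0, 0⟩; ⟨0, 0⟩, ⟨0, 0⟩, ⟨1, 0⟩, ⟨0, 0⟩, ⟨0, 0⟩, ⟨0, 0⟩, ⟨0, 0⟩; ⟨-1, 0⟩, ⟨0, 0⟩, ⟨1, 0⟩, ⟨-1, 0⟩, ⟨1, 0⟩, ⟨0, 0⟩, ⟨1, 0⟩],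
  !![⟨1, 0⟩, ⟨0, 0⟩, ⟨0, 0⟩, ⟨0, 0⟩, ⟨-2, 0⟩, ⟨2, 0⟩, ⟨0, 0⟩; ⟨1, 0⟩, ⟨0, 0⟩, ⟨0, 0⟩, ⟨-1, 0⟩, ⟨-1, 0⟩, ⟨1, 0⟩, ⟨0, 0⟩; ⟨-1, 0⟩, ⟨0, 0⟩, ⟨1, 0⟩, ⟨0, 0⟩, ⟨0, 0⟩, ⟨0, 0⟩, ⟨1, 0⟩; ⟨1, 0⟩, ⟨0, 0⟩, ⟨0, 0⟩, ⟨1, 0⟩, ⟨-1, 0⟩, ⟨1, 0⟩, ⟨-1, 0⟩; ⟨1, 0⟩, ⟨0, 0⟩, ⟨0, 0⟩, ⟨0, 0⟩, ⟨-1, 0⟩, ⟨2, 0⟩, ⟨-1, 0⟩; ⟨-1, 0⟩, ⟨1, 0⟩, ⟨1, 0⟩, ⟨1, 0⟩, ⟨-1, 0⟩, ⟨1, 0⟩, ⟨0, 0⟩; ⟨0, 0⟩, ⟨1, 0⟩, ⟨0, 0⟩, ⟨1, 0⟩, ⟨-2, 0⟩, ⟨2, 0⟩, ⟨0, 0⟩]]]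

/-- The character values at the class representatives. -/
def tv7 : List GaussianInt := [⟨7, 0⟩, ⟨-1, 0⟩, ⟨2, 0⟩, ⟨0, 0⟩, ⟨0, 0⟩, ⟨-2, 0⟩, ⟨0, 0⟩, ⟨0, 0⟩, ⟨1, 0⟩, ⟨-1, 0⟩, ⟨-1, 0⟩, ⟨-1, 0⟩, ⟨3, 0⟩, ⟨3, 0⟩]

set_option maxRecDepth 1000000 in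
theorem hA7 : mA7 * mA7 = 1 := by decide +kernel
set_option maxRecDepth 1000000 in
theorem hB7 : mB7 * mBi7 = 1 := by decide +kernel
set_option maxRecDepth 1000000 in
theorem hBi7 : mBi7 * mB7 = 1 := by decide +kernel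

set_option maxRecDepth 1000000 in
theorem relOK7 : allBelow (fun r => relB mA7 mB7 mBi7 (relsL.getD r []) (qR7.getD r [])) 8 = true := by
  decide +kernel

set_option maxRecDepth 1000000 in
theorem clsOK7 : allBelow (fun c => clsB mA7 mB7 mBi7 (cwL.getD c []) (qC7.getD c [])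
    (tv7.getD c 0)) 14 = true := by
  decide +kernel

/-- The data of the representation. -/
def D7 : Dat 7 where
  A := mA7
  B := mB7
  Bi := mBi7
  hA := hA7
  hB := hB7
  hBi := hBi7
  hrel := hrel_of_relOK _ _ _ _ relOK7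

theorem val7 (c : ℕ) (hc : c < 14) :
    (rep D7).character (rp (crep c)) = GaussianInt.toComplex (tv7.getD c 0) :=
  val_of_clsOK D7 _ _ clsOK7 c hc

end Cfsg.Agent.Lib.Helper56.U3Rep
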